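import Mathlib

/-!
Decompositions of a finite abelian group given by orthogonal idempotent endomorphisms, and the
consequence of indecomposability for abelian normal subgroups of coprime exponent.
-/

set_option autoImplicit false

namespace H34

/-- A complete family of non-zero orthogonal idempotents permuted by the group `L`. -/
structure IsDecomp {L R : Type*} [Group L] [Ring R] (φ : L →* R) (E : Finset R) : Prop where
  idem : ∀ e ∈ E, e * e = e
  ne_zero : ∀ e ∈ E, e ≠ 0
  orth : ∀ e ∈ E, ∀ f ∈ E, e ≠ f → e * f = 0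
  sum_eq : ∑ e ∈ E, e = 1
  conj : ∀ x : L, ∀ e ∈ E, φ x * e * φ x⁻¹ ∈ E

/-- There is no decomposition into two or more parts permuted by the group. -/
def IsPrim {L R : Type*} [Group L] [Ring R] (φ : L →* R) : Prop :=
  ∀ E : Finset R, IsDecomp φ E → E.card ≤ 1

theorem map_inv_mul_cancel' {L R : Type*} [Group L] [Monoid R] (φ : L →* R) (x : L) :
    φ x⁻¹ * φ x = 1 := by rw [← map_mul, inv_mul_cancel, map_one]

theorem map_mul_inv_cancel' {L R : Type*} [Group L] [Monoid R] (φ : L →* R) (x : L) :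
    φ x * φ x⁻¹ = 1 := by rw [← map_mul, mul_inv_cancel, map_one]

theorem conj_mul {L R : Type*} [Group L] [Ring R] (φ : L →* R) (x : L) (a b : R) :
    (φ x * a * φ x⁻¹) * (φ x * b * φ x⁻¹) = φ x * (a * b) * φ x⁻¹ := by
  simp only [mul_assoc]
  rw [← mul_assoc (φ x⁻¹) (φ x), map_inv_mul_cancel', one_mul]

theorem conj_conj {L R : Type*} [Group L] [Ring R] (φ : L →* R) (x y : L) (a : R) :
    φ x * (φ y * a * φ y⁻¹) * φ x⁻¹ = φ (x * y) * a * φ (x * y)⁻¹ := by
  rw [map_mul, mul_inv_rev, map_mul]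
  simp only [mul_assoc]

theorem conj_one_arg {L R : Type*} [Group L] [Ring R] (φ : L →* R) (a : R) :
    φ 1 * a * φ (1 : L)⁻¹ = a := by
  rw [inv_one, map_one, one_mul, mul_one]

theorem conj_inj {L R : Type*} [Group L] [Ring R] (φ : L →* R) (x : L) :
    Function.Injective fun a : R => φ x * a * φ x⁻¹ := by
  intro a b h
  have := congrArg (fun t => φ x⁻¹ * t * φ x) h
  simpa [mul_assoc, map_inv_mul_cancel', ← mul_assoc (φ x⁻¹) (φ x)] using this

/-- In a finite monoid every element has an idempotent power. -/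
theorem exists_pow_idem {M : Type*} [Monoid M] [Finite M] (a : M) :
    ∃ k : ℕ, 0 < k ∧ a ^ k * a ^ k = a ^ k := by
  have key : ∀ i j : ℕ, i < j → a ^ i = a ^ j → ∃ k : ℕ, 0 < k ∧ a ^ k * a ^ k = a ^ k := by
    intro i j hij h
    have step : ∀ n, i ≤ n → ∀ c, a ^ (n + c * (j - i)) = a ^ n := by
      intro n hn c
      induction c with
      | zero => simp
      | succ c ih =>
        calc a ^ (n + (c + 1) * (j - i)) = a ^ (n + c * (j - i) - i) * a ^ j := by
              rw [← pow_add, Nat.succ_mul]; congr 1; omega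
          _ = a ^ (n + c * (j - i) - i) * a ^ i := by rw [h]
          _ = a ^ n := by rw [← pow_add, ← ih]; congr 1; omega
    refine ⟨(i + 1) * (j - i), Nat.mul_pos (Nat.succ_pos i) (by omega), ?_⟩
    rw [← pow_add]
    exact step _ (le_trans (Nat.le_succ i) (Nat.le_mul_of_pos_right _ (by omega))) (i + 1)
  obtain ⟨i, j, hij, h⟩ := Finite.exists_ne_map_eq_of_infinite fun n : ℕ => a ^ n
  rcases lt_or_gt_of_ne hij with h1 | h1
  · exact key i j h1 h
  · exact key j i h1 h.symm

/-- A finite commutative ring without idempotents `≠ 0, 1` in which `p` is invertible: `a ^ p = 1`,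
`a ≠ 1` make `a - 1` invertible, and there are at most `p` such roots of unity. -/
theorem roots_of_unity_no_idem {R : Type*} [CommRing R] [Finite R] [Nontrivial R] {p : ℕ}
    [Fact p.Prime] (hp : IsUnit (p : R)) (hid : ∀ e : R, e * e = e → e = 0 ∨ e = 1) :
    (∀ a : R, a ^ p = 1 → a ≠ 1 → IsUnit (a - 1)) ∧ Nat.card {a : R // a ^ p = 1} ≤ p := by
  classical
  have hpp : p.Prime := Fact.out
  have hdich : ∀ a : R, IsUnit a ∨ IsNilpotent a := by
    intro a
    obtain ⟨k, hk, hk2⟩ := exists_pow_idem a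
    rcases hid _ hk2 with h | h
    · exact Or.inr ⟨k, h⟩
    · exact Or.inl (IsUnit.of_pow_eq_one h hk.ne')
  have huni : ∀ a : R, a ^ p = 1 → a ≠ 1 → IsUnit (a - 1) := by
    intro a ha ha1
    refine (hdich _).resolve_right fun hnil => ha1 (sub_eq_zero.1 ?_)
    have h2 : (∑ i ∈ Finset.range p, a ^ i) * (a - 1) = 0 := by rw [geom_sum_mul, ha, sub_self]
    have h3 : IsUnit (∑ i ∈ Finset.range p, a ^ i) := by
      have h4 : IsNilpotent ((∑ i ∈ Finset.range p, a ^ i) - (p : R)) := by
        have h6 : (∑ i ∈ Finset.range p, a ^ i) - (p : R) = ∑ i ∈ Finset.range p, (a ^ i - 1) := by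
          simp [Finset.sum_sub_distrib]
        rw [h6]
        refine isNilpotent_sum fun i _ => ?_
        rw [← geom_sum_mul]
        exact (Commute.all _ _).isNilpotent_mul_left hnil
      have h5 := h4.isUnit_add_left_of_commute hp (Commute.all _ _)
      rwa [add_sub_cancel] at h5
    exact h3.mul_right_eq_zero.1 h2
  refine ⟨huni, ?_⟩
  haveI : (nilradical R).IsPrime := by
    refine ⟨fun h => ?_, fun {x y} hxy => ?_⟩
    · exact not_isNilpotent_one (mem_nilradical.1 (h ▸ Submodule.mem_top : (1 : R) ∈ nilradical R))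
    · by_contra hcon
      push Not at hcon
      exact ((hdich x).resolve_right hcon.1 |>.mul ((hdich y).resolve_right hcon.2)).not_isNilpotent
        (mem_nilradical.1 hxy)
  haveI := Fintype.ofFinite R
  set q := Ideal.Quotient.mk (nilradical R)
  calc Nat.card {a : R // a ^ p = 1}
      ≤ Nat.card {b : R ⧸ nilradical R // b ∈ (Polynomial.nthRoots p (1 : R ⧸ nilradical R)).toFinset} := by
        refine Nat.card_le_card_of_injective (fun a => ⟨q a.1, ?_⟩) ?_
        · rw [Multiset.mem_toFinset, Polynomial.mem_nthRoots hpp.pos, ← map_pow, a.2, map_one]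
        · intro a b hab
          have h1 : q a.1 = q b.1 := congrArg Subtype.val hab
          rw [Ideal.Quotient.eq, mem_nilradical] at h1
          have hb : IsUnit b.1 := IsUnit.of_pow_eq_one b.2 hpp.ne_zero
          obtain ⟨c, hc⟩ := hb.exists_left_inv
          have hcp : (a.1 * c) ^ p = 1 := by
            rw [mul_pow, a.2, one_mul]
            have := congrArg (· ^ p) hc
            simpa [mul_pow, b.2] using this
          by_cases hac : a.1 * c = 1
          · exact Subtype.ext (calc a.1 = a.1 * (c * b.1) := by rw [hc, mul_one]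
              _ = b.1 := by rw [← mul_assoc, hac, one_mul])
          · exfalso
            refine (huni _ hcp hac).not_isNilpotent ?_
            have : a.1 * c - 1 = (a.1 - b.1) * c := by rw [sub_mul, mul_comm b.1, hc]
            rw [this]
            exact (Commute.all _ _).isNilpotent_mul_right h1
    _ ≤ p := by
      rw [Nat.card_eq_fintype_card, Fintype.card_coe]
      exact (Multiset.toFinset_card_le _).trans (Polynomial.card_nthRoots p 1)

/-- In an indecomposable situation an abelian subgroup of exponent `p` normalised by the group acts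
fixed-point-freely and has order at most `p`. -/
theorem prim_abelian {L R : Type*} [Group L] [Ring R] [Finite R] [Nontrivial R] (φ : L →* R)
    (hprim : IsPrim φ) {p : ℕ} [Fact p.Prime] (hp : IsUnit (p : R)) (A : Set R)
    (hcomm : ∀ a ∈ A, ∀ b ∈ A, a * b = b * a) (hpow : ∀ a ∈ A, a ^ p = 1)
    (hinv : ∀ x : L, ∀ a ∈ A, φ x * a * φ x⁻¹ ∈ A) :
    (∀ a ∈ A, a ≠ 1 → IsUnit (a - 1)) ∧ A.ncard ≤ p := by
  classical
  -- the double centraliser of `A` is a commutative ring normalised by the group
  set C : Subring R := Subring.centralizer A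
  set B : Subring R := Subring.centralizer (C : Set R) with hB
  have hAC : A ⊆ (C : Set R) := fun a ha => Subring.mem_centralizer_iff.2 fun b hb => hcomm b hb a ha
  have hAB : A ⊆ (B : Set R) := fun a ha => Subring.mem_centralizer_iff.2 fun c hc =>
    ((Subring.mem_centralizer_iff.1 hc) a ha).symm
  have hBC : (B : Set R) ⊆ (C : Set R) := fun b hb => Subring.mem_centralizer_iff.2 fun a ha =>
    (Subring.mem_centralizer_iff.1 hb) a (hAC ha)
  have hBcomm : ∀ a b : ↥B, a * b = b * a := fun a b =>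
    Subtype.ext ((Subring.mem_centralizer_iff.1 b.2) a.1 (hBC a.2))
  letI : CommRing ↥B := { (inferInstance : Ring ↥B) with mul_comm := hBcomm }
  have hCinv : ∀ x : L, ∀ c ∈ C, φ x * c * φ x⁻¹ ∈ C := by
    intro x c hc
    refine Subring.mem_centralizer_iff.2 fun a ha => ?_
    have h1 := (Subring.mem_centralizer_iff.1 hc) _ (hinv x⁻¹ a ha)
    have h2 := congrArg (fun t => φ x * t * φ x⁻¹) h1
    rw [← conj_mul φ x _ c, ← conj_mul φ x c _, conj_conj, mul_inv_cancel, conj_one_arg] at h2
    exact h2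
  have hBinv : ∀ x : L, ∀ b ∈ B, φ x * b * φ x⁻¹ ∈ B := by
    intro x b hb
    refine Subring.mem_centralizer_iff.2 fun c hc => ?_
    have h1 := (Subring.mem_centralizer_iff.1 hb) _ (hCinv x⁻¹ c hc)
    have h2 := congrArg (fun t => φ x * t * φ x⁻¹) h1
    rw [← conj_mul φ x _ b, ← conj_mul φ x b _, conj_conj, mul_inv_cancel, conj_one_arg] at h2
    exact h2
  -- atoms among the idempotents of `B`
  haveI := Fintype.ofFinite R
  let idp : R → Prop := fun e => e ∈ B ∧ e * e = e
  let atom : R → Prop := fun e => idp e ∧ e ≠ 0 ∧ ∀ f, idp f → e * f = 0 ∨ e * f = e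
  have hcm : ∀ {a b : R}, a ∈ B → b ∈ B → a * b = b * a := fun {a b} ha hb =>
    congrArg Subtype.val (hBcomm ⟨a, ha⟩ ⟨b, hb⟩)
  have hidmul : ∀ {e f : R}, idp e → idp f → idp (e * f) := fun {e f} he hf =>
    ⟨B.mul_mem he.1 hf.1, by
      calc e * f * (e * f) = e * (f * e) * f := by simp only [mul_assoc]
        _ = e * (e * f) * f := by rw [hcm hf.1 he.1]
        _ = (e * e) * (f * f) := by simp only [mul_assoc]
        _ = e * f := by rw [he.2, hf.2]⟩
  have hex : ∀ e, idp e → e ≠ 0 → ∃ a, atom a ∧ a * e = a := by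
    intro e he he0
    let below : Finset R := Finset.univ.filter fun f => idp f ∧ f ≠ 0 ∧ f * e = f
    let size : R → ℕ := fun f => (Finset.univ.image fun r => f * r).card
    obtain ⟨a, ha, hmin⟩ := below.exists_min_image size ⟨e, by simp [below, he, he0, he.2]⟩
    simp only [below, Finset.mem_filter, Finset.mem_univ, true_and] at ha hmin
    obtain ⟨haid, ha0, hae⟩ := ha
    refine ⟨a, ⟨haid, ha0, fun f hf => ?_⟩, hae⟩
    by_cases h0 : a * f = 0
    · exact Or.inl h0
    right
    have h1 := hmin (a * f) ⟨hidmul haid hf, h0, by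
      rw [mul_assoc, hcm hf.1 he.1, ← mul_assoc, hae]⟩
    have hsub : (Finset.univ.image fun r => a * f * r) ⊆ Finset.univ.image fun r => a * r := by
      intro t ht
      obtain ⟨r, -, rfl⟩ := Finset.mem_image.1 ht
      exact Finset.mem_image.2 ⟨f * r, Finset.mem_univ _, (mul_assoc _ _ _).symm⟩
    have heq := Finset.eq_of_subset_of_card_le hsub h1
    obtain ⟨r, -, hr⟩ := Finset.mem_image.1
      (heq.symm ▸ Finset.mem_image.2 ⟨1, Finset.mem_univ _, mul_one a⟩ :
        a ∈ Finset.univ.image fun r => a * f * r)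
    calc a * f = f * a := hcm haid.1 hf.1
      _ = f * (a * f * r) := by rw [hr]
      _ = (f * a) * f * r := by simp only [mul_assoc]
      _ = a * f * r := by rw [← hcm haid.1 hf.1, mul_assoc a f f, hf.2]
      _ = a := hr
  set E : Finset R := Finset.univ.filter atom
  have hE : ∀ e, e ∈ E ↔ atom e := fun e => by simp [E]
  have horth : ∀ e ∈ E, ∀ f ∈ E, e ≠ f → e * f = 0 := by
    intro e he f hf hef
    rw [hE] at he hf
    refine (he.2.2 f hf.1).resolve_right fun h => ?_
    rcases hf.2.2 e he.1 with h' | h'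
    · rw [hcm hf.1.1 he.1.1, h] at h'; exact he.2.1 h'
    · rw [hcm hf.1.1 he.1.1, h] at h'; exact hef h'
  have hsum : ∑ e ∈ E, e = 1 := by
    by_contra hne
    set s := ∑ e ∈ E, e with hs
    have hsB : s ∈ B := Subring.sum_mem _ fun e he => ((hE e).1 he).1.1
    have hss : s * s = s := by
      rw [hs, Finset.sum_mul]
      refine Finset.sum_congr rfl fun e he => ?_
      rw [Finset.mul_sum, Finset.sum_eq_single e (fun f hf hfe => horth e he f hf (Ne.symm hfe))
        (fun h => absurd he h), ((hE e).1 he).1.2]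
    obtain ⟨a, ha, hae⟩ := hex (1 - s) ⟨B.sub_mem B.one_mem hsB, by
      simp [sub_mul, mul_sub, hss]⟩ (sub_ne_zero.2 (Ne.symm hne))
    have has : a * s = a := by
      rw [hs, Finset.mul_sum, Finset.sum_eq_single a
        (fun f hf hfa => horth a ((hE a).2 ha) f hf (Ne.symm hfa)) (fun h => absurd ((hE a).2 ha) h),
        ha.1.2]
    rw [mul_sub, mul_one, has, sub_self] at hae
    exact ha.2.1 hae.symm
  have hdec : IsDecomp φ E := by
    refine ⟨fun e he => ((hE e).1 he).1.2, fun e he => ((hE e).1 he).2.1, horth, hsum, fun x e he => ?_⟩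
    rw [hE] at he ⊢
    refine ⟨⟨hBinv x e he.1.1, by rw [conj_mul, he.1.2]⟩, fun h => he.2.1 ((conj_inj φ x)
      (show φ x * e * φ x⁻¹ = φ x * 0 * φ x⁻¹ by rw [h, mul_zero, zero_mul])), fun f hf => ?_⟩
    have hf' : idp (φ x⁻¹ * f * φ x⁻¹⁻¹) := ⟨hBinv x⁻¹ f hf.1, by rw [conj_mul, hf.2]⟩
    have hfx : φ x * (φ x⁻¹ * f * φ x⁻¹⁻¹) * φ x⁻¹ = f := by
      rw [conj_conj, mul_inv_cancel, conj_one_arg]
    rcases he.2.2 _ hf' with h | h
    · left; rw [← hfx, conj_mul, h, mul_zero, zero_mul]
    · right; rw [← hfx, conj_mul, h]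
  have hid : ∀ b : ↥B, b * b = b → b = 0 ∨ b = 1 := by
    intro b hb
    by_cases hb0 : b = 0
    · exact Or.inl hb0
    right
    obtain ⟨a, ha, hab⟩ := hex b.1 ⟨b.2, congrArg Subtype.val hb⟩ fun h => hb0 (Subtype.ext h)
    have hEa : E = {a} := Finset.eq_singleton_iff_unique_mem.2 ⟨(hE a).2 ha, fun f hf =>
      Finset.card_le_one.1 (hprim E hdec) f hf a ((hE a).2 ha)⟩
    rw [hEa, Finset.sum_singleton] at hsum
    rw [hsum, one_mul] at hab
    exact Subtype.ext hab
  haveI : Nontrivial ↥B := ⟨⟨0, 1, fun h => zero_ne_one (congrArg Subtype.val h)⟩⟩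
  have hpB : IsUnit ((p : ℕ) : ↥B) := by
    obtain ⟨u, hu⟩ := hp
    refine IsUnit.of_mul_eq_one ⟨(↑u⁻¹ : R), ?_⟩ (Subtype.ext ?_)
    · refine Subring.mem_centralizer_iff.2 fun c _ => ?_
      refine (Commute.units_inv_right ?_).eq
      rw [hu]; exact (Nat.cast_commute p c).symm
    · show ((p : ↥B) : R) * (↑u⁻¹ : R) = 1
      rw [SubringClass.coe_natCast, ← hu, Units.mul_inv]
  obtain ⟨h1, h2⟩ := roots_of_unity_no_idem hpB hid
  refine ⟨fun a ha ha1 => (h1 ⟨a, hAB ha⟩ (Subtype.ext (hpow a ha))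
    fun h => ha1 (congrArg Subtype.val h)).map B.subtype, le_trans ?_ h2⟩
  rw [← Nat.card_coe_set_eq]
  refine Nat.card_le_card_of_injective (fun a => ⟨⟨a.1, hAB a.2⟩, Subtype.ext (hpow a.1 a.2)⟩) ?_
  intro a b hab
  exact Subtype.ext (congrArg (fun t => ((t.1 : ↥B) : R)) hab)

end H34
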