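import Cfsg.Prelude.Def_PLocal
import Cfsg.Prelude.Def_FusionSystem
import Cfsg.Agent.H11.MaxFam
import Cfsg.Agent.H74.ThompsonABasic
import Cfsg.Agent.H79.Replacement
import Cfsg.Agent.H89.CentralEltJ
import Cfsg.Agent.H88.Normal

/-!
The abelian Thompson subgroup of a subgroup of an arbitrary group, quadratic elements on centres of
normal subgroups, and the climbing chain behind Glauberman's generation theorem.
-/

set_option autoImplicit false

open Cfsg Cfsg.FusionSystem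

namespace H34

variable {Ω : Type*} [Group Ω]

theorem mem_JA_subtype {P : Subgroup Ω} (x : P) :
    (x : Ω) ∈ thompsonSubgroupAOf P ↔ x ∈ thompsonSubgroupA P :=
  Subgroup.mem_map_iff_mem P.subtype_injective

theorem mem_JA_equiv {P Q : Subgroup Ω} (e : P ≃* Q) (x : P) :
    ((e x : Q) : Ω) ∈ thompsonSubgroupAOf Q ↔ (x : Ω) ∈ thompsonSubgroupAOf P := by
  rw [mem_JA_subtype, mem_JA_subtype, ← H74.JA.map_thompsonSubgroupA e]
  exact Subgroup.mem_map_iff_mem e.injective

/-- `C_P(J(P)) ≤ J(P)`. -/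
theorem mem_JA_of_commute {P : Subgroup Ω} [Finite P] {x : Ω} (hx : x ∈ P)
    (hc : ∀ y ∈ thompsonSubgroupAOf P, y * x = x * y) : x ∈ thompsonSubgroupAOf P := by
  refine (mem_JA_subtype (⟨x, hx⟩ : P)).2 ?_
  obtain ⟨A, hA⟩ := H11.maxFam_nonempty
    (P := fun A : Subgroup P => IsMulCommutative A) H11.isMulCommutative_bot ⊤
  have hAJ : A ≤ thompsonSubgroupA P :=
    le_sSup (α := Subgroup P) (show A ∈ maxAbelianSubgroups P from ⟨hA.2.1, fun B hB => hA.2.2 B le_top hB⟩)
  exact hAJ (H11.mem_of_commute_maxFam_comm hA trivial fun a ha =>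
    Subtype.ext (hc a ((mem_JA_subtype a).2 (hAJ ha))))

theorem JA_eq_of_le {Q T : Subgroup Ω} [Finite T] (hQT : Q ≤ T)
    (hJ : thompsonSubgroupAOf T ≤ Q) : thompsonSubgroupAOf T = thompsonSubgroupAOf Q := by
  have h := H89.JA_eq_of_forall_le (T := (⊤ : Subgroup T)) (U := Q.subgroupOf T) le_top
    fun A hA a ha => hJ ((mem_JA_subtype a).2
      (le_sSup (α := Subgroup T) (show A ∈ maxAbelianSubgroups T from ⟨hA.2.1, fun B hB => hA.2.2 B le_top hB⟩) ha))
  have h1 := congrArg (Subgroup.map T.subtype) h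
  rwa [H74.JA.map_JA _ _ (by simp), H74.JA.map_JA _ _ (by simp), ← MonoidHom.range_eq_map,
    Subgroup.range_subtype, Subgroup.map_subgroupOf_eq_of_le hQT] at h1

/-- Outside a normal subgroup `U` missing part of the Thompson subgroup some element acts
quadratically on `Z(U)`. -/
theorem exists_quad_on_center {G : Type*} [Group G] [Finite G] {p : ℕ} [Fact p.Prime]
    (hG : IsPGroup p G) {U : Subgroup G} [U.Normal] (hJ : ¬ thompsonSubgroupA G ≤ U) :
    ∃ a ∉ U, ∀ v ∈ U ⊓ Subgroup.centralizer (U : Set G),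
      a * (a * v * a⁻¹ * v⁻¹) = (a * v * a⁻¹ * v⁻¹) * a := by
  set V := U ⊓ Subgroup.centralizer (U : Set G)
  haveI hVn : V.Normal := inferInstance
  haveI hVc : IsMulCommutative V := H11.isMulCommutative_of_commute fun x hx y hy =>
    Subgroup.mem_centralizer_iff.1 hy.2 x hx.1
  have hex : ∃ A ∈ maxAbelianSubgroups G, ¬ A ≤ U := by
    by_contra! h
    exact hJ (sSup_le h)
  obtain ⟨A, ⟨hA, hAU⟩, hmax⟩ := Set.exists_max_image {A | A ∈ maxAbelianSubgroups G ∧ ¬ A ≤ U}
    (fun A => Nat.card (A ⊓ V : Subgroup G)) (Set.toFinite _) hex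
  by_cases hVA : V ≤ Subgroup.normalizer (A : Set G)
  · obtain ⟨a, haA, haU⟩ := SetLike.not_le_iff_exists.1 hAU
    refine ⟨a, haU, fun v hv => (H11.comm_of_mulCommutative hA.1 haA ?_).eq⟩
    have h1 : v * a⁻¹ * v⁻¹ ∈ A :=
      (Subgroup.mem_normalizer_iff.1 (hVA hv) _).1 (A.inv_mem haA)
    simpa [mul_assoc] using A.mul_mem haA h1
  exfalso
  haveI := hA.1
  obtain ⟨B, hBc, hBcard, hBV, hBN, -, -⟩ := H79.replacement hG (A := A) (D := V)
    (by rw [Subgroup.normalizer_eq_top]; exact le_top) hVA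
  have hBmem : B ∈ maxAbelianSubgroups G := ⟨hBc, fun C hC => (hA.2 C hC).trans hBcard⟩
  have hlt : Nat.card (A ⊓ V : Subgroup G) < Nat.card (B ⊓ V : Subgroup G) :=
    Set.ncard_lt_ncard hBV (Set.toFinite _)
  by_cases hBU : B ≤ U
  · refine hVA (le_trans (fun v hv => ?_) hBN)
    exact H11.mem_of_commute_maxFam_comm (D := ⊤) ⟨le_top, hBc, fun C _ hC => hBmem.2 C hC⟩
      trivial fun b hb => Subgroup.mem_centralizer_iff.1 hv.2 b (hBU hb)
  · exact absurd (hmax B ⟨hBmem, hBU⟩) (not_le.2 hlt)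

/-- Climbing from a self-centralizing normal subgroup `X` of `T` inside `Q`: some `Z ≤ Q`, invariant
under the given automorphisms and containing `C_T(Q)`, has its `p`-th powers fixed by an element of
`N_T(Q)` outside `Q`. -/
theorem exists_fix_powers {p : ℕ} [Fact p.Prime] {T Q X : Subgroup Ω} [Finite T] (hT : IsPGroup p T)
    (hQT : Q ≤ T) (hXQ : X ≤ Q) (hTX : T ≤ Subgroup.normalizer (X : Set Ω))
    (hCX : ∀ t ∈ T, (∀ x ∈ X, x * t = t * x) → t ∈ X) (hJ : ¬ thompsonSubgroupAOf T ≤ Q)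
    (A : Subgroup (MulAut Q)) (hA : ∀ α ∈ A, ∀ x : Q, (x : Ω) ∈ X → ((α x : Q) : Ω) ∈ X) :
    ∃ Z : Subgroup Ω, Z ≤ Q ∧ (∀ α ∈ A, ∀ x : Q, (x : Ω) ∈ Z → ((α x : Q) : Ω) ∈ Z) ∧
      (∀ t ∈ T, (∀ x ∈ Q, x * t = t * x) → t ∈ Z) ∧
      ∃ g ∈ normalizerIn T Q, g ∉ Q ∧ ∀ z ∈ Z, g * z ^ p * g⁻¹ = z ^ p := by
  suffices h : ∀ (n : ℕ) (U : Subgroup Ω), X ≤ U → U ≤ Q → T ≤ Subgroup.normalizer (U : Set Ω) →
      (∀ α ∈ A, ∀ x : Q, (x : Ω) ∈ U → ((α x : Q) : Ω) ∈ U) → Nat.card Q < n + Nat.card U → _ from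
    h (Nat.card Q + 1) X le_rfl hXQ hTX hA (by omega)
  intro n
  induction n with
  | zero =>
    intro U _ hUQ _ _ hn
    haveI : Finite Q := H85.finite_of_le hQT
    have := Nat.card_le_card_of_injective _ (Subgroup.inclusion_injective hUQ)
    omega
  | succ n ih =>
    intro U hXU hUQ hTU hUinv hn
    set Z := U ⊓ Subgroup.centralizer (U : Set Ω) with hZ
    set C := T ⊓ Subgroup.centralizer {y : Ω | ∃ z ∈ Z, y = z ^ p} with hC
    haveI : Finite C := H85.finite_of_le (inf_le_left : C ≤ T)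
    have hconjZ : ∀ g ∈ T, ∀ z ∈ Z, g * z * g⁻¹ ∈ Z := by
      intro g hg z hz
      have hgU := Subgroup.mem_normalizer_iff.1 (hTU hg)
      refine ⟨(hgU z).1 hz.1, Subgroup.mem_centralizer_iff.2 fun u hu => ?_⟩
      have h1 : g⁻¹ * u * g ∈ U :=
        (hgU _).2 (by rw [show g * (g⁻¹ * u * g) * g⁻¹ = u by group]; exact hu)
      have h2 := Subgroup.mem_centralizer_iff.1 hz.2 _ h1
      calc u * (g * z * g⁻¹) = g * ((g⁻¹ * u * g) * z) * g⁻¹ := by group
        _ = _ := by rw [h2]; group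
    have hUC : U ≤ C := fun u hu => ⟨hQT (hUQ hu), Subgroup.mem_centralizer_iff.2 fun y ⟨z, hz, hy⟩ => by
      subst hy
      exact (Commute.pow_left (Subgroup.mem_centralizer_iff.1 hz.2 u hu).symm p).eq⟩
    have hTC : T ≤ Subgroup.normalizer (C : Set Ω) := fun g hg =>
      H85.mem_normalizer_of_conj fun c hc => ⟨T.mul_mem (T.mul_mem hg hc.1) (T.inv_mem hg),
        Subgroup.mem_centralizer_iff.2 fun y ⟨z, hz, hy⟩ => by
          subst hy
          have hz' : g⁻¹ * z * g ∈ Z := by simpa using hconjZ g⁻¹ (InvMemClass.inv_mem hg) z hz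
          have h2 := Subgroup.mem_centralizer_iff.1 hc.2 _ ⟨_, hz', rfl⟩
          have e1 : (g⁻¹ * z * g) ^ p = g⁻¹ * z ^ p * g := by simpa using conj_pow (i := p) (a := g⁻¹) (b := z)
          rw [e1] at h2
          calc z ^ p * (g * c * g⁻¹) = g * ((g⁻¹ * z ^ p * g) * c) * g⁻¹ := by group
            _ = _ := by rw [h2]; group⟩
    have hZinv : ∀ α ∈ A, ∀ x : Q, (x : Ω) ∈ Z → ((α x : Q) : Ω) ∈ Z := by
      intro α hα x hx
      refine ⟨hUinv α hα x hx.1, Subgroup.mem_centralizer_iff.2 fun u hu => ?_⟩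
      have h1 : ((α⁻¹ ⟨u, hUQ hu⟩ : Q) : Ω) ∈ U := hUinv _ (InvMemClass.inv_mem hα) _ hu
      have h2 : α⁻¹ ⟨u, hUQ hu⟩ * x = x * α⁻¹ ⟨u, hUQ hu⟩ :=
        Subtype.ext (Subgroup.mem_centralizer_iff.1 hx.2 _ h1)
      have h3 := congrArg (fun t : Q => ((α t : Q) : Ω)) h2
      simpa using h3
    by_cases hCQ : C ≤ Q
    · -- climb
      refine ih C (hXU.trans hUC) hCQ hTC (fun α hα x hx => ?_) ?_
      · refine ⟨hQT (α x).2, Subgroup.mem_centralizer_iff.2 fun y ⟨z, hz, hy⟩ => ?_⟩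
        subst hy
        have h1 := hZinv _ (InvMemClass.inv_mem hα) ⟨z, hUQ hz.1⟩ hz
        have h2 : (α⁻¹ ⟨z, hUQ hz.1⟩) ^ p * x = x * (α⁻¹ ⟨z, hUQ hz.1⟩) ^ p :=
          Subtype.ext (Subgroup.mem_centralizer_iff.1 hx.2 _ ⟨_, h1, rfl⟩)
        have h3 := congrArg (fun t : Q => ((α t : Q) : Ω)) h2
        simpa using h3
      · -- a quadratic element centralizes the powers
        haveI : (U.subgroupOf T).Normal := Subgroup.normal_subgroupOf_of_le_normalizer hTU
        obtain ⟨a, haU, ha⟩ := exists_quad_on_center hT (U := U.subgroupOf T) (fun h => hJ (by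
          rintro _ ⟨t, ht, rfl⟩
          exact hUQ (h ht)))
        obtain ⟨k, hk, hk'⟩ : ∃ k : ℕ, (a : Ω) ^ p ^ k ∉ U ∧ (a : Ω) ^ p ^ (k + 1) ∈ U := by
          obtain ⟨m, hm⟩ := hT a
          have hm' : (a : Ω) ^ p ^ m ∈ U := by
            rw [show (a : Ω) ^ p ^ m = 1 from congrArg Subtype.val hm]; exact one_mem _
          clear hm
          induction m with
          | zero => exact absurd (by simpa using hm' : (a : Ω) ∈ U) haU
          | succ m ihm =>
            by_cases h : (a : Ω) ^ p ^ m ∈ U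
            · exact ihm h
            · exact ⟨m, h, hm'⟩
        have hb : (a : Ω) ^ p ^ k ∈ C := by
          refine ⟨pow_mem a.2 _, Subgroup.mem_centralizer_iff.2 fun y ⟨v, hv, hy⟩ => ?_⟩
          subst hy
          set c := (a : Ω) * v * (a : Ω)⁻¹ * v⁻¹ with hc
          have hac : (a : Ω) * c = c * a := congrArg Subtype.val (ha ⟨v, hQT (hUQ hv.1)⟩
            ⟨hv.1, Subgroup.mem_centralizer_iff.2 fun u hu =>
              Subtype.ext (Subgroup.mem_centralizer_iff.1 hv.2 u hu)⟩)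
          have hit : ∀ m : ℕ, (a : Ω) ^ m * v * ((a : Ω) ^ m)⁻¹ = c ^ m * v := by
            intro m
            induction m with
            | zero => simp
            | succ m ihm =>
              have h2 : (a : Ω) * c ^ m = c ^ m * a := (Commute.pow_right hac m).eq
              rw [pow_succ', mul_inv_rev, show (a : Ω) * (a : Ω) ^ m * v * (((a : Ω) ^ m)⁻¹ * (a : Ω)⁻¹) =
                a * ((a : Ω) ^ m * v * ((a : Ω) ^ m)⁻¹) * (a : Ω)⁻¹ by group, ihm,
                ← mul_assoc, h2, pow_succ, hc]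
              group
          have hd : (c ^ p ^ k) ^ p = 1 := by
            rw [← pow_mul, ← pow_succ]
            have h2 := Subgroup.mem_centralizer_iff.1 hv.2 _ hk'
            have h3 := hit (p ^ (k + 1))
            rw [h2, mul_inv_cancel_right] at h3
            exact right_eq_mul.1 h3
          have hw : (c ^ p ^ k * v) ∈ Z := hit (p ^ k) ▸ hconjZ _ (pow_mem a.2 _) v hv
          have hcomm : Commute (c ^ p ^ k * v) v := Subgroup.mem_centralizer_iff.1 hv.2 _ hw.1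
          have hcv : Commute (c ^ p ^ k) v := by
            have := hcomm.mul_left ((Commute.refl v).inv_left)
            rwa [mul_inv_cancel_right] at this
          have h4 : (a : Ω) ^ p ^ k * v ^ p * ((a : Ω) ^ p ^ k)⁻¹ = v ^ p := by
            rw [← conj_pow, hit, hcv.mul_pow, hd, one_mul]
          exact (mul_inv_eq_iff_eq_mul.1 h4).symm
        have hlt : U < C := lt_of_le_of_ne hUC fun h => hk (h ▸ hb)
        have := H88.card_lt_card_of_lt_sub hlt
        omega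
    · -- the centralizer of the powers leaves `Q`
      refine ⟨Z, inf_le_left.trans hUQ, hZinv, fun t ht hc => ⟨hXU (hCX t ht fun x hx => hc x (hXQ hx)),
        Subgroup.mem_centralizer_iff.2 fun u hu => hc u (hUQ hu)⟩, ?_⟩
      obtain ⟨g, hgC, hgN, hgQ⟩ :=
        H88.exists_mem_normalizer_normalized hT (inf_le_left : C ≤ T) hTC hQT hCQ
      exact ⟨g, hgN, hgQ, fun z hz =>
        mul_inv_eq_iff_eq_mul.2 (Subgroup.mem_centralizer_iff.1 hgC.2 _ ⟨z, hz, rfl⟩).symm⟩

end H34
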