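import Cfsg.Agent.H34.MaxClassThree

/-!
Blackburn's theorem: every `p`-group of maximal class has an element avoiding all two-step
centralizers, that is an element with centralizer of order `p²`; the two-step centralizers are
periodic with period `p - 1`.
-/

set_option autoImplicit false

open Subgroup
open scoped commutatorElement
open H30 (lcsT twoStep)

namespace H34

universe u

variable {G : Type u} [Group G] {p n : ℕ}

/-- `s` avoids every two-step centralizer. -/
def Avoid (G : Type u) [Group G] (n : ℕ) (s : G) : Prop := ∀ i, i + 3 ≤ n → s ∉ twoStep G i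

theorem lcs_one_le_twoStep (i : ℕ) : lcsT G 1 ≤ twoStep G i := fun g hg => H30.mem_twoStep.2 fun y hy =>
  H30.commutator_lcsT_le i 1 (commutator_mem_commutator hy hg)

theorem commutator_mem_lcs_succ {i : ℕ} {y : G} (hy : y ∈ lcsT G i) (g : G) : ⁅y, g⁆ ∈ lcsT G (i + 1) := by
  rw [lcsT, Subgroup.lowerCentralSeries_succ]
  exact commutator_mem_commutator hy (mem_top g)

theorem mem_twoStep_of_center {g : G} (hg : g ∈ center G) (i : ℕ) : g ∈ twoStep G i :=
  H30.mem_twoStep.2 fun y _ => by
    rw [commutatorElement_eq_one_iff_mul_comm.2 (mem_center_iff.1 hg y)]; exact one_mem _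

/-- `y ↦ [y, s]` from level `j` to the quotient by level `j + 2`. -/
def stepHom (s : G) (j : ℕ) : lcsT G j →* G ⧸ lcsT G (j + 2) :=
  MonoidHom.mk' (fun y => QuotientGroup.mk' (lcsT G (j + 2)) ⁅(y : G), s⁆) fun y z => by
    have hcen : QuotientGroup.mk' (lcsT G (j + 2)) ⁅(z : G), s⁆ ∈ center (G ⧸ lcsT G (j + 2)) :=
      mem_center_iff.2 fun w => by
        obtain ⟨w, rfl⟩ := QuotientGroup.mk'_surjective _ w
        refine (commutatorElement_eq_one_iff_mul_comm.1 ?_).symm
        rw [← map_commutatorElement]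
        exact (QuotientGroup.eq_one_iff _).2 (commutator_mem_lcs_succ (commutator_mem_lcs_succ z.2 s) w)
    simp only [Subgroup.coe_mul]
    rw [show ⁅(y : G) * z, s⁆ = (y : G) * ⁅(z : G), s⁆ * (y : G)⁻¹ * ⁅(y : G), s⁆ by
      simp only [commutatorElement_def]; group]
    rw [map_mul, map_mul, map_mul, mem_center_iff.1 hcen (QuotientGroup.mk' _ (y : G)), map_inv,
      mul_inv_cancel_right, ← mem_center_iff.1 hcen]

variable [Finite G] [hp : Fact p.Prime]

theorem twoStep_zero (h : H30.MaxCls G p n) (hn : 3 ≤ n) : twoStep G 0 = lcsT G 1 := by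
  refine le_antisymm (fun g hg => ?_) (lcs_one_le_twoStep 0)
  by_contra hgn
  have hne : lcsT G 1 ⊔ zpowers g ≠ ⊤ := by
    intro htop
    refine h.twoStep_ne_top (i := 0) (by omega) (eq_top_iff.2 (htop ▸ sup_le (lcs_one_le_twoStep 0) ?_))
    exact zpowers_le.2 hg
  obtain ⟨k, -, hk⟩ := SetLike.exists_of_lt (lt_top_iff_ne_top.2 hne)
  have hcl := closure_pair_eq_of_notMem (H := ⊤) h (mem_top g) (mem_top k) hgn hk hn
  set q := QuotientGroup.mk' (lcsT G (0 + 2))
  have hgc : ∀ y, Commute (q y) (q g) := fun y => by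
    rw [← commutatorElement_eq_one_iff_commute, ← map_commutatorElement]
    exact (QuotientGroup.eq_one_iff _).2 (H30.mem_twoStep.1 hg y (by rw [lcsT, Subgroup.lowerCentralSeries_zero]; trivial))
  have hkc : closure ({g, k} : Set G) ≤ (centralizer ({q k} : Set _)).comap q := by
    rw [closure_le]
    rintro y (rfl | rfl)
    · exact mem_centralizer_singleton_iff.2 (hgc k).symm.eq
    · exact mem_centralizer_singleton_iff.2 rfl
  have hkm : k ∈ twoStep G 0 := H30.mem_twoStep.2 fun y _ => by
    refine (QuotientGroup.eq_one_iff _).1 ?_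
    rw [← QuotientGroup.mk'_apply, map_commutatorElement, commutatorElement_eq_one_iff_mul_comm]
    exact mem_centralizer_singleton_iff.1 (hkc (hcl.ge (mem_top y)))
  refine h.twoStep_ne_top (i := 0) (by omega) (eq_top_iff.2 (hcl ▸ (closure_le _).2 ?_))
  rintro y (rfl | rfl)
  exacts [hg, hkm]

theorem notMem_of_avoid (h : H30.MaxCls G p n) (hn : 3 ≤ n) {s : G} (hs : Avoid G n s) :
    s ∉ lcsT G 1 := twoStep_zero h hn ▸ hs 0 (by omega)

/-- A two-step centralizer above `γ₁` has index at most `p`. -/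
theorem exists_mul_mem_twoStep (h : H30.MaxCls G p n) {i : ℕ} (hi : 1 ≤ i) (hin : i + 3 ≤ n) {s : G}
    (hs : s ∉ twoStep G i) (g : G) : ∃ k : ℤ, g * s ^ k ∈ twoStep G i := by
  obtain ⟨b, hb, hbn⟩ := SetLike.not_le_iff_exists.1 (h.lcs_not_le (i := i) (by omega))
  have hx : ⁅b, s⁆ ∉ lcsT G (i + 2) := fun hc => hs (twoStep_of_commute h hi (by omega) hb hbn hc)
  obtain ⟨t, a', ha', he⟩ := h.exists_pow_mul (i := i + 1) (by omega) (by omega)
    (commutator_mem_lcs_succ hb s) hx (commutator_mem_lcs_succ hb g)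
  refine ⟨-t, twoStep_of_commute h hi (by omega) hb hbn ?_⟩
  set q := QuotientGroup.mk' (lcsT G (i + 2)) with hq
  have hcen : ∀ y, q ⁅b, y⁆ ∈ center (G ⧸ lcsT G (i + 2)) := fun y => mem_center_iff.2 fun z => by
    obtain ⟨z, rfl⟩ := QuotientGroup.mk'_surjective _ z
    refine (commutatorElement_eq_one_iff_mul_comm.1 ?_).symm
    rw [← map_commutatorElement]
    exact (QuotientGroup.eq_one_iff _).2 (commutator_mem_lcs_succ (commutator_mem_lcs_succ hb y) z)
  let φ : G →* G ⧸ lcsT G (i + 2) := MonoidHom.mk' (fun y => q ⁅b, y⁆) fun y z => by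
    show q ⁅b, y * z⁆ = q ⁅b, y⁆ * q ⁅b, z⁆
    rw [show ⁅b, y * z⁆ = ⁅b, y⁆ * (y * ⁅b, z⁆ * y⁻¹) by simp only [commutatorElement_def]; group,
      map_mul, map_mul, map_mul, map_inv, mem_center_iff.1 (hcen z) (q y), mul_inv_cancel_right]
  have e : φ g = φ s ^ t := by
    show q ⁅b, g⁆ = q ⁅b, s⁆ ^ t
    rw [← he, map_mul, map_zpow, show q a' = 1 from (QuotientGroup.eq_one_iff _).2 ha', one_mul]
  refine (QuotientGroup.eq_one_iff _).1 (?_ : φ (g * s ^ (-t)) = 1)
  rw [map_mul, map_zpow, e, ← zpow_add, add_neg_cancel, zpow_zero]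

/-- Conjugates of `s` fill `γ i s` above level `m`. -/
theorem exists_conj_mod (h : H30.MaxCls G p n) {m : ℕ} (hm : m + 1 ≤ n) {s : G}
    (hs : ∀ j, j + 2 ≤ m → s ∉ twoStep G j) :
    ∀ d i, m ≤ i + d → 1 ≤ i → ∀ a ∈ lcsT G i,
      ∃ g ∈ lcsT G (i - 1), (g * s * g⁻¹) * (a * s)⁻¹ ∈ lcsT G m := by
  intro d
  induction d with
  | zero =>
    intro i hi _ a ha
    refine ⟨1, one_mem _, ?_⟩
    rw [show (1 * s * 1⁻¹) * (a * s)⁻¹ = a⁻¹ by group]
    exact inv_mem (Subgroup.lowerCentralSeries_antitone _ hi ha)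
  | succ d ih =>
    intro i hid hi a ha
    by_cases him : m ≤ i
    · exact ih i (by omega) hi a ha
    obtain ⟨j, rfl⟩ : ∃ j, i = j + 1 := ⟨i - 1, by omega⟩
    have hsj := hs j (by omega)
    rw [H30.mem_twoStep] at hsj
    push_neg at hsj
    obtain ⟨b, hb, hbn⟩ := hsj
    obtain ⟨t, a', ha', he⟩ := h.exists_pow_mul (i := j + 1) (by omega) (by omega)
      (commutator_mem_lcs_succ hb s) hbn ha
    have hg1 : b ^ t ∈ lcsT G j := zpow_mem hb t
    have hq : QuotientGroup.mk' (lcsT G (j + 2)) ⁅b ^ t, s⁆ = QuotientGroup.mk' (lcsT G (j + 2)) a := by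
      have h1 := map_zpow (stepHom s j) ⟨b, hb⟩ t
      simp only [stepHom, MonoidHom.mk'_apply, SubgroupClass.coe_zpow] at h1
      rw [h1, ← he, map_mul, map_zpow, show QuotientGroup.mk' (lcsT G (j + 2)) a' = 1 from
        (QuotientGroup.eq_one_iff _).2 ha', one_mul]
    have hr : (b ^ t)⁻¹ * (a * s) * (b ^ t) * s⁻¹ ∈ lcsT G (j + 2) := by
      rw [show (b ^ t)⁻¹ * (a * s) * (b ^ t) * s⁻¹ = (b ^ t)⁻¹ * (a * ⁅b ^ t, s⁆⁻¹) * b ^ t by
        rw [commutatorElement_def]; group]
      refine (inferInstance : (lcsT G (j + 2)).Normal).conj_mem' _ ((QuotientGroup.eq_one_iff _).1 ?_) _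
      show QuotientGroup.mk' (lcsT G (j + 2)) (a * ⁅b ^ t, s⁆⁻¹) = 1
      rw [map_mul, map_inv, hq, mul_inv_cancel]
    obtain ⟨g2, hg2, hz⟩ := ih (j + 2) (by omega) (by omega) _ hr
    refine ⟨b ^ t * g2, mul_mem hg1 (Subgroup.lowerCentralSeries_antitone _ (by omega) hg2), ?_⟩
    rw [show b ^ t * g2 * s * (b ^ t * g2)⁻¹ * (a * s)⁻¹ =
      b ^ t * (g2 * s * g2⁻¹ * ((b ^ t)⁻¹ * (a * s) * b ^ t * s⁻¹ * s)⁻¹) * (b ^ t)⁻¹ by group]
    exact (inferInstance : (lcsT G m).Normal).conj_mem _ hz _

/-- The congruence for `p`-th powers above the level where `(a s) ^ p = s ^ p`. -/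
theorem pow_congr_of_pow_eq (h : H30.MaxCls G p n) {i₀ : ℕ} (hi₀ : 1 ≤ i₀) {s : G}
    (hpow : ∀ a ∈ lcsT G i₀, (a * s) ^ p = s ^ p) : ∀ i, i₀ ≤ i → ∀ a ∈ lcsT G i,
    a ^ p * (tau s)^[p - 1] a ∈ lcsT G (i + p) := by
  suffices key : ∀ d i, n - 1 ≤ i + d → i₀ ≤ i → ∀ a ∈ lcsT G i,
      a ^ p * (tau s)^[p - 1] a ∈ lcsT G (i + p) from fun i => key n i (by omega)
  intro d
  induction d with
  | zero =>
    intro i hi _ a ha
    have h1 := SmallCent.iterate_tau_mem s ha (p - 1)
    rw [h.lcs_bot (by omega), Subgroup.mem_bot] at ha h1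
    rw [h1, ha, one_pow, one_mul]
    exact one_mem _
  | succ d ih =>
    intro i hid hi a ha
    set q := QuotientGroup.mk' (lcsT G (i + p)) with hq
    have hmap : ∀ k, H11.gammaFil (G ⧸ lcsT G (i + p)) (k + 1) = (lcsT G k).map q := fun k =>
      (H30.map_lcsT (lcsT G (i + p)) k).symm
    have hbot : H11.gammaFil (G ⧸ lcsT G (i + p)) (i + p + 1) = ⊥ := by
      rw [hmap, hq, QuotientGroup.map_mk'_self]
    have hexp : ∀ y ∈ H11.gammaFil (G ⧸ lcsT G (i + p)) (i + 2), y ^ p = 1 := by
      rw [hmap]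
      rintro _ ⟨y, hy, rfl⟩
      rw [← map_pow, hq, QuotientGroup.mk'_apply, QuotientGroup.eq_one_iff]
      have h1 := ih (i + 1) (by omega) (by omega) y hy
      have h2 := SmallCent.iterate_tau_mem s hy (p - 1)
      have := hp.out.one_le
      rw [show i + 1 + (p - 1) = i + p by omega] at h2
      simpa using mul_mem (Subgroup.lowerCentralSeries_antitone _ (show i + p ≤ i + 1 + p by omega) h1)
        (inv_mem h2)
    have hsemi : Function.Semiconj q (tau s) (tau (q s)) := fun y => by simp [tau]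
    have hkey := pow_mul_iterate_tau (p := p) (hi₀.trans hi) (x := q s) (a := q a)
      (by rw [hmap]; exact mem_map_of_mem _ ha)
      (by rw [← map_mul, ← map_pow, hpow a (Subgroup.lowerCentralSeries_antitone _ hi ha), map_pow])
      hbot hexp
    rw [← hsemi.iterate_right (p - 1) a, ← map_pow, ← map_mul, hq, QuotientGroup.mk'_apply,
      QuotientGroup.eq_one_iff] at hkey
    exact hkey

theorem pow_mem_of_pow_eq (h : H30.MaxCls G p n) {i₀ : ℕ} (hi₀ : 1 ≤ i₀) {s : G}
    (hpow : ∀ a ∈ lcsT G i₀, (a * s) ^ p = s ^ p) {i : ℕ} (hi : i₀ ≤ i) {a : G} (ha : a ∈ lcsT G i) :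
    a ^ p ∈ lcsT G (i + (p - 1)) := by
  have := mul_mem (Subgroup.lowerCentralSeries_antitone _ (show i + (p - 1) ≤ i + p by omega)
    (pow_congr_of_pow_eq h hi₀ hpow i hi a ha)) (inv_mem (SmallCent.iterate_tau_mem s ha (p - 1)))
  simpa using this

theorem tau_notMem_of_notMem_twoStep (h : H30.MaxCls G p n) {s : G} {i : ℕ} (hi : 1 ≤ i) (hin : i + 3 ≤ n)
    (hs : s ∉ twoStep G i) {a : G} (ha : a ∈ lcsT G i) (han : a ∉ lcsT G (i + 1)) :
    tau s a ∉ lcsT G (i + 2) := by
  intro hc
  refine hs (twoStep_of_commute h hi (by omega) (inv_mem ha) (fun h' => han (inv_mem_iff.1 h')) ?_)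
  rw [show ⁅a⁻¹, s⁆ = tau s a by rw [tau, commutatorElement_def]; group]
  exact hc

/-- Periodicity of the two-step centralizers. -/
theorem twoStep_period (h : H30.MaxCls G p n) {i₀ : ℕ} (hi₀ : 1 ≤ i₀) {s : G}
    (hs : ∀ j, j + 4 ≤ n → s ∉ twoStep G j) (hpow : ∀ a ∈ lcsT G i₀, (a * s) ^ p = s ^ p)
    {i : ℕ} (hi : i₀ ≤ i) (hin : i + (p - 1) + 3 ≤ n) :
    twoStep G (i + (p - 1)) = twoStep G i := by
  have hp2 := hp.out.two_le
  have hi1 : 1 ≤ i := hi₀.trans hi
  have hsi : s ∉ twoStep G i := hs i (by omega)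
  obtain ⟨a, ha, han⟩ := SetLike.not_le_iff_exists.1 (h.lcs_not_le (i := i) (by omega))
  have hit : ∀ l, l ≤ p - 1 → (tau s)^[l] a ∉ lcsT G (i + l + 1) := by
    intro l
    induction l with
    | zero => exact fun _ => han
    | succ l ihl =>
      intro hl
      rw [Function.iterate_succ_apply']
      exact tau_notMem_of_notMem_twoStep h (i := i + l) (by omega) (by omega) (hs _ (by omega))
        (SmallCent.iterate_tau_mem s ha l) (ihl (by omega))
  have hb : a ^ p ∈ lcsT G (i + (p - 1)) := pow_mem_of_pow_eq h hi₀ hpow hi ha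
  have hbn : a ^ p ∉ lcsT G (i + (p - 1) + 1) := fun hc => by
    have h1 := pow_congr_of_pow_eq h hi₀ hpow i hi a ha
    rw [show i + p = i + (p - 1) + 1 by omega] at h1
    exact hit _ le_rfl ((mul_mem_cancel_left hc).1 h1)
  have hle : twoStep G i ≤ twoStep G (i + (p - 1)) := by
    intro g hg
    refine twoStep_of_commute h (by omega) (by omega) hb hbn ?_
    set c := ⁅a, g⁆⁻¹ with hcdef
    have hc : c ∈ lcsT G (i + 2) := inv_mem (H30.mem_twoStep.1 hg a ha)
    have hga : g * a * g⁻¹ = c * a := by simp only [hcdef, commutatorElement_def]; group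
    -- `(c a) ^ p = c ^ p a ^ p` modulo `γ (i + p + 1)`
    set f := QuotientGroup.mk' (lcsT G (2 * i + 3))
    set H := lcsT G (i + 2) ⊔ zpowers a with hH
    have hHi : H ≤ lcsT G i :=
      sup_le (Subgroup.lowerCentralSeries_antitone _ (by omega)) (zpowers_le.2 ha)
    have hcomm : ⁅H, H⁆ ≤ lcsT G (2 * i + 3) := by
      have hu : (lcsT G (i + 2)).map f ≤ centralizer ((H.map f : Subgroup _) : Set _) := by
        rintro _ ⟨u, hu, rfl⟩
        rw [mem_centralizer_iff]
        rintro _ ⟨v, hv, rfl⟩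
        rw [← commutatorElement_eq_one_iff_mul_comm, ← map_commutatorElement]
        refine (QuotientGroup.eq_one_iff _).2 ?_
        have h' := H30.commutator_lcsT_le i (i + 2) (commutator_mem_commutator (hHi hv) hu)
        rwa [show i + (i + 2) + 1 = 2 * i + 3 by ring] at h'
      have hza : f a ∈ centralizer ((H.map f : Subgroup _) : Set _) := by
        have h' : H.map f ≤ centralizer ({f a} : Set _) := by
          rw [hH, Subgroup.map_sup, MonoidHom.map_zpowers]
          refine sup_le (fun u hu' => mem_centralizer_singleton_iff.2 ?_)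
            (zpowers_le.2 (mem_centralizer_singleton_iff.2 rfl))
          exact (mem_centralizer_iff.1 (hu hu') _ (mem_map_of_mem f (mem_sup_right (mem_zpowers a)))).symm
        exact mem_centralizer_iff.2 fun v hv => mem_centralizer_singleton_iff.1 (h' hv)
      have hab : H.map f ≤ centralizer ((H.map f : Subgroup _) : Set _) := by
        conv_lhs => rw [hH, Subgroup.map_sup, MonoidHom.map_zpowers]
        exact sup_le hu (zpowers_le.2 hza)
      rw [commutator_le]
      intro x hx y hy
      rw [← QuotientGroup.eq_one_iff, ← QuotientGroup.mk'_apply, map_commutatorElement,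
        commutatorElement_eq_one_iff_mul_comm]
      exact mem_centralizer_iff.1 (hab (mem_map_of_mem f hy)) _ (mem_map_of_mem f hx)
    set q := QuotientGroup.mk' (lcsT G (i + (p - 1) + 2)) with hq
    set H' := H.map q
    have hlcs : ∀ e, ((⊤ : Subgroup H').lowerCentralSeries (e + 1)).map H'.subtype ≤
        (lcsT G (2 * i + 3 + e * (i + 1))).map q := by
      intro e
      induction e with
      | zero =>
        rw [Subgroup.lowerCentralSeries_succ, Subgroup.lowerCentralSeries_zero, map_commutator,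
          ← MonoidHom.range_eq_map, range_subtype, ← map_commutator, zero_mul, add_zero]
        exact map_mono hcomm
      | succ e ihe =>
        rw [Subgroup.lowerCentralSeries_succ, map_commutator, ← MonoidHom.range_eq_map, range_subtype]
        refine (commutator_mono ihe (map_mono hHi)).trans ?_
        rw [← map_commutator]
        refine map_mono ((H30.commutator_lcsT_le _ _).trans (le_of_eq ?_))
        congr 1
        ring
    have hkill : ∀ k, i + (p - 1) + 2 ≤ k → (lcsT G k).map q = ⊥ := fun k hk => by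
      rw [Subgroup.map_eq_bot_iff, hq, QuotientGroup.ker_mk']
      exact Subgroup.lowerCentralSeries_antitone _ hk
    have hcl : (⊤ : Subgroup H').lowerCentralSeries (p - 1) = ⊥ := by
      have h2 := hlcs (p - 2)
      have h3 : p - 2 ≤ (p - 2) * (i + 1) := Nat.le_mul_of_pos_right _ (by omega)
      rw [show p - 2 + 1 = p - 1 by omega, hkill _ (by omega)] at h2
      exact (map_eq_bot_iff_of_injective _ H'.subtype_injective).1 (le_bot_iff.1 h2)
    have hexp : ∀ x ∈ _root_.commutator H', x ^ p = 1 := by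
      intro x hx
      have h2 := hlcs 0
      rw [zero_add, Subgroup.top_lowerCentralSeries_one] at h2
      obtain ⟨y, hy, hye⟩ := h2 (mem_map_of_mem _ hx)
      refine Subtype.ext ?_
      rw [SubgroupClass.coe_pow, ← Subgroup.coe_subtype, ← hye, ← map_pow, map_one]
      refine (QuotientGroup.eq_one_iff _).2 (Subgroup.lowerCentralSeries_antitone _ ?_
        (pow_mem_of_pow_eq h hi₀ hpow (by omega) hy))
      omega
    have hcH : q c ∈ H' := mem_map_of_mem q (mem_sup_left hc)
    have haH : q a ∈ H' := mem_map_of_mem q (mem_sup_right (mem_zpowers a))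
    have hmul := congrArg Subtype.val
      (H11.mul_pow_prime_of_small_class (p := p) hcl hexp ⟨_, hcH⟩ ⟨_, haH⟩)
    simp only [Subgroup.coe_mul, SubgroupClass.coe_pow] at hmul
    have hcp : q (c ^ p) = 1 := (QuotientGroup.eq_one_iff _).2
      (Subgroup.lowerCentralSeries_antitone _ (by omega) (pow_mem_of_pow_eq h hi₀ hpow (by omega) hc))
    have heq : q (g * a ^ p * g⁻¹) = q (a ^ p) := by
      rw [← conj_pow, hga, map_pow, map_mul, hmul, ← map_pow, hcp, one_mul, ← map_pow]
    refine (QuotientGroup.eq_one_iff _).1 ?_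
    show q ⁅a ^ p, g⁆ = 1
    rw [show ⁅a ^ p, g⁆ = a ^ p * (g * a ^ p * g⁻¹)⁻¹ by rw [commutatorElement_def]; group,
      map_mul, map_inv, heq, mul_inv_cancel]
  refine le_antisymm (fun y hy => ?_) hle
  by_contra hyn
  obtain ⟨k, hk⟩ := exists_mul_mem_twoStep h hi1 (by omega) hsi y
  set M := twoStep G (i + (p - 1))
  have hsk : s ^ k ∈ M := (mul_mem_cancel_left hy).1 (hle hk)
  have hspi : s ^ (p : ℤ) ∈ twoStep G i := by
    rw [zpow_natCast]; exact lcs_one_le_twoStep i (h.pow_mem_lcs_one (by omega) s)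
  by_cases hdvd : (p : ℤ) ∣ k
  · obtain ⟨c, rfl⟩ := hdvd
    refine hyn ((mul_mem_cancel_right ?_).1 hk)
    rw [zpow_mul]; exact zpow_mem hspi c
  · obtain ⟨u, v, huv⟩ := ((Nat.prime_iff_prime_int.1 hp.out).coprime_iff_not_dvd.2 hdvd)
    have hsM : s ∈ M := by
      rw [show s = s ^ (u * (p : ℤ) + v * k) by rw [huv, zpow_one], zpow_add, zpow_mul', zpow_mul']
      exact mul_mem (zpow_mem (hle hspi) u) (zpow_mem hsk v)
    refine h.twoStep_ne_top (i := i + (p - 1)) (by omega) (eq_top_iff.2 fun z _ => ?_)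
    obtain ⟨k', hk'⟩ := exists_mul_mem_twoStep h hi1 (by omega) hsi z
    exact (mul_mem_cancel_right (zpow_mem hsM k')).1 (hle hk')

/-- Elements avoiding the two-step centralizers have centralizer of order `p²`. -/
theorem cent_card_of_avoid (h : H30.MaxCls G p n) (hn : 3 ≤ n) {s : G} (hs : Avoid G n s) :
    Nat.card (centralizer ({s} : Set G)) = p ^ 2 := by
  set C := centralizer ({s} : Set G)
  set L := lcsT G 1
  have hsL : s ∉ L := notMem_of_avoid h hn hs
  have hinf : Nat.card (L.subgroupOf C) ≤ p := by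
    have h1 : ∀ y : L.subgroupOf C, ((y : C) : G) ∈ lcsT G (n - 2) := fun y =>
      h.mem_of_commute (a := 1) le_rfl (fun i _ hi => hs i hi) (mem_subgroupOf.1 y.2)
        (mem_centralizer_singleton_iff.1 (y : C).2)
    have h2 := Nat.card_le_card_of_injective (fun y => (⟨_, h1 y⟩ : lcsT G (n - 2))) fun a b hab =>
      Subtype.ext (Subtype.ext (congrArg Subtype.val hab :))
    rwa [h.lcs_card (by omega) (by omega), show n - 1 - (n - 2) = 1 by omega, pow_one] at h2
  have htop : C ⊔ L ≠ ⊤ := by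
    intro htop
    haveI := h.isPGroup.isNilpotent
    have hC : C = ⊤ := by
      refine frattini_nongenerating (eq_top_iff.2 (htop ▸ sup_le_sup le_rfl ?_))
      show lcsT G 1 ≤ _
      rw [lcsT, Subgroup.top_lowerCentralSeries_one]
      exact H31.commutator_le_frattini h.isPGroup
    exact hs 0 (by omega) (mem_twoStep_of_center
      (mem_center_iff.2 fun y => mem_centralizer_singleton_iff.1 (hC.ge (mem_top y))) 0)
  have hupper : Nat.card C ≤ p ^ 2 := by
    have h1 := Subgroup.card_mul_index (L.subgroupOf C)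
    have h2 : L.relIndex (C ⊔ L) * (C ⊔ L).index = L.index := relIndex_mul_index le_sup_right
    rw [Subgroup.relIndex_sup_right, h.lcs_index le_rfl (by omega)] at h2
    have h3 : p ∣ (C ⊔ L).index := by
      obtain ⟨e, -, he⟩ := (Nat.dvd_prime_pow hp.out).1 (h.card ▸ (C ⊔ L).index_dvd_card)
      rw [he]
      refine dvd_pow_self p fun h0 => htop (index_eq_one.1 ?_)
      rw [he, h0, pow_zero]
    have h4 : (L.subgroupOf C).index * p ≤ p ^ 2 := by
      show L.relIndex C * p ≤ _
      rw [← h2]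
      exact Nat.mul_le_mul_left _ (Nat.le_of_dvd (Nat.pos_of_ne_zero index_ne_zero_of_finite) h3)
    rw [← h1]
    exact (Nat.mul_le_mul_right _ hinf).trans (by rwa [mul_comm])
  refine le_antisymm hupper ?_
  have hlt : lcsT G (n - 2) < lcsT G (n - 2) ⊔ zpowers s := left_lt_sup.2 fun hh =>
    hsL (Subgroup.lowerCentralSeries_antitone _ (show 1 ≤ n - 2 by omega) (hh (mem_zpowers s)))
  have h1 := H30.card_mul_le_of_lt h.isPGroup hlt
  rw [h.lcs_card (by omega) (by omega), show n - 1 - (n - 2) = 1 by omega, pow_one, ← sq] at h1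
  refine h1.trans (Subgroup.card_le_of_le (sup_le ?_ (zpowers_le.2 (mem_centralizer_singleton_iff.2 rfl))))
  exact h.lcs_pred_le_center.trans (center_le_centralizer _)

theorem pow_central_of_avoid (h : H30.MaxCls G p n) (hn : 3 ≤ n) {s : G} (hs : Avoid G n s) :
    s ^ p ∈ center G :=
  h.lcs_pred_le_center (h.mem_of_commute (a := 1) le_rfl (fun i _ hi => hs i hi)
    (h.pow_mem_lcs_one hn s) (Commute.pow_self s p))

theorem exists_conj_of_avoid (h : H30.MaxCls G p n) {s : G} (hs : Avoid G n s) {a : G}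
    (ha : a ∈ lcsT G 1) : ∃ g : G, g * s * g⁻¹ = a * s := by
  have := h.two_le
  obtain ⟨g, -, hg⟩ := exists_conj_mod h (m := n - 1) (by omega) (fun j hj => hs j (by omega))
    n 1 (by omega) le_rfl a ha
  rw [h.lcs_bot le_rfl, Subgroup.mem_bot, mul_inv_eq_one] at hg
  exact ⟨g, hg⟩

theorem mul_pow_eq_of_avoid (h : H30.MaxCls G p n) (hn : 3 ≤ n) {s : G} (hs : Avoid G n s) {a : G}
    (ha : a ∈ lcsT G 1) : (a * s) ^ p = s ^ p := by
  obtain ⟨g, hg⟩ := exists_conj_of_avoid h hs ha
  rw [← hg, conj_pow, mem_center_iff.1 (pow_central_of_avoid h hn hs) g, mul_inv_cancel_right]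

/-- Blackburn: some element avoids all two-step centralizers. -/
theorem exists_avoid : ∀ (n : ℕ) {G : Type u} [Group G] [Finite G],
    H30.MaxCls G p n → 3 ≤ n → ∃ s : G, Avoid G n s := by
  intro n
  induction n using Nat.strong_induction_on with
  | _ n ih =>
    intro G _ _ h hn
    by_cases hsmall : n ≤ p + 2
    · obtain ⟨g, hg⟩ := H30.exists_avoiding h.isPGroup (Finset.range (n - 2)) (fun i => twoStep G i)
        (by rw [Finset.card_range]; omega)
        (fun i hi => h.twoStep_ne_top (by rw [Finset.mem_range] at hi; omega))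
      exact ⟨g, fun i hi => hg i (Finset.mem_range.2 (by omega))⟩
    have hp2 := hp.out.two_le
    have hQ := h.quotient (r := n - 1) (by omega) (by omega)
    rw [show n - 1 - 1 = n - 2 by omega] at hQ
    obtain ⟨s', hs'⟩ := ih (n - 1) (by omega) hQ (by omega)
    obtain ⟨s, rfl⟩ := QuotientGroup.mk'_surjective (lcsT G (n - 2)) s'
    set q := QuotientGroup.mk' (lcsT G (n - 2)) with hqdef
    have hs : ∀ j, j + 4 ≤ n → s ∉ twoStep G j := by
      intro j hj hc
      refine hs' j (by omega) (H30.mem_twoStep.2 fun y hy => ?_)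
      rw [← H30.map_lcsT] at hy ⊢
      obtain ⟨y, hy, rfl⟩ := hy
      rw [← map_commutatorElement]
      exact mem_map_of_mem _ (H30.mem_twoStep.1 hc y hy)
    have hsp : s ^ p ∈ lcsT G (n - 3) := by
      have h1 := hQ.mem_of_commute (a := 1) le_rfl (fun i _ hi => hs' i hi)
        (hQ.pow_mem_lcs_one (by omega) (q s)) (Commute.pow_self (q s) p)
      rw [show n - 1 - 2 = n - 3 by omega, ← H30.map_lcsT, ← map_pow] at h1
      have h2 : s ^ p ∈ ((lcsT G (n - 3)).map q).comap q := mem_comap.2 h1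
      rwa [comap_map_eq_self] at h2
      rw [hqdef, QuotientGroup.ker_mk']
      exact Subgroup.lowerCentralSeries_antitone _ (by omega)
    have hpow : ∀ a ∈ lcsT G 2, (a * s) ^ p = s ^ p := by
      intro a ha
      obtain ⟨g, hg, hz⟩ := exists_conj_mod h (m := n - 2) (by omega) (fun j hj => hs j (by omega))
        n 2 (by omega) (by omega) a ha
      set z := g * s * g⁻¹ * (a * s)⁻¹
      have hzc := h.lcs_pred_le_center hz
      have hzp : z ^ p = 1 := by
        have h2 := congrArg Subtype.val (pow_card_eq_one' (x := (⟨z, hz⟩ : lcsT G (n - 2))))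
        rwa [h.lcs_card (by omega) (by omega), show n - 1 - (n - 2) = 1 by omega, pow_one] at h2
      have hgs : ⁅g, s ^ p⁆ = 1 := by
        have h2 := H30.commutator_lcsT_le _ _ (commutator_mem_commutator hg hsp)
        rwa [h.lcs_bot (by omega), Subgroup.mem_bot] at h2
      rw [show a * s = z⁻¹ * (g * s * g⁻¹) by simp only [z]; group,
        Commute.mul_pow (mem_center_iff.1 (inv_mem hzc) _).symm, inv_pow, hzp, inv_one, one_mul,
        conj_pow, (commutatorElement_eq_one_iff_mul_comm.1 hgs), mul_inv_cancel_right]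
    obtain ⟨g, hg⟩ := H30.exists_avoiding h.isPGroup (Finset.range p) (fun i => twoStep G (i + 1))
      (by rw [Finset.card_range])
      (fun i hi => h.twoStep_ne_top (by rw [Finset.mem_range] at hi; omega))
    refine ⟨g, fun j => ?_⟩
    induction j using Nat.strong_induction_on with
    | _ j jh =>
      intro hj
      rcases j.eq_zero_or_pos with rfl | hj0
      · rw [twoStep_zero h hn]
        exact fun hc => hg 0 (Finset.mem_range.2 (by omega)) (lcs_one_le_twoStep _ hc)
      by_cases hjp : j ≤ p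
      · have h1 := hg (j - 1) (Finset.mem_range.2 (by omega))
        rwa [show j - 1 + 1 = j by omega] at h1
      · rw [show j = (j - (p - 1)) + (p - 1) by omega,
          twoStep_period h (i₀ := 2) (by omega) hs hpow (by omega) (by omega)]
        exact jh _ (by omega) (by omega)

/-- Given one avoiding element, some avoids in addition a prescribed proper subgroup containing it. -/
theorem exists_avoid_notMem (h : H30.MaxCls G p n) (hn : 3 ≤ n) {s : G} (hs : Avoid G n s)
    {K : Subgroup G} (hK : K ≠ ⊤) (hsK : s ∈ K) : ∃ g : G, Avoid G n g ∧ g ∉ K := by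
  have hp2 := hp.out.two_le
  have hper : ∀ i, 1 ≤ i → i + (p - 1) + 3 ≤ n → twoStep G (i + (p - 1)) = twoStep G i := fun i hi hin =>
    twoStep_period h (i₀ := 1) le_rfl (fun j hj => hs j (by omega))
      (fun a ha => mul_pow_eq_of_avoid h hn hs ha) hi hin
  -- representatives `0, 1, …, p - 1` cut off at `n - 3`
  set r := min (p - 1) (n - 3)
  obtain ⟨g, hg⟩ := H30.exists_avoiding h.isPGroup (Finset.range (r + 1))
    (fun i => if i < r then twoStep G (i + 1) else if r = 0 then K ⊔ lcsT G 1 else K)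
    (by rw [Finset.card_range]; omega)
    (fun i hi => by
      split_ifs with h1 h2
      · exact h.twoStep_ne_top (by omega)
      · intro htop
        haveI := h.isPGroup.isNilpotent
        refine hK (frattini_nongenerating (eq_top_iff.2 (htop ▸ sup_le_sup le_rfl ?_)))
        rw [lcsT, Subgroup.top_lowerCentralSeries_one]
        exact H31.commutator_le_frattini h.isPGroup
      · exact hK)
  have hgK := hg r (Finset.mem_range.2 (by omega))
  rw [if_neg (lt_irrefl r)] at hgK
  refine ⟨g, fun j => ?_, fun hc => hgK (by split_ifs; exacts [mem_sup_left hc, hc])⟩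
  induction j using Nat.strong_induction_on with
  | _ j jh =>
    intro hj
    rcases j.eq_zero_or_pos with rfl | hj0
    · rw [twoStep_zero h hn]
      intro hc
      by_cases hr : r = 0
      · rw [if_pos hr] at hgK; exact hgK (mem_sup_right hc)
      · have h1 := hg 0 (Finset.mem_range.2 (by omega))
        rw [if_pos (Nat.pos_of_ne_zero hr)] at h1
        exact h1 (lcs_one_le_twoStep _ hc)
    by_cases hjp : j ≤ p - 1
    · have h1 := hg (j - 1) (Finset.mem_range.2 (by omega))
      rw [if_pos (by omega), show j - 1 + 1 = j by omega] at h1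
      exact h1
    · rw [show j = (j - (p - 1)) + (p - 1) by omega, hper _ (by omega) (by omega)]
      exact jh _ (by omega) (by omega)

/-- An element with centralizer of order `p²` avoids all two-step centralizers. -/
theorem avoid_of_cent (h : H30.MaxCls G p n) (hn : 3 ≤ n) {x : G}
    (hx : Nat.card (centralizer ({x} : Set G)) = p ^ 2) : Avoid G n x := by
  classical
  set C := centralizer ({x} : Set G)
  have hidx : Nat.card (G ⧸ C) = p ^ (n - 2) := by
    have h1 := Subgroup.card_eq_card_quotient_mul_card_subgroup C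
    rw [hx, h.card, show n = n - 2 + 2 by omega, pow_add] at h1
    rw [show n = n - 2 + 2 by omega]
    exact (Nat.eq_of_mul_eq_mul_right (pow_pos hp.out.pos 2) h1).symm
  have hL : Nat.card (lcsT G 1) = p ^ (n - 2) := by
    rw [h.lcs_card le_rfl (by omega), show n - 1 - 1 = n - 2 by omega]
  let f : G ⧸ C → lcsT G 1 := fun q => ⟨_, SmallCent.conj_mul_inv_mem (x := x) q.out⟩
  have hf : Function.Bijective f := (Nat.bijective_iff_injective_and_card f).2
    ⟨fun a b hab => SmallCent.eq_of_conj_eq (mul_right_cancel (congrArg Subtype.val hab)),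
      hidx.trans hL.symm⟩
  have hsurj : ∀ c ∈ lcsT G 1, ∃ g : G, g * x * g⁻¹ = c * x := by
    intro c hc
    obtain ⟨q, hq⟩ := hf.2 ⟨c, hc⟩
    exact ⟨q.out, mul_inv_eq_iff_eq_mul.1 (congrArg Subtype.val hq :)⟩
  have hx1 : x ∉ lcsT G 1 := by
    intro hxL
    obtain ⟨g, hg⟩ := hsurj x⁻¹ (inv_mem hxL)
    rw [inv_mul_cancel, conj_eq_one_iff] at hg
    change Nat.card (centralizer ({x} : Set G)) = p ^ 2 at hx
    rw [hg, show centralizer ({(1 : G)} : Set G) = ⊤ from eq_top_iff.2 fun g _ =>
      mem_centralizer_singleton_iff.2 (by simp), card_top, h.card] at hx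
    have := Nat.pow_right_injective hp.out.two_le hx
    omega
  intro i hi hxi
  rcases i.eq_zero_or_pos with rfl | hi0
  · exact hx1 (twoStep_zero h hn ▸ hxi)
  set q := QuotientGroup.mk' (lcsT G (i + 2)) with hq
  set D := centralizer ({q x} : Set (G ⧸ lcsT G (i + 2)))
  set A := (lcsT G i).map q
  have hcQ : Nat.card (G ⧸ lcsT G (i + 2)) = p ^ (i + 3) := h.lcs_index (by omega) (by omega)
  have hcm : ∀ k, 1 ≤ k → k ≤ i + 2 → Nat.card ((lcsT G k).map q) = p ^ (i + 2 - k) := by
    intro k hk hk2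
    have h1 : ((lcsT G k).map q).index = (lcsT G k).index := by
      refine index_map_eq _ (QuotientGroup.mk'_surjective _) ?_
      rw [QuotientGroup.ker_mk']; exact Subgroup.lowerCentralSeries_antitone _ hk2
    have h2 := ((lcsT G k).map q).card_mul_index
    rw [h1, h.lcs_index hk (by omega), hcQ, show i + 3 = (i + 2 - k) + (k + 1) by omega, pow_add _ (i + 2 - k)] at h2
    exact Nat.eq_of_mul_eq_mul_right (pow_pos hp.out.pos _) h2
  have hD : p ^ 3 ≤ Nat.card D := by
    have hlt : A < A ⊔ zpowers (q x) := left_lt_sup.2 fun hh => hx1 (by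
      have h1 : x ∈ A.comap q := mem_comap.2 (hh (mem_zpowers _))
      rw [comap_map_eq_self (by rw [QuotientGroup.ker_mk']; exact Subgroup.lowerCentralSeries_antitone _ (by omega))] at h1
      exact Subgroup.lowerCentralSeries_antitone _ hi0 h1)
    have h1 := H30.card_mul_le_of_lt (h.isPGroup.to_quotient _) hlt
    rw [hcm i hi0 (by omega), show i + 2 - i = 2 by omega] at h1
    rw [show p ^ 3 = p * p ^ 2 by ring]
    refine h1.trans (Subgroup.card_le_of_le (sup_le ?_ (zpowers_le.2 (mem_centralizer_singleton_iff.2 rfl))))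
    rintro _ ⟨y, hy, rfl⟩
    refine mem_centralizer_singleton_iff.2 (commutatorElement_eq_one_iff_mul_comm.1 ?_)
    rw [← map_commutatorElement]
    exact (QuotientGroup.eq_one_iff _).2 (H30.mem_twoStep.1 hxi y hy)
  let F : ((G ⧸ lcsT G (i + 2)) ⧸ D) → (lcsT G 1).map q := fun w => ⟨w.out * q x * w.out⁻¹ * (q x)⁻¹, by
    obtain ⟨g, hg⟩ := QuotientGroup.mk'_surjective _ w.out
    exact ⟨_, SmallCent.conj_mul_inv_mem (x := x) g, by rw [map_mul, map_mul, map_mul, map_inv, map_inv, show q g = w.out from hg]⟩⟩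
  have hF : Function.Surjective F := by
    rintro ⟨_, c, hc, rfl⟩
    obtain ⟨g, hg⟩ := hsurj c hc
    refine ⟨QuotientGroup.mk (q g), Subtype.ext ?_⟩
    obtain ⟨d, hd⟩ := QuotientGroup.mk_out_eq_mul D (q g)
    show _ * q x * _⁻¹ * (q x)⁻¹ = q c
    rw [hd, show q g * (d : _) * q x * (q g * (d : _))⁻¹ * (q x)⁻¹ =
      q g * ((d : _) * q x) * (d : G ⧸ lcsT G (i + 2))⁻¹ * (q g)⁻¹ * (q x)⁻¹ by group,
      mem_centralizer_singleton_iff.1 d.2, mul_inv_eq_iff_eq_mul, ← map_mul q c, ← hg]
    rw [← mul_assoc (q g), mul_inv_cancel_right, map_mul, map_mul, map_inv]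
  have hle := Nat.card_le_card_of_surjective F hF
  rw [hcm 1 le_rfl (by omega)] at hle
  have h5 := Subgroup.card_eq_card_quotient_mul_card_subgroup D
  rw [hcQ] at h5
  have h6 : p ^ (i + 2 - 1) * p ^ 3 ≤ p ^ (i + 3) := h5 ▸ Nat.mul_le_mul hle hD
  rw [← pow_add, Nat.pow_le_pow_iff_right hp.out.one_lt] at h6
  omega

end H34
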