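import Cfsg.Agent.H6.OmegaOdd

/-!
A p-group, p odd, acting faithfully and coprimely on a finite abelian group such that every
characteristic elementary abelian subgroup is of order at most p and fixed-point-free: some vector
is moved by every element of order p.
-/

set_option autoImplicit false

open scoped Classical

namespace H34

section fixed

variable {P W : Type*} [Group P] [AddCommGroup W] (φ : P →* AddMonoid.End W)

/-- The vectors fixed by `x`. -/
def fixBy (x : P) : AddSubgroup W where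
  carrier := {w | φ x w = w}
  zero_mem' := map_zero _
  add_mem' := fun {a b} (ha : φ x a = a) (hb : φ x b = b) => show φ x (a + b) = a + b by rw [map_add, ha, hb]
  neg_mem' := fun {a} (ha : φ x a = a) => show φ x (-a) = -a by rw [map_neg, ha]

theorem mem_fixBy {x : P} {w : W} : w ∈ fixBy φ x ↔ φ x w = w := Iff.rfl

theorem map_mul_apply (x y : P) (w : W) : φ (x * y) w = φ x (φ y w) := by
  rw [map_mul]; rfl

theorem map_one_apply (w : W) : φ 1 w = w := by rw [map_one]; rfl

variable {p : ℕ} [Fact p.Prime]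

theorem eq_zero_of_nsmul [Finite W] (hco : ¬ p ∣ Nat.card W) {w : W} (h : p • w = 0) : w = 0 := by
  rcases (Nat.dvd_prime (Fact.out : p.Prime)).1 (addOrderOf_dvd_iff_nsmul_eq_zero.2 h) with h1 | h1
  · exact AddMonoid.addOrderOf_eq_one_iff.1 h1
  · exact absurd (h1 ▸ addOrderOf_dvd_natCard w) hco

theorem pow_mul_conj {x y z : P} (hz : z ∈ Subgroup.center P) (hyx : y * x * y⁻¹ = z * x) (n : ℕ) :
    x * y ^ n = y ^ n * ((z⁻¹) ^ n * x) := by
  induction n with
  | zero => simp
  | succ n ih =>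
    have hzc : ∀ g, g * z⁻¹ = z⁻¹ * g := fun g => Subgroup.mem_center_iff.1 (inv_mem hz) g
    have hzn : ∀ g, g * z⁻¹ ^ n = z⁻¹ ^ n * g :=
      fun g => Subgroup.mem_center_iff.1 (pow_mem (inv_mem hz) n) g
    have h1 : x * y = y * (z⁻¹ * x) := by
      rw [← mul_assoc, hzc y, mul_assoc, eq_inv_mul_iff_mul_eq, ← mul_assoc, ← hyx, inv_mul_cancel_right]
    calc x * y ^ (n + 1) = (x * y ^ n) * y := by rw [pow_succ, mul_assoc]
      _ = y ^ n * (z⁻¹ ^ n * (x * y)) := by rw [ih]; simp only [mul_assoc]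
      _ = y ^ n * ((z⁻¹ ^ n * y) * (z⁻¹ * x)) := by rw [h1]; simp only [mul_assoc]
      _ = y ^ (n + 1) * (z⁻¹ ^ (n + 1) * x) := by
        rw [← hzn y, pow_succ, pow_succ]; simp only [mul_assoc]

theorem geom_apply_eq_zero {a : P} (ha : a ^ p = 1) (hfpf : ∀ w : W, φ a w = w → w = 0) (w : W) :
    ∑ k ∈ Finset.range p, φ (a ^ k) w = 0 := by
  refine hfpf _ ?_
  rw [map_sum]
  simp only [← map_mul_apply, ← pow_succ']
  have h1 := Finset.sum_range_succ' (fun k => φ (a ^ k) w) p
  have h2 := Finset.sum_range_succ (fun k => φ (a ^ k) w) p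
  rw [h1, ha, pow_zero] at h2
  exact add_right_cancel h2

/-- With `y x y⁻¹ = z x`, `z` central and fixed-point-free: translates of the fixed space of `x`. -/
theorem fixed_pow_le [Finite W] (hco : ¬ p ∣ Nat.card W) {x y z : P} (hz : z ∈ Subgroup.center P)
    (hzp : z ^ p = 1) (hfpf : ∀ a ∈ Subgroup.zpowers z, a ≠ 1 → ∀ w : W, φ a w = w → w = 0)
    (hz1 : z ≠ 1) (hyx : y * x * y⁻¹ = z * x) (W' : AddSubgroup W)
    (hW' : ∀ w ∈ W', φ y w ∈ W') :
    Nat.card ↥(W' ⊓ fixBy φ x) ^ p ≤ Nat.card W' := by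
  have hp : p.Prime := Fact.out
  have hyn : ∀ n : ℕ, ∀ w ∈ W', φ (y ^ n) w ∈ W' := by
    intro n
    induction n with
    | zero => intro w hw; rwa [pow_zero, map_one_apply]
    | succ n ih => intro w hw; rw [pow_succ, map_mul_apply]; exact ih _ (hW' w hw)
  let f : (Fin p → ↥(W' ⊓ fixBy φ x)) → W' := fun u =>
    ⟨∑ i : Fin p, φ (y ^ (i : ℕ)) (u i : W), AddSubgroup.sum_mem _ fun i _ => hyn _ _ (u i).2.1⟩
  have hev : ∀ (u : Fin p → ↥(W' ⊓ fixBy φ x)) (j i : Fin p),
      ∑ k ∈ Finset.range p, φ ((x * z ^ (j : ℕ)) ^ k) (φ (y ^ (i : ℕ)) (u i : W)) =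
        if i = j then p • φ (y ^ (i : ℕ)) (u i : W) else 0 := by
    intro u j i
    set v := φ (y ^ (i : ℕ)) (u i : W) with hv
    set a := z⁻¹ ^ (i : ℕ) * z ^ (j : ℕ) with ha
    have hac : ∀ g, g * a = a * g := fun g =>
      Subgroup.mem_center_iff.1 (mul_mem (pow_mem (inv_mem hz) _) (pow_mem hz _)) g
    have hx : φ x v = φ (z⁻¹ ^ (i : ℕ)) v := by
      have hzi := Subgroup.mem_center_iff.1 (pow_mem (inv_mem hz) (i : ℕ))
      rw [hv, ← map_mul_apply, pow_mul_conj hz hyx, ← mul_assoc, map_mul_apply]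
      rw [show φ x (u i : W) = u i from (u i).2.2, ← map_mul_apply, hzi (y ^ (i : ℕ))]
    have hk : ∀ k : ℕ, φ ((x * z ^ (j : ℕ)) ^ k) v = φ (a ^ k) v := by
      intro k
      induction k with
      | zero => simp
      | succ k ih =>
        rw [pow_succ', map_mul_apply, ih, ← map_mul_apply,
          show x * z ^ (j : ℕ) * a ^ k = (z ^ (j : ℕ) * a ^ k) * x by
            rw [mul_assoc]
            exact Subgroup.mem_center_iff.1 (mul_mem (pow_mem hz _)
              (pow_mem (mul_mem (pow_mem (inv_mem hz) _) (pow_mem hz _)) k)) x,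
          map_mul_apply, hx, ← map_mul_apply, pow_succ']
        congr 2
        rw [mul_assoc, ← Subgroup.mem_center_iff.1 (pow_mem (mul_mem (pow_mem (inv_mem hz) (i : ℕ))
          (pow_mem hz (j : ℕ))) k) (z⁻¹ ^ (i : ℕ)), ← mul_assoc]
        rw [ha, Subgroup.mem_center_iff.1 (pow_mem hz (j : ℕ)) (z⁻¹ ^ (i : ℕ))]
    simp only [hk]
    split_ifs with hij
    · subst hij
      simp [ha, ← mul_pow]
    · refine geom_apply_eq_zero φ ?_ (hfpf a ?_ ?_) v
      · rw [ha, (show Commute (z⁻¹ ^ (i : ℕ)) (z ^ (j : ℕ)) from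
          ((Commute.refl z).inv_left.pow_pow _ _)).mul_pow, ← pow_mul, ← pow_mul, mul_comm _ p,
          mul_comm _ p, pow_mul, pow_mul, inv_pow, hzp, inv_one, one_pow, one_pow, one_mul]
      · exact mul_mem (pow_mem (inv_mem (Subgroup.mem_zpowers z)) _)
          (pow_mem (Subgroup.mem_zpowers z) _)
      · rw [ha, inv_pow, Ne, inv_mul_eq_one]
        intro h
        rw [pow_inj_mod, orderOf_eq_prime hzp hz1, Nat.mod_eq_of_lt i.2, Nat.mod_eq_of_lt j.2] at h
        exact hij (Fin.ext h)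
  have hinj : Function.Injective f := by
    intro u u' huu
    have hsum : ∑ i : Fin p, φ (y ^ (i : ℕ)) ((u - u') i : W) = 0 := by
      have h1 : ∑ i : Fin p, φ (y ^ (i : ℕ)) (u i : W) = ∑ i : Fin p, φ (y ^ (i : ℕ)) (u' i : W) :=
        congrArg Subtype.val huu
      simp only [Pi.sub_apply, AddSubgroup.coe_sub, map_sub, Finset.sum_sub_distrib, h1, sub_self]
    refine sub_eq_zero.1 (funext fun j => Subtype.ext ?_)
    have h := congrArg (fun w => ∑ k ∈ Finset.range p, φ ((x * z ^ (j : ℕ)) ^ k) w) hsum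
    simp only [map_sum, map_zero, Finset.sum_const_zero] at h
    rw [Finset.sum_comm] at h
    simp only [hev, Finset.sum_ite_eq', Finset.mem_univ, if_true] at h
    have h2 := congrArg (φ (y ^ (j : ℕ))⁻¹) (eq_zero_of_nsmul hco h)
    rw [← map_mul_apply, inv_mul_cancel, map_one_apply, map_zero] at h2
    exact h2
  simpa [Nat.card_fun] using Nat.card_le_card_of_injective f hinj

end fixed


section commutators

variable {P : Type*} [Group P]

/-- The commutator used here. -/
def cm (u x : P) : P := u * x * u⁻¹ * x⁻¹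

theorem cm_conj (u x : P) : u * x * u⁻¹ = cm u x * x := by simp [cm]

theorem cm_mul_left {u v x : P} (hv : cm v x ∈ Subgroup.center P) : cm (u * v) x = cm v x * cm u x := by
  have h := Subgroup.mem_center_iff.1 hv u
  calc cm (u * v) x = u * cm v x * (x * u⁻¹ * x⁻¹) := by simp only [cm]; group
    _ = cm v x * u * (x * u⁻¹ * x⁻¹) := by rw [h]
    _ = cm v x * cm u x := by simp only [cm]; group

theorem cm_mul_right {u x y : P} (hy : cm u y ∈ Subgroup.center P) : cm u (x * y) = cm u x * cm u y := by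
  calc cm u (x * y) = (u * x * u⁻¹) * cm u y * x⁻¹ := by simp only [cm]; group
    _ = (u * x * u⁻¹) * (cm u y * x⁻¹) := mul_assoc _ _ _
    _ = (u * x * u⁻¹) * (x⁻¹ * cm u y) := by rw [Subgroup.mem_center_iff.1 hy x⁻¹]
    _ = cm u x * cm u y := by simp only [cm]; group

theorem cm_zpow_left {u x : P} (h : cm u x ∈ Subgroup.center P) (i : ℤ) : cm (u ^ i) x = cm u x ^ i := by
  induction i using Int.induction_on with
  | zero => simp [cm]
  | succ k ih =>
    have hc : cm (u ^ (k : ℤ)) x ∈ Subgroup.center P := ih ▸ zpow_mem h _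
    rw [zpow_add_one, cm_mul_left h, ih, zpow_add_one]
    exact Subgroup.mem_center_iff.1 (zpow_mem h _) (cm u x)
  | pred k ih =>
    have h1 : cm (u ^ (-(k : ℤ) - 1) * u) x = cm u x * cm (u ^ (-(k : ℤ) - 1)) x := cm_mul_left h
    rw [← zpow_add_one, sub_add_cancel, ih] at h1
    rw [eq_inv_mul_of_mul_eq h1.symm, zpow_sub_one, ← Subgroup.mem_center_iff.1 (zpow_mem h _) (cm u x)⁻¹]

theorem cm_swap (u x : P) : cm x u = (cm u x)⁻¹ := by simp [cm, mul_assoc]

theorem mul_pow_class_two {x y : P} (h : cm y x ∈ Subgroup.center P) (n : ℕ) :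
    (x * y) ^ n = cm y x ^ n.choose 2 * (x ^ n * y ^ n) := by
  have hyn : ∀ m : ℕ, y ^ m * x = cm y x ^ m * (x * y ^ m) := by
    intro m
    have h1 : cm (y ^ (m : ℤ)) x = cm y x ^ (m : ℤ) := cm_zpow_left h m
    rw [zpow_natCast, zpow_natCast] at h1
    rw [← h1]
    simp [cm, mul_assoc]
  induction n with
  | zero => simp
  | succ n ih =>
    have hk := Subgroup.mem_center_iff.1 (pow_mem h n)
    calc (x * y) ^ (n + 1) = (x * y) ^ n * (x * y) := pow_succ _ _
      _ = cm y x ^ n.choose 2 * (x ^ n * (y ^ n * x) * y) := by rw [ih]; simp only [mul_assoc]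
      _ = cm y x ^ n.choose 2 * ((x ^ n * cm y x ^ n) * (x * y ^ n) * y) := by
        rw [hyn]; simp only [mul_assoc]
      _ = cm y x ^ n.choose 2 * ((cm y x ^ n * x ^ n) * (x * y ^ n) * y) := by rw [hk]
      _ = _ := by
        rw [Nat.choose_succ_succ', Nat.choose_one_right, add_comm n (n.choose 2), pow_add, pow_succ,
          pow_succ]
        simp only [mul_assoc]

end commutators

theorem count_bound {p : ℕ} (hp : 3 ≤ p) (m : ℕ) :
    p ^ (2 * (m + 1) + 1) < 2 * ((p + 1) ^ p ^ m) ^ (p - 1) := by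
  rw [← pow_mul]
  by_cases he : 2 * (m + 1) + 1 ≤ p ^ m * (p - 1)
  · calc p ^ (2 * (m + 1) + 1) ≤ (p + 1) ^ (2 * (m + 1) + 1) := Nat.pow_le_pow_left (by omega) _
      _ ≤ (p + 1) ^ (p ^ m * (p - 1)) := Nat.pow_le_pow_right (by omega) he
      _ < 2 * (p + 1) ^ (p ^ m * (p - 1)) := by
        have : 0 < (p + 1) ^ (p ^ m * (p - 1)) := pow_pos (by omega) _
        omega
  · have h1 : ∀ k : ℕ, 2 * k + 1 ≤ p ^ k := by
      intro k
      induction k with
      | zero => simp
      | succ k ih => rw [pow_succ]; nlinarith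
    have h2 := h1 m
    have h3 : p ^ m * 2 ≤ p ^ m * (p - 1) := Nat.mul_le_mul le_rfl (by omega)
    have hm : m = 0 := by omega
    subst hm
    obtain rfl : p = 3 := by simp at he; omega
    norm_num

section main

variable {P W : Type*} [Group P] [Finite P] [AddCommGroup W] [Finite W] {p : ℕ} [Fact p.Prime]

/-- Hypothesis: characteristic elementary abelian subgroups are small and fixed-point-free. -/
def CharSmall (p : ℕ) (φ : P →* AddMonoid.End W) : Prop :=
  ∀ A : Subgroup P, A.Characteristic → Cfsg.IsElementaryAbelian p A →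
    (∀ a ∈ A, a ≠ 1 → ∀ w : W, φ a w = w → w = 0) ∧ Nat.card A ≤ p

theorem exists_vector_moved_odd (hp2 : p ≠ 2) (hP : IsPGroup p P) (hco : ¬ p ∣ Nat.card W)
    [Nontrivial W] (φ : P →* AddMonoid.End W) (hchar : CharSmall p φ) :
    ∃ w : W, ∀ x : P, x ^ p = 1 → x ≠ 1 → φ x w ≠ w := by
  have hp : p.Prime := Fact.out
  have hp3 : 3 ≤ p := by
    have := hp.two_le
    omega
  rcases subsingleton_or_nontrivial P with hPs | hPn
  · exact ⟨0, fun x _ hx => absurd (Subsingleton.elim x 1) hx⟩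
  have hcentre : ∀ {a : P}, a ∈ Subgroup.center P → ∀ g, g * a = a * g :=
    fun ha => Subgroup.mem_center_iff.1 ha
  -- `Z = Ω₁(Z(P))`
  let Z : Subgroup P :=
    { carrier := {a | a ∈ Subgroup.center P ∧ a ^ p = 1}
      one_mem' := ⟨one_mem _, one_pow p⟩
      mul_mem' := fun {a b} ha hb => ⟨mul_mem ha.1 hb.1, by
        rw [(show Commute a b from hcentre hb.1 a).mul_pow, ha.2, hb.2, one_mul]⟩
      inv_mem' := fun {a} ha => ⟨inv_mem ha.1, by rw [inv_pow, ha.2, inv_one]⟩ }
  have hZmem : ∀ a, a ∈ Z ↔ a ∈ Subgroup.center P ∧ a ^ p = 1 := fun a => Iff.rfl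
  have hcentσ : ∀ (σ : P ≃* P) (a : P), σ a ∈ Subgroup.center P ↔ a ∈ Subgroup.center P := by
    intro σ a
    rw [Subgroup.mem_center_iff, Subgroup.mem_center_iff]
    exact ⟨fun h g => σ.injective (by rw [map_mul, map_mul, h]), fun h g => by
      obtain ⟨g, rfl⟩ := σ.surjective g; rw [← map_mul, ← map_mul, h]⟩
  have hpowσ : ∀ (σ : P ≃* P) (a : P), (σ a) ^ p = 1 ↔ a ^ p = 1 := fun σ a => by
    rw [← map_pow, MulEquiv.map_eq_one_iff]
  have hZchar : Z.Characteristic := by
    rw [Subgroup.characteristic_iff_comap_eq]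
    intro σ; ext a
    rw [Subgroup.mem_comap, hZmem, hZmem]
    exact and_congr (hcentσ σ a) (hpowσ σ a)
  have hZel : Cfsg.IsElementaryAbelian p Z :=
    ⟨⟨⟨fun a b => Subtype.ext (hcentre b.2.1 a.1)⟩⟩, fun a ha => ha.2⟩
  obtain ⟨hfpf, hZcard⟩ := hchar Z hZchar hZel
  obtain ⟨z, hzZ, hz1⟩ : ∃ z ∈ Z, z ≠ 1 := by
    haveI := hP.center_nontrivial
    have hdvd : p ∣ Nat.card (Subgroup.center P) := by
      obtain ⟨n, hn, hcard⟩ := (hP.to_subgroup (Subgroup.center P)).nontrivial_iff_card.1 ‹_›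
      exact hcard ▸ dvd_pow_self p (by omega)
    obtain ⟨c, hc⟩ := exists_prime_orderOf_dvd_card' (G := Subgroup.center P) p hdvd
    refine ⟨c.1, ⟨c.2, ?_⟩, fun h => hp.one_lt.ne' ?_⟩
    · exact congrArg Subtype.val (hc ▸ pow_orderOf_eq_one c : c ^ p = 1)
    · rw [← hc, ← Subgroup.orderOf_coe, h, orderOf_one]
  have hgen : ∀ c ∈ Z, c ≠ 1 → Z = Subgroup.zpowers c := fun c hc hc1 =>
    (Subgroup.eq_of_le_of_card_ge (Subgroup.zpowers_le.2 hc) (by
      rw [Nat.card_zpowers, orderOf_eq_prime hc.2 hc1]; exact hZcard)).symm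
  have hZc : Nat.card Z = p := by rw [hgen z hzZ hz1, Nat.card_zpowers, orderOf_eq_prime hzZ.2 hz1]
  -- `Q`: order dividing `p` in the second centre
  have hdef : ∀ {u x : P}, cm u x ∈ Subgroup.center P → x ^ p = 1 → cm u x ∈ Z := by
    intro u x h hx
    refine ⟨h, ?_⟩
    have h1 : (u * x * u⁻¹) ^ p = 1 := by rw [conj_pow, hx, mul_one, mul_inv_cancel]
    rw [cm_conj, (show Commute (cm u x) x from (hcentre h x).symm).mul_pow, hx, mul_one] at h1
    exact h1
  let Q : Subgroup P :=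
    { carrier := {x | (∀ u, cm u x ∈ Subgroup.center P) ∧ x ^ p = 1}
      one_mem' := ⟨fun u => by simp [cm], one_pow p⟩
      mul_mem' := fun {a b} ha hb => ⟨fun u => by
          rw [cm_mul_right (hb.1 u)]; exact mul_mem (ha.1 u) (hb.1 u), by
        obtain ⟨k, hk⟩ := Nat.Prime.dvd_choose_self hp (k := 2) (by norm_num) (by omega)
        rw [mul_pow_class_two (ha.1 b), hk, pow_mul, (hdef (ha.1 b) ha.2).2, one_pow, ha.2, hb.2,
          one_mul, one_mul]⟩
      inv_mem' := fun {a} ha => ⟨fun u => by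
          have h1 : cm u (a⁻¹ * a) = cm u a⁻¹ * cm u a := cm_mul_right (ha.1 u)
          rw [inv_mul_cancel, show cm u 1 = (1 : P) by simp [cm]] at h1
          rw [eq_inv_of_mul_eq_one_left h1.symm]; exact inv_mem (ha.1 u),
        by rw [inv_pow, ha.2, inv_one]⟩ }
  have hQmem : ∀ x, x ∈ Q ↔ (∀ u, cm u x ∈ Subgroup.center P) ∧ x ^ p = 1 := fun x => Iff.rfl
  have hQZ : ∀ {u x : P}, x ∈ Q → cm u x ∈ Z := fun hx => hdef (hx.1 _) hx.2
  have hZQ : Z ≤ Q := fun a ha => ⟨fun u => by
    rw [cm, hcentre ha.1 u, mul_inv_cancel_right, mul_inv_cancel]; exact one_mem _, ha.2⟩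
  -- the centre of `Q`
  have hcm1 : ∀ {u x : P}, cm u x = 1 ↔ Commute u x := fun {u x} => by
    rw [cm, mul_inv_eq_one, mul_inv_eq_iff_eq_mul]; rfl
  have hQc : ∀ r ∈ Q, (∀ s ∈ Q, r * s = s * r) → r ∈ Z := by
    let A : Subgroup P := Q ⊓ Subgroup.centralizer (Q : Set P)
    have hA : A.Characteristic := by
      rw [Subgroup.characteristic_iff_comap_eq]
      intro σ
      have hQσ : ∀ a, σ a ∈ Q ↔ a ∈ Q := fun a => by
        rw [hQmem, hQmem]
        refine and_congr ?_ (hpowσ σ a)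
        constructor
        · intro h u
          have h1 := h (σ u)
          rw [show cm (σ u) (σ a) = σ (cm u a) by simp [cm, map_mul, map_inv]] at h1
          exact (hcentσ σ _).1 h1
        · intro h u
          obtain ⟨u, rfl⟩ := σ.surjective u
          rw [show cm (σ u) (σ a) = σ (cm u a) by simp [cm, map_mul, map_inv]]
          exact (hcentσ σ _).2 (h u)
      ext a
      simp only [A, Subgroup.mem_comap, Subgroup.mem_inf, Subgroup.mem_centralizer_iff, SetLike.mem_coe,
        MonoidHom.coe_coe, MulEquiv.coe_toMonoidHom, hQσ]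
      refine and_congr_right fun _ => ⟨fun h g hg => σ.injective ?_, fun h g hg => ?_⟩
      · rw [map_mul, map_mul]; exact h _ ((hQσ g).2 hg)
      · obtain ⟨g, rfl⟩ := σ.surjective g
        rw [← map_mul, ← map_mul, h g ((hQσ g).1 hg)]
    have hAel : Cfsg.IsElementaryAbelian p A :=
      ⟨⟨⟨fun a b => Subtype.ext ((Subgroup.mem_centralizer_iff.1 b.2.2) a.1 a.2.1)⟩⟩,
        fun a ha => ha.1.2⟩
    have hZA : Z ≤ A := fun a ha => ⟨hZQ ha, Subgroup.mem_centralizer_iff.2 fun g _ => hcentre ha.1 g⟩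
    have heq := Subgroup.eq_of_le_of_card_ge hZA ((hchar A hA hAel).2.trans hZc.ge)
    intro r hr hrs
    rw [heq]
    exact ⟨hr, Subgroup.mem_centralizer_iff.2 fun s hs => (hrs s hs).symm⟩
  -- pairs
  have pair : ∀ x ∈ Q, x ∉ Z → ∀ R : Subgroup P, R ≤ Q → x ∈ R →
      (∀ r ∈ R, (∀ s ∈ R, r * s = s * r) → r ∈ Z) →
      ∃ y ∈ R, cm y x ∈ Z ∧ cm y x ≠ 1 := by
    intro x hx hxZ R hRQ hxR hRc
    by_contra hcon
    push Not at hcon
    exact hxZ (hRc x hxR fun s hs => ((hcm1.1 (hcon s hs (hQZ hx))).eq).symm)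
  have hyx : ∀ x y : P, y * x * y⁻¹ = cm y x * x := fun x y => cm_conj y x
  have hfpfc : ∀ c ∈ Z, ∀ a ∈ Subgroup.zpowers c, a ≠ 1 → ∀ w : W, φ a w = w → w = 0 :=
    fun c hc a ha => hfpf a (Subgroup.zpowers_le.2 hc ha)
  -- simultaneous induction
  have key : ∀ n : ℕ, ∀ R : Subgroup P, Nat.card R = n → Z ≤ R → R ≤ Q →
      (∀ r ∈ R, (∀ s ∈ R, r * s = s * r) → r ∈ Z) →
      ∀ W' : AddSubgroup W, W' ≠ ⊥ → (∀ r ∈ R, ∀ w ∈ W', φ r w ∈ W') →
      ∃ k, Nat.card R ≤ p ^ (2 * k + 1) ∧ (p + 1) ^ p ^ k ≤ Nat.card W' ∧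
        ∀ u, ∃ r ∈ R, ∀ s ∈ R, Commute (u * r⁻¹) s := by
    intro n
    induction n using Nat.strong_induction_on with
    | _ n ih =>
      intro R hn hZR hRQ hRc W' hW' hinv
      by_cases hRZ : R ≤ Z
      · refine ⟨0, by simpa [hZc] using Subgroup.card_le_of_le hRZ, ?_, fun u => ⟨1, one_mem _,
          fun s hs => hcentre (hRZ hs).1 _⟩⟩
        obtain ⟨w, hw, hw0⟩ : ∃ w ∈ W', w ≠ 0 := by
          by_contra hcon
          push Not at hcon
          exact hW' ((AddSubgroup.eq_bot_iff_forall _).2 hcon)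
        let g : Option (Fin p) → W' := fun o => o.elim 0 fun i =>
          ⟨φ (z ^ (i : ℕ)) w, hinv _ (hZR (pow_mem hzZ _)) w hw⟩
        have hne : ∀ i : ℕ, φ (z ^ i) w ≠ 0 := fun i h => hw0 (by
          have h1 := congrArg (φ (z ^ i)⁻¹) h
          rwa [← map_mul_apply, inv_mul_cancel, map_one_apply, map_zero] at h1)
        have hg : Function.Injective g := by
          rintro (_ | i) (_ | j) h
          · rfl
          · exact absurd (congrArg Subtype.val h).symm (hne j)
          · exact absurd (congrArg Subtype.val h) (hne i)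
          · have h1 : φ (z ^ (i : ℕ)) w = φ (z ^ (j : ℕ)) w := congrArg Subtype.val h
            have h2 : φ ((z ^ (j : ℕ))⁻¹ * z ^ (i : ℕ)) w = w := by
              rw [map_mul_apply, h1, ← map_mul_apply, inv_mul_cancel, map_one_apply]
            by_cases h3 : (z ^ (j : ℕ))⁻¹ * z ^ (i : ℕ) = 1
            · rw [inv_mul_eq_one, pow_inj_mod, orderOf_eq_prime hzZ.2 hz1, Nat.mod_eq_of_lt j.2,
                Nat.mod_eq_of_lt i.2] at h3
              rw [Fin.ext h3]
            · exact absurd (hfpf _ (mul_mem (inv_mem (pow_mem hzZ _)) (pow_mem hzZ _)) h3 w h2) hw0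
        simpa using Nat.card_le_card_of_injective g hg
      obtain ⟨x, hxR, hxZ⟩ := SetLike.not_le_iff_exists.1 hRZ
      obtain ⟨y, hyR, hcZ, hc1⟩ := pair x (hRQ hxR) hxZ R hRQ hxR hRc
      set c := cm y x
      have hcc : c ∈ Subgroup.center P := hcZ.1
      have hxy' : cm x y = c⁻¹ := cm_swap y x
      have hadj : ∀ u, ∃ i j : ℤ,
          Commute (u * (y ^ i * x ^ j)) x ∧ Commute (u * (y ^ i * x ^ j)) y := by
        intro u
        have hux : cm u x ∈ Subgroup.zpowers c := hgen c hcZ hc1 ▸ hQZ (hRQ hxR)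
        have huy : cm u y ∈ Subgroup.zpowers c := hgen c hcZ hc1 ▸ hQZ (hRQ hyR)
        obtain ⟨i, hi : c ^ i = cm u x⟩ := Subgroup.mem_zpowers_iff.1 hux
        obtain ⟨j, hj : c ^ j = cm u y⟩ := Subgroup.mem_zpowers_iff.1 huy
        refine ⟨-i, j, hcm1.1 ?_, hcm1.1 ?_⟩
        · have h1 : cm (x ^ j) x = 1 := hcm1.2 ((Commute.refl x).zpow_left j)
          have h2 : cm (y ^ (-i)) x = c ^ (-i) := cm_zpow_left hcc _
          have h3 : cm (y ^ (-i) * x ^ j) x = c ^ (-i) := by
            rw [cm_mul_left (by rw [h1]; exact one_mem _), h1, h2, one_mul]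
          rw [cm_mul_left (by rw [h3]; exact zpow_mem hcc _), h3, ← hi, ← zpow_add, neg_add_cancel,
            zpow_zero]
        · have h1 : cm (x ^ j) y = c ^ (-j) := by
            rw [cm_zpow_left (by rw [hxy']; exact inv_mem hcc), hxy', inv_zpow, zpow_neg]
          have h2 : cm (y ^ (-i)) y = 1 := hcm1.2 ((Commute.refl y).zpow_left _)
          have h3 : cm (y ^ (-i) * x ^ j) y = c ^ (-j) := by
            rw [cm_mul_left (by rw [h1]; exact zpow_mem hcc _), h1, h2, mul_one]
          rw [cm_mul_left (by rw [h3]; exact zpow_mem hcc _), h3, ← hj, ← zpow_add, neg_add_cancel,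
            zpow_zero]
      let R' : Subgroup P := R ⊓ Subgroup.centralizer {x, y}
      have hR'mem : ∀ r, r ∈ R' ↔ r ∈ R ∧ Commute r x ∧ Commute r y := fun r => by
        simp only [R', Subgroup.mem_inf, Subgroup.mem_centralizer_iff, Set.mem_insert_iff,
          Set.mem_singleton_iff, forall_eq_or_imp, forall_eq]
        exact and_congr_right fun _ => ⟨fun h => ⟨h.1.symm, h.2.symm⟩, fun h => ⟨h.1.symm, h.2.symm⟩⟩
      have hdecomp : ∀ r ∈ R, ∃ r' ∈ R', ∃ i j : ℤ, r = r' * (x ^ i * y ^ j) := by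
        intro r hr
        obtain ⟨i, j, h1, h2⟩ := hadj r
        refine ⟨r * (y ^ i * x ^ j), (hR'mem _).2 ⟨mul_mem hr (mul_mem (zpow_mem hyR _)
          (zpow_mem hxR _)), h1, h2⟩, -j, -i, by group⟩
      have hxR' : x ∉ R' := fun h => hc1 (hcm1.2 ((hR'mem x).1 h).2.2.symm)
      have hlt : Nat.card R' < n := hn ▸ lt_of_le_of_ne (Subgroup.card_le_of_le inf_le_left)
        fun h => hxR' ((Subgroup.eq_of_le_of_card_ge (inf_le_left : R' ≤ R) h.ge).ge hxR)
      have hZR' : Z ≤ R' := fun a ha =>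
        (hR'mem a).2 ⟨hZR ha, (hcentre ha.1 x).symm, (hcentre ha.1 y).symm⟩
      have hcR' : ∀ r ∈ R', (∀ s ∈ R', r * s = s * r) → r ∈ Z := by
        intro r hr h
        refine hRc r hr.1 fun s hs => ?_
        obtain ⟨s', hs', i, j, rfl⟩ := hdecomp s hs
        obtain ⟨-, h1, h2⟩ := (hR'mem r).1 hr
        exact ((show Commute r s' from h s' hs').mul_right
          ((h1.zpow_right i).mul_right (h2.zpow_right j))).eq
      have hxp : x ^ (p : ℤ) = 1 := by rw [zpow_natCast]; exact (hRQ hxR).2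
      have hyp : y ^ (p : ℤ) = 1 := by rw [zpow_natCast]; exact (hRQ hyR).2
      have hcard : Nat.card R ≤ Nat.card R' * (p * p) := by
        let g : ↥R' × Fin p × Fin p → R := fun t =>
          ⟨t.1 * (x ^ (t.2.1 : ℕ) * y ^ (t.2.2 : ℕ)),
            mul_mem t.1.2.1 (mul_mem (pow_mem hxR _) (pow_mem hyR _))⟩
        have hg : Function.Surjective g := by
          rintro ⟨r, hr⟩
          obtain ⟨r', hr', i, j, rfl⟩ := hdecomp r hr
          have hpos : (0 : ℤ) < p := by exact_mod_cast hp.pos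
          refine ⟨⟨⟨r', hr'⟩, ⟨(i % p).toNat, ?_⟩, ⟨(j % p).toNat, ?_⟩⟩, ?_⟩
          · have := Int.emod_lt_of_pos i hpos; omega
          · have := Int.emod_lt_of_pos j hpos; omega
          · refine Subtype.ext ?_
            simp only [g]
            rw [← zpow_natCast, ← zpow_natCast, Int.toNat_of_nonneg (Int.emod_nonneg _ hpos.ne'),
              Int.toNat_of_nonneg (Int.emod_nonneg _ hpos.ne'), ← zpow_eq_zpow_emod _ hxp,
              ← zpow_eq_zpow_emod _ hyp]
        simpa [Nat.card_prod] using Nat.card_le_card_of_surjective g hg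
      -- fixed points of `x` in `W'`
      have hfpfC := hfpfc c hcZ
      have hW1 : W' ⊓ fixBy φ x ≠ ⊥ := by
        obtain ⟨w, hw, hw0⟩ : ∃ w ∈ W', w ≠ 0 := by
          by_contra hcon
          push Not at hcon
          exact hW' ((AddSubgroup.eq_bot_iff_forall _).2 hcon)
        obtain ⟨i, hi, hiS⟩ : ∃ i ∈ Finset.range p,
            ∑ k ∈ Finset.range p, φ ((x * c ^ i) ^ k) w ≠ 0 := by
          by_contra hcon
          push Not at hcon
          have h1 : ∑ i ∈ Finset.range p, ∑ k ∈ Finset.range p, φ ((x * c ^ i) ^ k) w = 0 :=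
            Finset.sum_eq_zero hcon
          have h2 : ∀ i k : ℕ, φ ((x * c ^ i) ^ k) w = φ (x ^ k) (φ ((c ^ k) ^ i) w) := fun i k => by
            rw [(show Commute x (c ^ i) from hcentre (pow_mem hcc i) x).mul_pow, map_mul_apply,
              ← pow_mul, ← pow_mul, mul_comm i k]
          rw [Finset.sum_comm] at h1
          simp only [h2, ← map_sum] at h1
          rw [Finset.sum_eq_single 0 (fun k hk hk0 => ?_)
            (fun h => absurd (Finset.mem_range.2 hp.pos) h)] at h1
          · simp only [pow_zero, one_pow, map_one_apply, Finset.sum_const, Finset.card_range] at h1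
            exact hw0 (eq_zero_of_nsmul hco h1)
          · rw [geom_apply_eq_zero φ (by rw [← pow_mul, mul_comm, pow_mul, hcZ.2, one_pow])
              (hfpfC _ (pow_mem (Subgroup.mem_zpowers c) k) (fun h => ?_)) w, map_zero]
            rw [← orderOf_dvd_iff_pow_eq_one, orderOf_eq_prime hcZ.2 hc1] at h
            have := Nat.le_of_dvd (Nat.pos_of_ne_zero hk0) h
            have := Finset.mem_range.1 hk
            omega
        set S := ∑ k ∈ Finset.range p, φ ((x * c ^ i) ^ k) w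
        have hSW : S ∈ W' := AddSubgroup.sum_mem _ fun k _ =>
          hinv _ (pow_mem (mul_mem hxR (pow_mem (hZR hcZ) i)) k) w hw
        have hxc : (x * c ^ i) ^ p = 1 := by
          rw [(show Commute x (c ^ i) from hcentre (pow_mem hcc i) x).mul_pow, (hRQ hxR).2, one_mul,
            ← pow_mul, mul_comm, pow_mul, hcZ.2, one_pow]
        have hSfix : φ (x * c ^ i) S = S := by
          rw [map_sum]
          simp only [← map_mul_apply, ← pow_succ']
          have h1 := Finset.sum_range_succ' (fun k => φ ((x * c ^ i) ^ k) w) p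
          have h2 := Finset.sum_range_succ (fun k => φ ((x * c ^ i) ^ k) w) p
          rw [h1, hxc, pow_zero] at h2
          exact add_right_cancel h2
        intro hbot
        refine hiS ?_
        have hmem : φ (y ^ (p - i)) S ∈ W' ⊓ fixBy φ x := by
          refine ⟨hinv _ (pow_mem hyR _) _ hSW, ?_⟩
          show φ x (φ (y ^ (p - i)) S) = φ (y ^ (p - i)) S
          have hci : c⁻¹ ^ (p - i) = c ^ i := by
            rw [inv_pow, inv_eq_iff_mul_eq_one, ← pow_add,
              Nat.sub_add_cancel (Finset.mem_range.1 hi).le, hcZ.2]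
          rw [← map_mul_apply, pow_mul_conj hcc (hyx x y), hci, ← hcentre (pow_mem hcc i) x,
            map_mul_apply, hSfix]
        rw [hbot, AddSubgroup.mem_bot] at hmem
        have h2 := congrArg (φ (y ^ (p - i))⁻¹) hmem
        rwa [← map_mul_apply, inv_mul_cancel, map_one_apply, map_zero] at h2
      have hinv' : ∀ r ∈ R', ∀ w ∈ W' ⊓ fixBy φ x, φ r w ∈ W' ⊓ fixBy φ x := by
        intro r hr w hw
        refine ⟨hinv r hr.1 w hw.1, ?_⟩
        show φ x (φ r w) = φ r w
        rw [← map_mul_apply, ← ((hR'mem r).1 hr).2.1.eq, map_mul_apply, show φ x w = w from hw.2]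
      obtain ⟨k, hk1, hk2, hk3⟩ := ih _ hlt R' rfl hZR' (inf_le_left.trans hRQ) hcR' _ hW1 hinv'
      refine ⟨k + 1, ?_, ?_, fun u => ?_⟩
      · calc Nat.card R ≤ Nat.card R' * (p * p) := hcard
          _ ≤ p ^ (2 * k + 1) * (p * p) := Nat.mul_le_mul_right _ hk1
          _ = p ^ (2 * (k + 1) + 1) := by ring
      · rw [pow_succ, pow_mul]
        exact le_trans (Nat.pow_le_pow_left hk2 p)
          (fixed_pow_le φ hco hcc hcZ.2 hfpfC hc1 (hyx x y) W' (hinv y hyR))
      · obtain ⟨i, j, h1, h2⟩ := hadj u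
        obtain ⟨r', hr', hr''⟩ := hk3 (u * (y ^ i * x ^ j))
        refine ⟨r' * (y ^ i * x ^ j)⁻¹,
          mul_mem hr'.1 (inv_mem (mul_mem (zpow_mem hyR _) (zpow_mem hxR _))), fun s hs => ?_⟩
        rw [mul_inv_rev, inv_inv, ← mul_assoc]
        obtain ⟨s', hs', i', j', rfl⟩ := hdecomp s hs
        obtain ⟨-, hrx, hry⟩ := (hR'mem r').1 hr'
        exact (hr'' s' hs').mul_right
          (((h1.mul_left hrx.inv_left).zpow_right i').mul_right
            ((h2.mul_left hry.inv_left).zpow_right j'))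
  obtain ⟨n, hQcard, hWcard, hu⟩ := key _ Q rfl hZQ le_rfl hQc ⊤ (by
    obtain ⟨w, hw⟩ := exists_ne (0 : W)
    intro h
    exact hw ((AddSubgroup.eq_bot_iff_forall _).1 h w trivial)) fun r _ w _ => trivial
  -- elements of order `p` lie in `Q`
  let C : Subgroup P := Subgroup.centralizer (Q : Set P)
  have hQn : Q.Normal := ⟨fun q hq g => by
    rw [cm_conj]; exact Q.mul_mem (hZQ (hQZ hq)) hq⟩
  have hCn : C.Normal := ⟨fun a ha g => Subgroup.mem_centralizer_iff.2 fun q hq => by
    have h1 := Subgroup.mem_centralizer_iff.1 ha (g⁻¹ * q * g) (by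
      simpa using hQn.conj_mem q hq g⁻¹)
    calc q * (g * a * g⁻¹) = g * ((g⁻¹ * q * g) * a) * g⁻¹ := by group
      _ = g * (a * (g⁻¹ * q * g)) * g⁻¹ := by rw [h1]
      _ = (g * a * g⁻¹) * q := by group⟩
  have hCQ : ∀ a ∈ C, a ∈ Q → a ∈ Z := fun a ha haQ => hQc a haQ fun s hs =>
    (Subgroup.mem_centralizer_iff.1 ha s hs).symm
  have hCcyc : IsCyclic C := by
    by_contra hnc
    obtain ⟨E, hEn, hEel, hEcard⟩ := H6.exists_normal_elementary_sq hp2 (hP.to_subgroup C) hnc
    -- normal subgroups of order `p²` are in the second centre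
    have hsq : ∀ {Γ : Type _} [Group Γ] [Finite Γ], IsPGroup p Γ → ∀ M : Subgroup Γ, M.Normal →
        Nat.card M = p ^ 2 → ∀ a ∈ M, ∀ u, cm u a ∈ Subgroup.center Γ := by
      intro Γ _ _ hΓ M hM hMc a ha u
      haveI := hM
      set q := QuotientGroup.mk' (Subgroup.center Γ)
      haveI : (M.map q).Normal := hM.map q (QuotientGroup.mk'_surjective _)
      have h1 : Nat.card (M.map q) ∣ p ^ 2 := hMc ▸ Subgroup.card_map_dvd M q
      obtain ⟨j, hj, hjc⟩ := (Nat.dvd_prime_pow hp).1 h1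
      have hle : M.map q ≤ Subgroup.center (Γ ⧸ Subgroup.center Γ) := by
        rcases lt_or_eq_of_le hj with hj2 | rfl
        · interval_cases j
          · rw [Subgroup.card_eq_one.1 (hjc.trans (pow_zero p))]; exact bot_le
          · exact H6.le_center_of_card_eq_prime (hΓ.to_quotient _) (by simpa using hjc)
        · exfalso
          -- `M` meets the centre
          obtain ⟨M1, hM1n, -, hM1, hM1c⟩ :=
            H6.exists_normal_between hΓ (N := (⊥ : Subgroup Γ)) (M := M) (bot_lt_iff_ne_bot.2 fun h => by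
              rw [h, Subgroup.card_bot] at hMc
              exact absurd hMc.symm (Nat.one_lt_pow (by norm_num) hp.one_lt).ne')
          haveI := hM1n
          rw [Subgroup.card_bot, mul_one] at hM1c
          have hM1z : M1 ≤ Subgroup.center Γ := H6.le_center_of_card_eq_prime hΓ hM1c
          have hinj : Function.Injective (q.subgroupMap M) := by
            have := Nat.card_congr (Equiv.refl M)
            exact ((Nat.bijective_iff_surjective_and_card _).2
              ⟨q.subgroupMap_surjective M, by rw [hMc, hjc]⟩).1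
          haveI : Nontrivial M1 := by
            rw [← Finite.one_lt_card_iff_nontrivial, hM1c]; exact hp.one_lt
          obtain ⟨⟨b, hb⟩, hb1⟩ := exists_ne (1 : M1)
          refine hb1 (Subtype.ext ?_)
          have : q.subgroupMap M ⟨b, hM1 hb⟩ = q.subgroupMap M 1 :=
            Subtype.ext (by rw [map_one]; exact (QuotientGroup.eq_one_iff b).2 (hM1z hb))
          exact congrArg (fun v : M => (v : Γ)) (hinj this)
      have h2 := Subgroup.mem_center_iff.1 (hle ⟨a, ha, rfl⟩) (q u)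
      rw [← QuotientGroup.eq_one_iff]
      show q (u * a * u⁻¹ * a⁻¹) = 1
      rw [map_mul, map_mul, map_mul, map_inv, map_inv, h2, mul_inv_cancel_right, mul_inv_cancel]
    -- order-`p` part of the second centre of `C`, normal in `P`
    let S : Subgroup P :=
      { carrier := {a | a ∈ C ∧ (∀ u ∈ C, ∀ t ∈ C, t * cm u a = cm u a * t) ∧ a ^ p = 1}
        one_mem' := ⟨one_mem _, fun u _ t _ => by simp [cm], one_pow p⟩
        mul_mem' := fun {a b} ha hb => by
          refine ⟨mul_mem ha.1 hb.1, fun u hu t ht => ?_, ?_⟩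
          · have h0 : ((⟨u, hu⟩ : C) * ⟨b, hb.1⟩ * (⟨u, hu⟩ : C)⁻¹ * (⟨b, hb.1⟩ : C)⁻¹) ∈
                Subgroup.center C := Subgroup.mem_center_iff.2 fun t => Subtype.ext (hb.2.1 u hu t t.2)
            have h1 := cm_mul_right (u := (⟨u, hu⟩ : C)) (x := ⟨a, ha.1⟩) (y := ⟨b, hb.1⟩) h0
            have h2 : cm u (a * b) = cm u a * cm u b := congrArg Subtype.val h1
            rw [h2, ← mul_assoc, ha.2.1 u hu t ht, mul_assoc, hb.2.1 u hu t ht, mul_assoc]
          · have h0 : cm (⟨b, hb.1⟩ : C) ⟨a, ha.1⟩ ∈ Subgroup.center C :=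
              Subgroup.mem_center_iff.2 fun t => Subtype.ext (ha.2.1 b hb.1 t t.2)
            have h1 := mul_pow_class_two h0 p
            have h2 : (cm (⟨b, hb.1⟩ : C) ⟨a, ha.1⟩) ^ p = 1 := by
              have h3 : ((⟨b, hb.1⟩ : C) * ⟨a, ha.1⟩ * (⟨b, hb.1⟩ : C)⁻¹) ^ p = 1 := by
                rw [conj_pow, show (⟨a, ha.1⟩ : C) ^ p = 1 from Subtype.ext ha.2.2, mul_one,
                  mul_inv_cancel]
              rwa [cm_conj, (show Commute (cm (⟨b, hb.1⟩ : C) ⟨a, ha.1⟩) ⟨a, ha.1⟩ from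
                (Subgroup.mem_center_iff.1 h0 _).symm).mul_pow,
                show (⟨a, ha.1⟩ : C) ^ p = 1 from Subtype.ext ha.2.2, mul_one] at h3
            obtain ⟨k, hk⟩ := Nat.Prime.dvd_choose_self hp (k := 2) (by norm_num) (by omega)
            rw [hk, pow_mul, h2, one_pow, one_mul] at h1
            have h4 : (a * b) ^ p = a ^ p * b ^ p := congrArg Subtype.val h1
            rw [h4, ha.2.2, hb.2.2, one_mul]
        inv_mem' := fun {a} ha => by
          refine ⟨inv_mem ha.1, fun u hu t ht => ?_, by rw [inv_pow, ha.2.2, inv_one]⟩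
          have h0 : cm u a⁻¹ = (cm u a)⁻¹ := by
            have h1 := ha.2.1 u hu a⁻¹ (inv_mem ha.1)
            have h2 := ha.2.1 u hu a ha.1
            calc cm u a⁻¹ = a⁻¹ * (cm u a)⁻¹ * a := by simp [cm, mul_assoc]
              _ = (cm u a)⁻¹ := by
                rw [mul_assoc, ← ((show Commute a (cm u a) from h2).inv_right).eq, inv_mul_cancel_left]
          rw [h0]
          exact (Commute.inv_right (show Commute t (cm u a) from ha.2.1 u hu t ht)).eq }
    haveI hSn : S.Normal := ⟨fun a ha g => by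
      refine ⟨hCn.conj_mem a ha.1 g, fun u hu t ht => ?_, by rw [conj_pow, ha.2.2]; group⟩
      have h1 := ha.2.1 (g⁻¹ * u * g) (by simpa using hCn.conj_mem u hu g⁻¹)
        (g⁻¹ * t * g) (by simpa using hCn.conj_mem t ht g⁻¹)
      have h2 := congrArg (fun v => g * v * g⁻¹) h1
      simp only [cm, mul_assoc, mul_inv_rev, inv_inv, mul_inv_cancel_left, inv_mul_cancel_left, mul_inv_cancel,
        inv_mul_cancel, mul_one] at h2 ⊢
      exact h2⟩
    have hS : p ^ 2 ≤ Nat.card S := by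
      rw [← hEcard, ← Subgroup.card_map_of_injective C.subtype_injective (K := E)]
      refine Subgroup.card_le_of_le ?_
      rintro _ ⟨a, ha, rfl⟩
      refine ⟨a.2, fun u hu t ht => ?_, congrArg Subtype.val (hEel.2 a ha)⟩
      exact congrArg Subtype.val (Subgroup.mem_center_iff.1
        (hsq (hP.to_subgroup C) E hEn hEcard a ha ⟨u, hu⟩) ⟨t, ht⟩)
    obtain ⟨M, hMn, hMS, hMc⟩ := H6.exists_normal_card_sq_le hP hS
    have hMZ : M ≤ Z := fun a ha => hCQ a (hMS ha).1 ⟨hsq hP M hMn hMc a ha, (hMS ha).2.2⟩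
    have := Subgroup.card_le_of_le hMZ
    rw [hMc, hZc] at this
    have := (Nat.pow_le_pow_iff_right hp.one_lt).1 (this.trans (pow_one p).ge)
    omega
  have hordQ : ∀ x : P, x ^ p = 1 → x ∈ Q := by
    intro x hx
    obtain ⟨r, hr, hrs⟩ := hu x
    have hcC : x * r⁻¹ ∈ C := Subgroup.mem_centralizer_iff.2 fun s hs => ((hrs s hs).eq).symm
    have hcp : (x * r⁻¹) ^ p = 1 := by
      have h1 : x = (x * r⁻¹) * r := by rw [inv_mul_cancel_right]
      have h2 := (show Commute (x * r⁻¹) r from hrs r hr).mul_pow p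
      rw [← h1, hx, hr.2, mul_one] at h2
      exact h2.symm
    suffices x * r⁻¹ ∈ Z by simpa using Q.mul_mem (hZQ this) hr
    by_cases h1 : x * r⁻¹ = 1
    · rw [h1]; exact one_mem _
    have hzC : z ∈ C := Subgroup.mem_centralizer_iff.2 fun s _ => hcentre hzZ.1 s
    haveI := hCcyc
    have heq := H6.eq_of_card_eq_of_isCyclic (H := C) (k := p)
      (K := Subgroup.zpowers ⟨x * r⁻¹, hcC⟩) (L := Subgroup.zpowers ⟨z, hzC⟩)
      (by rw [Nat.card_zpowers, Subgroup.orderOf_mk, orderOf_eq_prime hcp h1])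
      (by rw [Nat.card_zpowers, Subgroup.orderOf_mk, orderOf_eq_prime hzZ.2 hz1])
    obtain ⟨k, hk⟩ := Subgroup.mem_zpowers_iff.1 (heq ▸ Subgroup.mem_zpowers (⟨x * r⁻¹, hcC⟩ : C))
    have h2 : z ^ k = x * r⁻¹ := congrArg Subtype.val hk
    rw [← h2]; exact zpow_mem hzZ k
  -- counting
  obtain ⟨w₀, hw₀⟩ := exists_ne (0 : W)
  by_cases hQZeq : Q ≤ Z
  · exact ⟨w₀, fun x hx hx1 h => hw₀ (hfpf x (hQZeq (hordQ x hx)) hx1 _ h)⟩
  obtain ⟨m, rfl⟩ : ∃ m, n = m + 1 := by
    rcases Nat.eq_zero_or_pos n with rfl | hn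
    · exact absurd (Subgroup.eq_of_le_of_card_ge hZQ (by simpa [hZc] using hQcard)).ge hQZeq
    · exact ⟨n - 1, by omega⟩
  rw [AddSubgroup.card_top] at hWcard
  haveI := Fintype.ofFinite W
  haveI := Fintype.ofFinite P
  set Qs : Finset P := Finset.univ.filter fun x => x ∈ Q ∧ x ∉ Z
  set t := (p + 1) ^ p ^ m
  set r := Qs.sup (fun x => Nat.card (fixBy φ x)) ⊔ t with hr
  have hrW : r ^ p ≤ Nat.card W := by
    by_cases hle : Qs.sup (fun x => Nat.card (fixBy φ x)) ≤ t
    · rw [hr, sup_eq_right.2 hle, ← pow_mul, ← pow_succ]; exact hWcard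
    · have hne : Qs.Nonempty := Finset.nonempty_iff_ne_empty.2 fun h => hle (by simp [h])
      obtain ⟨x, hx, hxe⟩ := Finset.exists_mem_eq_sup Qs hne fun x => Nat.card (fixBy φ x)
      rw [hr, sup_eq_left.2 (le_of_lt (not_le.1 hle)), hxe]
      simp only [Qs, Finset.mem_filter, Finset.mem_univ, true_and] at hx
      obtain ⟨y, hy, hcZ, hc1⟩ := pair x hx.1 hx.2 Q le_rfl hx.1 hQc
      simpa using fixed_pow_le φ hco hcZ.1 hcZ.2 (hfpfc _ hcZ) hc1 (hyx x y) ⊤ fun w _ => trivial
  by_contra hcon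
  push Not at hcon
  have hcount := Finset.card_mul_le_card_mul (fun (w : W) (x : P) => φ x w = w)
    (s := Finset.univ.erase 0) (t := Qs) (m := 2) (n := r - 1)
    (fun w hw => by
      obtain ⟨x, hxp, hx1, hxw⟩ := hcon w
      have hw0 : w ≠ 0 := (Finset.mem_erase.1 hw).1
      have hxQ : x ∈ Q := hordQ x hxp
      have hxZ : x ∉ Z := fun h => hw0 (hfpf x h hx1 w hxw)
      have hinvw : φ x⁻¹ w = w := by
        conv_lhs => rw [← hxw]
        rw [← map_mul_apply, inv_mul_cancel, map_one_apply]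
      have hne : x ≠ x⁻¹ := fun h => by
        have h2 : orderOf x ∣ 2 := orderOf_dvd_of_pow_eq_one (by
          rw [pow_two]; nth_rewrite 2 [h]; exact mul_inv_cancel x)
        rw [orderOf_eq_prime hxp hx1] at h2
        exact hp2 ((Nat.prime_dvd_prime_iff_eq hp Nat.prime_two).1 h2)
      refine le_trans (le_of_eq (Finset.card_pair hne).symm) (Finset.card_le_card ?_)
      intro v hv
      simp only [Finset.mem_insert, Finset.mem_singleton] at hv
      simp only [Finset.mem_bipartiteAbove, Qs, Finset.mem_filter, Finset.mem_univ, true_and]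
      rcases hv with rfl | rfl
      · exact ⟨⟨hxQ, hxZ⟩, hxw⟩
      · exact ⟨⟨inv_mem hxQ, fun h => hxZ (inv_mem_iff.1 h)⟩, hinvw⟩)
    (fun x hx => by
      have h1 : Nat.card (fixBy φ x) ≤ r :=
        le_sup_of_le_left (Finset.le_sup (f := fun x => Nat.card (fixBy φ x)) hx)
      have hsub : (Finset.univ.erase (0 : W)).bipartiteBelow (fun (w : W) (x : P) => φ x w = w) x ⊆
          (Finset.univ.filter fun w => w ∈ fixBy φ x).erase 0 := fun w hw => by
        simp only [Finset.mem_bipartiteBelow, Finset.mem_erase] at hw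
        simp only [Finset.mem_erase, Finset.mem_filter, Finset.mem_univ, true_and, mem_fixBy]
        exact ⟨hw.1.1, hw.2⟩
      refine le_trans (Finset.card_le_card hsub) ?_
      rw [Finset.card_erase_of_mem (by simp)]
      rw [Nat.card_eq_fintype_card, Fintype.card_subtype] at h1
      exact Nat.sub_le_sub_right h1 1)
  rw [Finset.card_erase_of_mem (Finset.mem_univ 0), Finset.card_univ, ← Nat.card_eq_fintype_card] at hcount
  have hQs : Qs.card ≤ Nat.card Q := by
    rw [Nat.card_eq_fintype_card, Fintype.card_subtype]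
    exact Finset.card_le_card fun x hx => by
      simp only [Qs, Finset.mem_filter, Finset.mem_univ, true_and] at hx ⊢; exact hx.1
  have hb : p ^ (2 * (m + 1) + 1) < 2 * t ^ (p - 1) := count_bound hp3 m
  have htr : t ≤ r := le_sup_right
  have ht1 : 1 < t := Nat.one_lt_pow (pow_ne_zero _ hp.ne_zero) (by omega)
  have h5 : 2 * t ^ (p - 1) ≤ 2 * r ^ (p - 1) := Nat.mul_le_mul_left _ (Nat.pow_le_pow_left htr _)
  have h6 : Qs.card * (r - 1) < 2 * r ^ (p - 1) * (r - 1) :=
    Nat.mul_lt_mul_of_pos_right (by omega) (by omega)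
  have h7 : r ^ p = r ^ (p - 1) * r := by rw [← pow_succ, Nat.sub_add_cancel hp.one_le]
  have h9 : 0 < r ^ (p - 1) := pow_pos (by omega) _
  have h8 : 2 * r ^ (p - 1) * (r - 1) ≤ 2 * (Nat.card W - 1) := by
    rw [mul_assoc, Nat.mul_sub (r ^ (p - 1)), mul_one, ← h7]
    omega
  omega

end main

end H34
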