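import Cfsg.Agent.H34.SetStab
import Cfsg.Agent.H34.EndDecomp
import Cfsg.Agent.H34.RegularOdd

/-!
`p` odd, `P` a normal `p`-subgroup of `L`, `W` a faithful coprime `L`-module: the fixed spaces of
the conjugates of a non-trivial element of `P` do not cover `W`.
-/

set_option autoImplicit false

open scoped Classical

namespace H34

theorem end_finite (W : Type*) [AddCommGroup W] [Finite W] : Finite (AddMonoid.End W) :=
  Finite.of_injective (fun f : AddMonoid.End W => (f : W → W)) DFunLike.coe_injective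

theorem end_natCast_apply {W : Type*} [AddCommGroup W] (n : ℕ) (w : W) :
    (n : AddMonoid.End W) w = n • w := by
  induction n with
  | zero => simp
  | succ n ih => rw [Nat.cast_succ, succ_nsmul]; show (n : AddMonoid.End W) w + w = _; rw [ih]

theorem end_isUnit_natCast {W : Type*} [AddCommGroup W] [Finite W] {p : ℕ} [hp : Fact p.Prime]
    (hco : ¬ p ∣ Nat.card W) : IsUnit (p : AddMonoid.End W) := by
  have h := Nat.gcd_eq_gcd_ab p (Nat.card W)
  rw [(hp.out.coprime_iff_not_dvd.2 hco).gcd_eq_one, Nat.cast_one] at h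
  set a := p.gcdA (Nat.card W)
  set b := p.gcdB (Nat.card W)
  have key : ∀ w : W, a • (p • w) = w := by
    intro w
    have h2 : ((p : ℤ) * a + (Nat.card W : ℤ) * b) • w = (1 : ℤ) • w := by rw [← h]
    rw [add_zsmul, one_zsmul, mul_smul, mul_smul, natCast_zsmul, natCast_zsmul, card_nsmul_eq_zero',
      add_zero] at h2
    rw [smul_comm]
    exact h2
  refine (Units.mk (p : AddMonoid.End W) (a : AddMonoid.End W) ?_ ?_).isUnit
  · refine AddMonoidHom.ext fun w => ?_
    show (p : AddMonoid.End W) ((a : AddMonoid.End W) w) = w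
    rw [end_natCast_apply, AddMonoid.End.intCast_apply, smul_comm]; exact key w
  · refine AddMonoidHom.ext fun w => ?_
    show (a : AddMonoid.End W) ((p : AddMonoid.End W) w) = w
    rw [end_natCast_apply, AddMonoid.End.intCast_apply]; exact key w

variable {L W : Type*} [Group L] [AddCommGroup W]

theorem moved_in_block [Finite L] [Finite W] {p : ℕ} [Fact p.Prime] (hp2 : p ≠ 2)
    (hco : ¬ p ∣ Nat.card W) (φ : L →* AddMonoid.End W) (P : Subgroup L) [P.Normal]
    (hP : IsPGroup p P) (E : Finset (AddMonoid.End W)) (hE : IsDecomp φ E)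
    (hmax : ∀ E', IsDecomp φ E' → E'.card ≤ E.card) (e0 : AddMonoid.End W) (he0 : e0 ∈ E) :
    ∃ w : W, e0 w = w ∧ w ≠ 0 ∧ ∀ b ∈ P, φ b * e0 * φ b⁻¹ = e0 → b ^ p = 1 → φ b w = w →
      ∀ u, e0 u = u → φ b u = u := by
  haveI := end_finite W
  let T0 : Subgroup L :=
    { carrier := {x | φ x * e0 * φ x⁻¹ = e0}
      one_mem' := conj_one_arg φ e0
      mul_mem' := fun {x y} (hx : φ x * e0 * φ x⁻¹ = e0) (hy : φ y * e0 * φ y⁻¹ = e0) =>
        show φ (x * y) * e0 * φ (x * y)⁻¹ = e0 by rw [← conj_conj, hy, hx]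
      inv_mem' := fun {x} (hx : φ x * e0 * φ x⁻¹ = e0) =>
        show φ x⁻¹ * e0 * φ x⁻¹⁻¹ = e0 by
          conv_lhs => rw [← hx]
          rw [conj_conj, inv_mul_cancel, conj_one_arg] }
  have hidem : ∀ w, e0 (e0 w) = e0 w := fun w => DFunLike.congr_fun (hE.idem e0 he0) w
  let W0 : AddSubgroup W :=
    { carrier := {w | e0 w = w}
      zero_mem' := map_zero _
      add_mem' := fun {a b} (ha : e0 a = a) (hb : e0 b = b) => show e0 (a + b) = a + b by
        rw [map_add, ha, hb]
      neg_mem' := fun {a} (ha : e0 a = a) => show e0 (-a) = -a by rw [map_neg, ha] }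
  have hcommT : ∀ x ∈ T0, ∀ w, e0 (φ x w) = φ x (e0 w) := by
    intro x hx w
    have h1 : φ x * e0 = e0 * φ x := by
      calc φ x * e0 = φ x * e0 * φ x⁻¹ * φ x := by rw [mul_assoc _ (φ x⁻¹), map_inv_mul_cancel', mul_one]
        _ = e0 * φ x := by rw [show φ x * e0 * φ x⁻¹ = e0 from hx]
    exact (DFunLike.congr_fun h1 w).symm
  let φ0 : T0 →* AddMonoid.End W0 :=
    { toFun := fun x =>
        { toFun := fun w => ⟨φ (x : L) w, show e0 (φ (x : L) w) = φ (x : L) w by
            rw [hcommT x x.2, show e0 (w : W) = w from w.2]⟩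
          map_zero' := Subtype.ext (map_zero _)
          map_add' := fun a b => Subtype.ext (map_add _ _ _) }
      map_one' := AddMonoidHom.ext fun w => Subtype.ext (by
        show φ ((1 : T0) : L) w = w
        simp)
      map_mul' := fun x y => AddMonoidHom.ext fun w => Subtype.ext (by
        show φ ((x * y : T0) : L) w = φ (x : L) (φ (y : L) w)
        exact map_mul_apply φ _ _ _) }
  set K0 := φ0.toHomUnits.ker with hK0
  let φ' : (T0 ⧸ K0) →* AddMonoid.End W0 :=
    (Units.coeHom _).comp (QuotientGroup.kerLift φ0.toHomUnits)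
  have hφ'inj : Function.Injective φ' :=
    fun a b h => QuotientGroup.kerLift_injective φ0.toHomUnits (Units.ext h)
  obtain ⟨u0, hu0⟩ : ∃ u, e0 u ≠ 0 := by
    by_contra hcon
    push Not at hcon
    exact hE.ne_zero e0 he0 (AddMonoidHom.ext hcon)
  haveI : Nontrivial W0 := ⟨⟨⟨e0 u0, hidem u0⟩, 0, fun h => hu0 (congrArg Subtype.val h)⟩⟩
  have hco0 : ¬ p ∣ Nat.card W0 := fun h => hco (h.trans (AddSubgroup.card_addSubgroup_dvd_card W0))
  -- lifting endomorphisms of the block
  let π0 : W →+ W0 := AddMonoidHom.mk' (fun w => ⟨e0 w, hidem w⟩) fun a b => Subtype.ext (map_add _ _ _)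
  let lift : AddMonoid.End W0 → AddMonoid.End W := fun f => W0.subtype.comp (f.comp π0)
  have hlift : ∀ f w, lift f w = ((f ⟨e0 w, hidem w⟩ : W0) : W) := fun f w => rfl
  have hπι : ∀ v : W0, (⟨e0 v, hidem v⟩ : W0) = v := fun v => Subtype.ext v.2
  have hlmul : ∀ f g, lift f * lift g = lift (f * g) := fun f g => AddMonoidHom.ext fun w => by
    show ((f ⟨e0 (g ⟨e0 w, hidem w⟩ : W0), hidem _⟩ : W0) : W) = (f (g ⟨e0 w, hidem w⟩) : W0)
    rw [hπι]
  have hl1 : lift 1 = e0 := AddMonoidHom.ext fun w => rfl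
  have hlsum : ∀ F : Finset (AddMonoid.End W0), lift (∑ f ∈ F, f) = ∑ f ∈ F, lift f := fun F => by
    induction F using Finset.induction_on with
    | empty => exact AddMonoidHom.ext fun w => rfl
    | insert a s ha ih =>
      rw [Finset.sum_insert ha, Finset.sum_insert ha, ← ih]
      exact AddMonoidHom.ext fun w => rfl
  have hlinj : Function.Injective lift := fun f g h => AddMonoidHom.ext fun v => Subtype.ext (by
    have := DFunLike.congr_fun h (v : W)
    rwa [hlift, hlift, hπι] at this)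
  have hlconj : ∀ (x : T0) f, φ (x : L) * lift f * φ (x : L)⁻¹ = lift (φ0 x * f * φ0 x⁻¹) := by
    intro x f
    refine AddMonoidHom.ext fun w => ?_
    show φ (x : L) ((f ⟨e0 (φ (x : L)⁻¹ w), hidem _⟩ : W0) : W) =
      φ (x : L) ((f (φ0 x⁻¹ ⟨e0 w, hidem w⟩) : W0) : W)
    simp only [hcommT _ (T0.inv_mem x.2)]
    rfl
  have hprim : IsPrim φ' := by
    intro F hF
    by_contra hcard
    have hFconj : ∀ (x : T0), ∀ f ∈ F, φ0 x * f * φ0 x⁻¹ ∈ F := fun x f hf => hF.conj x f hf
    let orb : AddMonoid.End W → Prop := fun e => ∃ x : L, φ x * e0 * φ x⁻¹ = e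
    let pieces : AddMonoid.End W → Finset (AddMonoid.End W) := fun e =>
      if h : orb e then F.image fun f => φ h.choose * lift f * φ h.choose⁻¹ else {e}
    have hprop : ∀ e ∈ E, ∀ q ∈ pieces e, q * q = q ∧ q ≠ 0 ∧ e * q = q ∧ q * e = q := by
      intro e he q hq
      simp only [pieces] at hq
      split_ifs at hq with h
      · obtain ⟨f, hf, rfl⟩ := Finset.mem_image.1 hq
        have hx := h.choose_spec
        refine ⟨by rw [conj_mul, hlmul, hF.idem f hf], fun h0 => hF.ne_zero f hf (hlinj ((conj_inj φ h.choose)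
          (show φ h.choose * lift f * φ h.choose⁻¹ = φ h.choose * lift 0 * φ h.choose⁻¹ by
            rw [h0, show lift 0 = 0 from AddMonoidHom.ext fun w => rfl, mul_zero, zero_mul]))), ?_, ?_⟩
        · conv_lhs => arg 1; rw [← hx]
          rw [conj_mul]; congr 2; rw [← hl1, hlmul, one_mul]
        · conv_lhs => arg 2; rw [← hx]
          rw [conj_mul]; congr 2; rw [← hl1, hlmul, mul_one]
      · rw [Finset.mem_singleton] at hq; subst hq
        exact ⟨hE.idem q he, hE.ne_zero q he, hE.idem q he, hE.idem q he⟩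
    have hsum : ∀ e ∈ E, ∑ q ∈ pieces e, q = e := by
      intro e he
      simp only [pieces]
      split_ifs with h
      · rw [Finset.sum_image fun f _ g _ hfg => hlinj (conj_inj φ _ hfg), ← Finset.sum_mul,
          ← Finset.mul_sum, ← hlsum, hF.sum_eq, hl1]
        exact h.choose_spec
      · exact Finset.sum_singleton _ _
    have hdisj : (E : Set (AddMonoid.End W)).PairwiseDisjoint pieces := by
      intro e he e' he' hne
      refine Finset.disjoint_left.2 fun q hq hq' => (hprop e he q hq).2.1 ?_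
      obtain ⟨-, -, h1, -⟩ := hprop e he q hq
      obtain ⟨-, -, h2, -⟩ := hprop e' he' q hq'
      calc q = e * q := h1.symm
        _ = e * (e' * q) := by rw [h2]
        _ = 0 := by rw [← mul_assoc, hE.orth e he e' he' hne, zero_mul]
    have hdec : IsDecomp φ (E.biUnion pieces) := by
      refine ⟨fun q hq => ?_, fun q hq => ?_, fun q hq r hr hne => ?_, ?_, fun y q hq => ?_⟩
      · obtain ⟨e, he, hqe⟩ := Finset.mem_biUnion.1 hq
        exact (hprop e he q hqe).1
      · obtain ⟨e, he, hqe⟩ := Finset.mem_biUnion.1 hq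
        exact (hprop e he q hqe).2.1
      · obtain ⟨e, he, hqe⟩ := Finset.mem_biUnion.1 hq
        obtain ⟨e', he', hre⟩ := Finset.mem_biUnion.1 hr
        by_cases hee : e = e'
        · subst hee
          simp only [pieces] at hqe hre
          split_ifs at hqe hre with h
          · obtain ⟨f, hf, rfl⟩ := Finset.mem_image.1 hqe
            obtain ⟨g, hg, rfl⟩ := Finset.mem_image.1 hre
            rw [conj_mul, hlmul, hF.orth f hf g hg (fun h => hne (by rw [h])),
              show lift 0 = 0 from AddMonoidHom.ext fun w => rfl, mul_zero, zero_mul]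
          · rw [Finset.mem_singleton] at hqe hre
            exact absurd (hqe.trans hre.symm) hne
        · obtain ⟨-, -, -, h1⟩ := hprop e he q hqe
          obtain ⟨-, -, h2, -⟩ := hprop e' he' r hre
          rw [← h1, ← h2, mul_assoc, ← mul_assoc e, hE.orth e he e' he' hee, zero_mul, mul_zero]
      · rw [Finset.sum_biUnion hdisj, Finset.sum_congr rfl hsum, hE.sum_eq]
      · obtain ⟨e, he, hqe⟩ := Finset.mem_biUnion.1 hq
        refine Finset.mem_biUnion.2 ⟨φ y * e * φ y⁻¹, hE.conj y e he, ?_⟩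
        simp only [pieces] at hqe ⊢
        split_ifs at hqe with h
        · obtain ⟨f, hf, rfl⟩ := Finset.mem_image.1 hqe
          have h' : orb (φ y * e * φ y⁻¹) := ⟨y * h.choose, by rw [← conj_conj, h.choose_spec]⟩
          rw [dif_pos h']
          set t := h'.choose⁻¹ * (y * h.choose) with htdef
          have ht : t ∈ T0 := by
            show φ t * e0 * φ t⁻¹ = e0
            rw [htdef, ← conj_conj, ← conj_conj φ y, h.choose_spec]
            conv_lhs => arg 1; arg 2; rw [← h'.choose_spec]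
            rw [conj_conj, inv_mul_cancel, conj_one_arg]
          refine Finset.mem_image.2 ⟨φ0 ⟨t, ht⟩ * f * φ0 ⟨t, ht⟩⁻¹, hFconj _ f hf, ?_⟩
          rw [← hlconj, conj_conj, conj_conj]
          show φ (h'.choose * t) * lift f * φ (h'.choose * t)⁻¹ = _
          rw [htdef, mul_inv_cancel_left]
        · have h' : ¬ orb (φ y * e * φ y⁻¹) := fun ⟨x, hx⟩ => h ⟨y⁻¹ * x, by
            rw [← conj_conj, hx, conj_conj, inv_mul_cancel, conj_one_arg]⟩
          rw [dif_neg h']
          rw [Finset.mem_singleton] at hqe ⊢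
          rw [hqe]
    have h1 : E.card < (E.biUnion pieces).card := by
      rw [Finset.card_biUnion hdisj, Finset.card_eq_sum_ones]
      refine Finset.sum_lt_sum (fun e he => Finset.card_pos.2 ?_) ⟨e0, he0, ?_⟩
      · rw [Finset.nonempty_iff_ne_empty]
        intro h
        exact hE.ne_zero e he (by rw [← hsum e he, h, Finset.sum_empty])
      · simp only [pieces]
        rw [dif_pos ⟨1, conj_one_arg φ e0⟩,
          Finset.card_image_of_injective _ fun f g hfg => hlinj (conj_inj φ _ hfg)]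
        omega
    exact absurd (hmax _ hdec) (not_le.2 h1)
  -- the group induced by `P` on the block
  let P' : Subgroup (T0 ⧸ K0) := (P.subgroupOf T0).map (QuotientGroup.mk' K0)
  haveI : P'.Normal := (inferInstance : (P.subgroupOf T0).Normal).map _ (QuotientGroup.mk'_surjective _)
  have hP' : IsPGroup p P' := (hP.of_injective
    (MonoidHom.mk' (fun x : P.subgroupOf T0 => (⟨(x.1 : L), x.2⟩ : P)) fun a b => rfl)
    fun a b h => Subtype.ext (Subtype.ext (congrArg (fun t : P => (t : L)) h))).map _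
  haveI := end_finite W0
  haveI : Nontrivial (AddMonoid.End W0) := by
    obtain ⟨a, b, hab⟩ := exists_pair_ne W0
    refine ⟨⟨0, 1, fun h => hab ?_⟩⟩
    have h1 : (0 : W0) = a := DFunLike.congr_fun h a
    have h2 : (0 : W0) = b := DFunLike.congr_fun h b
    rw [← h1, ← h2]
  have hchar : CharSmall p (φ'.comp P'.subtype) := by
    intro A hA hAel
    haveI := hA
    haveI : (A.map P'.subtype).Normal := inferInstance
    obtain ⟨hfpf, hcard⟩ := prim_abelian φ' hprim (end_isUnit_natCast hco0)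
      (φ' '' ((A.map P'.subtype : Subgroup _) : Set (T0 ⧸ K0)))
      (by
        rintro _ ⟨_, ⟨a, ha, rfl⟩, rfl⟩ _ ⟨_, ⟨b, hb, rfl⟩, rfl⟩
        rw [← map_mul, ← map_mul, ← map_mul, ← map_mul,
          show a * b = b * a from congrArg Subtype.val (hAel.1.is_comm.comm ⟨a, ha⟩ ⟨b, hb⟩)])
      (by
        rintro _ ⟨_, ⟨a, ha, rfl⟩, rfl⟩
        rw [← map_pow, ← map_pow, hAel.2 a ha, map_one, map_one])
      (by
        rintro x _ ⟨a, ha, rfl⟩
        exact ⟨x * a * x⁻¹, Subgroup.Normal.conj_mem ‹_› a ha x, by rw [map_mul, map_mul]⟩)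
    refine ⟨fun a ha ha1 w hw => ?_, ?_⟩
    · have hu := hfpf (φ' (a : T0 ⧸ K0)) ⟨_, ⟨a, ha, rfl⟩, rfl⟩ fun h =>
        ha1 (Subtype.ext (hφ'inj (h.trans (map_one φ').symm)))
      obtain ⟨c, hc⟩ := hu.exists_left_inv
      have h1 := DFunLike.congr_fun hc w
      have h2 : (φ' (a : T0 ⧸ K0) - 1 : AddMonoid.End W0) w = 0 := by
        show φ' (a : T0 ⧸ K0) w - w = 0
        exact sub_eq_zero.2 hw
      change c ((φ' (a : T0 ⧸ K0) - 1 : AddMonoid.End W0) w) = w at h1
      rw [h2, map_zero] at h1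
      exact h1.symm
    · rw [Set.ncard_image_of_injective _ hφ'inj, ← Nat.card_coe_set_eq] at hcard
      rwa [← Subgroup.card_map_of_injective P'.subtype_injective]
  obtain ⟨w, hw⟩ := exists_vector_moved_odd hp2 hP' hco0 (φ'.comp P'.subtype) hchar
  by_cases hall : ∀ b : T0, (b : L) ∈ P → b ^ p = 1 → φ0 b = 1
  · refine ⟨e0 u0, hidem u0, hu0, fun b hb hbT hbp _ u hu => ?_⟩
    have := hall ⟨b, hbT⟩ hb (Subtype.ext hbp)
    exact congrArg Subtype.val (DFunLike.congr_fun this ⟨u, hu⟩)
  push Not at hall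
  obtain ⟨b1, hb1P, hb1p, hb1⟩ := hall
  have key : ∀ b : T0, (b : L) ∈ P → b ^ p = 1 → φ0 b w = w → φ0 b = 1 := by
    intro b hb hbp hbw
    by_contra hne
    refine hw ⟨QuotientGroup.mk' K0 b, ⟨b, hb, rfl⟩⟩ (Subtype.ext ?_) (fun h => hne ?_) hbw
    · show (QuotientGroup.mk' K0 b) ^ p = 1
      rw [← map_pow, hbp, map_one]
    · exact congrArg Units.val (MonoidHom.mem_ker.1 ((QuotientGroup.eq_one_iff b).1 (congrArg Subtype.val h)))
  refine ⟨w, w.2, fun h => hb1 (key b1 hb1P hb1p ?_), fun b hb hbT hbp hbw u hu => ?_⟩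
  · rw [show w = (0 : W0) from Subtype.ext h, map_zero]
  · have := key ⟨b, hbT⟩ hb (Subtype.ext hbp) (Subtype.ext hbw)
    exact congrArg Subtype.val (DFunLike.congr_fun this ⟨u, hu⟩)

/-- Some vector is moved by every conjugate of a given non-trivial element of a normal `p`-subgroup. -/
theorem exists_moved_by_conjugates [Finite L] [Finite W] {p : ℕ} [Fact p.Prime] (hp2 : p ≠ 2)
    (hco : ¬ p ∣ Nat.card W) (φ : L →* AddMonoid.End W) (hφ : Function.Injective φ)
    (P : Subgroup L) [P.Normal] (hP : IsPGroup p P) {a : L} (ha : a ∈ P) (ha1 : a ≠ 1) :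
    ∃ v : W, ∀ x : L, φ (x * a * x⁻¹) v ≠ v := by
  haveI := end_finite W
  -- it suffices to treat an element of order `p`
  wlog hap : a ^ p = 1 generalizing a
  · obtain ⟨k, hk⟩ := IsPGroup.iff_orderOf.1 hP ⟨a, ha⟩
    rw [Subgroup.orderOf_mk] at hk
    obtain ⟨j, rfl⟩ : ∃ j, k = j + 1 := by
      rcases Nat.eq_zero_or_pos k with rfl | h
      · rw [pow_zero, orderOf_eq_one_iff] at hk; exact absurd hk ha1
      · exact ⟨k - 1, by omega⟩
    have hb1 : a ^ p ^ j ≠ 1 := fun h => by
      have h1 := Nat.le_of_dvd (pow_pos (Fact.out : p.Prime).pos j) (orderOf_dvd_of_pow_eq_one h)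
      rw [hk, pow_succ] at h1
      have := Nat.le_of_mul_le_mul_left (h1.trans (mul_one _).ge) (pow_pos (Fact.out : p.Prime).pos j)
      exact absurd this (not_le.2 (Fact.out : p.Prime).one_lt)
    obtain ⟨v, hv⟩ := this (pow_mem ha _) hb1 (by rw [← pow_mul, ← pow_succ, ← hk, pow_orderOf_eq_one])
    refine ⟨v, fun x hx => hv x ?_⟩
    rw [← conj_pow]
    induction p ^ j with
    | zero => rw [pow_zero, map_one_apply]
    | succ n ih => rw [pow_succ, map_mul_apply, hx, ih]
  haveI : Nontrivial W := by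
    by_contra h
    haveI := not_nontrivial_iff_subsingleton.1 h
    exact ha1 (hφ (AddMonoidHom.ext fun w => Subsingleton.elim _ _))
  have h10 : (1 : AddMonoid.End W) ≠ 0 := fun h => by
    obtain ⟨w, hw⟩ := exists_ne (0 : W)
    exact hw (DFunLike.congr_fun h w)
  haveI := Fintype.ofFinite (AddMonoid.End W)
  have hone : IsDecomp φ {(1 : AddMonoid.End W)} :=
    ⟨by simp, by simp [h10], by simp, by simp, fun x e he => by
      rw [Finset.mem_singleton] at he ⊢; rw [he, mul_one, map_mul_inv_cancel']⟩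
  obtain ⟨E, hEm, hmax'⟩ := (Finset.univ.filter fun E : Finset (AddMonoid.End W) => IsDecomp φ E).exists_max_image
    Finset.card ⟨{1}, Finset.mem_filter.2 ⟨Finset.mem_univ _, hone⟩⟩
  have hE : IsDecomp φ E := (Finset.mem_filter.1 hEm).2
  have hmax : ∀ E', IsDecomp φ E' → E'.card ≤ E.card := fun E' h =>
    hmax' E' (Finset.mem_filter.2 ⟨Finset.mem_univ _, h⟩)
  choose w hw1 hw0 hwb using fun e : {e // e ∈ E} => moved_in_block hp2 hco φ P hP E hE hmax e.1 e.2
  -- `P` permutes the blocks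
  letI : MulAction P {e // e ∈ E} :=
    { smul := fun x e => ⟨φ (x : L) * e.1 * φ (x : L)⁻¹, hE.conj _ _ e.2⟩
      one_smul := fun e => Subtype.ext (conj_one_arg φ e.1)
      mul_smul := fun x y e => Subtype.ext (conj_conj φ (x : L) (y : L) e.1).symm }
  have hsmul : ∀ (x : P) (e : {e // e ∈ E}), ((x • e : {e // e ∈ E}) : AddMonoid.End W) =
      φ (x : L) * e.1 * φ (x : L)⁻¹ := fun x e => rfl
  have hproj : ∀ (S : Finset {e // e ∈ E}) (e : {e // e ∈ E}),
      e.1 (∑ f ∈ S, w f) = if e ∈ S then w e else 0 := by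
    intro S e
    rw [map_sum, ← Finset.sum_ite_eq S e fun f => w f]
    refine Finset.sum_congr rfl fun f _ => ?_
    split_ifs with h
    · subst h; exact hw1 _
    · conv_lhs => rw [← hw1 f]
      show (e.1 * f.1) (w f) = 0
      rw [hE.orth _ e.2 _ f.2 fun h' => h (Subtype.ext h')]; rfl
  have heconj : ∀ (x : L) (e : AddMonoid.End W) (v : W), φ x v = v →
      (φ x * e * φ x⁻¹) v = φ x (e v) := by
    intro x e v hv
    show φ x (e (φ x⁻¹ v)) = φ x (e v)
    conv_lhs => rw [← hv, ← map_mul_apply, inv_mul_cancel, map_one_apply]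
  by_cases hD : ∀ e ∈ E, φ a * e * φ a⁻¹ = e
  · -- every conjugate of `a` fixes every block
    refine ⟨∑ f, w f, fun x hx => ?_⟩
    have hbP : x * a * x⁻¹ ∈ P := Subgroup.Normal.conj_mem ‹_› a ha x
    have hbp : (x * a * x⁻¹) ^ p = 1 := by rw [conj_pow, hap, mul_one, mul_inv_cancel]
    refine ha1 (hφ ?_)
    have hb : ∀ e ∈ E, φ (x * a * x⁻¹) * e * φ (x * a * x⁻¹)⁻¹ = e := fun e he => by
      rw [← conj_conj, ← conj_conj φ x a, hD _ (hE.conj x⁻¹ e he), conj_conj, mul_inv_cancel, conj_one_arg]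
    have hid : φ (x * a * x⁻¹) = 1 := by
      refine AddMonoidHom.ext fun u => ?_
      have h1 : u = ∑ e ∈ E, e u := by
        conv_lhs => rw [show u = (1 : AddMonoid.End W) u from rfl, ← hE.sum_eq]
        exact AddMonoidHom.finsetSum_apply _ _ _
      show φ (x * a * x⁻¹) u = u
      conv_lhs => rw [h1]
      rw [map_sum]
      conv_rhs => rw [h1]
      refine Finset.sum_congr rfl fun e he => ?_
      refine hwb ⟨e, he⟩ _ hbP (hb e he) hbp ?_ _ (DFunLike.congr_fun (hE.idem e he) u)
      have h3 := heconj (x * a * x⁻¹) e (∑ f, w f) hx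
      rw [hb e he, hproj Finset.univ ⟨e, he⟩, if_pos (Finset.mem_univ _)] at h3
      exact h3.symm
    have h4 : x * a * x⁻¹ = 1 := hφ (hid.trans (map_one φ).symm)
    rw [conj_eq_one_iff] at h4
    rw [h4]
  · obtain ⟨S, hS⟩ := exists_set_trivial_stab hp2 hP {e // e ∈ E}
    haveI := Fintype.ofFinite {e // e ∈ E}
    refine ⟨∑ f ∈ Finset.univ.filter (fun e => e ∈ S), w f, fun x hx => hD ?_⟩
    set b : P := ⟨x * a * x⁻¹, Subgroup.Normal.conj_mem ‹_› a ha x⟩
    set v := ∑ f ∈ Finset.univ.filter (fun e => e ∈ S), w f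
    have hmem : ∀ e : {e // e ∈ E}, e ∈ S ↔ e.1 v ≠ 0 := fun e => by
      rw [hproj]
      by_cases h : e ∈ S
      · simp [h, hw0 e]
      · simp [h]
    have hfix := hS b fun e => by
      rw [hmem, hmem, hsmul, heconj _ _ _ hx]
      refine not_congr ⟨fun h => ?_, fun h => by rw [h, map_zero]⟩
      have h1 := congrArg (φ (b : L)⁻¹) h
      rwa [← map_mul_apply, inv_mul_cancel, map_one_apply, map_zero] at h1
    intro e he
    have h1 := congrArg Subtype.val (hfix ⟨φ x * e * φ x⁻¹, hE.conj x e he⟩)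
    rw [hsmul] at h1
    change φ (x * a * x⁻¹) * (φ x * e * φ x⁻¹) * φ (x * a * x⁻¹)⁻¹ = φ x * e * φ x⁻¹ at h1
    rw [conj_conj, inv_mul_cancel_right, ← conj_conj] at h1
    exact conj_inj φ x h1

end H34
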