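import Cfsg.Agent.H34.E6CoxTables

/-! Certificates for one coset (generated). -/

set_option autoImplicit false
set_option maxRecDepth 100000

namespace H34.E6Cox

theorem check0_0 : blockOK repMat0 stab0 cert0_0 = true := by decide +kernel
theorem check0_1 : blockOK repMat0 stab1 cert0_1 = true := by decide +kernel
theorem check0_2 : blockOK repMat0 stab2 cert0_2 = true := by decide +kernel
theorem check0_3 : blockOK repMat0 stab3 cert0_3 = true := by decide +kernel
theorem check0_4 : blockOK repMat0 stab4 cert0_4 = true := by decide +kernel
theorem check0_5 : blockOK repMat0 stab5 cert0_5 = true := by decide +kernel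
theorem check0_6 : blockOK repMat0 stab6 cert0_6 = true := by decide +kernel
theorem check0_7 : blockOK repMat0 stab7 cert0_7 = true := by decide +kernel
theorem check0_8 : blockOK repMat0 stab8 cert0_8 = true := by decide +kernel
theorem check0_9 : blockOK repMat0 stab9 cert0_9 = true := by decide +kernel
theorem check0_10 : blockOK repMat0 stab10 cert0_10 = true := by decide +kernel
theorem check0_11 : blockOK repMat0 stab11 cert0_11 = true := by decide +kernel
theorem check0_12 : blockOK repMat0 stab12 cert0_12 = true := by decide +kernel
theorem check0_13 : blockOK repMat0 stab13 cert0_13 = true := by decide +kernel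
theorem check0_14 : blockOK repMat0 stab14 cert0_14 = true := by decide +kernel
theorem check0_15 : blockOK repMat0 stab15 cert0_15 = true := by decide +kernel
theorem check0_16 : blockOK repMat0 stab16 cert0_16 = true := by decide +kernel
theorem check0_17 : blockOK repMat0 stab17 cert0_17 = true := by decide +kernel
theorem check0_18 : blockOK repMat0 stab18 cert0_18 = true := by decide +kernel
theorem check0_19 : blockOK repMat0 stab19 cert0_19 = true := by decide +kernel
theorem check0_20 : blockOK repMat0 stab20 cert0_20 = true := by decide +kernel
theorem check0_21 : blockOK repMat0 stab21 cert0_21 = true := by decide +kernel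
theorem check0_22 : blockOK repMat0 stab22 cert0_22 = true := by decide +kernel
theorem check0_23 : blockOK repMat0 stab23 cert0_23 = true := by decide +kernel
theorem check0_24 : blockOK repMat0 stab24 cert0_24 = true := by decide +kernel
theorem check0_25 : blockOK repMat0 stab25 cert0_25 = true := by decide +kernel
theorem check0_26 : blockOK repMat0 stab26 cert0_26 = true := by decide +kernel
theorem check0_27 : blockOK repMat0 stab27 cert0_27 = true := by decide +kernel
theorem check0_28 : blockOK repMat0 stab28 cert0_28 = true := by decide +kernel
theorem check0_29 : blockOK repMat0 stab29 cert0_29 = true := by decide +kernel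

theorem check0 : ∀ k < 30, blockOK repMat0 (stabBlocks.getD k []) (cert0.getD k []) = true := by
  intro k hk
  interval_cases k
  · exact check0_0
  · exact check0_1
  · exact check0_2
  · exact check0_3
  · exact check0_4
  · exact check0_5
  · exact check0_6
  · exact check0_7
  · exact check0_8
  · exact check0_9
  · exact check0_10
  · exact check0_11
  · exact check0_12
  · exact check0_13
  · exact check0_14
  · exact check0_15
  · exact check0_16
  · exact check0_17
  · exact check0_18
  · exact check0_19
  · exact check0_20
  · exact check0_21
  · exact check0_22
  · exact check0_23
  · exact check0_24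
  · exact check0_25
  · exact check0_26
  · exact check0_27
  · exact check0_28
  · exact check0_29

end H34.E6Cox
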