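import Cfsg.Agent.H34.E6CoxTables

/-! Certificates for one coset (generated). -/

set_option autoImplicit false
set_option maxRecDepth 100000

namespace H34.E6Cox

theorem check1_0 : blockOK repMat1 stab0 cert1_0 = true := by decide +kernel
theorem check1_1 : blockOK repMat1 stab1 cert1_1 = true := by decide +kernel
theorem check1_2 : blockOK repMat1 stab2 cert1_2 = true := by decide +kernel
theorem check1_3 : blockOK repMat1 stab3 cert1_3 = true := by decide +kernel
theorem check1_4 : blockOK repMat1 stab4 cert1_4 = true := by decide +kernel
theorem check1_5 : blockOK repMat1 stab5 cert1_5 = true := by decide +kernel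
theorem check1_6 : blockOK repMat1 stab6 cert1_6 = true := by decide +kernel
theorem check1_7 : blockOK repMat1 stab7 cert1_7 = true := by decide +kernel
theorem check1_8 : blockOK repMat1 stab8 cert1_8 = true := by decide +kernel
theorem check1_9 : blockOK repMat1 stab9 cert1_9 = true := by decide +kernel
theorem check1_10 : blockOK repMat1 stab10 cert1_10 = true := by decide +kernel
theorem check1_11 : blockOK repMat1 stab11 cert1_11 = true := by decide +kernel
theorem check1_12 : blockOK repMat1 stab12 cert1_12 = true := by decide +kernel
theorem check1_13 : blockOK repMat1 stab13 cert1_13 = true := by decide +kernel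
theorem check1_14 : blockOK repMat1 stab14 cert1_14 = true := by decide +kernel
theorem check1_15 : blockOK repMat1 stab15 cert1_15 = true := by decide +kernel
theorem check1_16 : blockOK repMat1 stab16 cert1_16 = true := by decide +kernel
theorem check1_17 : blockOK repMat1 stab17 cert1_17 = true := by decide +kernel
theorem check1_18 : blockOK repMat1 stab18 cert1_18 = true := by decide +kernel
theorem check1_19 : blockOK repMat1 stab19 cert1_19 = true := by decide +kernel
theorem check1_20 : blockOK repMat1 stab20 cert1_20 = true := by decide +kernel
theorem check1_21 : blockOK repMat1 stab21 cert1_21 = true := by decide +kernel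
theorem check1_22 : blockOK repMat1 stab22 cert1_22 = true := by decide +kernel
theorem check1_23 : blockOK repMat1 stab23 cert1_23 = true := by decide +kernel
theorem check1_24 : blockOK repMat1 stab24 cert1_24 = true := by decide +kernel
theorem check1_25 : blockOK repMat1 stab25 cert1_25 = true := by decide +kernel
theorem check1_26 : blockOK repMat1 stab26 cert1_26 = true := by decide +kernel
theorem check1_27 : blockOK repMat1 stab27 cert1_27 = true := by decide +kernel
theorem check1_28 : blockOK repMat1 stab28 cert1_28 = true := by decide +kernel
theorem check1_29 : blockOK repMat1 stab29 cert1_29 = true := by decide +kernel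

theorem check1 : ∀ k < 30, blockOK repMat1 (stabBlocks.getD k []) (cert1.getD k []) = true := by
  intro k hk
  interval_cases k
  · exact check1_0
  · exact check1_1
  · exact check1_2
  · exact check1_3
  · exact check1_4
  · exact check1_5
  · exact check1_6
  · exact check1_7
  · exact check1_8
  · exact check1_9
  · exact check1_10
  · exact check1_11
  · exact check1_12
  · exact check1_13
  · exact check1_14
  · exact check1_15
  · exact check1_16
  · exact check1_17
  · exact check1_18
  · exact check1_19
  · exact check1_20
  · exact check1_21
  · exact check1_22
  · exact check1_23
  · exact check1_24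
  · exact check1_25
  · exact check1_26
  · exact check1_27
  · exact check1_28
  · exact check1_29

end H34.E6Cox
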