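import Cfsg.Agent.H34.E6CoxTables

/-! Certificates for one coset (generated). -/

set_option autoImplicit false
set_option maxRecDepth 100000

namespace H34.E6Cox

theorem check2_0 : blockOK repMat2 stab0 cert2_0 = true := by decide +kernel
theorem check2_1 : blockOK repMat2 stab1 cert2_1 = true := by decide +kernel
theorem check2_2 : blockOK repMat2 stab2 cert2_2 = true := by decide +kernel
theorem check2_3 : blockOK repMat2 stab3 cert2_3 = true := by decide +kernel
theorem check2_4 : blockOK repMat2 stab4 cert2_4 = true := by decide +kernel
theorem check2_5 : blockOK repMat2 stab5 cert2_5 = true := by decide +kernel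
theorem check2_6 : blockOK repMat2 stab6 cert2_6 = true := by decide +kernel
theorem check2_7 : blockOK repMat2 stab7 cert2_7 = true := by decide +kernel
theorem check2_8 : blockOK repMat2 stab8 cert2_8 = true := by decide +kernel
theorem check2_9 : blockOK repMat2 stab9 cert2_9 = true := by decide +kernel
theorem check2_10 : blockOK repMat2 stab10 cert2_10 = true := by decide +kernel
theorem check2_11 : blockOK repMat2 stab11 cert2_11 = true := by decide +kernel
theorem check2_12 : blockOK repMat2 stab12 cert2_12 = true := by decide +kernel
theorem check2_13 : blockOK repMat2 stab13 cert2_13 = true := by decide +kernel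
theorem check2_14 : blockOK repMat2 stab14 cert2_14 = true := by decide +kernel
theorem check2_15 : blockOK repMat2 stab15 cert2_15 = true := by decide +kernel
theorem check2_16 : blockOK repMat2 stab16 cert2_16 = true := by decide +kernel
theorem check2_17 : blockOK repMat2 stab17 cert2_17 = true := by decide +kernel
theorem check2_18 : blockOK repMat2 stab18 cert2_18 = true := by decide +kernel
theorem check2_19 : blockOK repMat2 stab19 cert2_19 = true := by decide +kernel
theorem check2_20 : blockOK repMat2 stab20 cert2_20 = true := by decide +kernel
theorem check2_21 : blockOK repMat2 stab21 cert2_21 = true := by decide +kernel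
theorem check2_22 : blockOK repMat2 stab22 cert2_22 = true := by decide +kernel
theorem check2_23 : blockOK repMat2 stab23 cert2_23 = true := by decide +kernel
theorem check2_24 : blockOK repMat2 stab24 cert2_24 = true := by decide +kernel
theorem check2_25 : blockOK repMat2 stab25 cert2_25 = true := by decide +kernel
theorem check2_26 : blockOK repMat2 stab26 cert2_26 = true := by decide +kernel
theorem check2_27 : blockOK repMat2 stab27 cert2_27 = true := by decide +kernel
theorem check2_28 : blockOK repMat2 stab28 cert2_28 = true := by decide +kernel
theorem check2_29 : blockOK repMat2 stab29 cert2_29 = true := by decide +kernel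

theorem check2 : ∀ k < 30, blockOK repMat2 (stabBlocks.getD k []) (cert2.getD k []) = true := by
  intro k hk
  interval_cases k
  · exact check2_0
  · exact check2_1
  · exact check2_2
  · exact check2_3
  · exact check2_4
  · exact check2_5
  · exact check2_6
  · exact check2_7
  · exact check2_8
  · exact check2_9
  · exact check2_10
  · exact check2_11
  · exact check2_12
  · exact check2_13
  · exact check2_14
  · exact check2_15
  · exact check2_16
  · exact check2_17
  · exact check2_18
  · exact check2_19
  · exact check2_20
  · exact check2_21
  · exact check2_22
  · exact check2_23
  · exact check2_24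
  · exact check2_25
  · exact check2_26
  · exact check2_27
  · exact check2_28
  · exact check2_29

end H34.E6Cox
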