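import Cfsg.Agent.H34.E6CoxTables

/-! Certificates for one coset (generated). -/

set_option autoImplicit false
set_option maxRecDepth 100000

namespace H34.E6Cox

theorem check3_0 : blockOK repMat3 stab0 cert3_0 = true := by decide +kernel
theorem check3_1 : blockOK repMat3 stab1 cert3_1 = true := by decide +kernel
theorem check3_2 : blockOK repMat3 stab2 cert3_2 = true := by decide +kernel
theorem check3_3 : blockOK repMat3 stab3 cert3_3 = true := by decide +kernel
theorem check3_4 : blockOK repMat3 stab4 cert3_4 = true := by decide +kernel
theorem check3_5 : blockOK repMat3 stab5 cert3_5 = true := by decide +kernel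
theorem check3_6 : blockOK repMat3 stab6 cert3_6 = true := by decide +kernel
theorem check3_7 : blockOK repMat3 stab7 cert3_7 = true := by decide +kernel
theorem check3_8 : blockOK repMat3 stab8 cert3_8 = true := by decide +kernel
theorem check3_9 : blockOK repMat3 stab9 cert3_9 = true := by decide +kernel
theorem check3_10 : blockOK repMat3 stab10 cert3_10 = true := by decide +kernel
theorem check3_11 : blockOK repMat3 stab11 cert3_11 = true := by decide +kernel
theorem check3_12 : blockOK repMat3 stab12 cert3_12 = true := by decide +kernel
theorem check3_13 : blockOK repMat3 stab13 cert3_13 = true := by decide +kernel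
theorem check3_14 : blockOK repMat3 stab14 cert3_14 = true := by decide +kernel
theorem check3_15 : blockOK repMat3 stab15 cert3_15 = true := by decide +kernel
theorem check3_16 : blockOK repMat3 stab16 cert3_16 = true := by decide +kernel
theorem check3_17 : blockOK repMat3 stab17 cert3_17 = true := by decide +kernel
theorem check3_18 : blockOK repMat3 stab18 cert3_18 = true := by decide +kernel
theorem check3_19 : blockOK repMat3 stab19 cert3_19 = true := by decide +kernel
theorem check3_20 : blockOK repMat3 stab20 cert3_20 = true := by decide +kernel
theorem check3_21 : blockOK repMat3 stab21 cert3_21 = true := by decide +kernel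
theorem check3_22 : blockOK repMat3 stab22 cert3_22 = true := by decide +kernel
theorem check3_23 : blockOK repMat3 stab23 cert3_23 = true := by decide +kernel
theorem check3_24 : blockOK repMat3 stab24 cert3_24 = true := by decide +kernel
theorem check3_25 : blockOK repMat3 stab25 cert3_25 = true := by decide +kernel
theorem check3_26 : blockOK repMat3 stab26 cert3_26 = true := by decide +kernel
theorem check3_27 : blockOK repMat3 stab27 cert3_27 = true := by decide +kernel
theorem check3_28 : blockOK repMat3 stab28 cert3_28 = true := by decide +kernel
theorem check3_29 : blockOK repMat3 stab29 cert3_29 = true := by decide +kernel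

theorem check3 : ∀ k < 30, blockOK repMat3 (stabBlocks.getD k []) (cert3.getD k []) = true := by
  intro k hk
  interval_cases k
  · exact check3_0
  · exact check3_1
  · exact check3_2
  · exact check3_3
  · exact check3_4
  · exact check3_5
  · exact check3_6
  · exact check3_7
  · exact check3_8
  · exact check3_9
  · exact check3_10
  · exact check3_11
  · exact check3_12
  · exact check3_13
  · exact check3_14
  · exact check3_15
  · exact check3_16
  · exact check3_17
  · exact check3_18
  · exact check3_19
  · exact check3_20
  · exact check3_21
  · exact check3_22
  · exact check3_23
  · exact check3_24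
  · exact check3_25
  · exact check3_26
  · exact check3_27
  · exact check3_28
  · exact check3_29

end H34.E6Cox
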