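import Cfsg.Agent.H34.E6CoxTables

/-! Certificates for one coset (generated). -/

set_option autoImplicit false
set_option maxRecDepth 100000

namespace H34.E6Cox

theorem check4_0 : blockOK repMat4 stab0 cert4_0 = true := by decide +kernel
theorem check4_1 : blockOK repMat4 stab1 cert4_1 = true := by decide +kernel
theorem check4_2 : blockOK repMat4 stab2 cert4_2 = true := by decide +kernel
theorem check4_3 : blockOK repMat4 stab3 cert4_3 = true := by decide +kernel
theorem check4_4 : blockOK repMat4 stab4 cert4_4 = true := by decide +kernel
theorem check4_5 : blockOK repMat4 stab5 cert4_5 = true := by decide +kernel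
theorem check4_6 : blockOK repMat4 stab6 cert4_6 = true := by decide +kernel
theorem check4_7 : blockOK repMat4 stab7 cert4_7 = true := by decide +kernel
theorem check4_8 : blockOK repMat4 stab8 cert4_8 = true := by decide +kernel
theorem check4_9 : blockOK repMat4 stab9 cert4_9 = true := by decide +kernel
theorem check4_10 : blockOK repMat4 stab10 cert4_10 = true := by decide +kernel
theorem check4_11 : blockOK repMat4 stab11 cert4_11 = true := by decide +kernel
theorem check4_12 : blockOK repMat4 stab12 cert4_12 = true := by decide +kernel
theorem check4_13 : blockOK repMat4 stab13 cert4_13 = true := by decide +kernel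
theorem check4_14 : blockOK repMat4 stab14 cert4_14 = true := by decide +kernel
theorem check4_15 : blockOK repMat4 stab15 cert4_15 = true := by decide +kernel
theorem check4_16 : blockOK repMat4 stab16 cert4_16 = true := by decide +kernel
theorem check4_17 : blockOK repMat4 stab17 cert4_17 = true := by decide +kernel
theorem check4_18 : blockOK repMat4 stab18 cert4_18 = true := by decide +kernel
theorem check4_19 : blockOK repMat4 stab19 cert4_19 = true := by decide +kernel
theorem check4_20 : blockOK repMat4 stab20 cert4_20 = true := by decide +kernel
theorem check4_21 : blockOK repMat4 stab21 cert4_21 = true := by decide +kernel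
theorem check4_22 : blockOK repMat4 stab22 cert4_22 = true := by decide +kernel
theorem check4_23 : blockOK repMat4 stab23 cert4_23 = true := by decide +kernel
theorem check4_24 : blockOK repMat4 stab24 cert4_24 = true := by decide +kernel
theorem check4_25 : blockOK repMat4 stab25 cert4_25 = true := by decide +kernel
theorem check4_26 : blockOK repMat4 stab26 cert4_26 = true := by decide +kernel
theorem check4_27 : blockOK repMat4 stab27 cert4_27 = true := by decide +kernel
theorem check4_28 : blockOK repMat4 stab28 cert4_28 = true := by decide +kernel
theorem check4_29 : blockOK repMat4 stab29 cert4_29 = true := by decide +kernel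

theorem check4 : ∀ k < 30, blockOK repMat4 (stabBlocks.getD k []) (cert4.getD k []) = true := by
  intro k hk
  interval_cases k
  · exact check4_0
  · exact check4_1
  · exact check4_2
  · exact check4_3
  · exact check4_4
  · exact check4_5
  · exact check4_6
  · exact check4_7
  · exact check4_8
  · exact check4_9
  · exact check4_10
  · exact check4_11
  · exact check4_12
  · exact check4_13
  · exact check4_14
  · exact check4_15
  · exact check4_16
  · exact check4_17
  · exact check4_18
  · exact check4_19
  · exact check4_20
  · exact check4_21
  · exact check4_22
  · exact check4_23
  · exact check4_24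
  · exact check4_25
  · exact check4_26
  · exact check4_27
  · exact check4_28
  · exact check4_29

end H34.E6Cox
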