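import Cfsg.Agent.H34.E6CoxClosure
import Cfsg.Agent.H34.E6CoxCheck0
import Cfsg.Agent.H34.E6CoxCheck1
import Cfsg.Agent.H34.E6CoxCheck2
import Cfsg.Agent.H34.E6CoxCheck3
import Cfsg.Agent.H34.E6CoxCheck4

/-! All coset certificates (generated). -/

set_option autoImplicit false

namespace H34.E6Cox

theorem check_all0 : ∀ b, b < 30 →
    blockOK (repMats.getD 0 []) (stabBlocks.getD b []) ((repCerts.getD 0 []).getD b []) = true := by
  intro b hb
  interval_cases b
  · exact check0_0
  · exact check0_1
  · exact check0_2
  · exact check0_3
  · exact check0_4
  · exact check0_5
  · exact check0_6
  · exact check0_7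
  · exact check0_8
  · exact check0_9
  · exact check0_10
  · exact check0_11
  · exact check0_12
  · exact check0_13
  · exact check0_14
  · exact check0_15
  · exact check0_16
  · exact check0_17
  · exact check0_18
  · exact check0_19
  · exact check0_20
  · exact check0_21
  · exact check0_22
  · exact check0_23
  · exact check0_24
  · exact check0_25
  · exact check0_26
  · exact check0_27
  · exact check0_28
  · exact check0_29

theorem check_all1 : ∀ b, b < 30 →
    blockOK (repMats.getD 1 []) (stabBlocks.getD b []) ((repCerts.getD 1 []).getD b []) = true := by
  intro b hb
  interval_cases b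
  · exact check1_0
  · exact check1_1
  · exact check1_2
  · exact check1_3
  · exact check1_4
  · exact check1_5
  · exact check1_6
  · exact check1_7
  · exact check1_8
  · exact check1_9
  · exact check1_10
  · exact check1_11
  · exact check1_12
  · exact check1_13
  · exact check1_14
  · exact check1_15
  · exact check1_16
  · exact check1_17
  · exact check1_18
  · exact check1_19
  · exact check1_20
  · exact check1_21
  · exact check1_22
  · exact check1_23
  · exact check1_24
  · exact check1_25
  · exact check1_26
  · exact check1_27
  · exact check1_28
  · exact check1_29

theorem check_all2 : ∀ b, b < 30 →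
    blockOK (repMats.getD 2 []) (stabBlocks.getD b []) ((repCerts.getD 2 []).getD b []) = true := by
  intro b hb
  interval_cases b
  · exact check2_0
  · exact check2_1
  · exact check2_2
  · exact check2_3
  · exact check2_4
  · exact check2_5
  · exact check2_6
  · exact check2_7
  · exact check2_8
  · exact check2_9
  · exact check2_10
  · exact check2_11
  · exact check2_12
  · exact check2_13
  · exact check2_14
  · exact check2_15
  · exact check2_16
  · exact check2_17
  · exact check2_18
  · exact check2_19
  · exact check2_20
  · exact check2_21
  · exact check2_22
  · exact check2_23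
  · exact check2_24
  · exact check2_25
  · exact check2_26
  · exact check2_27
  · exact check2_28
  · exact check2_29

theorem check_all3 : ∀ b, b < 30 →
    blockOK (repMats.getD 3 []) (stabBlocks.getD b []) ((repCerts.getD 3 []).getD b []) = true := by
  intro b hb
  interval_cases b
  · exact check3_0
  · exact check3_1
  · exact check3_2
  · exact check3_3
  · exact check3_4
  · exact check3_5
  · exact check3_6
  · exact check3_7
  · exact check3_8
  · exact check3_9
  · exact check3_10
  · exact check3_11
  · exact check3_12
  · exact check3_13
  · exact check3_14
  · exact check3_15
  · exact check3_16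
  · exact check3_17
  · exact check3_18
  · exact check3_19
  · exact check3_20
  · exact check3_21
  · exact check3_22
  · exact check3_23
  · exact check3_24
  · exact check3_25
  · exact check3_26
  · exact check3_27
  · exact check3_28
  · exact check3_29

theorem check_all4 : ∀ b, b < 30 →
    blockOK (repMats.getD 4 []) (stabBlocks.getD b []) ((repCerts.getD 4 []).getD b []) = true := by
  intro b hb
  interval_cases b
  · exact check4_0
  · exact check4_1
  · exact check4_2
  · exact check4_3
  · exact check4_4
  · exact check4_5
  · exact check4_6
  · exact check4_7
  · exact check4_8
  · exact check4_9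
  · exact check4_10
  · exact check4_11
  · exact check4_12
  · exact check4_13
  · exact check4_14
  · exact check4_15
  · exact check4_16
  · exact check4_17
  · exact check4_18
  · exact check4_19
  · exact check4_20
  · exact check4_21
  · exact check4_22
  · exact check4_23
  · exact check4_24
  · exact check4_25
  · exact check4_26
  · exact check4_27
  · exact check4_28
  · exact check4_29

theorem stab_length : ∀ b, b < 30 → (stabBlocks.getD b []).length = 24 := by decide +kernel

/-- The code of one element of a coset. -/
def code (i k : ℕ) : ℕ := ((repCerts.getD i []).getD (k / 24) []).getD (k % 24) 0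

/-- The certificates of all cosets. -/
theorem coset_cert {i k : ℕ} (hi : i < 5) (hk : k < 720) :
    certOK (imMul (repMats.getD i []) (stabMat k)) (code i k) = true := by
  have hb : k / 24 < 30 := by omega
  have h : blockOK (repMats.getD i []) (stabBlocks.getD (k / 24) [])
      ((repCerts.getD i []).getD (k / 24) []) = true := by
    interval_cases i
    · exact check_all0 _ hb
    · exact check_all1 _ hb
    · exact check_all2 _ hb
    · exact check_all3 _ hb
    · exact check_all4 _ hb
  have hlen := stab_length _ hb
  rw [blockOK, Bool.and_eq_true, beq_iff_eq, List.all_eq_true] at h
  obtain ⟨h1, h2⟩ := h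
  have ho : k % 24 < (stabBlocks.getD (k / 24) []).length := by omega
  rw [code, List.getD_eq_getElem _ _ (show k % 24 < ((repCerts.getD i []).getD (k / 24) []).length by omega)]
  have := h2 ((stabBlocks.getD (k / 24) [])[k % 24], ((repCerts.getD i []).getD (k / 24) [])[k % 24]'(by omega))
    (List.mem_iff_getElem.2 ⟨k % 24, by rw [List.length_zip]; omega, List.getElem_zip⟩)
  rw [stabMat, List.getD_eq_getElem _ _ ho]
  exact this

end H34.E6Cox
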