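import Cfsg.Agent.H34.E6CoxData
import Cfsg.Agent.H34.E6CoxCheckAll
import Cfsg.Agent.H54.ChevGroup

/-!
Every element of the Weyl group of type E6 is conjugate to one whose certificate was checked.
-/

set_option autoImplicit false
set_option linter.unusedSectionVars false

open Cfsg.Lie
open Matrix

attribute [local irreducible] Cfsg.Lie.chevE6

namespace H34.E6Cox

theorem imMul_ofMat {n : ℕ} (hn : n = 6) (M N : Matrix (Fin n) (Fin n) ℤ) :
    imMul (ofMat M) (ofMat N) = ofMat (M * N) := by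
  subst hn
  simp [imMul, rowMul, ofMat, List.ofFn_succ, Matrix.mul_apply, Fin.sum_univ_six]

theorem imAdd_ofMat {n : ℕ} (hn : n = 6) (M N : Matrix (Fin n) (Fin n) ℤ) :
    imAdd (ofMat M) (ofMat N) = ofMat (M + N) := by
  subst hn
  simp [imAdd, ofMat, List.ofFn_succ]

theorem rowApply_ofMat {n : ℕ} (hn : n = 6) (M : Matrix (Fin n) (Fin n) ℤ) (v : Fin n → ℤ) :
    rowApply (ofMat M) (List.ofFn v) = List.ofFn (M *ᵥ v) := by
  subst hn
  simp [rowApply, ofMat, List.ofFn_succ, Matrix.mulVec, dotProduct, Fin.sum_univ_six, add_assoc]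

theorem rowMul_ofMat {n : ℕ} (hn : n = 6) (M : Matrix (Fin n) (Fin n) ℤ) (v : Fin n → ℤ) :
    rowMul (List.ofFn v) (ofMat M) = List.ofFn (v ᵥ* M) := by
  subst hn
  simp [rowMul, ofMat, List.ofFn_succ, Matrix.vecMul, dotProduct, Fin.sum_univ_six]

theorem ofMat_injective {n : ℕ} : Function.Injective (ofMat (n := n)) := by
  intro M N h
  funext i
  exact List.ofFn_injective (congrFun (List.ofFn_injective h) i)

theorem ofMat_one {n : ℕ} (hn : n = 6) : ofMat (1 : Matrix (Fin n) (Fin n) ℤ) = imOne := by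
  subst hn
  exact imOne_eq

/-- The highest root. -/
def top : Fin chevE6.nroots := ⟨71, by rw [nroots_E6]; omega⟩

/-- The fundamental reflections fixing the highest root. -/
def Js : Set (Fin chevE6.rank) := {i | i.val ≠ 1}

/-- The parabolic subgroup fixing the highest root. -/
def stab : Subgroup (Equiv.Perm (Fin chevE6.nroots)) := Subgroup.closure (C6.W.sigma '' Js)

theorem stab_le : stab ≤ Tori.wgrp C6 :=
  Subgroup.closure_mono (Set.image_subset_range _ _)

theorem sigma_mem (i : Fin chevE6.rank) : C6.W.sigma i ∈ Tori.wgrp C6 :=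
  Subgroup.subset_closure ⟨i, rfl⟩

theorem root_ext {r s : Fin chevE6.nroots} (h : cvL r.val = cvL s.val) : r = s := by
  rw [← cvL_eq, ← cvL_eq] at h
  exact Tori.cov_injective C6 (List.ofFn_injective h)

theorem cvL_sigma (i : Fin chevE6.rank) (r : Fin chevE6.nroots) :
    cvL (C6.W.sigma i r).val = rowApply (sL i.val) (cvL r.val) := by
  rw [← cvL_eq, ← cvL_eq, ← smat_eq, rowApply_ofMat rank_six, Tori.cov_sigma]

theorem fix_top {π : Equiv.Perm (Fin chevE6.nroots)} (hπ : π ∈ stab) : π top = top := by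
  have h : stab ≤ MulAction.stabilizer (Equiv.Perm (Fin chevE6.nroots)) top := by
    rw [stab, Subgroup.closure_le]
    rintro _ ⟨i, hi, rfl⟩
    obtain ⟨j, hj⟩ := jIdx_surj i hi
    refine root_ext ?_
    show cvL (C6.W.sigma i top).val = cvL top.val
    rw [cvL_sigma, ← hj]
    exact jIdx_fix j
  exact h hπ

theorem closure_mat {π : Equiv.Perm (Fin chevE6.nroots)} (hπ : π ∈ stab) :
    ∃ k, k < 720 ∧ ofMat (Tori.lmat C6 π) = stabMat k := by
  have hstep : ∀ i ∈ Js, ∀ p : Equiv.Perm (Fin chevE6.nroots),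
      (∃ k, k < 720 ∧ ofMat (Tori.lmat C6 p) = stabMat k) →
        ∃ k, k < 720 ∧ ofMat (Tori.lmat C6 (C6.W.sigma i * p)) = stabMat k := by
    rintro i hi p ⟨k, hk, hp⟩
    obtain ⟨j, hj⟩ := jIdx_surj i hi
    have h := close_all (k / 24) (by omega)
    rw [closeOK, List.all_eq_true] at h
    have h1 := h (k % 24) (List.mem_range.2 (by omega))
    rw [List.all_eq_true] at h1
    have h2 := h1 j.val (List.mem_range.2 j.isLt)
    rw [show 24 * (k / 24) + k % 24 = k by omega, Bool.and_eq_true, decide_eq_true_eq, beq_iff_eq] at h2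
    refine ⟨nextIdx k j.val, h2.1, ?_⟩
    rw [Tori.lmat_mul C6 (sigma_mem i), Tori.lmat_sigma, ← imMul_ofMat rank_six, smat_eq, hp, ← hj]
    exact h2.2
  induction hπ using Subgroup.closure_induction_left with
  | one => exact ⟨0, by norm_num, by rw [Tori.lmat_one, ofMat_one rank_six, stab_zero]⟩
  | mul_left x hx p _ ih =>
    obtain ⟨i, hi, rfl⟩ := hx
    exact hstep i hi p ih
  | inv_mul_cancel x hx p _ ih =>
    obtain ⟨i, hi, rfl⟩ := hx
    rw [inv_eq_of_mul_eq_one_right (show C6.W.sigma i * C6.W.sigma i = 1 from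
      Equiv.ext fun r => (C6.axioms (F := ℚ)).sigma_sigma i r)]
    exact hstep i hi p ih

theorem exists_orb (r : Fin chevE6.nroots) :
    ∃ (i : ℕ) (r0 : Fin chevE6.nroots), i < 5 ∧ cvL r0.val = cvL (repIdx i) ∧ ∃ u ∈ stab, u r0 = r := by
  have h := orbOK_all r.val (lt_of_lt_of_eq r.isLt nroots_E6)
  simp only [orbOK, Bool.and_eq_true, decide_eq_true_eq, List.all_eq_true, beq_iff_eq] at h
  obtain ⟨⟨hi, hw⟩, hr⟩ := h
  set i := (orbTab.getD r.val (0, [])).1
  set w := (orbTab.getD r.val (0, [])).2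
  have hrep := repOK_all i hi
  simp only [repOK, Bool.and_eq_true, decide_eq_true_eq] at hrep
  refine ⟨i, ⟨repIdx i, by rw [nroots_E6]; exact hrep.1.1.1⟩, hi, rfl, ?_⟩
  suffices H : ∀ (w : List ℕ), (∀ j ∈ w, j < 5) → ∀ r0 r1 : Fin chevE6.nroots,
      w.foldl (fun v j => rowApply (sL (jIdx j)) v) (cvL r0.val) = cvL r1.val → ∃ u ∈ stab, u r0 = r1 from
    H w hw _ r hr
  intro w
  induction w with
  | nil => exact fun _ r0 r1 e => ⟨1, one_mem _, root_ext e⟩
  | cons a w ih =>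
    intro hw r0 r1 e
    have ha := hw a List.mem_cons_self
    let s : Fin chevE6.rank := ⟨jIdx a, by rw [rank_six]; exact jIdx_lt a ha⟩
    have hs : s ∈ Js := by
      show jIdx a ≠ 1
      interval_cases a <;> decide
    rw [List.foldl_cons, show jIdx a = s.val from rfl, ← cvL_sigma] at e
    obtain ⟨u, hu, hu'⟩ := ih (fun j hj => hw j (List.mem_cons_of_mem _ hj)) _ r1 e
    exact ⟨u * C6.W.sigma s, mul_mem hu (Subgroup.subset_closure ⟨s, hs, rfl⟩), hu'⟩

theorem exists_rep {i : ℕ} (hi : i < 5) {r0 : Fin chevE6.nroots} (hr0 : cvL r0.val = cvL (repIdx i)) :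
    ∃ g ∈ Tori.wgrp C6, ofMat (Tori.lmat C6 g) = repMats.getD i [] ∧ g top = r0 := by
  have hrep := repOK_all i hi
  simp only [repOK, Bool.and_eq_true, decide_eq_true_eq, List.all_eq_true, beq_iff_eq] at hrep
  obtain ⟨⟨⟨-, hw⟩, hmat⟩, htop⟩ := hrep
  set w := repWords.getD i []
  obtain ⟨g, hg, hgm⟩ : ∃ g ∈ Tori.wgrp C6,
      ofMat (Tori.lmat C6 g) = w.foldr (fun j acc => imMul (sL j) acc) imOne := by
    clear_value w; clear hmat htop
    induction w with
    | nil => exact ⟨1, one_mem _, by rw [Tori.lmat_one, ofMat_one rank_six]; rfl⟩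
    | cons a w ih =>
      obtain ⟨g, hg, hgm⟩ := ih fun j hj => hw j (List.mem_cons_of_mem _ hj)
      let s : Fin chevE6.rank := ⟨a, by rw [rank_six]; exact hw a List.mem_cons_self⟩
      refine ⟨C6.W.sigma s * g, mul_mem (sigma_mem s) hg, ?_⟩
      rw [List.foldr_cons, ← hgm, Tori.lmat_mul C6 (sigma_mem s), Tori.lmat_sigma, ← imMul_ofMat rank_six,
        smat_eq]
  rw [hmat] at hgm
  refine ⟨g, hg, hgm, root_ext ?_⟩
  rw [hr0, ← htop, ← hgm, ← cvL_eq (g top), ← Tori.lmat_spec C6 hg, ← rowApply_ofMat rank_six, cvL_eq]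
  rfl

theorem mem_stab {π : Equiv.Perm (Fin chevE6.nroots)} (hπ : π ∈ Tori.wgrp C6) (h : π top = top) :
    π ∈ stab := by
  have hv : (fun j : Fin chevE6.rank => H52.tablesE6.co 71 j.val) = Tori.cov C6 top := rfl
  have htw : ∀ i : Fin chevE6.rank,
      (Tori.cmat chevE6 *ᵥ Tori.cov C6 top) i = if i.val = 1 then 1 else 0 :=
    fun i => hv ▸ top_weight i
  have h1 := Tori.mem_closure_of_fix C6 hsym6 hπ (v := Tori.cov C6 top)
    (fun i => by rw [htw]; split_ifs <;> norm_num) (by rw [Tori.lmat_spec C6 hπ, h])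
  refine Subgroup.closure_mono (Set.image_mono fun i hi => ?_) h1
  simp only [Set.mem_setOf_eq, htw] at hi
  intro hc
  simp [hc] at hi

/-- The conjugacy reduction to the certified products. -/
theorem exists_cert {π : Equiv.Perm (Fin chevE6.nroots)} (hπ : π ∈ Tori.wgrp C6) :
    ∃ u ∈ Tori.wgrp C6, ∃ i k, i < 5 ∧ k < 720 ∧
      ofMat (Tori.lmat C6 (u⁻¹ * π * u)) = imMul (repMats.getD i []) (stabMat k) := by
  obtain ⟨i, r0, hi, hr0, u, hu, hur⟩ := exists_orb (π top)
  obtain ⟨g, hg, hgm, hgt⟩ := exists_rep hi hr0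
  have huW := stab_le hu
  have hs : g⁻¹ * u⁻¹ * π ∈ stab := by
    refine mem_stab (mul_mem (mul_mem (inv_mem hg) (inv_mem huW)) hπ) ?_
    rw [Equiv.Perm.mul_apply, Equiv.Perm.mul_apply, ← hur, Equiv.Perm.inv_def, Equiv.Perm.inv_def,
      Equiv.symm_apply_apply, ← hgt, Equiv.symm_apply_apply]
  obtain ⟨k, hk, hkm⟩ := closure_mat (mul_mem hs hu)
  refine ⟨u, huW, i, k, hi, hk, ?_⟩
  rw [show u⁻¹ * π * u = g * (g⁻¹ * u⁻¹ * π * u) by group, Tori.lmat_mul C6 hg, ← imMul_ofMat rank_six,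
    hgm, hkm]

end H34.E6Cox
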