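import Cfsg.Agent.H34.E6CoxTables

/-! Orbit words and the closure of the stabiliser table (generated). -/

set_option autoImplicit false
set_option maxRecDepth 100000

namespace H34.E6Cox

def sTab : List IMat := [
  [[-1, 0, 1, 0, 0, 0], [0, 1, 0, 0, 0, 0], [0, 0, 1, 0, 0, 0], [0, 0, 0, 1, 0, 0], [0, 0, 0, 0, 1, 0], [0, 0, 0, 0, 0, 1]],
  [[1, 0, 0, 0, 0, 0], [0, -1, 0, 1, 0, 0], [0, 0, 1, 0, 0, 0], [0, 0, 0, 1, 0, 0], [0, 0, 0, 0, 1, 0], [0, 0, 0, 0, 0, 1]],
  [[1, 0, 0, 0, 0, 0], [0, 1, 0, 0, 0, 0], [1, 0, -1, 1, 0, 0], [0, 0, 0, 1, 0, 0], [0, 0, 0, 0, 1, 0], [0, 0, 0, 0, 0, 1]],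
  [[1, 0, 0, 0, 0, 0], [0, 1, 0, 0, 0, 0], [0, 0, 1, 0, 0, 0], [0, 1, 1, -1, 1, 0], [0, 0, 0, 0, 1, 0], [0, 0, 0, 0, 0, 1]],
  [[1, 0, 0, 0, 0, 0], [0, 1, 0, 0, 0, 0], [0, 0, 1, 0, 0, 0], [0, 0, 0, 1, 0, 0], [0, 0, 0, 1, -1, 1], [0, 0, 0, 0, 0, 1]],
  [[1, 0, 0, 0, 0, 0], [0, 1, 0, 0, 0, 0], [0, 0, 1, 0, 0, 0], [0, 0, 0, 1, 0, 0], [0, 0, 0, 0, 1, 0], [0, 0, 0, 0, 1, -1]]]

def sL (i : ℕ) : IMat := sTab.getD i []

def jIdx (j : ℕ) : ℕ := [0, 2, 3, 4, 5].getD j 0

def repIdx (i : ℕ) : ℕ := [0, 25, 15, 46, 71].getD i 0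

def repWords : List (List ℕ) := [repWord0, repWord1, repWord2, repWord3, repWord4]

def repMats : List IMat := [repMat0, repMat1, repMat2, repMat3, repMat4]

def repCerts : List (List (List ℕ)) := [cert0, cert1, cert2, cert3, cert4]

def orbTab : List (ℕ × List ℕ) := [
  (0, []),
  (1, [2, 1, 0, 3, 2, 1, 4, 3, 2]),
  (1, [2, 1, 0, 3, 2, 1, 4, 3]),
  (1, [2, 1, 0, 3, 2, 1, 4]),
  (1, [2, 1, 0, 3, 2, 1]),
  (1, [2, 1, 0, 3, 2, 4, 3]),
  (1, [2, 1, 0, 3, 2, 4]),
  (1, [2, 1, 0, 3, 2]),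
  (1, [2, 1, 0, 3, 4]),
  (1, [2, 1, 0, 3]),
  (1, [2, 1, 0]),
  (2, [1, 2, 3, 4]),
  (2, [1, 2, 3]),
  (2, [1, 2]),
  (2, [1]),
  (2, []),
  (1, [2, 1, 3, 2, 4, 3]),
  (1, [2, 1, 3, 2, 4]),
  (1, [2, 1, 3, 2]),
  (1, [2, 1, 3, 4]),
  (1, [2, 1, 3]),
  (1, [2, 1]),
  (1, [2, 3, 4]),
  (1, [2, 3]),
  (1, [2]),
  (1, []),
  (2, [1, 0, 2, 3, 4]),
  (2, [1, 0, 2, 3]),
  (2, [1, 0, 2]),
  (2, [1, 0]),
  (2, [1, 0, 2, 1, 3, 4]),
  (2, [1, 0, 2, 1, 3]),
  (2, [1, 0, 2, 1]),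
  (2, [1, 0, 2, 1, 3, 2, 4]),
  (2, [1, 0, 2, 1, 3, 2]),
  (2, [1, 0, 2, 1, 3, 2, 4, 3]),
  (2, [0, 1, 0, 2, 1, 3, 2, 4, 3]),
  (2, [0, 1, 0, 2, 1, 3, 2]),
  (2, [0, 1, 0, 2, 1, 3, 2, 4]),
  (2, [0, 1, 0, 2, 1]),
  (2, [0, 1, 0, 2, 1, 3]),
  (2, [0, 1, 0, 2, 1, 3, 4]),
  (2, [0, 1, 0]),
  (2, [0, 1, 0, 2]),
  (2, [0, 1, 0, 2, 3]),
  (2, [0, 1, 0, 2, 3, 4]),
  (3, []),
  (3, [2]),
  (3, [2, 3]),
  (3, [2, 3, 4]),
  (3, [2, 1]),
  (3, [2, 1, 3]),
  (3, [2, 1, 3, 4]),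
  (3, [2, 1, 3, 2]),
  (3, [2, 1, 3, 2, 4]),
  (3, [2, 1, 3, 2, 4, 3]),
  (2, [0]),
  (2, [0, 1]),
  (2, [0, 1, 2]),
  (2, [0, 1, 2, 3]),
  (2, [0, 1, 2, 3, 4]),
  (3, [2, 1, 0]),
  (3, [2, 1, 0, 3]),
  (3, [2, 1, 0, 3, 4]),
  (3, [2, 1, 0, 3, 2]),
  (3, [2, 1, 0, 3, 2, 4]),
  (3, [2, 1, 0, 3, 2, 4, 3]),
  (3, [2, 1, 0, 3, 2, 1]),
  (3, [2, 1, 0, 3, 2, 1, 4]),
  (3, [2, 1, 0, 3, 2, 1, 4, 3]),
  (3, [2, 1, 0, 3, 2, 1, 4, 3, 2]),
  (4, [])]

/-- The closure of one block of the table under the five reflections. -/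
def closeOK (b : ℕ) : Bool :=
  (List.range 24).all fun o => (List.range 5).all fun j =>
    decide (nextIdx (24 * b + o) j < 720) &&
      imMul (sL (jIdx j)) (stabMat (24 * b + o)) == stabMat (nextIdx (24 * b + o) j)

theorem close_0 : closeOK 0 = true := by decide +kernel
theorem close_1 : closeOK 1 = true := by decide +kernel
theorem close_2 : closeOK 2 = true := by decide +kernel
theorem close_3 : closeOK 3 = true := by decide +kernel
theorem close_4 : closeOK 4 = true := by decide +kernel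
theorem close_5 : closeOK 5 = true := by decide +kernel
theorem close_6 : closeOK 6 = true := by decide +kernel
theorem close_7 : closeOK 7 = true := by decide +kernel
theorem close_8 : closeOK 8 = true := by decide +kernel
theorem close_9 : closeOK 9 = true := by decide +kernel
theorem close_10 : closeOK 10 = true := by decide +kernel
theorem close_11 : closeOK 11 = true := by decide +kernel
theorem close_12 : closeOK 12 = true := by decide +kernel
theorem close_13 : closeOK 13 = true := by decide +kernel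
theorem close_14 : closeOK 14 = true := by decide +kernel
theorem close_15 : closeOK 15 = true := by decide +kernel
theorem close_16 : closeOK 16 = true := by decide +kernel
theorem close_17 : closeOK 17 = true := by decide +kernel
theorem close_18 : closeOK 18 = true := by decide +kernel
theorem close_19 : closeOK 19 = true := by decide +kernel
theorem close_20 : closeOK 20 = true := by decide +kernel
theorem close_21 : closeOK 21 = true := by decide +kernel
theorem close_22 : closeOK 22 = true := by decide +kernel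
theorem close_23 : closeOK 23 = true := by decide +kernel
theorem close_24 : closeOK 24 = true := by decide +kernel
theorem close_25 : closeOK 25 = true := by decide +kernel
theorem close_26 : closeOK 26 = true := by decide +kernel
theorem close_27 : closeOK 27 = true := by decide +kernel
theorem close_28 : closeOK 28 = true := by decide +kernel
theorem close_29 : closeOK 29 = true := by decide +kernel

theorem close_all : ∀ b, b < 30 → closeOK b = true := by
  intro b hb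
  interval_cases b
  · exact close_0
  · exact close_1
  · exact close_2
  · exact close_3
  · exact close_4
  · exact close_5
  · exact close_6
  · exact close_7
  · exact close_8
  · exact close_9
  · exact close_10
  · exact close_11
  · exact close_12
  · exact close_13
  · exact close_14
  · exact close_15
  · exact close_16
  · exact close_17
  · exact close_18
  · exact close_19
  · exact close_20
  · exact close_21
  · exact close_22
  · exact close_23
  · exact close_24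
  · exact close_25
  · exact close_26
  · exact close_27
  · exact close_28
  · exact close_29

end H34.E6Cox
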