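import Cfsg.Agent.H34.RegularTorus
import Cfsg.Agent.H13.BT.Level

/-!
Stabilisers in the Weyl group, for the bilinear form given by a symmetric Cartan matrix.
-/

set_option autoImplicit false
set_option linter.unusedSectionVars false

open Cfsg.Lie
open Matrix

namespace H34.Tori

variable {D : ChevalleyDatum} (C : H54.Ctx D)

theorem lmat_sigma (i : Fin D.rank) : lmat C (C.W.sigma i) = smat D i := by
  ext j k
  rw [lmat, Matrix.of_apply, cov_sigma, cov_simple, Matrix.mulVec_single_one]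
  rfl

theorem lmat_wperm (L : List (Fin D.rank)) : lmat C (C.wperm L) = (L.map (smat D)).prod := by
  induction L with
  | nil => rw [H54.Ctx.wperm_nil, lmat_one]; rfl
  | cons i L ih =>
    rw [H54.Ctx.wperm_cons, lmat_mul C (π := C.W.sigma i) (Subgroup.subset_closure ⟨i, rfl⟩), lmat_sigma, ih,
      List.map_cons, List.prod_cons]

variable (hsym : ∀ i, (smat D i)ᵀ * cmat D * smat D i = cmat D)
include hsym

theorem lmat_isom {π : Equiv.Perm (Fin D.nroots)} (hπ : π ∈ wgrp C) :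
    (lmat C π)ᵀ * cmat D * lmat C π = cmat D := by
  obtain ⟨L, rfl⟩ := C.exists_wperm hπ
  rw [lmat_wperm]
  clear hπ
  induction L with
  | nil => simp
  | cons i L ih =>
    rw [List.map_cons, List.prod_cons, Matrix.transpose_mul]
    calc ((L.map (smat D)).prod)ᵀ * (smat D i)ᵀ * cmat D * (smat D i * (L.map (smat D)).prod)
        = ((L.map (smat D)).prod)ᵀ * ((smat D i)ᵀ * cmat D * smat D i) * (L.map (smat D)).prod := by
          simp only [Matrix.mul_assoc]
      _ = _ := by rw [hsym, ih]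

/-- The pairing of two lattice vectors. -/
def bform (x y : Fin D.rank → ℤ) : ℤ := x ⬝ᵥ (cmat D *ᵥ y)

theorem bform_isom {π : Equiv.Perm (Fin D.nroots)} (hπ : π ∈ wgrp C) (x y : Fin D.rank → ℤ) :
    bform (lmat C π *ᵥ x) (lmat C π *ᵥ y) = bform x y := by
  have h := lmat_isom C hsym hπ
  unfold bform
  rw [Matrix.mulVec_mulVec, Matrix.dotProduct_mulVec, ← Matrix.vecMul_transpose, Matrix.vecMul_vecMul,
    ← Matrix.mul_assoc, h, ← Matrix.dotProduct_mulVec]

/-- The weight of a lattice vector. -/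
noncomputable def wt (v : Fin D.rank → ℤ) : Fin D.rank → ℝ := fun j => (((cmat D *ᵥ v) j : ℤ) : ℝ)

omit hsym in
theorem rv_wt (v : Fin D.rank → ℤ) (r : Fin D.nroots) :
    H13.BT.rv C (wt v) r.val = ((bform (cov C r) v : ℤ) : ℝ) := by
  rw [bform, dotProduct, Int.cast_sum, H13.BT.rv]
  exact Finset.sum_congr rfl fun j _ => by simp [cov, wt]

theorem rv_wt_perm {π : Equiv.Perm (Fin D.nroots)} (hπ : π ∈ wgrp C) {v : Fin D.rank → ℤ}
    (hv : lmat C π *ᵥ v = v) (r : Fin D.nroots) :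
    H13.BT.rv C (wt v) (π r).val = H13.BT.rv C (wt v) r.val := by
  rw [rv_wt, rv_wt, ← lmat_spec C hπ]
  conv_lhs => rw [← hv]
  rw [bform_isom C hsym hπ]

/-- The stabiliser of a dominant lattice vector is generated by the fundamental reflections fixing it. -/
theorem mem_closure_of_fix {π : Equiv.Perm (Fin D.nroots)} (hπ : π ∈ wgrp C) {v : Fin D.rank → ℤ}
    (hdom : ∀ i, 0 ≤ (cmat D *ᵥ v) i) (hv : lmat C π *ᵥ v = v) :
    π ∈ Subgroup.closure (C.W.sigma '' {i | (cmat D *ᵥ v) i = 0}) := by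
  obtain ⟨L, rfl⟩ := C.exists_wperm hπ
  have hd : ∀ i, 0 ≤ wt v i := fun i => Int.cast_nonneg (hdom i)
  have hpull : H13.BT.pull C L (wt v) = wt v := by
    funext j
    rw [H13.BT.pull, rv_wt_perm C hsym hπ hv, C.W.simple_eq, H13.BT.rv_simple]
  obtain ⟨-, L', hL', h0⟩ := H13.BT.dominant_unique C hd L (by rw [hpull]; exact hd)
  rw [← hL']
  refine list_prod_mem fun g hg => ?_
  obtain ⟨i, hi, rfl⟩ := List.mem_map.1 hg
  refine Subgroup.subset_closure ⟨i, ?_, rfl⟩
  have := h0 i hi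
  exact Int.cast_eq_zero.1 this

/-- A regular lattice vector has trivial stabiliser. -/
theorem eq_one_of_fix_regular {π : Equiv.Perm (Fin D.nroots)} (hπ : π ∈ wgrp C) {v : Fin D.rank → ℤ}
    (hreg : ∀ r, bform (cov C r) v ≠ 0) (hv : lmat C π *ᵥ v = v) : π = 1 := by
  obtain ⟨L0, hL0⟩ := H13.BT.exists_dominant C (wt v)
  obtain ⟨L, rfl⟩ := C.exists_wperm hπ
  set σ := C.wperm L0
  set L1 := L0.reverse ++ L ++ L0
  have hw : C.wperm L1 = σ⁻¹ * C.wperm L * σ := by
    rw [H54.Ctx.wperm_append, H54.Ctx.wperm_append, C.wperm_reverse]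
  set u := H13.BT.pull C L0 (wt v) with hu
  have hpull : H13.BT.pull C L1 u = u := by
    funext j
    rw [H13.BT.pull, ← H13.BT.rv_pull, hw]
    rw [show σ ((σ⁻¹ * C.wperm L * σ) (C.W.data.simple j)) = C.wperm L (σ (C.W.data.simple j)) by
      simp [Equiv.Perm.mul_apply, σ], rv_wt_perm C hsym hπ hv]
    rfl
  obtain ⟨-, L', hL', h0⟩ := H13.BT.dominant_unique C hL0 L1 (by rw [hpull]; exact hL0)
  have hnil : L' = [] := by
    refine List.eq_nil_iff_forall_not_mem.2 fun i hi => ?_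
    have h1 := h0 i hi
    rw [hu, H13.BT.pull, rv_wt, Int.cast_eq_zero] at h1
    exact hreg _ h1
  rw [hnil, H54.Ctx.wperm_nil, hw] at hL'
  calc C.wperm L = σ * (σ⁻¹ * C.wperm L * σ) * σ⁻¹ := by group
    _ = 1 := by rw [← hL']; group

omit hsym in
/-- An element fixing a weight of prime order `ℓ` fixes the orbit of a vector not killed by the weight. -/
theorem stab_orbit {ℓ : ℕ} (hl : ℓ.Prime) (hlr : D.rank + 1 < ℓ) {N : ℕ} {q : ℤ}
    {π₀ : Equiv.Perm (Fin D.nroots)} (hπ₀ : π₀ ∈ wgrp C)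
    {f : Fin D.rank → ZMod N} (hf0 : f ≠ 0) (hlf : ℓ • f = 0)
    (hf : f ᵥ* toZ N (lmat C π₀) = (q : ZMod N) • f) :
    ∀ π ∈ wgrp C, (∀ r, rval C f (π r) = rval C f r) → ∃ v : Fin D.rank → ℤ,
      (f ⬝ᵥ fun j => (v j : ZMod N)) ≠ 0 ∧ ∀ k : ℕ, lmat C π *ᵥ ((lmat C π₀ ^ k) *ᵥ v) = (lmat C π₀ ^ k) *ᵥ v := by
  classical
  have hrπ : ∀ r, rval C f (π₀ r) = (q : ZMod N) * rval C f r := fun r => by
    rw [← rval_vecMul C hπ₀, hf, rval_smul]
  let Sf : Subgroup (Equiv.Perm (Fin D.nroots)) :=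
    { carrier := {π | π ∈ wgrp C ∧ ∀ r, rval C f (π r) = rval C f r}
      one_mem' := ⟨one_mem _, fun r => rfl⟩
      mul_mem' := fun {a b} ha hb => ⟨mul_mem ha.1 hb.1, fun r => by
        rw [Equiv.Perm.mul_apply, ha.2, hb.2]⟩
      inv_mem' := fun {a} ha => ⟨inv_mem ha.1, fun r => by
        conv_rhs => rw [← Equiv.apply_symm_apply a r]
        rw [ha.2]; rfl⟩ }
  have hcop : ¬ ℓ ∣ Nat.card ↥Sf := fun hd => by
    have := Fact.mk hl
    obtain ⟨x, hx⟩ := exists_prime_orderOf_dvd_card' (G := ↥Sf) ℓ hd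
    have h1 : lmat C (x : Equiv.Perm (Fin D.nroots)) = 1 := by
      refine eq_one_of_pow_prime hl hlr ?_
      rw [← lmat_pow C x.2.1, ← SubgroupClass.coe_pow, ← hx, pow_orderOf_eq_one]
      exact lmat_one C
    have h2 : x = 1 := Subtype.ext (eq_one_of_lmat C x.2.1 h1)
    rw [h2, orderOf_one] at hx
    exact hl.ne_one hx.symm
  obtain ⟨i, hi⟩ : ∃ i, f i ≠ 0 := by
    by_contra hall
    push Not at hall
    exact hf0 (funext hall)
  have := Fintype.ofFinite ↥Sf
  let avg : Fin D.nroots → (Fin D.rank → ℤ) := fun r => ∑ π : ↥Sf, cov C ((π : Equiv.Perm _) r)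
  have hM1 : ∀ r, lmat C π₀ *ᵥ avg r = avg (π₀ r) := by
    intro r
    rw [Matrix.mulVec_sum]
    simp only [lmat_spec C hπ₀]
    let φ : ↥Sf → ↥Sf := fun π => ⟨π₀ * π * π₀⁻¹, mul_mem (mul_mem hπ₀ π.2.1) (inv_mem hπ₀), fun s => by
      rw [Equiv.Perm.mul_apply, Equiv.Perm.mul_apply, hrπ, π.2.2, ← hrπ]
      exact congrArg _ (Equiv.apply_symm_apply π₀ s)⟩
    have hφ : Function.Injective φ := fun a b hab => by
      have := congrArg (Subtype.val) hab
      exact Subtype.ext (mul_left_cancel (mul_right_cancel this))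
    refine Fintype.sum_bijective φ (Finite.injective_iff_bijective.1 hφ) _ _ fun π => ?_
    simp [φ]
  have hMk : ∀ k r, (lmat C π₀ ^ k) *ᵥ avg r = avg ((π₀ ^ k) r) := by
    intro k
    induction k with
    | zero => intro r; simp
    | succ k ih => intro r; rw [pow_succ', ← Matrix.mulVec_mulVec, ih, hM1, pow_succ']; rfl
  have hne : (f ⬝ᵥ fun j => ((avg (simpleF C i) j : ℤ) : ZMod N)) ≠ 0 := by
    intro h1
    have h2 : (f ⬝ᵥ fun j => ((avg (simpleF C i) j : ℤ) : ZMod N)) =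
        ∑ π : ↥Sf, rval C f ((π : Equiv.Perm _) (simpleF C i)) := by
      simp only [rval, dotProduct, avg, Finset.sum_apply, Int.cast_sum, Finset.mul_sum]
      exact Finset.sum_comm
    rw [h2, Finset.sum_congr rfl (fun π _ => (π : ↥Sf).2.2 (simpleF C i)), Finset.sum_const,
      Finset.card_univ, rval_simple, ← Nat.card_eq_fintype_card] at h1
    refine hi (congrFun (eq_zero_of_smul (r := 1) hl (f := fun _ => f i) ?_ (a := (Nat.card ↥Sf : ℤ))
      (fun hd => hcop (Int.natCast_dvd_natCast.1 hd)) ?_) 0)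
    · exact funext fun _ => congrFun hlf i
    · funext a
      simpa [nsmul_eq_mul] using h1
  intro π h1 h2
  have hπ : π ∈ Sf := ⟨h1, h2⟩
  refine ⟨_, hne, fun k => ?_⟩
  rw [hMk, Matrix.mulVec_sum]
  simp only [lmat_spec C h1]
  exact Fintype.sum_bijective (fun σ : ↥Sf => ⟨π, hπ⟩ * σ) (Group.mulLeft_bijective _) _ _ fun σ => rfl

omit hsym in
/-- A group of Weyl elements fixing a weight of prime order `ℓ` is trivial, when every element fixing the whole
orbit of a vector not killed by the weight is trivial. -/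
theorem stab_trivial {ℓ : ℕ} (hl : ℓ.Prime) (hlr : D.rank + 1 < ℓ) {N : ℕ} {q : ℤ}
    {π₀ : Equiv.Perm (Fin D.nroots)} (hπ₀ : π₀ ∈ wgrp C)
    {f : Fin D.rank → ZMod N} (hf0 : f ≠ 0) (hlf : ℓ • f = 0)
    (hf : f ᵥ* toZ N (lmat C π₀) = (q : ZMod N) • f)
    (hkey : ∀ v : Fin D.rank → ℤ, (f ⬝ᵥ fun j => (v j : ZMod N)) ≠ 0 → ∀ π ∈ wgrp C,
      (∀ k : ℕ, lmat C π *ᵥ ((lmat C π₀ ^ k) *ᵥ v) = (lmat C π₀ ^ k) *ᵥ v) → π = 1) :
    ∀ π ∈ wgrp C, (∀ r, rval C f (π r) = rval C f r) → π = 1 := fun π hπ h => by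
  obtain ⟨v, hv, hv'⟩ := stab_orbit C hl hlr hπ₀ hf0 hlf hf π hπ h
  exact hkey v hv π hπ hv'

omit hsym in
/-- A weight fixed by no non-trivial Weyl element is regular. -/
theorem rval_ne_zero {N : ℕ} {f : Fin D.rank → ZMod N}
    (hfix : ∀ π ∈ wgrp C, (∀ r, rval C f (π r) = rval C f r) → π = 1) (r : Fin D.nroots) :
    rval C f r ≠ 0 := by
  intro hr0
  obtain ⟨π, hπ, i, rfl⟩ := exists_conj_simple C r
  have hs : C.W.sigma i ∈ wgrp C := Subgroup.subset_closure ⟨i, rfl⟩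
  have h1 := hfix (π * C.W.sigma i * π⁻¹) (mul_mem (mul_mem hπ hs) (inv_mem hπ)) fun s => by
    obtain ⟨x, rfl⟩ : ∃ x, π x = s := ⟨π.symm s, π.apply_symm_apply s⟩
    rw [Equiv.Perm.mul_apply, Equiv.Perm.mul_apply, show π⁻¹ (π x) = x from π.symm_apply_apply x]
    rw [← rval_vecMul C hπ, ← rval_vecMul C hπ, rval, rval, cov_sigma, smat_mulVec]
    set g := f ᵥ* toZ N (lmat C π)
    have hg : g i = 0 := by rw [← rval_simple C g i, rval_vecMul C hπ, hr0]
    simp only [dotProduct, Pi.sub_apply, Pi.smul_apply, Pi.single_apply, smul_eq_mul, Int.cast_sub,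
      mul_sub, Finset.sum_sub_distrib]
    rw [sub_eq_self]
    refine Finset.sum_eq_zero fun j _ => ?_
    by_cases hj : j = i
    · rw [hj, hg, zero_mul]
    · simp [hj]
  have h2 : C.W.sigma i = 1 := by
    calc C.W.sigma i = π⁻¹ * (π * C.W.sigma i * π⁻¹) * π := by group
      _ = 1 := by rw [h1]; group
  have h3 := congrArg (fun z : Equiv.Perm (Fin D.nroots) => (z (simpleF C i)).val) h2
  simp only [C.sigma_val, Equiv.Perm.one_apply] at h3
  have hlt := C.hC.simple_lt i.isLt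
  rw [show D.reflectRoot i.val (simpleF C i).val = D.neg (D.simple i.val) from C.hC.reflect_simple i.isLt,
    C.hC.neg_eq hlt] at h3
  simp only [simpleF] at h3
  have := C.W.half
  omega

end H34.Tori
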