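import Cfsg.Agent.H34.E6CoxClosure
import Cfsg.Agent.H34.RegularTorusWeyl
import Cfsg.Agent.H52.DataE6
import Cfsg.Agent.H53.ChevWeyl
import Cfsg.Agent.H54.RootChar

/-!
The tables of the cosets of the stabiliser of the highest root, read in the data of type E6.
-/

set_option autoImplicit false
set_option maxRecDepth 100000

open Cfsg.Lie
open Matrix

namespace H34.E6Cox

/-- The context of type E6. -/
def C6 : H54.Ctx chevE6 := ⟨H52.tablesE6, H52.checkedE6, H53.weylForE6, H54.chainOK_E6⟩

/-- An integer matrix as a list of rows. -/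
def ofMat {n : ℕ} (M : Matrix (Fin n) (Fin n) ℤ) : IMat := List.ofFn fun i => List.ofFn (M i)

/-- The coefficient list of a root. -/
def cvL (r : ℕ) : List ℤ := (List.range 6).map fun j => H52.tablesE6.co r j

theorem rank_six : chevE6.rank = 6 := rfl

theorem nroots_E6 : chevE6.nroots = 72 := rfl

theorem cvL_eq (r : Fin chevE6.nroots) : List.ofFn (Tori.cov C6 r) = cvL r.val := rfl

theorem smat_eq : ∀ i : Fin chevE6.rank, ofMat (Tori.smat chevE6 i) = sL i.val := by decide +kernel

theorem hsym6 : ∀ i : Fin chevE6.rank,
    (Tori.smat chevE6 i)ᵀ * Tori.cmat chevE6 * Tori.smat chevE6 i = Tori.cmat chevE6 := by decide +kernel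

theorem cmat_symm : (Tori.cmat chevE6)ᵀ = Tori.cmat chevE6 := by decide +kernel

/-- The coefficients of the product of a row with an integer matrix. -/
def rowApply (X : IMat) (v : List ℤ) : List ℤ := X.map fun r => (List.zipWith (· * ·) r v).sum

/-- Check that every root has its form among the tabulated ones, up to sign. -/
def formOK (r : ℕ) : Bool :=
  let w := rowMul (cvL r) ((List.range 6).map fun i => (List.range 6).map fun j =>
    chevE6.cartan i (chevE6.simple j))
  rootForms.contains w || rootForms.contains (w.map fun x => -x)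

theorem cmat_eq : ofMat (Tori.cmat chevE6) =
    (List.range 6).map fun i => (List.range 6).map fun j => chevE6.cartan i (chevE6.simple j) := by
  decide +kernel

theorem formOK_all : ∀ r, r < 72 → formOK r = true := by decide +kernel

/-- Check one orbit word. -/
def orbOK (r : ℕ) : Bool :=
  let e := orbTab.getD r (0, [])
  decide (e.1 < 5) && e.2.all (fun j => decide (j < 5)) &&
    e.2.foldl (fun v j => rowApply (sL (jIdx j)) v) (cvL (repIdx e.1)) == cvL r

theorem orbOK_all : ∀ r, r < 72 → orbOK r = true := by decide +kernel

/-- Check the representative of one coset. -/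
def repOK (i : ℕ) : Bool :=
  decide (repIdx i < 72) && (repWords.getD i []).all (fun j => decide (j < 6)) &&
    (repWords.getD i []).foldr (fun j acc => imMul (sL j) acc) imOne == repMats.getD i [] &&
    rowApply (repMats.getD i []) (cvL 71) == cvL (repIdx i)

theorem repOK_all : ∀ i, i < 5 → repOK i = true := by decide +kernel

theorem jIdx_lt : ∀ j, j < 5 → jIdx j < 6 := by decide

theorem top_weight : ∀ i : Fin chevE6.rank,
    (Tori.cmat chevE6 *ᵥ (fun j : Fin chevE6.rank => H52.tablesE6.co 71 j.val)) i =
      if i.val = 1 then 1 else 0 := by decide +kernel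

theorem jIdx_surj : ∀ i : Fin chevE6.rank, i.val ≠ 1 → ∃ j : Fin 5, jIdx j.val = i.val := by
  decide +kernel

theorem jIdx_fix : ∀ j : Fin 5, rowApply (sL (jIdx j.val)) (cvL 71) = cvL 71 := by decide +kernel

theorem stab_zero : stabMat 0 = imOne := by decide +kernel

theorem imOne_eq : ofMat (1 : Matrix (Fin 6) (Fin 6) ℤ) = imOne := by decide +kernel

end H34.E6Cox
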