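import Cfsg.Agent.H34.E6Cox
import Mathlib.RingTheory.Polynomial.Cyclotomic.Expand

/-!
An element of the Weyl group of type E6 having a primitive twelfth root of unity as eigenvalue modulo a prime:
its polynomial, regularity of the eigenweight and triviality of the stabiliser of the latter.
-/

set_option autoImplicit false
set_option linter.unusedSectionVars false

open Cfsg.Lie
open Matrix Polynomial

attribute [local irreducible] Cfsg.Lie.chevE6

namespace H34.E6Cox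

/-- The polynomial of the torus. -/
noncomputable def pol : ℤ[X] := cyclotomic 12 ℤ * cyclotomic 3 ℤ

theorem cyclo12_eq : cyclotomic 12 ℤ = X ^ 4 - X ^ 2 + 1 := by
  rw [show (12 : ℕ) = 6 * 2 from rfl,
    ← cyclotomic_expand_eq_cyclotomic Nat.prime_two (by norm_num : 2 ∣ 6) ℤ, cyclotomic_six]
  simp [Polynomial.expand_X]
  ring

theorem pol_eq : pol = X ^ 6 + X ^ 5 - X ^ 3 + X + 1 := by
  rw [pol, cyclo12_eq, cyclotomic_three]
  ring

theorem natDegree_pol : pol.natDegree = 6 := by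
  rw [pol, (cyclotomic.monic 12 ℤ).natDegree_mul (cyclotomic.monic 3 ℤ), natDegree_cyclotomic,
    natDegree_cyclotomic]
  rfl

variable {n : ℕ}

theorem cert_cases (hn : n = 6) {M : Matrix (Fin n) (Fin n) ℤ} {c : ℕ} (h : certOK (ofMat M) c = true) :
    (∃ k ∈ ([5, 8, 9, 10] : List ℕ), M ^ k = 1) ∨ M ^ 8 + M ^ 6 = M ^ 2 + 1 ∨
      (c = 1 ∧ M ^ 6 + M ^ 5 + (M + 1) = M ^ 3 ∧ M ^ 4 + 1 ≠ M ^ 2 ∧
        ∀ y : Fin n → ℤ, List.ofFn y ∈ rootForms → y ᵥ* (M ^ 2 + M + 1) ≠ 0) := by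
  have e2 : imMul (ofMat M) (ofMat M) = ofMat (M ^ 2) := by rw [imMul_ofMat hn, sq]
  have e4 : imMul (ofMat (M ^ 2)) (ofMat (M ^ 2)) = ofMat (M ^ 4) := by rw [imMul_ofMat hn, ← pow_add]
  have hz : List.ofFn (0 : Fin n → ℤ) = [0, 0, 0, 0, 0, 0] := by subst hn; rfl
  match c, h with
  | 5, h =>
    rw [certOK] at h
    simp only [e2, e4, beq_iff_eq, imMul_ofMat hn, ← ofMat_one hn, ofMat_injective.eq_iff,
      ← pow_succ] at h
    exact Or.inl ⟨5, by simp, h⟩
  | 8, h =>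
    rw [certOK] at h
    simp only [e2, e4, beq_iff_eq, imMul_ofMat hn, ← ofMat_one hn, ofMat_injective.eq_iff,
      ← pow_add] at h
    exact Or.inl ⟨8, by simp, h⟩
  | 9, h =>
    rw [certOK] at h
    simp only [e2, e4, beq_iff_eq, imMul_ofMat hn, ← ofMat_one hn, ofMat_injective.eq_iff,
      ← pow_add, ← pow_succ] at h
    exact Or.inl ⟨9, by simp, h⟩
  | 10, h =>
    rw [certOK, imPowTen] at h
    simp only [e2, e4, beq_iff_eq, imMul_ofMat hn, ← ofMat_one hn, ofMat_injective.eq_iff,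
      ← pow_add] at h
    exact Or.inl ⟨10, by simp, h⟩
  | 0, h =>
    rw [certOK] at h
    simp only [e2, e4, beq_iff_eq, imMul_ofMat hn, imAdd_ofMat hn, ← ofMat_one hn, ofMat_injective.eq_iff,
      ← pow_add] at h
    exact Or.inr (Or.inl h)
  | 1, h =>
    rw [certOK] at h
    simp only [e2, e4, Bool.and_eq_true, beq_iff_eq, bne_iff_ne, ne_eq, List.all_eq_true, imMul_ofMat hn,
      imAdd_ofMat hn, ← ofMat_one hn, ofMat_injective.eq_iff, ← pow_succ, ← pow_add] at h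
    obtain ⟨⟨h1, h2⟩, h3⟩ := h
    refine Or.inr (Or.inr ⟨rfl, h1, h2, fun y hy hy0 => h3 _ hy ?_⟩)
    rw [rowMul_ofMat hn, hy0, hz]

theorem root_form (r : Fin chevE6.nroots) :
    List.ofFn (Tori.cov C6 r ᵥ* Tori.cmat chevE6) ∈ rootForms ∨
      List.ofFn (-(Tori.cov C6 r ᵥ* Tori.cmat chevE6)) ∈ rootForms := by
  have h := formOK_all r.val (lt_of_lt_of_eq r.isLt nroots_E6)
  simp only [formOK, Bool.or_eq_true, List.contains_iff_mem, ← cmat_eq, ← cvL_eq, rowMul_ofMat rank_six,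
    List.map_ofFn] at h
  exact h

/-- An element with a primitive twelfth eigenvalue modulo `ℓ` has the expected polynomial and no fixed
root functional on the twelfth component. -/
theorem eigen_cert {q : ℤ} {ℓ : ℕ} (hl : ℓ.Prime) (hprim : IsPrimitiveRoot (q : ZMod ℓ) 12) {N : ℕ}
    {π : Equiv.Perm (Fin chevE6.nroots)} (hπ : π ∈ Tori.wgrp C6) {f : Fin chevE6.rank → ZMod N}
    (hf0 : f ≠ 0) (hlf : ℓ • f = 0) (hf : f ᵥ* Tori.toZ N (Tori.lmat C6 π) = (q : ZMod N) • f) :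
    aeval (Tori.lmat C6 π) pol = 0 ∧ aeval (Tori.lmat C6 π) (cyclotomic 12 ℤ) ≠ 0 ∧
      (∀ r, (Tori.cov C6 r ᵥ* Tori.cmat chevE6) ᵥ* aeval (Tori.lmat C6 π) (cyclotomic 3 ℤ) ≠ 0) ∧
      ∃ u ∈ Tori.wgrp C6, ∃ i k, i < 5 ∧ k < 720 ∧ code i k = 1 ∧
        ofMat (Tori.lmat C6 (u⁻¹ * π * u)) = imMul (repMats.getD i []) (stabMat k) := by
  obtain ⟨u, hu, i₀, k₀, hi₀, hk₀, heq⟩ := exists_cert hπ
  have hc := coset_cert hi₀ hk₀
  rw [← heq] at hc
  set M := Tori.lmat C6 π with hM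
  set π' := u⁻¹ * π * u
  set M' := Tori.lmat C6 π' with hM'
  set U := Tori.lmat C6 u with hU
  set U' := Tori.lmat C6 u⁻¹ with hU'
  have hπ' : π' ∈ Tori.wgrp C6 := mul_mem (mul_mem (inv_mem hu) hπ) hu
  have hUU : U * U' = 1 := by rw [hU, hU', ← Tori.lmat_mul C6 hu, mul_inv_cancel, Tori.lmat_one]
  have hUU' : U' * U = 1 := by
    rw [hU, hU', ← Tori.lmat_mul C6 (inv_mem hu), inv_mul_cancel, Tori.lmat_one]
  have hMM : M' = U' * M * U := by
    rw [hM', Tori.lmat_mul C6 (mul_mem (inv_mem hu) hπ), Tori.lmat_mul C6 (inv_mem hu)]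
  let ψ : Matrix (Fin chevE6.rank) (Fin chevE6.rank) ℤ →ₐ[ℤ] Matrix (Fin chevE6.rank) (Fin chevE6.rank) ℤ :=
    AlgHom.ofLinearMap ((LinearMap.mulRight ℤ U').comp (LinearMap.mulLeft ℤ U))
      (by simp [hUU]) (fun X Y => by
        simp only [LinearMap.comp_apply, LinearMap.mulRight_apply, LinearMap.mulLeft_apply]
        rw [show U * X * U' * (U * Y * U') = U * X * (U' * U) * Y * U' by simp only [mul_assoc], hUU', mul_one]
        simp only [mul_assoc])
  have hψ : ψ M' = M := by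
    show U * M' * U' = M
    rw [hMM, show U * (U' * M * U) * U' = (U * U') * M * (U * U') by simp only [mul_assoc], hUU, one_mul,
      mul_one]
  have haev : ∀ P : ℤ[X], aeval M P = U * aeval M' P * U' := fun P => by
    rw [← hψ, aeval_algHom_apply]; rfl
  set f' := f ᵥ* Tori.toZ N U with hf'
  have hf'M : f' ᵥ* Tori.toZ N M' = (q : ZMod N) • f' := by
    rw [hf', Matrix.vecMul_vecMul, hMM, Tori.toZ, Tori.toZ, ← Matrix.map_mul,
      show U * (U' * M * U) = M * U by rw [← mul_assoc, ← mul_assoc, hUU, one_mul], Matrix.map_mul,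
      ← Matrix.vecMul_vecMul, ← Tori.toZ, hf, Matrix.smul_vecMul]
  have hf'0 : f' ≠ 0 := fun e => hf0 (by
    have := congrArg (fun z => z ᵥ* Tori.toZ N U') e
    rwa [Matrix.zero_vecMul, hf', Matrix.vecMul_vecMul, Tori.toZ, Tori.toZ, ← Matrix.map_mul, hUU,
      Matrix.map_one _ (map_zero _) (map_one _), Matrix.vecMul_one] at this)
  have hlf' : ℓ • f' = 0 := by rw [hf', ← Matrix.smul_vecMul, hlf, Matrix.zero_vecMul]
  have hpow : ∀ k : ℕ, M' ^ k = 1 → 12 ∣ k := by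
    intro k hk
    by_contra hne
    have h1 : ¬ (ℓ : ℤ) ∣ q ^ k - 1 := fun hd => hne (hprim.dvd_of_pow_eq_one k (by
      have := (ZMod.intCast_zmod_eq_zero_iff_dvd _ _).2 hd
      push_cast at this
      exact sub_eq_zero.1 this))
    refine hf'0 (Tori.eq_zero_of_smul hl hlf' h1 ?_)
    have := Tori.vecMul_aeval hf'M ((X : ℤ[X]) ^ k - 1)
    rw [map_sub, map_pow, aeval_X, map_one, hk, sub_self, Tori.toZ, Matrix.map_zero _ (map_zero _),
      Matrix.vecMul_zero] at this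
    simpa using this.symm
  rcases cert_cases rank_six hc with ⟨k, hk, hk1⟩ | h0 | ⟨hc1, h1, h12, h3⟩
  · have := hpow k hk1
    simp only [List.mem_cons, List.not_mem_nil, or_false] at hk
    omega
  · exfalso
    have hv := Tori.vecMul_aeval hf'M ((X : ℤ[X]) ^ 8 + X ^ 6 - (X ^ 2 + 1))
    simp only [map_sub, map_add, map_pow, aeval_X, map_one] at hv
    rw [h0, sub_self, Tori.toZ, Matrix.map_zero _ (map_zero _), Matrix.vecMul_zero] at hv
    refine hf'0 (Tori.eq_zero_of_smul hl hlf' (a := q ^ 8 + q ^ 6 - (q ^ 2 + 1)) ?_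
      (by simpa using hv.symm))
    intro hd
    have hz := (ZMod.intCast_zmod_eq_zero_iff_dvd _ _).2 hd
    push_cast at hz
    have := Fact.mk hl
    set x := (q : ZMod ℓ)
    have h6 : x ^ 6 - 1 ≠ 0 := fun e => by
      have := hprim.dvd_of_pow_eq_one 6 (sub_eq_zero.1 e); omega
    have h2 : x ^ 2 + 1 ≠ 0 := fun e => by
      have := hprim.dvd_of_pow_eq_one 4 (by linear_combination (x ^ 2 - 1) * e); omega
    exact mul_ne_zero h2 h6 (by linear_combination hz)
  · refine ⟨?_, ?_, ?_, u, hu, i₀, k₀, hi₀, hk₀, hc1, heq⟩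
    · rw [haev, pol_eq]
      simp only [map_sub, map_add, map_pow, aeval_X, map_one]
      rw [show M' ^ 6 + M' ^ 5 - M' ^ 3 + M' + 1 = M' ^ 6 + M' ^ 5 + (M' + 1) - M' ^ 3 by abel, h1]
      simp
    · intro h
      rw [haev] at h
      have h' := congrArg (fun Z => U' * Z * U) h
      simp only [mul_zero, zero_mul] at h'
      rw [show U' * (U * aeval M' (cyclotomic 12 ℤ) * U') * U = (U' * U) * aeval M' (cyclotomic 12 ℤ) * (U' * U)
        by simp only [mul_assoc], hUU', one_mul, mul_one, cyclo12_eq] at h'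
      simp only [map_sub, map_add, map_pow, aeval_X, map_one] at h'
      exact h12 (sub_eq_zero.1 (by rw [← h']; abel))
    · intro r h
      rw [haev, ← Matrix.vecMul_vecMul, ← Matrix.vecMul_vecMul] at h
      have h' := congrArg (fun z => z ᵥ* U) h
      simp only [Matrix.zero_vecMul] at h'
      have hrow : (Tori.cov C6 r ᵥ* Tori.cmat chevE6) ᵥ* U =
          Tori.cov C6 (u⁻¹ r) ᵥ* Tori.cmat chevE6 := by
        have hA := Tori.lmat_isom C6 hsym6 hu
        conv_lhs => rw [show r = u (u⁻¹ r) from (Equiv.apply_symm_apply u r).symm,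
          ← Tori.lmat_spec C6 hu, Matrix.vecMul_vecMul, ← Matrix.vecMul_transpose, Matrix.vecMul_vecMul,
          ← Matrix.mul_assoc, hA]
      rw [Matrix.vecMul_vecMul _ U' U, hUU', Matrix.vecMul_one, hrow, cyclotomic_three] at h'
      simp only [map_add, map_pow, aeval_X, map_one] at h'
      rcases root_form (u⁻¹ r) with hm | hm
      · exact h3 _ hm h'
      · exact h3 _ hm (by rw [Matrix.neg_vecMul, h', neg_zero])

theorem pol_dvd_charpoly {r : ℕ} {M : Matrix (Fin r) (Fin r) ℤ} (hr : r = 6) (h : aeval M pol = 0)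
    (h12 : aeval M (cyclotomic 12 ℤ) ≠ 0) (h3 : aeval M (cyclotomic 3 ℤ) ≠ 0) : M.charpoly = pol := by
  have hne : ∀ (a b : ℕ), 0 < a → 0 < b → aeval M (cyclotomic a ℤ * cyclotomic b ℤ) = 0 →
      aeval M (cyclotomic b ℤ) ≠ 0 → cyclotomic a ℚ ∣ minpoly ℚ (Tori.toQ M) := by
    intro a b ha _ hab hb
    by_contra hnd
    obtain ⟨u, w, huw⟩ := (cyclotomic.irreducible_rat ha).coprime_iff_not_dvd.2 hnd
    have hd : minpoly ℚ (Tori.toQ M) ∣ cyclotomic a ℚ * cyclotomic b ℚ := by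
      refine minpoly.dvd ℚ _ ?_
      rw [← map_cyclotomic a (Int.castRingHom ℚ), ← map_cyclotomic b (Int.castRingHom ℚ),
        ← Polynomial.map_mul, Tori.aeval_toQ, hab]
      exact Matrix.map_zero _ (map_zero _)
    have hd' : minpoly ℚ (Tori.toQ M) ∣ cyclotomic b ℚ :=
      IsCoprime.dvd_of_dvd_mul_left (⟨w, u, by rw [add_comm]; exact huw⟩) hd
    obtain ⟨g, hg⟩ := hd'
    have h0 := congrArg (aeval (Tori.toQ M)) hg
    rw [map_mul, minpoly.aeval, zero_mul, ← map_cyclotomic b (Int.castRingHom ℚ), Tori.aeval_toQ] at h0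
    exact hb (Tori.toQ_injective (h0.trans (Matrix.map_zero _ (map_zero _)).symm))
  have hcop : IsCoprime (cyclotomic 12 ℚ) (cyclotomic 3 ℚ) := cyclotomic.isCoprime_rat (by norm_num)
  have hd : cyclotomic 12 ℚ * cyclotomic 3 ℚ ∣ minpoly ℚ (Tori.toQ M) :=
    hcop.mul_dvd (hne 12 3 (by norm_num) (by norm_num) h h3)
      (hne 3 12 (by norm_num) (by norm_num) (by rwa [mul_comm]) h12)
  apply Polynomial.map_injective (Int.castRingHom ℚ) Int.cast_injective
  rw [← Matrix.charpoly_map, pol, Polynomial.map_mul, map_cyclotomic, map_cyclotomic]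
  refine Polynomial.eq_of_monic_of_dvd_of_natDegree_le ((cyclotomic.monic 12 ℚ).mul (cyclotomic.monic 3 ℚ))
    (Matrix.charpoly_monic _) (hd.trans (Matrix.minpoly_dvd_charpoly _)) ?_
  rw [Matrix.charpoly_natDegree_eq_dim, (cyclotomic.monic 12 ℚ).natDegree_mul (cyclotomic.monic 3 ℚ),
    natDegree_cyclotomic, natDegree_cyclotomic, Fintype.card_fin, hr]
  decide

theorem ne_zero_aeval_three {M : Matrix (Fin chevE6.rank) (Fin chevE6.rank) ℤ}
    (h : ∀ r, (Tori.cov C6 r ᵥ* Tori.cmat chevE6) ᵥ* aeval M (cyclotomic 3 ℤ) ≠ 0) :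
    aeval M (cyclotomic 3 ℤ) ≠ 0 := fun e => h top (by rw [e, Matrix.vecMul_zero])

/-- A functional vanishing on the orbit of a vector of the twelfth component kills the third cyclotomic
value. -/
theorem orbit_detects {r : ℕ} (hr : r = 6) {M : Matrix (Fin r) (Fin r) ℤ} (h : aeval M pol = 0)
    (h12 : aeval M (cyclotomic 12 ℤ) ≠ 0) {w : Fin r → ℤ} (hw : w ≠ 0)
    (hw12 : aeval M (cyclotomic 12 ℤ) *ᵥ w = 0) {y : Fin r → ℤ}
    (hy : ∀ k, k < 4 → y ⬝ᵥ ((M ^ k) *ᵥ w) = 0) : y ᵥ* aeval M (cyclotomic 3 ℤ) = 0 := by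
  have hall : ∀ k, k < 6 → y ⬝ᵥ ((M ^ k) *ᵥ w) = 0 := by
    have h4 : (M ^ 4) *ᵥ w = (M ^ 2) *ᵥ w - w := by
      rw [cyclo12_eq] at hw12
      simp only [map_sub, map_add, map_pow, aeval_X, map_one, Matrix.add_mulVec, Matrix.sub_mulVec,
        Matrix.one_mulVec] at hw12
      rw [eq_sub_iff_add_eq]
      exact sub_eq_zero.1 (by rw [← hw12]; abel)
    intro k hk
    rcases Nat.lt_or_ge k 4 with h' | h'
    · exact hy k h'
    · obtain ⟨j, rfl⟩ := Nat.exists_eq_add_of_le h'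
      rw [show 4 + j = j + 4 by omega, pow_add, ← Matrix.mulVec_mulVec, h4, Matrix.mulVec_sub,
        Matrix.mulVec_mulVec, ← pow_add, dotProduct_sub, hy (j + 2) (by omega), hy j (by omega), sub_zero]
  obtain ⟨u, hu, hu3⟩ : ∃ u : Fin r → ℤ, u ≠ 0 ∧ aeval M (cyclotomic 3 ℤ) *ᵥ u = 0 := by
    obtain ⟨z, hz⟩ : ∃ z : Fin r → ℤ, aeval M (cyclotomic 12 ℤ) *ᵥ z ≠ 0 := by
      by_contra hall
      push Not at hall
      exact h12 (Matrix.ext_iff_mulVec.2 fun z => by rw [hall, Matrix.zero_mulVec])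
    exact ⟨_, hz, by rw [Matrix.mulVec_mulVec, ← map_mul, mul_comm, ← pol, h, Matrix.zero_mulVec]⟩
  let cast : (Fin r → ℤ) → (Fin r → ℚ) := fun v i => (v i : ℚ)
  have hcast0 : ∀ v : Fin r → ℤ, v ≠ 0 → cast v ≠ 0 := fun v hv e => hv (funext fun i =>
    Int.cast_eq_zero.1 (congrFun e i))
  have hcmul : ∀ (A : Matrix (Fin r) (Fin r) ℤ) v, cast (A *ᵥ v) = Tori.toQ A *ᵥ cast v := fun A v => by
    funext i
    simp [cast, Tori.toQ, Matrix.mulVec, dotProduct]
  have hker : ∀ (d : ℕ) (v : Fin r → ℤ), aeval M (cyclotomic d ℤ) *ᵥ v = 0 →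
      aeval (Tori.toQ M) (cyclotomic d ℚ) *ᵥ cast v = 0 := fun d v hv => by
    rw [← map_cyclotomic d (Int.castRingHom ℚ), Tori.aeval_toQ, ← hcmul, hv]
    funext i; simp [cast]
  have li12 := Tori.indep_of_irreducible (cyclotomic.irreducible_rat (n := 12) (by norm_num)) (hcast0 w hw)
    (hker 12 w hw12)
  have li3 := Tori.indep_of_irreducible (cyclotomic.irreducible_rat (n := 3) (by norm_num)) (hcast0 u hu)
    (hker 3 u hu3)
  have hsub : ∀ (d : ℕ) (v : Fin r → ℤ), aeval M (cyclotomic d ℤ) *ᵥ v = 0 → ∀ {ι : Type} (e : ι → ℕ),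
      Submodule.span ℚ (Set.range fun i => Tori.toQ M ^ e i *ᵥ cast v) ≤
        LinearMap.ker (Matrix.toLin' (aeval (Tori.toQ M) (cyclotomic d ℚ))) := fun d v hv ι e => by
    rw [Submodule.span_le]
    rintro _ ⟨i, rfl⟩
    rw [SetLike.mem_coe, LinearMap.mem_ker, Matrix.toLin'_apply, Matrix.mulVec_mulVec]
    rw [← aeval_X_pow (R := ℚ) (Tori.toQ M), ← map_mul, mul_comm, map_mul, ← Matrix.mulVec_mulVec,
      hker d v hv, Matrix.mulVec_zero]
  have hdisj : Disjoint (LinearMap.ker (Matrix.toLin' (aeval (Tori.toQ M) (cyclotomic 12 ℚ))))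
      (LinearMap.ker (Matrix.toLin' (aeval (Tori.toQ M) (cyclotomic 3 ℚ)))) := by
    rw [Submodule.disjoint_def]
    intro x hx hx'
    rw [LinearMap.mem_ker, Matrix.toLin'_apply] at hx hx'
    obtain ⟨a, b, hab⟩ := (cyclotomic.isCoprime_rat (n := 12) (m := 3) (by norm_num))
    have := congrArg (fun p => aeval (Tori.toQ M) p *ᵥ x) hab
    simp only [map_add, map_mul, map_one, Matrix.one_mulVec, Matrix.add_mulVec, ← Matrix.mulVec_mulVec, hx,
      hx', Matrix.mulVec_zero, add_zero] at this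
    exact this.symm
  have h1 := hsub 12 w hw12 (fun i : Fin (cyclotomic 12 ℚ).natDegree => (i : ℕ))
  have h2 := hsub 3 u hu3 (fun i : Fin (cyclotomic 3 ℚ).natDegree => (i : ℕ))
  have h3' := hdisj.mono h1 h2
  have li := LinearIndependent.sum_type li12 li3 h3'
  have hspan := li.span_eq_top_of_card_eq_finrank' (by
    rw [Fintype.card_sum, Fintype.card_fin, Fintype.card_fin, natDegree_cyclotomic, natDegree_cyclotomic,
      Module.finrank_fin_fun, hr]
    decide)
  have hz : cast (y ᵥ* aeval M (cyclotomic 3 ℤ)) = 0 := by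
    refine dotProduct_eq_zero _ fun x => ?_
    have hx : x ∈ LinearMap.ker (dotProductBilin ℚ ℚ (cast (y ᵥ* aeval M (cyclotomic 3 ℤ)))) := by
      refine (show (⊤ : Submodule ℚ _) ≤ _ from ?_) Submodule.mem_top
      rw [← hspan, Submodule.span_le]
      rintro _ ⟨i, rfl⟩
      have hred : ∀ (k : ℕ) (v : Fin r → ℤ), (y ᵥ* aeval M (cyclotomic 3 ℤ)) ⬝ᵥ ((M ^ k) *ᵥ v) = 0 →
          cast (y ᵥ* aeval M (cyclotomic 3 ℤ)) ⬝ᵥ (Tori.toQ M ^ k *ᵥ cast v) = 0 := fun k v hv => by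
        rw [Tori.toQ, ← Matrix.map_pow, ← Tori.toQ, ← hcmul]
        have := congrArg (Int.cast : ℤ → ℚ) hv
        simpa [cast, dotProduct] using this
      rw [SetLike.mem_coe, LinearMap.mem_ker, dotProductBilin_apply_apply]
      rcases i with i | i
      · refine hred i w ?_
        have hi : i.val < 4 := lt_of_lt_of_eq i.isLt (by rw [natDegree_cyclotomic]; decide)
        rw [← Matrix.dotProduct_mulVec, Matrix.mulVec_mulVec, cyclotomic_three]
        simp only [map_add, map_pow, aeval_X, map_one, add_mul, one_mul, ← pow_add, ← pow_succ',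
          Matrix.add_mulVec, dotProduct_add]
        rw [hall _ (by omega), hall _ (by omega), hall _ (by omega)]
        simp
      · refine hred i u ?_
        rw [← Matrix.dotProduct_mulVec, Matrix.mulVec_mulVec, ← aeval_X_pow (R := ℤ) M, ← map_mul, mul_comm,
          map_mul, ← Matrix.mulVec_mulVec, hu3, Matrix.mulVec_zero, dotProduct_zero]
    simpa [LinearMap.mem_ker, dotProductBilin_apply_apply] using hx
  funext i
  exact Int.cast_eq_zero.1 (congrFun hz i)

/-- The facts on an eigenweight of order `ℓ`. -/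
theorem eigen_data {q : ℤ} {ℓ : ℕ} (hl : ℓ.Prime) (hl12 : 12 < ℓ) (hprim : IsPrimitiveRoot (q : ZMod ℓ) 12)
    {N : ℕ} {π₀ : Equiv.Perm (Fin chevE6.nroots)} (hπ₀ : π₀ ∈ Tori.wgrp C6)
    {f : Fin chevE6.rank → ZMod N} (hf0 : f ≠ 0) (hlf : ℓ • f = 0)
    (hf : f ᵥ* Tori.toZ N (Tori.lmat C6 π₀) = (q : ZMod N) • f) :
    (Tori.lmat C6 π₀).charpoly = pol ∧ (∀ r, Tori.rval C6 f r ≠ 0) ∧
      ∀ π ∈ Tori.wgrp C6, (∀ r, Tori.rval C6 f (π r) = Tori.rval C6 f r) → π = 1 := by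
  obtain ⟨h, h12, h3, -⟩ := eigen_cert hl hprim hπ₀ hf0 hlf hf
  set M := Tori.lmat C6 π₀ with hM
  have hfix : ∀ π ∈ Tori.wgrp C6, (∀ r, Tori.rval C6 f (π r) = Tori.rval C6 f r) → π = 1 := by
    refine Tori.stab_trivial C6 hl (by rw [rank_six]; omega) hπ₀ hf0 hlf hf fun v hv π hπ hfixv => ?_
    set w := aeval M (cyclotomic 3 ℤ) *ᵥ v with hwdef
    have hw12 : aeval M (cyclotomic 12 ℤ) *ᵥ w = 0 := by
      rw [hwdef, Matrix.mulVec_mulVec, ← map_mul, ← pol, h, Matrix.zero_mulVec]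
    have hw : w ≠ 0 := fun e => by
      have hcs : (fun j => ((w j : ℤ) : ZMod N)) =
          Tori.toZ N (aeval M (cyclotomic 3 ℤ)) *ᵥ fun j => ((v j : ℤ) : ZMod N) := by
        funext i; simp [hwdef, Tori.toZ, Matrix.mulVec, dotProduct]
      have h0 : (f ⬝ᵥ fun j => ((w j : ℤ) : ZMod N)) = 0 := by simp [e]
      rw [hcs, Matrix.dotProduct_mulVec, Tori.vecMul_aeval hf, smul_dotProduct] at h0
      refine hv (congrFun (Tori.eq_zero_of_smul (r := 1) hl (f := fun _ => f ⬝ᵥ fun j => (v j : ZMod N))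
        (funext fun _ => ?_) ?_ (funext fun _ => h0)) 0)
      · rw [Pi.smul_apply, ← smul_dotProduct, hlf, zero_dotProduct, Pi.zero_apply]
      · intro hd
        have hz := (ZMod.intCast_zmod_eq_zero_iff_dvd _ _).2 hd
        rw [cyclotomic_three] at hz
        simp at hz
        have := hprim.dvd_of_pow_eq_one 3 (by linear_combination ((q : ZMod ℓ) - 1) * hz)
        omega
    have hfixw : ∀ k : ℕ, Tori.lmat C6 π *ᵥ ((M ^ k) *ᵥ w) = (M ^ k) *ᵥ w := by
      intro k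
      have hfixv' : ∀ k : ℕ, Tori.lmat C6 π *ᵥ ((M ^ k) *ᵥ v) = (M ^ k) *ᵥ v := hfixv
      rw [hwdef, cyclotomic_three]
      simp only [map_add, map_pow, aeval_X, map_one, Matrix.add_mulVec, Matrix.mulVec_add,
        Matrix.mulVec_mulVec, ← pow_add, ← pow_succ, Matrix.one_mulVec]
      simp only [← Matrix.mulVec_mulVec, hfixv']
    let p : Fin chevE6.nroots → ℤ[X] := fun r =>
      ∑ k : Fin 4, Polynomial.C (Tori.bform (Tori.cov C6 r) ((M ^ (k : ℕ)) *ᵥ w)) * X ^ (k : ℕ)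
    have hp : ∀ r, p r ≠ 0 := fun r hr => h3 r (orbit_detects rank_six h h12 hw hw12 fun k hk => by
      have := congrArg (fun P => Polynomial.coeff P k) hr
      rw [← Matrix.dotProduct_mulVec]
      simpa [p, Tori.bform, Polynomial.coeff_X_pow, Finset.sum_ite_eq, ← Fin.ext_iff,
        show ∀ a : Fin 4, (k = (a : ℕ)) ↔ (⟨k, hk⟩ : Fin 4) = a from fun a => by simp [Fin.ext_iff]] using this)
    obtain ⟨t, ht⟩ : ∃ t : ℤ, (∏ r, p r).eval t ≠ 0 :=
      Polynomial.exists_eval_ne_zero_of_natDegree_lt_card _ (Finset.prod_ne_zero_iff.2 fun r _ => hp r)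
        (by simp [Cardinal.natCast_lt_aleph0])
    refine Tori.eq_one_of_fix_regular C6 hsym6 hπ
      (v := ∑ k : Fin 4, t ^ (k : ℕ) • ((M ^ (k : ℕ)) *ᵥ w)) (fun r hr => ?_) ?_
    · rw [Polynomial.eval_prod] at ht
      refine Finset.prod_ne_zero_iff.1 ht r (Finset.mem_univ _) ?_
      rw [← hr, Tori.bform, Matrix.mulVec_sum, dotProduct_sum, Polynomial.eval_finsetSum]
      refine Finset.sum_congr rfl fun k _ => ?_
      rw [Matrix.mulVec_smul, dotProduct_smul, smul_eq_mul, Polynomial.eval_mul, Polynomial.eval_C,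
        Polynomial.eval_pow, Polynomial.eval_X, Tori.bform, mul_comm]
    · simp only [Matrix.mulVec_sum, Matrix.mulVec_smul, hfixw]
  exact ⟨pol_dvd_charpoly rank_six h h12 (ne_zero_aeval_three h3), Tori.rval_ne_zero C6 hfix, hfix⟩

end H34.E6Cox
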