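import Mathlib

/-! Tables for the elements of the Weyl group of type E6 with a primitive twelfth eigenvalue (generated). -/

set_option autoImplicit false

namespace H34.E6Cox

abbrev IMat := List (List ℤ)

def imOne : IMat := [[1, 0, 0, 0, 0, 0], [0, 1, 0, 0, 0, 0], [0, 0, 1, 0, 0, 0], [0, 0, 0, 1, 0, 0], [0, 0, 0, 0, 1, 0], [0, 0, 0, 0, 0, 1]]

def rowMul (r : List ℤ) (Y : IMat) : List ℤ :=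
  (r.zip Y).foldl (fun acc p => List.zipWith (fun s t => s + p.1 * t) acc p.2) [0, 0, 0, 0, 0, 0]

def imMul (X Y : IMat) : IMat := X.map fun r => rowMul r Y

def imAdd (X Y : IMat) : IMat := List.zipWith (List.zipWith (· + ·)) X Y

def stab0 : List IMat := [
  [[1, 0, 0, 0, 0, 0], [0, 1, 0, 0, 0, 0], [0, 0, 1, 0, 0, 0], [0, 0, 0, 1, 0, 0], [0, 0, 0, 0, 1, 0], [0, 0, 0, 0, 0, 1]],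
  [[-1, 0, 1, 0, 0, 0], [0, 1, 0, 0, 0, 0], [0, 0, 1, 0, 0, 0], [0, 0, 0, 1, 0, 0], [0, 0, 0, 0, 1, 0], [0, 0, 0, 0, 0, 1]],
  [[1, 0, 0, 0, 0, 0], [0, 1, 0, 0, 0, 0], [1, 0, -1, 1, 0, 0], [0, 0, 0, 1, 0, 0], [0, 0, 0, 0, 1, 0], [0, 0, 0, 0, 0, 1]],
  [[1, 0, 0, 0, 0, 0], [0, 1, 0, 0, 0, 0], [0, 0, 1, 0, 0, 0], [0, 1, 1, -1, 1, 0], [0, 0, 0, 0, 1, 0], [0, 0, 0, 0, 0, 1]],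
  [[1, 0, 0, 0, 0, 0], [0, 1, 0, 0, 0, 0], [0, 0, 1, 0, 0, 0], [0, 0, 0, 1, 0, 0], [0, 0, 0, 1, -1, 1], [0, 0, 0, 0, 0, 1]],
  [[1, 0, 0, 0, 0, 0], [0, 1, 0, 0, 0, 0], [0, 0, 1, 0, 0, 0], [0, 0, 0, 1, 0, 0], [0, 0, 0, 0, 1, 0], [0, 0, 0, 0, 1, -1]],
  [[-1, 0, 1, 0, 0, 0], [0, 1, 0, 0, 0, 0], [-1, 0, 0, 1, 0, 0], [0, 0, 0, 1, 0, 0], [0, 0, 0, 0, 1, 0], [0, 0, 0, 0, 0, 1]],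
  [[-1, 0, 1, 0, 0, 0], [0, 1, 0, 0, 0, 0], [0, 0, 1, 0, 0, 0], [0, 1, 1, -1, 1, 0], [0, 0, 0, 0, 1, 0], [0, 0, 0, 0, 0, 1]],
  [[-1, 0, 1, 0, 0, 0], [0, 1, 0, 0, 0, 0], [0, 0, 1, 0, 0, 0], [0, 0, 0, 1, 0, 0], [0, 0, 0, 1, -1, 1], [0, 0, 0, 0, 0, 1]],
  [[-1, 0, 1, 0, 0, 0], [0, 1, 0, 0, 0, 0], [0, 0, 1, 0, 0, 0], [0, 0, 0, 1, 0, 0], [0, 0, 0, 0, 1, 0], [0, 0, 0, 0, 1, -1]],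
  [[0, 0, -1, 1, 0, 0], [0, 1, 0, 0, 0, 0], [1, 0, -1, 1, 0, 0], [0, 0, 0, 1, 0, 0], [0, 0, 0, 0, 1, 0], [0, 0, 0, 0, 0, 1]],
  [[1, 0, 0, 0, 0, 0], [0, 1, 0, 0, 0, 0], [1, 0, -1, 1, 0, 0], [1, 1, -1, 0, 1, 0], [0, 0, 0, 0, 1, 0], [0, 0, 0, 0, 0, 1]],
  [[1, 0, 0, 0, 0, 0], [0, 1, 0, 0, 0, 0], [1, 0, -1, 1, 0, 0], [0, 0, 0, 1, 0, 0], [0, 0, 0, 1, -1, 1], [0, 0, 0, 0, 0, 1]],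
  [[1, 0, 0, 0, 0, 0], [0, 1, 0, 0, 0, 0], [1, 0, -1, 1, 0, 0], [0, 0, 0, 1, 0, 0], [0, 0, 0, 0, 1, 0], [0, 0, 0, 0, 1, -1]],
  [[1, 0, 0, 0, 0, 0], [0, 1, 0, 0, 0, 0], [1, 1, 0, -1, 1, 0], [0, 1, 1, -1, 1, 0], [0, 0, 0, 0, 1, 0], [0, 0, 0, 0, 0, 1]],
  [[1, 0, 0, 0, 0, 0], [0, 1, 0, 0, 0, 0], [0, 0, 1, 0, 0, 0], [0, 1, 1, -1, 1, 0], [0, 1, 1, -1, 0, 1], [0, 0, 0, 0, 0, 1]],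
  [[1, 0, 0, 0, 0, 0], [0, 1, 0, 0, 0, 0], [0, 0, 1, 0, 0, 0], [0, 1, 1, -1, 1, 0], [0, 0, 0, 0, 1, 0], [0, 0, 0, 0, 1, -1]],
  [[1, 0, 0, 0, 0, 0], [0, 1, 0, 0, 0, 0], [0, 0, 1, 0, 0, 0], [0, 1, 1, 0, -1, 1], [0, 0, 0, 1, -1, 1], [0, 0, 0, 0, 0, 1]],
  [[1, 0, 0, 0, 0, 0], [0, 1, 0, 0, 0, 0], [0, 0, 1, 0, 0, 0], [0, 0, 0, 1, 0, 0], [0, 0, 0, 1, -1, 1], [0, 0, 0, 1, -1, 0]],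
  [[1, 0, 0, 0, 0, 0], [0, 1, 0, 0, 0, 0], [0, 0, 1, 0, 0, 0], [0, 0, 0, 1, 0, 0], [0, 0, 0, 1, 0, -1], [0, 0, 0, 0, 1, -1]],
  [[0, 0, -1, 1, 0, 0], [0, 1, 0, 0, 0, 0], [-1, 0, 0, 1, 0, 0], [0, 0, 0, 1, 0, 0], [0, 0, 0, 0, 1, 0], [0, 0, 0, 0, 0, 1]],
  [[-1, 0, 1, 0, 0, 0], [0, 1, 0, 0, 0, 0], [-1, 0, 0, 1, 0, 0], [-1, 1, 0, 0, 1, 0], [0, 0, 0, 0, 1, 0], [0, 0, 0, 0, 0, 1]],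
  [[-1, 0, 1, 0, 0, 0], [0, 1, 0, 0, 0, 0], [-1, 0, 0, 1, 0, 0], [0, 0, 0, 1, 0, 0], [0, 0, 0, 1, -1, 1], [0, 0, 0, 0, 0, 1]],
  [[-1, 0, 1, 0, 0, 0], [0, 1, 0, 0, 0, 0], [-1, 0, 0, 1, 0, 0], [0, 0, 0, 1, 0, 0], [0, 0, 0, 0, 1, 0], [0, 0, 0, 0, 1, -1]]]

def stab1 : List IMat := [
  [[-1, 0, 1, 0, 0, 0], [0, 1, 0, 0, 0, 0], [-1, 1, 1, -1, 1, 0], [0, 1, 1, -1, 1, 0], [0, 0, 0, 0, 1, 0], [0, 0, 0, 0, 0, 1]],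
  [[-1, 0, 1, 0, 0, 0], [0, 1, 0, 0, 0, 0], [0, 0, 1, 0, 0, 0], [0, 1, 1, -1, 1, 0], [0, 1, 1, -1, 0, 1], [0, 0, 0, 0, 0, 1]],
  [[-1, 0, 1, 0, 0, 0], [0, 1, 0, 0, 0, 0], [0, 0, 1, 0, 0, 0], [0, 1, 1, -1, 1, 0], [0, 0, 0, 0, 1, 0], [0, 0, 0, 0, 1, -1]],
  [[-1, 0, 1, 0, 0, 0], [0, 1, 0, 0, 0, 0], [0, 0, 1, 0, 0, 0], [0, 1, 1, 0, -1, 1], [0, 0, 0, 1, -1, 1], [0, 0, 0, 0, 0, 1]],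
  [[-1, 0, 1, 0, 0, 0], [0, 1, 0, 0, 0, 0], [0, 0, 1, 0, 0, 0], [0, 0, 0, 1, 0, 0], [0, 0, 0, 1, -1, 1], [0, 0, 0, 1, -1, 0]],
  [[-1, 0, 1, 0, 0, 0], [0, 1, 0, 0, 0, 0], [0, 0, 1, 0, 0, 0], [0, 0, 0, 1, 0, 0], [0, 0, 0, 1, 0, -1], [0, 0, 0, 0, 1, -1]],
  [[0, 0, -1, 1, 0, 0], [0, 1, 0, 0, 0, 0], [1, 0, -1, 1, 0, 0], [1, 1, -1, 0, 1, 0], [0, 0, 0, 0, 1, 0], [0, 0, 0, 0, 0, 1]],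
  [[0, 0, -1, 1, 0, 0], [0, 1, 0, 0, 0, 0], [1, 0, -1, 1, 0, 0], [0, 0, 0, 1, 0, 0], [0, 0, 0, 1, -1, 1], [0, 0, 0, 0, 0, 1]],
  [[0, 0, -1, 1, 0, 0], [0, 1, 0, 0, 0, 0], [1, 0, -1, 1, 0, 0], [0, 0, 0, 1, 0, 0], [0, 0, 0, 0, 1, 0], [0, 0, 0, 0, 1, -1]],
  [[1, 0, 0, 0, 0, 0], [0, 1, 0, 0, 0, 0], [1, 1, 0, -1, 1, 0], [1, 1, -1, 0, 1, 0], [0, 0, 0, 0, 1, 0], [0, 0, 0, 0, 0, 1]],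
  [[1, 0, 0, 0, 0, 0], [0, 1, 0, 0, 0, 0], [1, 0, -1, 1, 0, 0], [1, 1, -1, 0, 1, 0], [1, 1, -1, 0, 0, 1], [0, 0, 0, 0, 0, 1]],
  [[1, 0, 0, 0, 0, 0], [0, 1, 0, 0, 0, 0], [1, 0, -1, 1, 0, 0], [1, 1, -1, 0, 1, 0], [0, 0, 0, 0, 1, 0], [0, 0, 0, 0, 1, -1]],
  [[1, 0, 0, 0, 0, 0], [0, 1, 0, 0, 0, 0], [1, 0, -1, 1, 0, 0], [1, 1, -1, 1, -1, 1], [0, 0, 0, 1, -1, 1], [0, 0, 0, 0, 0, 1]],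
  [[1, 0, 0, 0, 0, 0], [0, 1, 0, 0, 0, 0], [1, 0, -1, 1, 0, 0], [0, 0, 0, 1, 0, 0], [0, 0, 0, 1, -1, 1], [0, 0, 0, 1, -1, 0]],
  [[1, 0, 0, 0, 0, 0], [0, 1, 0, 0, 0, 0], [1, 0, -1, 1, 0, 0], [0, 0, 0, 1, 0, 0], [0, 0, 0, 1, 0, -1], [0, 0, 0, 0, 1, -1]],
  [[0, 1, 0, -1, 1, 0], [0, 1, 0, 0, 0, 0], [1, 1, 0, -1, 1, 0], [0, 1, 1, -1, 1, 0], [0, 0, 0, 0, 1, 0], [0, 0, 0, 0, 0, 1]],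
  [[1, 0, 0, 0, 0, 0], [0, 1, 0, 0, 0, 0], [1, 1, 0, -1, 1, 0], [0, 1, 1, -1, 1, 0], [0, 1, 1, -1, 0, 1], [0, 0, 0, 0, 0, 1]],
  [[1, 0, 0, 0, 0, 0], [0, 1, 0, 0, 0, 0], [1, 1, 0, -1, 1, 0], [0, 1, 1, -1, 1, 0], [0, 0, 0, 0, 1, 0], [0, 0, 0, 0, 1, -1]],
  [[1, 0, 0, 0, 0, 0], [0, 1, 0, 0, 0, 0], [0, 0, 1, 0, 0, 0], [0, 1, 1, 0, -1, 1], [0, 1, 1, -1, 0, 1], [0, 0, 0, 0, 0, 1]],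
  [[1, 0, 0, 0, 0, 0], [0, 1, 0, 0, 0, 0], [0, 0, 1, 0, 0, 0], [0, 1, 1, -1, 1, 0], [0, 1, 1, -1, 0, 1], [0, 1, 1, -1, 0, 0]],
  [[1, 0, 0, 0, 0, 0], [0, 1, 0, 0, 0, 0], [0, 0, 1, 0, 0, 0], [0, 1, 1, -1, 1, 0], [0, 1, 1, -1, 1, -1], [0, 0, 0, 0, 1, -1]],
  [[1, 0, 0, 0, 0, 0], [0, 1, 0, 0, 0, 0], [1, 1, 0, 0, -1, 1], [0, 1, 1, 0, -1, 1], [0, 0, 0, 1, -1, 1], [0, 0, 0, 0, 0, 1]],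
  [[1, 0, 0, 0, 0, 0], [0, 1, 0, 0, 0, 0], [0, 0, 1, 0, 0, 0], [0, 1, 1, 0, -1, 1], [0, 0, 0, 1, -1, 1], [0, 0, 0, 1, -1, 0]],
  [[1, 0, 0, 0, 0, 0], [0, 1, 0, 0, 0, 0], [0, 0, 1, 0, 0, 0], [0, 0, 0, 1, 0, 0], [0, 0, 0, 1, 0, -1], [0, 0, 0, 1, -1, 0]]]

def stab2 : List IMat := [
  [[1, 0, 0, 0, 0, 0], [0, 1, 0, 0, 0, 0], [0, 0, 1, 0, 0, 0], [0, 1, 1, 0, 0, -1], [0, 0, 0, 1, 0, -1], [0, 0, 0, 0, 1, -1]],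
  [[0, 0, -1, 1, 0, 0], [0, 1, 0, 0, 0, 0], [-1, 0, 0, 1, 0, 0], [-1, 1, 0, 0, 1, 0], [0, 0, 0, 0, 1, 0], [0, 0, 0, 0, 0, 1]],
  [[0, 0, -1, 1, 0, 0], [0, 1, 0, 0, 0, 0], [-1, 0, 0, 1, 0, 0], [0, 0, 0, 1, 0, 0], [0, 0, 0, 1, -1, 1], [0, 0, 0, 0, 0, 1]],
  [[0, 0, -1, 1, 0, 0], [0, 1, 0, 0, 0, 0], [-1, 0, 0, 1, 0, 0], [0, 0, 0, 1, 0, 0], [0, 0, 0, 0, 1, 0], [0, 0, 0, 0, 1, -1]],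
  [[-1, 0, 1, 0, 0, 0], [0, 1, 0, 0, 0, 0], [-1, 1, 1, -1, 1, 0], [-1, 1, 0, 0, 1, 0], [0, 0, 0, 0, 1, 0], [0, 0, 0, 0, 0, 1]],
  [[-1, 0, 1, 0, 0, 0], [0, 1, 0, 0, 0, 0], [-1, 0, 0, 1, 0, 0], [-1, 1, 0, 0, 1, 0], [-1, 1, 0, 0, 0, 1], [0, 0, 0, 0, 0, 1]],
  [[-1, 0, 1, 0, 0, 0], [0, 1, 0, 0, 0, 0], [-1, 0, 0, 1, 0, 0], [-1, 1, 0, 0, 1, 0], [0, 0, 0, 0, 1, 0], [0, 0, 0, 0, 1, -1]],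
  [[-1, 0, 1, 0, 0, 0], [0, 1, 0, 0, 0, 0], [-1, 0, 0, 1, 0, 0], [-1, 1, 0, 1, -1, 1], [0, 0, 0, 1, -1, 1], [0, 0, 0, 0, 0, 1]],
  [[-1, 0, 1, 0, 0, 0], [0, 1, 0, 0, 0, 0], [-1, 0, 0, 1, 0, 0], [0, 0, 0, 1, 0, 0], [0, 0, 0, 1, -1, 1], [0, 0, 0, 1, -1, 0]],
  [[-1, 0, 1, 0, 0, 0], [0, 1, 0, 0, 0, 0], [-1, 0, 0, 1, 0, 0], [0, 0, 0, 1, 0, 0], [0, 0, 0, 1, 0, -1], [0, 0, 0, 0, 1, -1]],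
  [[0, 1, 0, -1, 1, 0], [0, 1, 0, 0, 0, 0], [-1, 1, 1, -1, 1, 0], [0, 1, 1, -1, 1, 0], [0, 0, 0, 0, 1, 0], [0, 0, 0, 0, 0, 1]],
  [[-1, 0, 1, 0, 0, 0], [0, 1, 0, 0, 0, 0], [-1, 1, 1, -1, 1, 0], [0, 1, 1, -1, 1, 0], [0, 1, 1, -1, 0, 1], [0, 0, 0, 0, 0, 1]],
  [[-1, 0, 1, 0, 0, 0], [0, 1, 0, 0, 0, 0], [-1, 1, 1, -1, 1, 0], [0, 1, 1, -1, 1, 0], [0, 0, 0, 0, 1, 0], [0, 0, 0, 0, 1, -1]],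
  [[-1, 0, 1, 0, 0, 0], [0, 1, 0, 0, 0, 0], [0, 0, 1, 0, 0, 0], [0, 1, 1, 0, -1, 1], [0, 1, 1, -1, 0, 1], [0, 0, 0, 0, 0, 1]],
  [[-1, 0, 1, 0, 0, 0], [0, 1, 0, 0, 0, 0], [0, 0, 1, 0, 0, 0], [0, 1, 1, -1, 1, 0], [0, 1, 1, -1, 0, 1], [0, 1, 1, -1, 0, 0]],
  [[-1, 0, 1, 0, 0, 0], [0, 1, 0, 0, 0, 0], [0, 0, 1, 0, 0, 0], [0, 1, 1, -1, 1, 0], [0, 1, 1, -1, 1, -1], [0, 0, 0, 0, 1, -1]],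
  [[-1, 0, 1, 0, 0, 0], [0, 1, 0, 0, 0, 0], [-1, 1, 1, 0, -1, 1], [0, 1, 1, 0, -1, 1], [0, 0, 0, 1, -1, 1], [0, 0, 0, 0, 0, 1]],
  [[-1, 0, 1, 0, 0, 0], [0, 1, 0, 0, 0, 0], [0, 0, 1, 0, 0, 0], [0, 1, 1, 0, -1, 1], [0, 0, 0, 1, -1, 1], [0, 0, 0, 1, -1, 0]],
  [[-1, 0, 1, 0, 0, 0], [0, 1, 0, 0, 0, 0], [0, 0, 1, 0, 0, 0], [0, 0, 0, 1, 0, 0], [0, 0, 0, 1, 0, -1], [0, 0, 0, 1, -1, 0]],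
  [[-1, 0, 1, 0, 0, 0], [0, 1, 0, 0, 0, 0], [0, 0, 1, 0, 0, 0], [0, 1, 1, 0, 0, -1], [0, 0, 0, 1, 0, -1], [0, 0, 0, 0, 1, -1]],
  [[0, 0, -1, 1, 0, 0], [0, 1, 0, 0, 0, 0], [0, 1, -1, 0, 1, 0], [1, 1, -1, 0, 1, 0], [0, 0, 0, 0, 1, 0], [0, 0, 0, 0, 0, 1]],
  [[0, 0, -1, 1, 0, 0], [0, 1, 0, 0, 0, 0], [1, 0, -1, 1, 0, 0], [1, 1, -1, 0, 1, 0], [1, 1, -1, 0, 0, 1], [0, 0, 0, 0, 0, 1]],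
  [[0, 0, -1, 1, 0, 0], [0, 1, 0, 0, 0, 0], [1, 0, -1, 1, 0, 0], [1, 1, -1, 0, 1, 0], [0, 0, 0, 0, 1, 0], [0, 0, 0, 0, 1, -1]],
  [[0, 0, -1, 1, 0, 0], [0, 1, 0, 0, 0, 0], [1, 0, -1, 1, 0, 0], [1, 1, -1, 1, -1, 1], [0, 0, 0, 1, -1, 1], [0, 0, 0, 0, 0, 1]]]

def stab3 : List IMat := [
  [[0, 0, -1, 1, 0, 0], [0, 1, 0, 0, 0, 0], [1, 0, -1, 1, 0, 0], [0, 0, 0, 1, 0, 0], [0, 0, 0, 1, -1, 1], [0, 0, 0, 1, -1, 0]],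
  [[0, 0, -1, 1, 0, 0], [0, 1, 0, 0, 0, 0], [1, 0, -1, 1, 0, 0], [0, 0, 0, 1, 0, 0], [0, 0, 0, 1, 0, -1], [0, 0, 0, 0, 1, -1]],
  [[0, 1, 0, -1, 1, 0], [0, 1, 0, 0, 0, 0], [1, 1, 0, -1, 1, 0], [1, 1, -1, 0, 1, 0], [0, 0, 0, 0, 1, 0], [0, 0, 0, 0, 0, 1]],
  [[1, 0, 0, 0, 0, 0], [0, 1, 0, 0, 0, 0], [1, 1, 0, -1, 1, 0], [1, 1, -1, 0, 1, 0], [1, 1, -1, 0, 0, 1], [0, 0, 0, 0, 0, 1]],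
  [[1, 0, 0, 0, 0, 0], [0, 1, 0, 0, 0, 0], [1, 1, 0, -1, 1, 0], [1, 1, -1, 0, 1, 0], [0, 0, 0, 0, 1, 0], [0, 0, 0, 0, 1, -1]],
  [[1, 0, 0, 0, 0, 0], [0, 1, 0, 0, 0, 0], [1, 0, -1, 1, 0, 0], [1, 1, -1, 1, -1, 1], [1, 1, -1, 0, 0, 1], [0, 0, 0, 0, 0, 1]],
  [[1, 0, 0, 0, 0, 0], [0, 1, 0, 0, 0, 0], [1, 0, -1, 1, 0, 0], [1, 1, -1, 0, 1, 0], [1, 1, -1, 0, 0, 1], [1, 1, -1, 0, 0, 0]],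
  [[1, 0, 0, 0, 0, 0], [0, 1, 0, 0, 0, 0], [1, 0, -1, 1, 0, 0], [1, 1, -1, 0, 1, 0], [1, 1, -1, 0, 1, -1], [0, 0, 0, 0, 1, -1]],
  [[1, 0, 0, 0, 0, 0], [0, 1, 0, 0, 0, 0], [1, 1, 0, 0, -1, 1], [1, 1, -1, 1, -1, 1], [0, 0, 0, 1, -1, 1], [0, 0, 0, 0, 0, 1]],
  [[1, 0, 0, 0, 0, 0], [0, 1, 0, 0, 0, 0], [1, 0, -1, 1, 0, 0], [1, 1, -1, 1, -1, 1], [0, 0, 0, 1, -1, 1], [0, 0, 0, 1, -1, 0]],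
  [[1, 0, 0, 0, 0, 0], [0, 1, 0, 0, 0, 0], [1, 0, -1, 1, 0, 0], [0, 0, 0, 1, 0, 0], [0, 0, 0, 1, 0, -1], [0, 0, 0, 1, -1, 0]],
  [[1, 0, 0, 0, 0, 0], [0, 1, 0, 0, 0, 0], [1, 0, -1, 1, 0, 0], [1, 1, -1, 1, 0, -1], [0, 0, 0, 1, 0, -1], [0, 0, 0, 0, 1, -1]],
  [[0, 1, 0, -1, 1, 0], [0, 1, 0, 0, 0, 0], [1, 1, 0, -1, 1, 0], [0, 1, 1, -1, 1, 0], [0, 1, 1, -1, 0, 1], [0, 0, 0, 0, 0, 1]],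
  [[0, 1, 0, -1, 1, 0], [0, 1, 0, 0, 0, 0], [1, 1, 0, -1, 1, 0], [0, 1, 1, -1, 1, 0], [0, 0, 0, 0, 1, 0], [0, 0, 0, 0, 1, -1]],
  [[1, 0, 0, 0, 0, 0], [0, 1, 0, 0, 0, 0], [1, 1, 0, -1, 1, 0], [1, 2, 0, -1, 0, 1], [0, 1, 1, -1, 0, 1], [0, 0, 0, 0, 0, 1]],
  [[1, 0, 0, 0, 0, 0], [0, 1, 0, 0, 0, 0], [1, 1, 0, -1, 1, 0], [0, 1, 1, -1, 1, 0], [0, 1, 1, -1, 0, 1], [0, 1, 1, -1, 0, 0]],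
  [[1, 0, 0, 0, 0, 0], [0, 1, 0, 0, 0, 0], [1, 1, 0, -1, 1, 0], [0, 1, 1, -1, 1, 0], [0, 1, 1, -1, 1, -1], [0, 0, 0, 0, 1, -1]],
  [[1, 0, 0, 0, 0, 0], [0, 1, 0, 0, 0, 0], [1, 1, 0, 0, -1, 1], [0, 1, 1, 0, -1, 1], [0, 1, 1, -1, 0, 1], [0, 0, 0, 0, 0, 1]],
  [[1, 0, 0, 0, 0, 0], [0, 1, 0, 0, 0, 0], [0, 0, 1, 0, 0, 0], [0, 1, 1, 0, -1, 1], [0, 1, 1, -1, 0, 1], [0, 1, 1, -1, 0, 0]],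
  [[1, 0, 0, 0, 0, 0], [0, 1, 0, 0, 0, 0], [0, 0, 1, 0, 0, 0], [0, 1, 1, -1, 1, 0], [0, 1, 1, -1, 1, -1], [0, 1, 1, -1, 0, 0]],
  [[1, 0, 0, 0, 0, 0], [0, 1, 0, 0, 0, 0], [0, 0, 1, 0, 0, 0], [0, 1, 1, 0, 0, -1], [0, 1, 1, -1, 1, -1], [0, 0, 0, 0, 1, -1]],
  [[0, 1, 0, 0, -1, 1], [0, 1, 0, 0, 0, 0], [1, 1, 0, 0, -1, 1], [0, 1, 1, 0, -1, 1], [0, 0, 0, 1, -1, 1], [0, 0, 0, 0, 0, 1]],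
  [[1, 0, 0, 0, 0, 0], [0, 1, 0, 0, 0, 0], [1, 1, 0, 0, -1, 1], [0, 1, 1, 0, -1, 1], [0, 0, 0, 1, -1, 1], [0, 0, 0, 1, -1, 0]],
  [[1, 0, 0, 0, 0, 0], [0, 1, 0, 0, 0, 0], [0, 0, 1, 0, 0, 0], [0, 1, 1, 0, -1, 1], [0, 1, 1, 0, -1, 0], [0, 0, 0, 1, -1, 0]]]

def stab4 : List IMat := [
  [[1, 0, 0, 0, 0, 0], [0, 1, 0, 0, 0, 0], [0, 0, 1, 0, 0, 0], [0, 1, 1, 0, 0, -1], [0, 0, 0, 1, 0, -1], [0, 0, 0, 1, -1, 0]],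
  [[1, 0, 0, 0, 0, 0], [0, 1, 0, 0, 0, 0], [1, 1, 0, 0, 0, -1], [0, 1, 1, 0, 0, -1], [0, 0, 0, 1, 0, -1], [0, 0, 0, 0, 1, -1]],
  [[0, 0, -1, 1, 0, 0], [0, 1, 0, 0, 0, 0], [0, 1, -1, 0, 1, 0], [-1, 1, 0, 0, 1, 0], [0, 0, 0, 0, 1, 0], [0, 0, 0, 0, 0, 1]],
  [[0, 0, -1, 1, 0, 0], [0, 1, 0, 0, 0, 0], [-1, 0, 0, 1, 0, 0], [-1, 1, 0, 0, 1, 0], [-1, 1, 0, 0, 0, 1], [0, 0, 0, 0, 0, 1]],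
  [[0, 0, -1, 1, 0, 0], [0, 1, 0, 0, 0, 0], [-1, 0, 0, 1, 0, 0], [-1, 1, 0, 0, 1, 0], [0, 0, 0, 0, 1, 0], [0, 0, 0, 0, 1, -1]],
  [[0, 0, -1, 1, 0, 0], [0, 1, 0, 0, 0, 0], [-1, 0, 0, 1, 0, 0], [-1, 1, 0, 1, -1, 1], [0, 0, 0, 1, -1, 1], [0, 0, 0, 0, 0, 1]],
  [[0, 0, -1, 1, 0, 0], [0, 1, 0, 0, 0, 0], [-1, 0, 0, 1, 0, 0], [0, 0, 0, 1, 0, 0], [0, 0, 0, 1, -1, 1], [0, 0, 0, 1, -1, 0]],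
  [[0, 0, -1, 1, 0, 0], [0, 1, 0, 0, 0, 0], [-1, 0, 0, 1, 0, 0], [0, 0, 0, 1, 0, 0], [0, 0, 0, 1, 0, -1], [0, 0, 0, 0, 1, -1]],
  [[0, 1, 0, -1, 1, 0], [0, 1, 0, 0, 0, 0], [-1, 1, 1, -1, 1, 0], [-1, 1, 0, 0, 1, 0], [0, 0, 0, 0, 1, 0], [0, 0, 0, 0, 0, 1]],
  [[-1, 0, 1, 0, 0, 0], [0, 1, 0, 0, 0, 0], [-1, 1, 1, -1, 1, 0], [-1, 1, 0, 0, 1, 0], [-1, 1, 0, 0, 0, 1], [0, 0, 0, 0, 0, 1]],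
  [[-1, 0, 1, 0, 0, 0], [0, 1, 0, 0, 0, 0], [-1, 1, 1, -1, 1, 0], [-1, 1, 0, 0, 1, 0], [0, 0, 0, 0, 1, 0], [0, 0, 0, 0, 1, -1]],
  [[-1, 0, 1, 0, 0, 0], [0, 1, 0, 0, 0, 0], [-1, 0, 0, 1, 0, 0], [-1, 1, 0, 1, -1, 1], [-1, 1, 0, 0, 0, 1], [0, 0, 0, 0, 0, 1]],
  [[-1, 0, 1, 0, 0, 0], [0, 1, 0, 0, 0, 0], [-1, 0, 0, 1, 0, 0], [-1, 1, 0, 0, 1, 0], [-1, 1, 0, 0, 0, 1], [-1, 1, 0, 0, 0, 0]],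
  [[-1, 0, 1, 0, 0, 0], [0, 1, 0, 0, 0, 0], [-1, 0, 0, 1, 0, 0], [-1, 1, 0, 0, 1, 0], [-1, 1, 0, 0, 1, -1], [0, 0, 0, 0, 1, -1]],
  [[-1, 0, 1, 0, 0, 0], [0, 1, 0, 0, 0, 0], [-1, 1, 1, 0, -1, 1], [-1, 1, 0, 1, -1, 1], [0, 0, 0, 1, -1, 1], [0, 0, 0, 0, 0, 1]],
  [[-1, 0, 1, 0, 0, 0], [0, 1, 0, 0, 0, 0], [-1, 0, 0, 1, 0, 0], [-1, 1, 0, 1, -1, 1], [0, 0, 0, 1, -1, 1], [0, 0, 0, 1, -1, 0]],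
  [[-1, 0, 1, 0, 0, 0], [0, 1, 0, 0, 0, 0], [-1, 0, 0, 1, 0, 0], [0, 0, 0, 1, 0, 0], [0, 0, 0, 1, 0, -1], [0, 0, 0, 1, -1, 0]],
  [[-1, 0, 1, 0, 0, 0], [0, 1, 0, 0, 0, 0], [-1, 0, 0, 1, 0, 0], [-1, 1, 0, 1, 0, -1], [0, 0, 0, 1, 0, -1], [0, 0, 0, 0, 1, -1]],
  [[0, 1, 0, -1, 1, 0], [0, 1, 0, 0, 0, 0], [-1, 1, 1, -1, 1, 0], [0, 1, 1, -1, 1, 0], [0, 1, 1, -1, 0, 1], [0, 0, 0, 0, 0, 1]],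
  [[0, 1, 0, -1, 1, 0], [0, 1, 0, 0, 0, 0], [-1, 1, 1, -1, 1, 0], [0, 1, 1, -1, 1, 0], [0, 0, 0, 0, 1, 0], [0, 0, 0, 0, 1, -1]],
  [[-1, 0, 1, 0, 0, 0], [0, 1, 0, 0, 0, 0], [-1, 1, 1, -1, 1, 0], [-1, 2, 1, -1, 0, 1], [0, 1, 1, -1, 0, 1], [0, 0, 0, 0, 0, 1]],
  [[-1, 0, 1, 0, 0, 0], [0, 1, 0, 0, 0, 0], [-1, 1, 1, -1, 1, 0], [0, 1, 1, -1, 1, 0], [0, 1, 1, -1, 0, 1], [0, 1, 1, -1, 0, 0]],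
  [[-1, 0, 1, 0, 0, 0], [0, 1, 0, 0, 0, 0], [-1, 1, 1, -1, 1, 0], [0, 1, 1, -1, 1, 0], [0, 1, 1, -1, 1, -1], [0, 0, 0, 0, 1, -1]],
  [[-1, 0, 1, 0, 0, 0], [0, 1, 0, 0, 0, 0], [-1, 1, 1, 0, -1, 1], [0, 1, 1, 0, -1, 1], [0, 1, 1, -1, 0, 1], [0, 0, 0, 0, 0, 1]]]

def stab5 : List IMat := [
  [[-1, 0, 1, 0, 0, 0], [0, 1, 0, 0, 0, 0], [0, 0, 1, 0, 0, 0], [0, 1, 1, 0, -1, 1], [0, 1, 1, -1, 0, 1], [0, 1, 1, -1, 0, 0]],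
  [[-1, 0, 1, 0, 0, 0], [0, 1, 0, 0, 0, 0], [0, 0, 1, 0, 0, 0], [0, 1, 1, -1, 1, 0], [0, 1, 1, -1, 1, -1], [0, 1, 1, -1, 0, 0]],
  [[-1, 0, 1, 0, 0, 0], [0, 1, 0, 0, 0, 0], [0, 0, 1, 0, 0, 0], [0, 1, 1, 0, 0, -1], [0, 1, 1, -1, 1, -1], [0, 0, 0, 0, 1, -1]],
  [[0, 1, 0, 0, -1, 1], [0, 1, 0, 0, 0, 0], [-1, 1, 1, 0, -1, 1], [0, 1, 1, 0, -1, 1], [0, 0, 0, 1, -1, 1], [0, 0, 0, 0, 0, 1]],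
  [[-1, 0, 1, 0, 0, 0], [0, 1, 0, 0, 0, 0], [-1, 1, 1, 0, -1, 1], [0, 1, 1, 0, -1, 1], [0, 0, 0, 1, -1, 1], [0, 0, 0, 1, -1, 0]],
  [[-1, 0, 1, 0, 0, 0], [0, 1, 0, 0, 0, 0], [0, 0, 1, 0, 0, 0], [0, 1, 1, 0, -1, 1], [0, 1, 1, 0, -1, 0], [0, 0, 0, 1, -1, 0]],
  [[-1, 0, 1, 0, 0, 0], [0, 1, 0, 0, 0, 0], [0, 0, 1, 0, 0, 0], [0, 1, 1, 0, 0, -1], [0, 0, 0, 1, 0, -1], [0, 0, 0, 1, -1, 0]],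
  [[-1, 0, 1, 0, 0, 0], [0, 1, 0, 0, 0, 0], [-1, 1, 1, 0, 0, -1], [0, 1, 1, 0, 0, -1], [0, 0, 0, 1, 0, -1], [0, 0, 0, 0, 1, -1]],
  [[0, 1, 0, -1, 1, 0], [0, 1, 0, 0, 0, 0], [0, 1, -1, 0, 1, 0], [1, 1, -1, 0, 1, 0], [0, 0, 0, 0, 1, 0], [0, 0, 0, 0, 0, 1]],
  [[0, 0, -1, 1, 0, 0], [0, 1, 0, 0, 0, 0], [0, 1, -1, 0, 1, 0], [1, 1, -1, 0, 1, 0], [1, 1, -1, 0, 0, 1], [0, 0, 0, 0, 0, 1]],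
  [[0, 0, -1, 1, 0, 0], [0, 1, 0, 0, 0, 0], [0, 1, -1, 0, 1, 0], [1, 1, -1, 0, 1, 0], [0, 0, 0, 0, 1, 0], [0, 0, 0, 0, 1, -1]],
  [[0, 0, -1, 1, 0, 0], [0, 1, 0, 0, 0, 0], [1, 0, -1, 1, 0, 0], [1, 1, -1, 1, -1, 1], [1, 1, -1, 0, 0, 1], [0, 0, 0, 0, 0, 1]],
  [[0, 0, -1, 1, 0, 0], [0, 1, 0, 0, 0, 0], [1, 0, -1, 1, 0, 0], [1, 1, -1, 0, 1, 0], [1, 1, -1, 0, 0, 1], [1, 1, -1, 0, 0, 0]],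
  [[0, 0, -1, 1, 0, 0], [0, 1, 0, 0, 0, 0], [1, 0, -1, 1, 0, 0], [1, 1, -1, 0, 1, 0], [1, 1, -1, 0, 1, -1], [0, 0, 0, 0, 1, -1]],
  [[0, 0, -1, 1, 0, 0], [0, 1, 0, 0, 0, 0], [0, 1, -1, 1, -1, 1], [1, 1, -1, 1, -1, 1], [0, 0, 0, 1, -1, 1], [0, 0, 0, 0, 0, 1]],
  [[0, 0, -1, 1, 0, 0], [0, 1, 0, 0, 0, 0], [1, 0, -1, 1, 0, 0], [1, 1, -1, 1, -1, 1], [0, 0, 0, 1, -1, 1], [0, 0, 0, 1, -1, 0]],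
  [[0, 0, -1, 1, 0, 0], [0, 1, 0, 0, 0, 0], [1, 0, -1, 1, 0, 0], [0, 0, 0, 1, 0, 0], [0, 0, 0, 1, 0, -1], [0, 0, 0, 1, -1, 0]],
  [[0, 0, -1, 1, 0, 0], [0, 1, 0, 0, 0, 0], [1, 0, -1, 1, 0, 0], [1, 1, -1, 1, 0, -1], [0, 0, 0, 1, 0, -1], [0, 0, 0, 0, 1, -1]],
  [[0, 1, 0, -1, 1, 0], [0, 1, 0, 0, 0, 0], [1, 1, 0, -1, 1, 0], [1, 1, -1, 0, 1, 0], [1, 1, -1, 0, 0, 1], [0, 0, 0, 0, 0, 1]],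
  [[0, 1, 0, -1, 1, 0], [0, 1, 0, 0, 0, 0], [1, 1, 0, -1, 1, 0], [1, 1, -1, 0, 1, 0], [0, 0, 0, 0, 1, 0], [0, 0, 0, 0, 1, -1]],
  [[1, 0, 0, 0, 0, 0], [0, 1, 0, 0, 0, 0], [1, 1, 0, -1, 1, 0], [1, 2, 0, -1, 0, 1], [1, 1, -1, 0, 0, 1], [0, 0, 0, 0, 0, 1]],
  [[1, 0, 0, 0, 0, 0], [0, 1, 0, 0, 0, 0], [1, 1, 0, -1, 1, 0], [1, 1, -1, 0, 1, 0], [1, 1, -1, 0, 0, 1], [1, 1, -1, 0, 0, 0]],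
  [[1, 0, 0, 0, 0, 0], [0, 1, 0, 0, 0, 0], [1, 1, 0, -1, 1, 0], [1, 1, -1, 0, 1, 0], [1, 1, -1, 0, 1, -1], [0, 0, 0, 0, 1, -1]],
  [[1, 0, 0, 0, 0, 0], [0, 1, 0, 0, 0, 0], [1, 1, 0, 0, -1, 1], [1, 1, -1, 1, -1, 1], [1, 1, -1, 0, 0, 1], [0, 0, 0, 0, 0, 1]]]

def stab6 : List IMat := [
  [[1, 0, 0, 0, 0, 0], [0, 1, 0, 0, 0, 0], [1, 0, -1, 1, 0, 0], [1, 1, -1, 1, -1, 1], [1, 1, -1, 0, 0, 1], [1, 1, -1, 0, 0, 0]],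
  [[1, 0, 0, 0, 0, 0], [0, 1, 0, 0, 0, 0], [1, 0, -1, 1, 0, 0], [1, 1, -1, 0, 1, 0], [1, 1, -1, 0, 1, -1], [1, 1, -1, 0, 0, 0]],
  [[1, 0, 0, 0, 0, 0], [0, 1, 0, 0, 0, 0], [1, 0, -1, 1, 0, 0], [1, 1, -1, 1, 0, -1], [1, 1, -1, 0, 1, -1], [0, 0, 0, 0, 1, -1]],
  [[0, 1, 0, 0, -1, 1], [0, 1, 0, 0, 0, 0], [1, 1, 0, 0, -1, 1], [1, 1, -1, 1, -1, 1], [0, 0, 0, 1, -1, 1], [0, 0, 0, 0, 0, 1]],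
  [[1, 0, 0, 0, 0, 0], [0, 1, 0, 0, 0, 0], [1, 1, 0, 0, -1, 1], [1, 1, -1, 1, -1, 1], [0, 0, 0, 1, -1, 1], [0, 0, 0, 1, -1, 0]],
  [[1, 0, 0, 0, 0, 0], [0, 1, 0, 0, 0, 0], [1, 0, -1, 1, 0, 0], [1, 1, -1, 1, -1, 1], [1, 1, -1, 1, -1, 0], [0, 0, 0, 1, -1, 0]],
  [[1, 0, 0, 0, 0, 0], [0, 1, 0, 0, 0, 0], [1, 0, -1, 1, 0, 0], [1, 1, -1, 1, 0, -1], [0, 0, 0, 1, 0, -1], [0, 0, 0, 1, -1, 0]],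
  [[1, 0, 0, 0, 0, 0], [0, 1, 0, 0, 0, 0], [1, 1, 0, 0, 0, -1], [1, 1, -1, 1, 0, -1], [0, 0, 0, 1, 0, -1], [0, 0, 0, 0, 1, -1]],
  [[0, 1, 0, -1, 1, 0], [0, 1, 0, 0, 0, 0], [1, 1, 0, -1, 1, 0], [1, 2, 0, -1, 0, 1], [0, 1, 1, -1, 0, 1], [0, 0, 0, 0, 0, 1]],
  [[0, 1, 0, -1, 1, 0], [0, 1, 0, 0, 0, 0], [1, 1, 0, -1, 1, 0], [0, 1, 1, -1, 1, 0], [0, 1, 1, -1, 0, 1], [0, 1, 1, -1, 0, 0]],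
  [[0, 1, 0, -1, 1, 0], [0, 1, 0, 0, 0, 0], [1, 1, 0, -1, 1, 0], [0, 1, 1, -1, 1, 0], [0, 1, 1, -1, 1, -1], [0, 0, 0, 0, 1, -1]],
  [[1, 0, 0, 0, 0, 0], [0, 1, 0, 0, 0, 0], [1, 1, 0, 0, -1, 1], [1, 2, 0, -1, 0, 1], [0, 1, 1, -1, 0, 1], [0, 0, 0, 0, 0, 1]],
  [[1, 0, 0, 0, 0, 0], [0, 1, 0, 0, 0, 0], [1, 1, 0, -1, 1, 0], [1, 2, 0, -1, 0, 1], [0, 1, 1, -1, 0, 1], [0, 1, 1, -1, 0, 0]],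
  [[1, 0, 0, 0, 0, 0], [0, 1, 0, 0, 0, 0], [1, 1, 0, -1, 1, 0], [0, 1, 1, -1, 1, 0], [0, 1, 1, -1, 1, -1], [0, 1, 1, -1, 0, 0]],
  [[1, 0, 0, 0, 0, 0], [0, 1, 0, 0, 0, 0], [1, 1, 0, -1, 1, 0], [1, 2, 0, -1, 1, -1], [0, 1, 1, -1, 1, -1], [0, 0, 0, 0, 1, -1]],
  [[0, 1, 0, 0, -1, 1], [0, 1, 0, 0, 0, 0], [1, 1, 0, 0, -1, 1], [0, 1, 1, 0, -1, 1], [0, 1, 1, -1, 0, 1], [0, 0, 0, 0, 0, 1]],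
  [[1, 0, 0, 0, 0, 0], [0, 1, 0, 0, 0, 0], [1, 1, 0, 0, -1, 1], [0, 1, 1, 0, -1, 1], [0, 1, 1, -1, 0, 1], [0, 1, 1, -1, 0, 0]],
  [[1, 0, 0, 0, 0, 0], [0, 1, 0, 0, 0, 0], [0, 0, 1, 0, 0, 0], [0, 1, 1, 0, -1, 1], [0, 1, 1, 0, -1, 0], [0, 1, 1, -1, 0, 0]],
  [[1, 0, 0, 0, 0, 0], [0, 1, 0, 0, 0, 0], [0, 0, 1, 0, 0, 0], [0, 1, 1, 0, 0, -1], [0, 1, 1, -1, 1, -1], [0, 1, 1, -1, 0, 0]],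
  [[1, 0, 0, 0, 0, 0], [0, 1, 0, 0, 0, 0], [1, 1, 0, 0, 0, -1], [0, 1, 1, 0, 0, -1], [0, 1, 1, -1, 1, -1], [0, 0, 0, 0, 1, -1]],
  [[0, 1, 0, 0, -1, 1], [0, 1, 0, 0, 0, 0], [1, 1, 0, 0, -1, 1], [0, 1, 1, 0, -1, 1], [0, 0, 0, 1, -1, 1], [0, 0, 0, 1, -1, 0]],
  [[1, 0, 0, 0, 0, 0], [0, 1, 0, 0, 0, 0], [1, 1, 0, 0, -1, 1], [0, 1, 1, 0, -1, 1], [0, 1, 1, 0, -1, 0], [0, 0, 0, 1, -1, 0]],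
  [[1, 0, 0, 0, 0, 0], [0, 1, 0, 0, 0, 0], [0, 0, 1, 0, 0, 0], [0, 1, 1, 0, 0, -1], [0, 1, 1, 0, -1, 0], [0, 0, 0, 1, -1, 0]],
  [[1, 0, 0, 0, 0, 0], [0, 1, 0, 0, 0, 0], [1, 1, 0, 0, 0, -1], [0, 1, 1, 0, 0, -1], [0, 0, 0, 1, 0, -1], [0, 0, 0, 1, -1, 0]]]

def stab7 : List IMat := [
  [[0, 1, 0, 0, 0, -1], [0, 1, 0, 0, 0, 0], [1, 1, 0, 0, 0, -1], [0, 1, 1, 0, 0, -1], [0, 0, 0, 1, 0, -1], [0, 0, 0, 0, 1, -1]],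
  [[0, 1, 0, -1, 1, 0], [0, 1, 0, 0, 0, 0], [0, 1, -1, 0, 1, 0], [-1, 1, 0, 0, 1, 0], [0, 0, 0, 0, 1, 0], [0, 0, 0, 0, 0, 1]],
  [[0, 0, -1, 1, 0, 0], [0, 1, 0, 0, 0, 0], [0, 1, -1, 0, 1, 0], [-1, 1, 0, 0, 1, 0], [-1, 1, 0, 0, 0, 1], [0, 0, 0, 0, 0, 1]],
  [[0, 0, -1, 1, 0, 0], [0, 1, 0, 0, 0, 0], [0, 1, -1, 0, 1, 0], [-1, 1, 0, 0, 1, 0], [0, 0, 0, 0, 1, 0], [0, 0, 0, 0, 1, -1]],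
  [[0, 0, -1, 1, 0, 0], [0, 1, 0, 0, 0, 0], [-1, 0, 0, 1, 0, 0], [-1, 1, 0, 1, -1, 1], [-1, 1, 0, 0, 0, 1], [0, 0, 0, 0, 0, 1]],
  [[0, 0, -1, 1, 0, 0], [0, 1, 0, 0, 0, 0], [-1, 0, 0, 1, 0, 0], [-1, 1, 0, 0, 1, 0], [-1, 1, 0, 0, 0, 1], [-1, 1, 0, 0, 0, 0]],
  [[0, 0, -1, 1, 0, 0], [0, 1, 0, 0, 0, 0], [-1, 0, 0, 1, 0, 0], [-1, 1, 0, 0, 1, 0], [-1, 1, 0, 0, 1, -1], [0, 0, 0, 0, 1, -1]],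
  [[0, 0, -1, 1, 0, 0], [0, 1, 0, 0, 0, 0], [0, 1, -1, 1, -1, 1], [-1, 1, 0, 1, -1, 1], [0, 0, 0, 1, -1, 1], [0, 0, 0, 0, 0, 1]],
  [[0, 0, -1, 1, 0, 0], [0, 1, 0, 0, 0, 0], [-1, 0, 0, 1, 0, 0], [-1, 1, 0, 1, -1, 1], [0, 0, 0, 1, -1, 1], [0, 0, 0, 1, -1, 0]],
  [[0, 0, -1, 1, 0, 0], [0, 1, 0, 0, 0, 0], [-1, 0, 0, 1, 0, 0], [0, 0, 0, 1, 0, 0], [0, 0, 0, 1, 0, -1], [0, 0, 0, 1, -1, 0]],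
  [[0, 0, -1, 1, 0, 0], [0, 1, 0, 0, 0, 0], [-1, 0, 0, 1, 0, 0], [-1, 1, 0, 1, 0, -1], [0, 0, 0, 1, 0, -1], [0, 0, 0, 0, 1, -1]],
  [[0, 1, 0, -1, 1, 0], [0, 1, 0, 0, 0, 0], [-1, 1, 1, -1, 1, 0], [-1, 1, 0, 0, 1, 0], [-1, 1, 0, 0, 0, 1], [0, 0, 0, 0, 0, 1]],
  [[0, 1, 0, -1, 1, 0], [0, 1, 0, 0, 0, 0], [-1, 1, 1, -1, 1, 0], [-1, 1, 0, 0, 1, 0], [0, 0, 0, 0, 1, 0], [0, 0, 0, 0, 1, -1]],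
  [[-1, 0, 1, 0, 0, 0], [0, 1, 0, 0, 0, 0], [-1, 1, 1, -1, 1, 0], [-1, 2, 1, -1, 0, 1], [-1, 1, 0, 0, 0, 1], [0, 0, 0, 0, 0, 1]],
  [[-1, 0, 1, 0, 0, 0], [0, 1, 0, 0, 0, 0], [-1, 1, 1, -1, 1, 0], [-1, 1, 0, 0, 1, 0], [-1, 1, 0, 0, 0, 1], [-1, 1, 0, 0, 0, 0]],
  [[-1, 0, 1, 0, 0, 0], [0, 1, 0, 0, 0, 0], [-1, 1, 1, -1, 1, 0], [-1, 1, 0, 0, 1, 0], [-1, 1, 0, 0, 1, -1], [0, 0, 0, 0, 1, -1]],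
  [[-1, 0, 1, 0, 0, 0], [0, 1, 0, 0, 0, 0], [-1, 1, 1, 0, -1, 1], [-1, 1, 0, 1, -1, 1], [-1, 1, 0, 0, 0, 1], [0, 0, 0, 0, 0, 1]],
  [[-1, 0, 1, 0, 0, 0], [0, 1, 0, 0, 0, 0], [-1, 0, 0, 1, 0, 0], [-1, 1, 0, 1, -1, 1], [-1, 1, 0, 0, 0, 1], [-1, 1, 0, 0, 0, 0]],
  [[-1, 0, 1, 0, 0, 0], [0, 1, 0, 0, 0, 0], [-1, 0, 0, 1, 0, 0], [-1, 1, 0, 0, 1, 0], [-1, 1, 0, 0, 1, -1], [-1, 1, 0, 0, 0, 0]],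
  [[-1, 0, 1, 0, 0, 0], [0, 1, 0, 0, 0, 0], [-1, 0, 0, 1, 0, 0], [-1, 1, 0, 1, 0, -1], [-1, 1, 0, 0, 1, -1], [0, 0, 0, 0, 1, -1]],
  [[0, 1, 0, 0, -1, 1], [0, 1, 0, 0, 0, 0], [-1, 1, 1, 0, -1, 1], [-1, 1, 0, 1, -1, 1], [0, 0, 0, 1, -1, 1], [0, 0, 0, 0, 0, 1]],
  [[-1, 0, 1, 0, 0, 0], [0, 1, 0, 0, 0, 0], [-1, 1, 1, 0, -1, 1], [-1, 1, 0, 1, -1, 1], [0, 0, 0, 1, -1, 1], [0, 0, 0, 1, -1, 0]],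
  [[-1, 0, 1, 0, 0, 0], [0, 1, 0, 0, 0, 0], [-1, 0, 0, 1, 0, 0], [-1, 1, 0, 1, -1, 1], [-1, 1, 0, 1, -1, 0], [0, 0, 0, 1, -1, 0]],
  [[-1, 0, 1, 0, 0, 0], [0, 1, 0, 0, 0, 0], [-1, 0, 0, 1, 0, 0], [-1, 1, 0, 1, 0, -1], [0, 0, 0, 1, 0, -1], [0, 0, 0, 1, -1, 0]]]

def stab8 : List IMat := [
  [[-1, 0, 1, 0, 0, 0], [0, 1, 0, 0, 0, 0], [-1, 1, 1, 0, 0, -1], [-1, 1, 0, 1, 0, -1], [0, 0, 0, 1, 0, -1], [0, 0, 0, 0, 1, -1]],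
  [[0, 1, 0, -1, 1, 0], [0, 1, 0, 0, 0, 0], [-1, 1, 1, -1, 1, 0], [-1, 2, 1, -1, 0, 1], [0, 1, 1, -1, 0, 1], [0, 0, 0, 0, 0, 1]],
  [[0, 1, 0, -1, 1, 0], [0, 1, 0, 0, 0, 0], [-1, 1, 1, -1, 1, 0], [0, 1, 1, -1, 1, 0], [0, 1, 1, -1, 0, 1], [0, 1, 1, -1, 0, 0]],
  [[0, 1, 0, -1, 1, 0], [0, 1, 0, 0, 0, 0], [-1, 1, 1, -1, 1, 0], [0, 1, 1, -1, 1, 0], [0, 1, 1, -1, 1, -1], [0, 0, 0, 0, 1, -1]],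
  [[-1, 0, 1, 0, 0, 0], [0, 1, 0, 0, 0, 0], [-1, 1, 1, 0, -1, 1], [-1, 2, 1, -1, 0, 1], [0, 1, 1, -1, 0, 1], [0, 0, 0, 0, 0, 1]],
  [[-1, 0, 1, 0, 0, 0], [0, 1, 0, 0, 0, 0], [-1, 1, 1, -1, 1, 0], [-1, 2, 1, -1, 0, 1], [0, 1, 1, -1, 0, 1], [0, 1, 1, -1, 0, 0]],
  [[-1, 0, 1, 0, 0, 0], [0, 1, 0, 0, 0, 0], [-1, 1, 1, -1, 1, 0], [0, 1, 1, -1, 1, 0], [0, 1, 1, -1, 1, -1], [0, 1, 1, -1, 0, 0]],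
  [[-1, 0, 1, 0, 0, 0], [0, 1, 0, 0, 0, 0], [-1, 1, 1, -1, 1, 0], [-1, 2, 1, -1, 1, -1], [0, 1, 1, -1, 1, -1], [0, 0, 0, 0, 1, -1]],
  [[0, 1, 0, 0, -1, 1], [0, 1, 0, 0, 0, 0], [-1, 1, 1, 0, -1, 1], [0, 1, 1, 0, -1, 1], [0, 1, 1, -1, 0, 1], [0, 0, 0, 0, 0, 1]],
  [[-1, 0, 1, 0, 0, 0], [0, 1, 0, 0, 0, 0], [-1, 1, 1, 0, -1, 1], [0, 1, 1, 0, -1, 1], [0, 1, 1, -1, 0, 1], [0, 1, 1, -1, 0, 0]],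
  [[-1, 0, 1, 0, 0, 0], [0, 1, 0, 0, 0, 0], [0, 0, 1, 0, 0, 0], [0, 1, 1, 0, -1, 1], [0, 1, 1, 0, -1, 0], [0, 1, 1, -1, 0, 0]],
  [[-1, 0, 1, 0, 0, 0], [0, 1, 0, 0, 0, 0], [0, 0, 1, 0, 0, 0], [0, 1, 1, 0, 0, -1], [0, 1, 1, -1, 1, -1], [0, 1, 1, -1, 0, 0]],
  [[-1, 0, 1, 0, 0, 0], [0, 1, 0, 0, 0, 0], [-1, 1, 1, 0, 0, -1], [0, 1, 1, 0, 0, -1], [0, 1, 1, -1, 1, -1], [0, 0, 0, 0, 1, -1]],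
  [[0, 1, 0, 0, -1, 1], [0, 1, 0, 0, 0, 0], [-1, 1, 1, 0, -1, 1], [0, 1, 1, 0, -1, 1], [0, 0, 0, 1, -1, 1], [0, 0, 0, 1, -1, 0]],
  [[-1, 0, 1, 0, 0, 0], [0, 1, 0, 0, 0, 0], [-1, 1, 1, 0, -1, 1], [0, 1, 1, 0, -1, 1], [0, 1, 1, 0, -1, 0], [0, 0, 0, 1, -1, 0]],
  [[-1, 0, 1, 0, 0, 0], [0, 1, 0, 0, 0, 0], [0, 0, 1, 0, 0, 0], [0, 1, 1, 0, 0, -1], [0, 1, 1, 0, -1, 0], [0, 0, 0, 1, -1, 0]],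
  [[-1, 0, 1, 0, 0, 0], [0, 1, 0, 0, 0, 0], [-1, 1, 1, 0, 0, -1], [0, 1, 1, 0, 0, -1], [0, 0, 0, 1, 0, -1], [0, 0, 0, 1, -1, 0]],
  [[0, 1, 0, 0, 0, -1], [0, 1, 0, 0, 0, 0], [-1, 1, 1, 0, 0, -1], [0, 1, 1, 0, 0, -1], [0, 0, 0, 1, 0, -1], [0, 0, 0, 0, 1, -1]],
  [[0, 1, 0, -1, 1, 0], [0, 1, 0, 0, 0, 0], [0, 1, -1, 0, 1, 0], [1, 1, -1, 0, 1, 0], [1, 1, -1, 0, 0, 1], [0, 0, 0, 0, 0, 1]],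
  [[0, 1, 0, -1, 1, 0], [0, 1, 0, 0, 0, 0], [0, 1, -1, 0, 1, 0], [1, 1, -1, 0, 1, 0], [0, 0, 0, 0, 1, 0], [0, 0, 0, 0, 1, -1]],
  [[0, 0, -1, 1, 0, 0], [0, 1, 0, 0, 0, 0], [0, 1, -1, 0, 1, 0], [0, 2, -1, 0, 0, 1], [1, 1, -1, 0, 0, 1], [0, 0, 0, 0, 0, 1]],
  [[0, 0, -1, 1, 0, 0], [0, 1, 0, 0, 0, 0], [0, 1, -1, 0, 1, 0], [1, 1, -1, 0, 1, 0], [1, 1, -1, 0, 0, 1], [1, 1, -1, 0, 0, 0]],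
  [[0, 0, -1, 1, 0, 0], [0, 1, 0, 0, 0, 0], [0, 1, -1, 0, 1, 0], [1, 1, -1, 0, 1, 0], [1, 1, -1, 0, 1, -1], [0, 0, 0, 0, 1, -1]],
  [[0, 0, -1, 1, 0, 0], [0, 1, 0, 0, 0, 0], [0, 1, -1, 1, -1, 1], [1, 1, -1, 1, -1, 1], [1, 1, -1, 0, 0, 1], [0, 0, 0, 0, 0, 1]]]

def stab9 : List IMat := [
  [[0, 0, -1, 1, 0, 0], [0, 1, 0, 0, 0, 0], [1, 0, -1, 1, 0, 0], [1, 1, -1, 1, -1, 1], [1, 1, -1, 0, 0, 1], [1, 1, -1, 0, 0, 0]],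
  [[0, 0, -1, 1, 0, 0], [0, 1, 0, 0, 0, 0], [1, 0, -1, 1, 0, 0], [1, 1, -1, 0, 1, 0], [1, 1, -1, 0, 1, -1], [1, 1, -1, 0, 0, 0]],
  [[0, 0, -1, 1, 0, 0], [0, 1, 0, 0, 0, 0], [1, 0, -1, 1, 0, 0], [1, 1, -1, 1, 0, -1], [1, 1, -1, 0, 1, -1], [0, 0, 0, 0, 1, -1]],
  [[0, 1, 0, 0, -1, 1], [0, 1, 0, 0, 0, 0], [0, 1, -1, 1, -1, 1], [1, 1, -1, 1, -1, 1], [0, 0, 0, 1, -1, 1], [0, 0, 0, 0, 0, 1]],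
  [[0, 0, -1, 1, 0, 0], [0, 1, 0, 0, 0, 0], [0, 1, -1, 1, -1, 1], [1, 1, -1, 1, -1, 1], [0, 0, 0, 1, -1, 1], [0, 0, 0, 1, -1, 0]],
  [[0, 0, -1, 1, 0, 0], [0, 1, 0, 0, 0, 0], [1, 0, -1, 1, 0, 0], [1, 1, -1, 1, -1, 1], [1, 1, -1, 1, -1, 0], [0, 0, 0, 1, -1, 0]],
  [[0, 0, -1, 1, 0, 0], [0, 1, 0, 0, 0, 0], [1, 0, -1, 1, 0, 0], [1, 1, -1, 1, 0, -1], [0, 0, 0, 1, 0, -1], [0, 0, 0, 1, -1, 0]],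
  [[0, 0, -1, 1, 0, 0], [0, 1, 0, 0, 0, 0], [0, 1, -1, 1, 0, -1], [1, 1, -1, 1, 0, -1], [0, 0, 0, 1, 0, -1], [0, 0, 0, 0, 1, -1]],
  [[0, 1, 0, -1, 1, 0], [0, 1, 0, 0, 0, 0], [1, 1, 0, -1, 1, 0], [1, 2, 0, -1, 0, 1], [1, 1, -1, 0, 0, 1], [0, 0, 0, 0, 0, 1]],
  [[0, 1, 0, -1, 1, 0], [0, 1, 0, 0, 0, 0], [1, 1, 0, -1, 1, 0], [1, 1, -1, 0, 1, 0], [1, 1, -1, 0, 0, 1], [1, 1, -1, 0, 0, 0]],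
  [[0, 1, 0, -1, 1, 0], [0, 1, 0, 0, 0, 0], [1, 1, 0, -1, 1, 0], [1, 1, -1, 0, 1, 0], [1, 1, -1, 0, 1, -1], [0, 0, 0, 0, 1, -1]],
  [[1, 0, 0, 0, 0, 0], [0, 1, 0, 0, 0, 0], [1, 1, 0, 0, -1, 1], [1, 2, 0, -1, 0, 1], [1, 1, -1, 0, 0, 1], [0, 0, 0, 0, 0, 1]],
  [[1, 0, 0, 0, 0, 0], [0, 1, 0, 0, 0, 0], [1, 1, 0, -1, 1, 0], [1, 2, 0, -1, 0, 1], [1, 1, -1, 0, 0, 1], [1, 1, -1, 0, 0, 0]],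
  [[1, 0, 0, 0, 0, 0], [0, 1, 0, 0, 0, 0], [1, 1, 0, -1, 1, 0], [1, 1, -1, 0, 1, 0], [1, 1, -1, 0, 1, -1], [1, 1, -1, 0, 0, 0]],
  [[1, 0, 0, 0, 0, 0], [0, 1, 0, 0, 0, 0], [1, 1, 0, -1, 1, 0], [1, 2, 0, -1, 1, -1], [1, 1, -1, 0, 1, -1], [0, 0, 0, 0, 1, -1]],
  [[0, 1, 0, 0, -1, 1], [0, 1, 0, 0, 0, 0], [1, 1, 0, 0, -1, 1], [1, 1, -1, 1, -1, 1], [1, 1, -1, 0, 0, 1], [0, 0, 0, 0, 0, 1]],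
  [[1, 0, 0, 0, 0, 0], [0, 1, 0, 0, 0, 0], [1, 1, 0, 0, -1, 1], [1, 1, -1, 1, -1, 1], [1, 1, -1, 0, 0, 1], [1, 1, -1, 0, 0, 0]],
  [[1, 0, 0, 0, 0, 0], [0, 1, 0, 0, 0, 0], [1, 0, -1, 1, 0, 0], [1, 1, -1, 1, -1, 1], [1, 1, -1, 1, -1, 0], [1, 1, -1, 0, 0, 0]],
  [[1, 0, 0, 0, 0, 0], [0, 1, 0, 0, 0, 0], [1, 0, -1, 1, 0, 0], [1, 1, -1, 1, 0, -1], [1, 1, -1, 0, 1, -1], [1, 1, -1, 0, 0, 0]],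
  [[1, 0, 0, 0, 0, 0], [0, 1, 0, 0, 0, 0], [1, 1, 0, 0, 0, -1], [1, 1, -1, 1, 0, -1], [1, 1, -1, 0, 1, -1], [0, 0, 0, 0, 1, -1]],
  [[0, 1, 0, 0, -1, 1], [0, 1, 0, 0, 0, 0], [1, 1, 0, 0, -1, 1], [1, 1, -1, 1, -1, 1], [0, 0, 0, 1, -1, 1], [0, 0, 0, 1, -1, 0]],
  [[1, 0, 0, 0, 0, 0], [0, 1, 0, 0, 0, 0], [1, 1, 0, 0, -1, 1], [1, 1, -1, 1, -1, 1], [1, 1, -1, 1, -1, 0], [0, 0, 0, 1, -1, 0]],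
  [[1, 0, 0, 0, 0, 0], [0, 1, 0, 0, 0, 0], [1, 0, -1, 1, 0, 0], [1, 1, -1, 1, 0, -1], [1, 1, -1, 1, -1, 0], [0, 0, 0, 1, -1, 0]],
  [[1, 0, 0, 0, 0, 0], [0, 1, 0, 0, 0, 0], [1, 1, 0, 0, 0, -1], [1, 1, -1, 1, 0, -1], [0, 0, 0, 1, 0, -1], [0, 0, 0, 1, -1, 0]]]

def stab10 : List IMat := [
  [[0, 1, 0, 0, 0, -1], [0, 1, 0, 0, 0, 0], [1, 1, 0, 0, 0, -1], [1, 1, -1, 1, 0, -1], [0, 0, 0, 1, 0, -1], [0, 0, 0, 0, 1, -1]],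
  [[0, 1, 0, -1, 1, 0], [0, 1, 0, 0, 0, 0], [0, 2, 0, -1, 0, 1], [1, 2, 0, -1, 0, 1], [0, 1, 1, -1, 0, 1], [0, 0, 0, 0, 0, 1]],
  [[0, 1, 0, -1, 1, 0], [0, 1, 0, 0, 0, 0], [1, 1, 0, -1, 1, 0], [1, 2, 0, -1, 0, 1], [0, 1, 1, -1, 0, 1], [0, 1, 1, -1, 0, 0]],
  [[0, 1, 0, -1, 1, 0], [0, 1, 0, 0, 0, 0], [1, 1, 0, -1, 1, 0], [0, 1, 1, -1, 1, 0], [0, 1, 1, -1, 1, -1], [0, 1, 1, -1, 0, 0]],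
  [[0, 1, 0, -1, 1, 0], [0, 1, 0, 0, 0, 0], [1, 1, 0, -1, 1, 0], [1, 2, 0, -1, 1, -1], [0, 1, 1, -1, 1, -1], [0, 0, 0, 0, 1, -1]],
  [[0, 1, 0, 0, -1, 1], [0, 1, 0, 0, 0, 0], [1, 1, 0, 0, -1, 1], [1, 2, 0, -1, 0, 1], [0, 1, 1, -1, 0, 1], [0, 0, 0, 0, 0, 1]],
  [[1, 0, 0, 0, 0, 0], [0, 1, 0, 0, 0, 0], [1, 1, 0, 0, -1, 1], [1, 2, 0, -1, 0, 1], [0, 1, 1, -1, 0, 1], [0, 1, 1, -1, 0, 0]],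
  [[1, 0, 0, 0, 0, 0], [0, 1, 0, 0, 0, 0], [1, 1, 0, -1, 1, 0], [1, 2, 0, -1, 0, 1], [1, 2, 0, -1, 0, 0], [0, 1, 1, -1, 0, 0]],
  [[1, 0, 0, 0, 0, 0], [0, 1, 0, 0, 0, 0], [1, 1, 0, -1, 1, 0], [1, 2, 0, -1, 1, -1], [0, 1, 1, -1, 1, -1], [0, 1, 1, -1, 0, 0]],
  [[1, 0, 0, 0, 0, 0], [0, 1, 0, 0, 0, 0], [1, 1, 0, 0, 0, -1], [1, 2, 0, -1, 1, -1], [0, 1, 1, -1, 1, -1], [0, 0, 0, 0, 1, -1]],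
  [[0, 1, 0, 0, -1, 1], [0, 1, 0, 0, 0, 0], [1, 1, 0, 0, -1, 1], [0, 1, 1, 0, -1, 1], [0, 1, 1, -1, 0, 1], [0, 1, 1, -1, 0, 0]],
  [[1, 0, 0, 0, 0, 0], [0, 1, 0, 0, 0, 0], [1, 1, 0, 0, -1, 1], [0, 1, 1, 0, -1, 1], [0, 1, 1, 0, -1, 0], [0, 1, 1, -1, 0, 0]],
  [[1, 0, 0, 0, 0, 0], [0, 1, 0, 0, 0, 0], [0, 0, 1, 0, 0, 0], [0, 1, 1, 0, 0, -1], [0, 1, 1, 0, -1, 0], [0, 1, 1, -1, 0, 0]],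
  [[1, 0, 0, 0, 0, 0], [0, 1, 0, 0, 0, 0], [1, 1, 0, 0, 0, -1], [0, 1, 1, 0, 0, -1], [0, 1, 1, -1, 1, -1], [0, 1, 1, -1, 0, 0]],
  [[0, 1, 0, 0, 0, -1], [0, 1, 0, 0, 0, 0], [1, 1, 0, 0, 0, -1], [0, 1, 1, 0, 0, -1], [0, 1, 1, -1, 1, -1], [0, 0, 0, 0, 1, -1]],
  [[0, 1, 0, 0, -1, 1], [0, 1, 0, 0, 0, 0], [1, 1, 0, 0, -1, 1], [0, 1, 1, 0, -1, 1], [0, 1, 1, 0, -1, 0], [0, 0, 0, 1, -1, 0]],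
  [[1, 0, 0, 0, 0, 0], [0, 1, 0, 0, 0, 0], [1, 1, 0, 0, -1, 1], [1, 2, 0, 0, -1, 0], [0, 1, 1, 0, -1, 0], [0, 0, 0, 1, -1, 0]],
  [[1, 0, 0, 0, 0, 0], [0, 1, 0, 0, 0, 0], [1, 1, 0, 0, 0, -1], [0, 1, 1, 0, 0, -1], [0, 1, 1, 0, -1, 0], [0, 0, 0, 1, -1, 0]],
  [[0, 1, 0, 0, 0, -1], [0, 1, 0, 0, 0, 0], [1, 1, 0, 0, 0, -1], [0, 1, 1, 0, 0, -1], [0, 0, 0, 1, 0, -1], [0, 0, 0, 1, -1, 0]],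
  [[0, 1, 0, -1, 1, 0], [0, 1, 0, 0, 0, 0], [0, 1, -1, 0, 1, 0], [-1, 1, 0, 0, 1, 0], [-1, 1, 0, 0, 0, 1], [0, 0, 0, 0, 0, 1]],
  [[0, 1, 0, -1, 1, 0], [0, 1, 0, 0, 0, 0], [0, 1, -1, 0, 1, 0], [-1, 1, 0, 0, 1, 0], [0, 0, 0, 0, 1, 0], [0, 0, 0, 0, 1, -1]],
  [[0, 0, -1, 1, 0, 0], [0, 1, 0, 0, 0, 0], [0, 1, -1, 0, 1, 0], [0, 2, -1, 0, 0, 1], [-1, 1, 0, 0, 0, 1], [0, 0, 0, 0, 0, 1]],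
  [[0, 0, -1, 1, 0, 0], [0, 1, 0, 0, 0, 0], [0, 1, -1, 0, 1, 0], [-1, 1, 0, 0, 1, 0], [-1, 1, 0, 0, 0, 1], [-1, 1, 0, 0, 0, 0]],
  [[0, 0, -1, 1, 0, 0], [0, 1, 0, 0, 0, 0], [0, 1, -1, 0, 1, 0], [-1, 1, 0, 0, 1, 0], [-1, 1, 0, 0, 1, -1], [0, 0, 0, 0, 1, -1]]]

def stab11 : List IMat := [
  [[0, 0, -1, 1, 0, 0], [0, 1, 0, 0, 0, 0], [0, 1, -1, 1, -1, 1], [-1, 1, 0, 1, -1, 1], [-1, 1, 0, 0, 0, 1], [0, 0, 0, 0, 0, 1]],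
  [[0, 0, -1, 1, 0, 0], [0, 1, 0, 0, 0, 0], [-1, 0, 0, 1, 0, 0], [-1, 1, 0, 1, -1, 1], [-1, 1, 0, 0, 0, 1], [-1, 1, 0, 0, 0, 0]],
  [[0, 0, -1, 1, 0, 0], [0, 1, 0, 0, 0, 0], [-1, 0, 0, 1, 0, 0], [-1, 1, 0, 0, 1, 0], [-1, 1, 0, 0, 1, -1], [-1, 1, 0, 0, 0, 0]],
  [[0, 0, -1, 1, 0, 0], [0, 1, 0, 0, 0, 0], [-1, 0, 0, 1, 0, 0], [-1, 1, 0, 1, 0, -1], [-1, 1, 0, 0, 1, -1], [0, 0, 0, 0, 1, -1]],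
  [[0, 1, 0, 0, -1, 1], [0, 1, 0, 0, 0, 0], [0, 1, -1, 1, -1, 1], [-1, 1, 0, 1, -1, 1], [0, 0, 0, 1, -1, 1], [0, 0, 0, 0, 0, 1]],
  [[0, 0, -1, 1, 0, 0], [0, 1, 0, 0, 0, 0], [0, 1, -1, 1, -1, 1], [-1, 1, 0, 1, -1, 1], [0, 0, 0, 1, -1, 1], [0, 0, 0, 1, -1, 0]],
  [[0, 0, -1, 1, 0, 0], [0, 1, 0, 0, 0, 0], [-1, 0, 0, 1, 0, 0], [-1, 1, 0, 1, -1, 1], [-1, 1, 0, 1, -1, 0], [0, 0, 0, 1, -1, 0]],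
  [[0, 0, -1, 1, 0, 0], [0, 1, 0, 0, 0, 0], [-1, 0, 0, 1, 0, 0], [-1, 1, 0, 1, 0, -1], [0, 0, 0, 1, 0, -1], [0, 0, 0, 1, -1, 0]],
  [[0, 0, -1, 1, 0, 0], [0, 1, 0, 0, 0, 0], [0, 1, -1, 1, 0, -1], [-1, 1, 0, 1, 0, -1], [0, 0, 0, 1, 0, -1], [0, 0, 0, 0, 1, -1]],
  [[0, 1, 0, -1, 1, 0], [0, 1, 0, 0, 0, 0], [-1, 1, 1, -1, 1, 0], [-1, 2, 1, -1, 0, 1], [-1, 1, 0, 0, 0, 1], [0, 0, 0, 0, 0, 1]],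
  [[0, 1, 0, -1, 1, 0], [0, 1, 0, 0, 0, 0], [-1, 1, 1, -1, 1, 0], [-1, 1, 0, 0, 1, 0], [-1, 1, 0, 0, 0, 1], [-1, 1, 0, 0, 0, 0]],
  [[0, 1, 0, -1, 1, 0], [0, 1, 0, 0, 0, 0], [-1, 1, 1, -1, 1, 0], [-1, 1, 0, 0, 1, 0], [-1, 1, 0, 0, 1, -1], [0, 0, 0, 0, 1, -1]],
  [[-1, 0, 1, 0, 0, 0], [0, 1, 0, 0, 0, 0], [-1, 1, 1, 0, -1, 1], [-1, 2, 1, -1, 0, 1], [-1, 1, 0, 0, 0, 1], [0, 0, 0, 0, 0, 1]],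
  [[-1, 0, 1, 0, 0, 0], [0, 1, 0, 0, 0, 0], [-1, 1, 1, -1, 1, 0], [-1, 2, 1, -1, 0, 1], [-1, 1, 0, 0, 0, 1], [-1, 1, 0, 0, 0, 0]],
  [[-1, 0, 1, 0, 0, 0], [0, 1, 0, 0, 0, 0], [-1, 1, 1, -1, 1, 0], [-1, 1, 0, 0, 1, 0], [-1, 1, 0, 0, 1, -1], [-1, 1, 0, 0, 0, 0]],
  [[-1, 0, 1, 0, 0, 0], [0, 1, 0, 0, 0, 0], [-1, 1, 1, -1, 1, 0], [-1, 2, 1, -1, 1, -1], [-1, 1, 0, 0, 1, -1], [0, 0, 0, 0, 1, -1]],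
  [[0, 1, 0, 0, -1, 1], [0, 1, 0, 0, 0, 0], [-1, 1, 1, 0, -1, 1], [-1, 1, 0, 1, -1, 1], [-1, 1, 0, 0, 0, 1], [0, 0, 0, 0, 0, 1]],
  [[-1, 0, 1, 0, 0, 0], [0, 1, 0, 0, 0, 0], [-1, 1, 1, 0, -1, 1], [-1, 1, 0, 1, -1, 1], [-1, 1, 0, 0, 0, 1], [-1, 1, 0, 0, 0, 0]],
  [[-1, 0, 1, 0, 0, 0], [0, 1, 0, 0, 0, 0], [-1, 0, 0, 1, 0, 0], [-1, 1, 0, 1, -1, 1], [-1, 1, 0, 1, -1, 0], [-1, 1, 0, 0, 0, 0]],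
  [[-1, 0, 1, 0, 0, 0], [0, 1, 0, 0, 0, 0], [-1, 0, 0, 1, 0, 0], [-1, 1, 0, 1, 0, -1], [-1, 1, 0, 0, 1, -1], [-1, 1, 0, 0, 0, 0]],
  [[-1, 0, 1, 0, 0, 0], [0, 1, 0, 0, 0, 0], [-1, 1, 1, 0, 0, -1], [-1, 1, 0, 1, 0, -1], [-1, 1, 0, 0, 1, -1], [0, 0, 0, 0, 1, -1]],
  [[0, 1, 0, 0, -1, 1], [0, 1, 0, 0, 0, 0], [-1, 1, 1, 0, -1, 1], [-1, 1, 0, 1, -1, 1], [0, 0, 0, 1, -1, 1], [0, 0, 0, 1, -1, 0]],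
  [[-1, 0, 1, 0, 0, 0], [0, 1, 0, 0, 0, 0], [-1, 1, 1, 0, -1, 1], [-1, 1, 0, 1, -1, 1], [-1, 1, 0, 1, -1, 0], [0, 0, 0, 1, -1, 0]],
  [[-1, 0, 1, 0, 0, 0], [0, 1, 0, 0, 0, 0], [-1, 0, 0, 1, 0, 0], [-1, 1, 0, 1, 0, -1], [-1, 1, 0, 1, -1, 0], [0, 0, 0, 1, -1, 0]]]

def stab12 : List IMat := [
  [[-1, 0, 1, 0, 0, 0], [0, 1, 0, 0, 0, 0], [-1, 1, 1, 0, 0, -1], [-1, 1, 0, 1, 0, -1], [0, 0, 0, 1, 0, -1], [0, 0, 0, 1, -1, 0]],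
  [[0, 1, 0, 0, 0, -1], [0, 1, 0, 0, 0, 0], [-1, 1, 1, 0, 0, -1], [-1, 1, 0, 1, 0, -1], [0, 0, 0, 1, 0, -1], [0, 0, 0, 0, 1, -1]],
  [[0, 1, 0, -1, 1, 0], [0, 1, 0, 0, 0, 0], [0, 2, 0, -1, 0, 1], [-1, 2, 1, -1, 0, 1], [0, 1, 1, -1, 0, 1], [0, 0, 0, 0, 0, 1]],
  [[0, 1, 0, -1, 1, 0], [0, 1, 0, 0, 0, 0], [-1, 1, 1, -1, 1, 0], [-1, 2, 1, -1, 0, 1], [0, 1, 1, -1, 0, 1], [0, 1, 1, -1, 0, 0]],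
  [[0, 1, 0, -1, 1, 0], [0, 1, 0, 0, 0, 0], [-1, 1, 1, -1, 1, 0], [0, 1, 1, -1, 1, 0], [0, 1, 1, -1, 1, -1], [0, 1, 1, -1, 0, 0]],
  [[0, 1, 0, -1, 1, 0], [0, 1, 0, 0, 0, 0], [-1, 1, 1, -1, 1, 0], [-1, 2, 1, -1, 1, -1], [0, 1, 1, -1, 1, -1], [0, 0, 0, 0, 1, -1]],
  [[0, 1, 0, 0, -1, 1], [0, 1, 0, 0, 0, 0], [-1, 1, 1, 0, -1, 1], [-1, 2, 1, -1, 0, 1], [0, 1, 1, -1, 0, 1], [0, 0, 0, 0, 0, 1]],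
  [[-1, 0, 1, 0, 0, 0], [0, 1, 0, 0, 0, 0], [-1, 1, 1, 0, -1, 1], [-1, 2, 1, -1, 0, 1], [0, 1, 1, -1, 0, 1], [0, 1, 1, -1, 0, 0]],
  [[-1, 0, 1, 0, 0, 0], [0, 1, 0, 0, 0, 0], [-1, 1, 1, -1, 1, 0], [-1, 2, 1, -1, 0, 1], [-1, 2, 1, -1, 0, 0], [0, 1, 1, -1, 0, 0]],
  [[-1, 0, 1, 0, 0, 0], [0, 1, 0, 0, 0, 0], [-1, 1, 1, -1, 1, 0], [-1, 2, 1, -1, 1, -1], [0, 1, 1, -1, 1, -1], [0, 1, 1, -1, 0, 0]],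
  [[-1, 0, 1, 0, 0, 0], [0, 1, 0, 0, 0, 0], [-1, 1, 1, 0, 0, -1], [-1, 2, 1, -1, 1, -1], [0, 1, 1, -1, 1, -1], [0, 0, 0, 0, 1, -1]],
  [[0, 1, 0, 0, -1, 1], [0, 1, 0, 0, 0, 0], [-1, 1, 1, 0, -1, 1], [0, 1, 1, 0, -1, 1], [0, 1, 1, -1, 0, 1], [0, 1, 1, -1, 0, 0]],
  [[-1, 0, 1, 0, 0, 0], [0, 1, 0, 0, 0, 0], [-1, 1, 1, 0, -1, 1], [0, 1, 1, 0, -1, 1], [0, 1, 1, 0, -1, 0], [0, 1, 1, -1, 0, 0]],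
  [[-1, 0, 1, 0, 0, 0], [0, 1, 0, 0, 0, 0], [0, 0, 1, 0, 0, 0], [0, 1, 1, 0, 0, -1], [0, 1, 1, 0, -1, 0], [0, 1, 1, -1, 0, 0]],
  [[-1, 0, 1, 0, 0, 0], [0, 1, 0, 0, 0, 0], [-1, 1, 1, 0, 0, -1], [0, 1, 1, 0, 0, -1], [0, 1, 1, -1, 1, -1], [0, 1, 1, -1, 0, 0]],
  [[0, 1, 0, 0, 0, -1], [0, 1, 0, 0, 0, 0], [-1, 1, 1, 0, 0, -1], [0, 1, 1, 0, 0, -1], [0, 1, 1, -1, 1, -1], [0, 0, 0, 0, 1, -1]],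
  [[0, 1, 0, 0, -1, 1], [0, 1, 0, 0, 0, 0], [-1, 1, 1, 0, -1, 1], [0, 1, 1, 0, -1, 1], [0, 1, 1, 0, -1, 0], [0, 0, 0, 1, -1, 0]],
  [[-1, 0, 1, 0, 0, 0], [0, 1, 0, 0, 0, 0], [-1, 1, 1, 0, -1, 1], [-1, 2, 1, 0, -1, 0], [0, 1, 1, 0, -1, 0], [0, 0, 0, 1, -1, 0]],
  [[-1, 0, 1, 0, 0, 0], [0, 1, 0, 0, 0, 0], [-1, 1, 1, 0, 0, -1], [0, 1, 1, 0, 0, -1], [0, 1, 1, 0, -1, 0], [0, 0, 0, 1, -1, 0]],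
  [[0, 1, 0, 0, 0, -1], [0, 1, 0, 0, 0, 0], [-1, 1, 1, 0, 0, -1], [0, 1, 1, 0, 0, -1], [0, 0, 0, 1, 0, -1], [0, 0, 0, 1, -1, 0]],
  [[0, 1, 0, -1, 1, 0], [0, 1, 0, 0, 0, 0], [0, 1, -1, 0, 1, 0], [0, 2, -1, 0, 0, 1], [1, 1, -1, 0, 0, 1], [0, 0, 0, 0, 0, 1]],
  [[0, 1, 0, -1, 1, 0], [0, 1, 0, 0, 0, 0], [0, 1, -1, 0, 1, 0], [1, 1, -1, 0, 1, 0], [1, 1, -1, 0, 0, 1], [1, 1, -1, 0, 0, 0]],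
  [[0, 1, 0, -1, 1, 0], [0, 1, 0, 0, 0, 0], [0, 1, -1, 0, 1, 0], [1, 1, -1, 0, 1, 0], [1, 1, -1, 0, 1, -1], [0, 0, 0, 0, 1, -1]],
  [[0, 0, -1, 1, 0, 0], [0, 1, 0, 0, 0, 0], [0, 1, -1, 1, -1, 1], [0, 2, -1, 0, 0, 1], [1, 1, -1, 0, 0, 1], [0, 0, 0, 0, 0, 1]]]

def stab13 : List IMat := [
  [[0, 0, -1, 1, 0, 0], [0, 1, 0, 0, 0, 0], [0, 1, -1, 0, 1, 0], [0, 2, -1, 0, 0, 1], [1, 1, -1, 0, 0, 1], [1, 1, -1, 0, 0, 0]],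
  [[0, 0, -1, 1, 0, 0], [0, 1, 0, 0, 0, 0], [0, 1, -1, 0, 1, 0], [1, 1, -1, 0, 1, 0], [1, 1, -1, 0, 1, -1], [1, 1, -1, 0, 0, 0]],
  [[0, 0, -1, 1, 0, 0], [0, 1, 0, 0, 0, 0], [0, 1, -1, 0, 1, 0], [0, 2, -1, 0, 1, -1], [1, 1, -1, 0, 1, -1], [0, 0, 0, 0, 1, -1]],
  [[0, 1, 0, 0, -1, 1], [0, 1, 0, 0, 0, 0], [0, 1, -1, 1, -1, 1], [1, 1, -1, 1, -1, 1], [1, 1, -1, 0, 0, 1], [0, 0, 0, 0, 0, 1]],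
  [[0, 0, -1, 1, 0, 0], [0, 1, 0, 0, 0, 0], [0, 1, -1, 1, -1, 1], [1, 1, -1, 1, -1, 1], [1, 1, -1, 0, 0, 1], [1, 1, -1, 0, 0, 0]],
  [[0, 0, -1, 1, 0, 0], [0, 1, 0, 0, 0, 0], [1, 0, -1, 1, 0, 0], [1, 1, -1, 1, -1, 1], [1, 1, -1, 1, -1, 0], [1, 1, -1, 0, 0, 0]],
  [[0, 0, -1, 1, 0, 0], [0, 1, 0, 0, 0, 0], [1, 0, -1, 1, 0, 0], [1, 1, -1, 1, 0, -1], [1, 1, -1, 0, 1, -1], [1, 1, -1, 0, 0, 0]],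
  [[0, 0, -1, 1, 0, 0], [0, 1, 0, 0, 0, 0], [0, 1, -1, 1, 0, -1], [1, 1, -1, 1, 0, -1], [1, 1, -1, 0, 1, -1], [0, 0, 0, 0, 1, -1]],
  [[0, 1, 0, 0, -1, 1], [0, 1, 0, 0, 0, 0], [0, 1, -1, 1, -1, 1], [1, 1, -1, 1, -1, 1], [0, 0, 0, 1, -1, 1], [0, 0, 0, 1, -1, 0]],
  [[0, 0, -1, 1, 0, 0], [0, 1, 0, 0, 0, 0], [0, 1, -1, 1, -1, 1], [1, 1, -1, 1, -1, 1], [1, 1, -1, 1, -1, 0], [0, 0, 0, 1, -1, 0]],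
  [[0, 0, -1, 1, 0, 0], [0, 1, 0, 0, 0, 0], [1, 0, -1, 1, 0, 0], [1, 1, -1, 1, 0, -1], [1, 1, -1, 1, -1, 0], [0, 0, 0, 1, -1, 0]],
  [[0, 0, -1, 1, 0, 0], [0, 1, 0, 0, 0, 0], [0, 1, -1, 1, 0, -1], [1, 1, -1, 1, 0, -1], [0, 0, 0, 1, 0, -1], [0, 0, 0, 1, -1, 0]],
  [[0, 1, 0, 0, 0, -1], [0, 1, 0, 0, 0, 0], [0, 1, -1, 1, 0, -1], [1, 1, -1, 1, 0, -1], [0, 0, 0, 1, 0, -1], [0, 0, 0, 0, 1, -1]],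
  [[0, 1, 0, -1, 1, 0], [0, 1, 0, 0, 0, 0], [0, 2, 0, -1, 0, 1], [1, 2, 0, -1, 0, 1], [1, 1, -1, 0, 0, 1], [0, 0, 0, 0, 0, 1]],
  [[0, 1, 0, -1, 1, 0], [0, 1, 0, 0, 0, 0], [1, 1, 0, -1, 1, 0], [1, 2, 0, -1, 0, 1], [1, 1, -1, 0, 0, 1], [1, 1, -1, 0, 0, 0]],
  [[0, 1, 0, -1, 1, 0], [0, 1, 0, 0, 0, 0], [1, 1, 0, -1, 1, 0], [1, 1, -1, 0, 1, 0], [1, 1, -1, 0, 1, -1], [1, 1, -1, 0, 0, 0]],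
  [[0, 1, 0, -1, 1, 0], [0, 1, 0, 0, 0, 0], [1, 1, 0, -1, 1, 0], [1, 2, 0, -1, 1, -1], [1, 1, -1, 0, 1, -1], [0, 0, 0, 0, 1, -1]],
  [[0, 1, 0, 0, -1, 1], [0, 1, 0, 0, 0, 0], [1, 1, 0, 0, -1, 1], [1, 2, 0, -1, 0, 1], [1, 1, -1, 0, 0, 1], [0, 0, 0, 0, 0, 1]],
  [[1, 0, 0, 0, 0, 0], [0, 1, 0, 0, 0, 0], [1, 1, 0, 0, -1, 1], [1, 2, 0, -1, 0, 1], [1, 1, -1, 0, 0, 1], [1, 1, -1, 0, 0, 0]],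
  [[1, 0, 0, 0, 0, 0], [0, 1, 0, 0, 0, 0], [1, 1, 0, -1, 1, 0], [1, 2, 0, -1, 0, 1], [1, 2, 0, -1, 0, 0], [1, 1, -1, 0, 0, 0]],
  [[1, 0, 0, 0, 0, 0], [0, 1, 0, 0, 0, 0], [1, 1, 0, -1, 1, 0], [1, 2, 0, -1, 1, -1], [1, 1, -1, 0, 1, -1], [1, 1, -1, 0, 0, 0]],
  [[1, 0, 0, 0, 0, 0], [0, 1, 0, 0, 0, 0], [1, 1, 0, 0, 0, -1], [1, 2, 0, -1, 1, -1], [1, 1, -1, 0, 1, -1], [0, 0, 0, 0, 1, -1]],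
  [[0, 1, 0, 0, -1, 1], [0, 1, 0, 0, 0, 0], [1, 1, 0, 0, -1, 1], [1, 1, -1, 1, -1, 1], [1, 1, -1, 0, 0, 1], [1, 1, -1, 0, 0, 0]],
  [[1, 0, 0, 0, 0, 0], [0, 1, 0, 0, 0, 0], [1, 1, 0, 0, -1, 1], [1, 1, -1, 1, -1, 1], [1, 1, -1, 1, -1, 0], [1, 1, -1, 0, 0, 0]]]

def stab14 : List IMat := [
  [[1, 0, 0, 0, 0, 0], [0, 1, 0, 0, 0, 0], [1, 0, -1, 1, 0, 0], [1, 1, -1, 1, 0, -1], [1, 1, -1, 1, -1, 0], [1, 1, -1, 0, 0, 0]],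
  [[1, 0, 0, 0, 0, 0], [0, 1, 0, 0, 0, 0], [1, 1, 0, 0, 0, -1], [1, 1, -1, 1, 0, -1], [1, 1, -1, 0, 1, -1], [1, 1, -1, 0, 0, 0]],
  [[0, 1, 0, 0, 0, -1], [0, 1, 0, 0, 0, 0], [1, 1, 0, 0, 0, -1], [1, 1, -1, 1, 0, -1], [1, 1, -1, 0, 1, -1], [0, 0, 0, 0, 1, -1]],
  [[0, 1, 0, 0, -1, 1], [0, 1, 0, 0, 0, 0], [1, 1, 0, 0, -1, 1], [1, 1, -1, 1, -1, 1], [1, 1, -1, 1, -1, 0], [0, 0, 0, 1, -1, 0]],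
  [[1, 0, 0, 0, 0, 0], [0, 1, 0, 0, 0, 0], [1, 1, 0, 0, -1, 1], [1, 2, 0, 0, -1, 0], [1, 1, -1, 1, -1, 0], [0, 0, 0, 1, -1, 0]],
  [[1, 0, 0, 0, 0, 0], [0, 1, 0, 0, 0, 0], [1, 1, 0, 0, 0, -1], [1, 1, -1, 1, 0, -1], [1, 1, -1, 1, -1, 0], [0, 0, 0, 1, -1, 0]],
  [[0, 1, 0, 0, 0, -1], [0, 1, 0, 0, 0, 0], [1, 1, 0, 0, 0, -1], [1, 1, -1, 1, 0, -1], [0, 0, 0, 1, 0, -1], [0, 0, 0, 1, -1, 0]],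
  [[0, 1, 0, 0, -1, 1], [0, 1, 0, 0, 0, 0], [0, 2, 0, -1, 0, 1], [1, 2, 0, -1, 0, 1], [0, 1, 1, -1, 0, 1], [0, 0, 0, 0, 0, 1]],
  [[0, 1, 0, -1, 1, 0], [0, 1, 0, 0, 0, 0], [0, 2, 0, -1, 0, 1], [1, 2, 0, -1, 0, 1], [0, 1, 1, -1, 0, 1], [0, 1, 1, -1, 0, 0]],
  [[0, 1, 0, -1, 1, 0], [0, 1, 0, 0, 0, 0], [1, 1, 0, -1, 1, 0], [1, 2, 0, -1, 0, 1], [1, 2, 0, -1, 0, 0], [0, 1, 1, -1, 0, 0]],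
  [[0, 1, 0, -1, 1, 0], [0, 1, 0, 0, 0, 0], [1, 1, 0, -1, 1, 0], [1, 2, 0, -1, 1, -1], [0, 1, 1, -1, 1, -1], [0, 1, 1, -1, 0, 0]],
  [[0, 1, 0, -1, 1, 0], [0, 1, 0, 0, 0, 0], [0, 2, 0, -1, 1, -1], [1, 2, 0, -1, 1, -1], [0, 1, 1, -1, 1, -1], [0, 0, 0, 0, 1, -1]],
  [[0, 1, 0, 0, -1, 1], [0, 1, 0, 0, 0, 0], [1, 1, 0, 0, -1, 1], [1, 2, 0, -1, 0, 1], [0, 1, 1, -1, 0, 1], [0, 1, 1, -1, 0, 0]],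
  [[1, 0, 0, 0, 0, 0], [0, 1, 0, 0, 0, 0], [1, 1, 0, 0, -1, 1], [1, 2, 0, -1, 0, 1], [1, 2, 0, -1, 0, 0], [0, 1, 1, -1, 0, 0]],
  [[1, 0, 0, 0, 0, 0], [0, 1, 0, 0, 0, 0], [1, 1, 0, -1, 1, 0], [1, 2, 0, -1, 1, -1], [1, 2, 0, -1, 0, 0], [0, 1, 1, -1, 0, 0]],
  [[1, 0, 0, 0, 0, 0], [0, 1, 0, 0, 0, 0], [1, 1, 0, 0, 0, -1], [1, 2, 0, -1, 1, -1], [0, 1, 1, -1, 1, -1], [0, 1, 1, -1, 0, 0]],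
  [[0, 1, 0, 0, 0, -1], [0, 1, 0, 0, 0, 0], [1, 1, 0, 0, 0, -1], [1, 2, 0, -1, 1, -1], [0, 1, 1, -1, 1, -1], [0, 0, 0, 0, 1, -1]],
  [[0, 1, 0, 0, -1, 1], [0, 1, 0, 0, 0, 0], [1, 1, 0, 0, -1, 1], [0, 1, 1, 0, -1, 1], [0, 1, 1, 0, -1, 0], [0, 1, 1, -1, 0, 0]],
  [[1, 0, 0, 0, 0, 0], [0, 1, 0, 0, 0, 0], [1, 1, 0, 0, -1, 1], [1, 2, 0, 0, -1, 0], [0, 1, 1, 0, -1, 0], [0, 1, 1, -1, 0, 0]],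
  [[1, 0, 0, 0, 0, 0], [0, 1, 0, 0, 0, 0], [1, 1, 0, 0, 0, -1], [0, 1, 1, 0, 0, -1], [0, 1, 1, 0, -1, 0], [0, 1, 1, -1, 0, 0]],
  [[0, 1, 0, 0, 0, -1], [0, 1, 0, 0, 0, 0], [1, 1, 0, 0, 0, -1], [0, 1, 1, 0, 0, -1], [0, 1, 1, -1, 1, -1], [0, 1, 1, -1, 0, 0]],
  [[0, 1, 0, 0, -1, 1], [0, 1, 0, 0, 0, 0], [1, 1, 0, 0, -1, 1], [1, 2, 0, 0, -1, 0], [0, 1, 1, 0, -1, 0], [0, 0, 0, 1, -1, 0]],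
  [[1, 0, 0, 0, 0, 0], [0, 1, 0, 0, 0, 0], [1, 1, 0, 0, 0, -1], [1, 2, 0, 0, -1, 0], [0, 1, 1, 0, -1, 0], [0, 0, 0, 1, -1, 0]],
  [[0, 1, 0, 0, 0, -1], [0, 1, 0, 0, 0, 0], [1, 1, 0, 0, 0, -1], [0, 1, 1, 0, 0, -1], [0, 1, 1, 0, -1, 0], [0, 0, 0, 1, -1, 0]]]

def stab15 : List IMat := [
  [[0, 1, 0, -1, 1, 0], [0, 1, 0, 0, 0, 0], [0, 1, -1, 0, 1, 0], [0, 2, -1, 0, 0, 1], [-1, 1, 0, 0, 0, 1], [0, 0, 0, 0, 0, 1]],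
  [[0, 1, 0, -1, 1, 0], [0, 1, 0, 0, 0, 0], [0, 1, -1, 0, 1, 0], [-1, 1, 0, 0, 1, 0], [-1, 1, 0, 0, 0, 1], [-1, 1, 0, 0, 0, 0]],
  [[0, 1, 0, -1, 1, 0], [0, 1, 0, 0, 0, 0], [0, 1, -1, 0, 1, 0], [-1, 1, 0, 0, 1, 0], [-1, 1, 0, 0, 1, -1], [0, 0, 0, 0, 1, -1]],
  [[0, 0, -1, 1, 0, 0], [0, 1, 0, 0, 0, 0], [0, 1, -1, 1, -1, 1], [0, 2, -1, 0, 0, 1], [-1, 1, 0, 0, 0, 1], [0, 0, 0, 0, 0, 1]],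
  [[0, 0, -1, 1, 0, 0], [0, 1, 0, 0, 0, 0], [0, 1, -1, 0, 1, 0], [0, 2, -1, 0, 0, 1], [-1, 1, 0, 0, 0, 1], [-1, 1, 0, 0, 0, 0]],
  [[0, 0, -1, 1, 0, 0], [0, 1, 0, 0, 0, 0], [0, 1, -1, 0, 1, 0], [-1, 1, 0, 0, 1, 0], [-1, 1, 0, 0, 1, -1], [-1, 1, 0, 0, 0, 0]],
  [[0, 0, -1, 1, 0, 0], [0, 1, 0, 0, 0, 0], [0, 1, -1, 0, 1, 0], [0, 2, -1, 0, 1, -1], [-1, 1, 0, 0, 1, -1], [0, 0, 0, 0, 1, -1]],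
  [[0, 1, 0, 0, -1, 1], [0, 1, 0, 0, 0, 0], [0, 1, -1, 1, -1, 1], [-1, 1, 0, 1, -1, 1], [-1, 1, 0, 0, 0, 1], [0, 0, 0, 0, 0, 1]],
  [[0, 0, -1, 1, 0, 0], [0, 1, 0, 0, 0, 0], [0, 1, -1, 1, -1, 1], [-1, 1, 0, 1, -1, 1], [-1, 1, 0, 0, 0, 1], [-1, 1, 0, 0, 0, 0]],
  [[0, 0, -1, 1, 0, 0], [0, 1, 0, 0, 0, 0], [-1, 0, 0, 1, 0, 0], [-1, 1, 0, 1, -1, 1], [-1, 1, 0, 1, -1, 0], [-1, 1, 0, 0, 0, 0]],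
  [[0, 0, -1, 1, 0, 0], [0, 1, 0, 0, 0, 0], [-1, 0, 0, 1, 0, 0], [-1, 1, 0, 1, 0, -1], [-1, 1, 0, 0, 1, -1], [-1, 1, 0, 0, 0, 0]],
  [[0, 0, -1, 1, 0, 0], [0, 1, 0, 0, 0, 0], [0, 1, -1, 1, 0, -1], [-1, 1, 0, 1, 0, -1], [-1, 1, 0, 0, 1, -1], [0, 0, 0, 0, 1, -1]],
  [[0, 1, 0, 0, -1, 1], [0, 1, 0, 0, 0, 0], [0, 1, -1, 1, -1, 1], [-1, 1, 0, 1, -1, 1], [0, 0, 0, 1, -1, 1], [0, 0, 0, 1, -1, 0]],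
  [[0, 0, -1, 1, 0, 0], [0, 1, 0, 0, 0, 0], [0, 1, -1, 1, -1, 1], [-1, 1, 0, 1, -1, 1], [-1, 1, 0, 1, -1, 0], [0, 0, 0, 1, -1, 0]],
  [[0, 0, -1, 1, 0, 0], [0, 1, 0, 0, 0, 0], [-1, 0, 0, 1, 0, 0], [-1, 1, 0, 1, 0, -1], [-1, 1, 0, 1, -1, 0], [0, 0, 0, 1, -1, 0]],
  [[0, 0, -1, 1, 0, 0], [0, 1, 0, 0, 0, 0], [0, 1, -1, 1, 0, -1], [-1, 1, 0, 1, 0, -1], [0, 0, 0, 1, 0, -1], [0, 0, 0, 1, -1, 0]],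
  [[0, 1, 0, 0, 0, -1], [0, 1, 0, 0, 0, 0], [0, 1, -1, 1, 0, -1], [-1, 1, 0, 1, 0, -1], [0, 0, 0, 1, 0, -1], [0, 0, 0, 0, 1, -1]],
  [[0, 1, 0, -1, 1, 0], [0, 1, 0, 0, 0, 0], [0, 2, 0, -1, 0, 1], [-1, 2, 1, -1, 0, 1], [-1, 1, 0, 0, 0, 1], [0, 0, 0, 0, 0, 1]],
  [[0, 1, 0, -1, 1, 0], [0, 1, 0, 0, 0, 0], [-1, 1, 1, -1, 1, 0], [-1, 2, 1, -1, 0, 1], [-1, 1, 0, 0, 0, 1], [-1, 1, 0, 0, 0, 0]],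
  [[0, 1, 0, -1, 1, 0], [0, 1, 0, 0, 0, 0], [-1, 1, 1, -1, 1, 0], [-1, 1, 0, 0, 1, 0], [-1, 1, 0, 0, 1, -1], [-1, 1, 0, 0, 0, 0]],
  [[0, 1, 0, -1, 1, 0], [0, 1, 0, 0, 0, 0], [-1, 1, 1, -1, 1, 0], [-1, 2, 1, -1, 1, -1], [-1, 1, 0, 0, 1, -1], [0, 0, 0, 0, 1, -1]],
  [[0, 1, 0, 0, -1, 1], [0, 1, 0, 0, 0, 0], [-1, 1, 1, 0, -1, 1], [-1, 2, 1, -1, 0, 1], [-1, 1, 0, 0, 0, 1], [0, 0, 0, 0, 0, 1]],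
  [[-1, 0, 1, 0, 0, 0], [0, 1, 0, 0, 0, 0], [-1, 1, 1, 0, -1, 1], [-1, 2, 1, -1, 0, 1], [-1, 1, 0, 0, 0, 1], [-1, 1, 0, 0, 0, 0]],
  [[-1, 0, 1, 0, 0, 0], [0, 1, 0, 0, 0, 0], [-1, 1, 1, -1, 1, 0], [-1, 2, 1, -1, 0, 1], [-1, 2, 1, -1, 0, 0], [-1, 1, 0, 0, 0, 0]]]

def stab16 : List IMat := [
  [[-1, 0, 1, 0, 0, 0], [0, 1, 0, 0, 0, 0], [-1, 1, 1, -1, 1, 0], [-1, 2, 1, -1, 1, -1], [-1, 1, 0, 0, 1, -1], [-1, 1, 0, 0, 0, 0]],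
  [[-1, 0, 1, 0, 0, 0], [0, 1, 0, 0, 0, 0], [-1, 1, 1, 0, 0, -1], [-1, 2, 1, -1, 1, -1], [-1, 1, 0, 0, 1, -1], [0, 0, 0, 0, 1, -1]],
  [[0, 1, 0, 0, -1, 1], [0, 1, 0, 0, 0, 0], [-1, 1, 1, 0, -1, 1], [-1, 1, 0, 1, -1, 1], [-1, 1, 0, 0, 0, 1], [-1, 1, 0, 0, 0, 0]],
  [[-1, 0, 1, 0, 0, 0], [0, 1, 0, 0, 0, 0], [-1, 1, 1, 0, -1, 1], [-1, 1, 0, 1, -1, 1], [-1, 1, 0, 1, -1, 0], [-1, 1, 0, 0, 0, 0]],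
  [[-1, 0, 1, 0, 0, 0], [0, 1, 0, 0, 0, 0], [-1, 0, 0, 1, 0, 0], [-1, 1, 0, 1, 0, -1], [-1, 1, 0, 1, -1, 0], [-1, 1, 0, 0, 0, 0]],
  [[-1, 0, 1, 0, 0, 0], [0, 1, 0, 0, 0, 0], [-1, 1, 1, 0, 0, -1], [-1, 1, 0, 1, 0, -1], [-1, 1, 0, 0, 1, -1], [-1, 1, 0, 0, 0, 0]],
  [[0, 1, 0, 0, 0, -1], [0, 1, 0, 0, 0, 0], [-1, 1, 1, 0, 0, -1], [-1, 1, 0, 1, 0, -1], [-1, 1, 0, 0, 1, -1], [0, 0, 0, 0, 1, -1]],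
  [[0, 1, 0, 0, -1, 1], [0, 1, 0, 0, 0, 0], [-1, 1, 1, 0, -1, 1], [-1, 1, 0, 1, -1, 1], [-1, 1, 0, 1, -1, 0], [0, 0, 0, 1, -1, 0]],
  [[-1, 0, 1, 0, 0, 0], [0, 1, 0, 0, 0, 0], [-1, 1, 1, 0, -1, 1], [-1, 2, 1, 0, -1, 0], [-1, 1, 0, 1, -1, 0], [0, 0, 0, 1, -1, 0]],
  [[-1, 0, 1, 0, 0, 0], [0, 1, 0, 0, 0, 0], [-1, 1, 1, 0, 0, -1], [-1, 1, 0, 1, 0, -1], [-1, 1, 0, 1, -1, 0], [0, 0, 0, 1, -1, 0]],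
  [[0, 1, 0, 0, 0, -1], [0, 1, 0, 0, 0, 0], [-1, 1, 1, 0, 0, -1], [-1, 1, 0, 1, 0, -1], [0, 0, 0, 1, 0, -1], [0, 0, 0, 1, -1, 0]],
  [[0, 1, 0, 0, -1, 1], [0, 1, 0, 0, 0, 0], [0, 2, 0, -1, 0, 1], [-1, 2, 1, -1, 0, 1], [0, 1, 1, -1, 0, 1], [0, 0, 0, 0, 0, 1]],
  [[0, 1, 0, -1, 1, 0], [0, 1, 0, 0, 0, 0], [0, 2, 0, -1, 0, 1], [-1, 2, 1, -1, 0, 1], [0, 1, 1, -1, 0, 1], [0, 1, 1, -1, 0, 0]],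
  [[0, 1, 0, -1, 1, 0], [0, 1, 0, 0, 0, 0], [-1, 1, 1, -1, 1, 0], [-1, 2, 1, -1, 0, 1], [-1, 2, 1, -1, 0, 0], [0, 1, 1, -1, 0, 0]],
  [[0, 1, 0, -1, 1, 0], [0, 1, 0, 0, 0, 0], [-1, 1, 1, -1, 1, 0], [-1, 2, 1, -1, 1, -1], [0, 1, 1, -1, 1, -1], [0, 1, 1, -1, 0, 0]],
  [[0, 1, 0, -1, 1, 0], [0, 1, 0, 0, 0, 0], [0, 2, 0, -1, 1, -1], [-1, 2, 1, -1, 1, -1], [0, 1, 1, -1, 1, -1], [0, 0, 0, 0, 1, -1]],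
  [[0, 1, 0, 0, -1, 1], [0, 1, 0, 0, 0, 0], [-1, 1, 1, 0, -1, 1], [-1, 2, 1, -1, 0, 1], [0, 1, 1, -1, 0, 1], [0, 1, 1, -1, 0, 0]],
  [[-1, 0, 1, 0, 0, 0], [0, 1, 0, 0, 0, 0], [-1, 1, 1, 0, -1, 1], [-1, 2, 1, -1, 0, 1], [-1, 2, 1, -1, 0, 0], [0, 1, 1, -1, 0, 0]],
  [[-1, 0, 1, 0, 0, 0], [0, 1, 0, 0, 0, 0], [-1, 1, 1, -1, 1, 0], [-1, 2, 1, -1, 1, -1], [-1, 2, 1, -1, 0, 0], [0, 1, 1, -1, 0, 0]],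
  [[-1, 0, 1, 0, 0, 0], [0, 1, 0, 0, 0, 0], [-1, 1, 1, 0, 0, -1], [-1, 2, 1, -1, 1, -1], [0, 1, 1, -1, 1, -1], [0, 1, 1, -1, 0, 0]],
  [[0, 1, 0, 0, 0, -1], [0, 1, 0, 0, 0, 0], [-1, 1, 1, 0, 0, -1], [-1, 2, 1, -1, 1, -1], [0, 1, 1, -1, 1, -1], [0, 0, 0, 0, 1, -1]],
  [[0, 1, 0, 0, -1, 1], [0, 1, 0, 0, 0, 0], [-1, 1, 1, 0, -1, 1], [0, 1, 1, 0, -1, 1], [0, 1, 1, 0, -1, 0], [0, 1, 1, -1, 0, 0]],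
  [[-1, 0, 1, 0, 0, 0], [0, 1, 0, 0, 0, 0], [-1, 1, 1, 0, -1, 1], [-1, 2, 1, 0, -1, 0], [0, 1, 1, 0, -1, 0], [0, 1, 1, -1, 0, 0]],
  [[-1, 0, 1, 0, 0, 0], [0, 1, 0, 0, 0, 0], [-1, 1, 1, 0, 0, -1], [0, 1, 1, 0, 0, -1], [0, 1, 1, 0, -1, 0], [0, 1, 1, -1, 0, 0]]]

def stab17 : List IMat := [
  [[0, 1, 0, 0, 0, -1], [0, 1, 0, 0, 0, 0], [-1, 1, 1, 0, 0, -1], [0, 1, 1, 0, 0, -1], [0, 1, 1, -1, 1, -1], [0, 1, 1, -1, 0, 0]],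
  [[0, 1, 0, 0, -1, 1], [0, 1, 0, 0, 0, 0], [-1, 1, 1, 0, -1, 1], [-1, 2, 1, 0, -1, 0], [0, 1, 1, 0, -1, 0], [0, 0, 0, 1, -1, 0]],
  [[-1, 0, 1, 0, 0, 0], [0, 1, 0, 0, 0, 0], [-1, 1, 1, 0, 0, -1], [-1, 2, 1, 0, -1, 0], [0, 1, 1, 0, -1, 0], [0, 0, 0, 1, -1, 0]],
  [[0, 1, 0, 0, 0, -1], [0, 1, 0, 0, 0, 0], [-1, 1, 1, 0, 0, -1], [0, 1, 1, 0, 0, -1], [0, 1, 1, 0, -1, 0], [0, 0, 0, 1, -1, 0]],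
  [[0, 1, 0, -1, 1, 0], [0, 1, 0, 0, 0, 0], [0, 2, 0, -1, 0, 1], [0, 2, -1, 0, 0, 1], [1, 1, -1, 0, 0, 1], [0, 0, 0, 0, 0, 1]],
  [[0, 1, 0, -1, 1, 0], [0, 1, 0, 0, 0, 0], [0, 1, -1, 0, 1, 0], [0, 2, -1, 0, 0, 1], [1, 1, -1, 0, 0, 1], [1, 1, -1, 0, 0, 0]],
  [[0, 1, 0, -1, 1, 0], [0, 1, 0, 0, 0, 0], [0, 1, -1, 0, 1, 0], [1, 1, -1, 0, 1, 0], [1, 1, -1, 0, 1, -1], [1, 1, -1, 0, 0, 0]],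
  [[0, 1, 0, -1, 1, 0], [0, 1, 0, 0, 0, 0], [0, 1, -1, 0, 1, 0], [0, 2, -1, 0, 1, -1], [1, 1, -1, 0, 1, -1], [0, 0, 0, 0, 1, -1]],
  [[0, 1, 0, 0, -1, 1], [0, 1, 0, 0, 0, 0], [0, 1, -1, 1, -1, 1], [0, 2, -1, 0, 0, 1], [1, 1, -1, 0, 0, 1], [0, 0, 0, 0, 0, 1]],
  [[0, 0, -1, 1, 0, 0], [0, 1, 0, 0, 0, 0], [0, 1, -1, 1, -1, 1], [0, 2, -1, 0, 0, 1], [1, 1, -1, 0, 0, 1], [1, 1, -1, 0, 0, 0]],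
  [[0, 0, -1, 1, 0, 0], [0, 1, 0, 0, 0, 0], [0, 1, -1, 0, 1, 0], [0, 2, -1, 0, 0, 1], [0, 2, -1, 0, 0, 0], [1, 1, -1, 0, 0, 0]],
  [[0, 0, -1, 1, 0, 0], [0, 1, 0, 0, 0, 0], [0, 1, -1, 0, 1, 0], [0, 2, -1, 0, 1, -1], [1, 1, -1, 0, 1, -1], [1, 1, -1, 0, 0, 0]],
  [[0, 0, -1, 1, 0, 0], [0, 1, 0, 0, 0, 0], [0, 1, -1, 1, 0, -1], [0, 2, -1, 0, 1, -1], [1, 1, -1, 0, 1, -1], [0, 0, 0, 0, 1, -1]],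
  [[0, 1, 0, 0, -1, 1], [0, 1, 0, 0, 0, 0], [0, 1, -1, 1, -1, 1], [1, 1, -1, 1, -1, 1], [1, 1, -1, 0, 0, 1], [1, 1, -1, 0, 0, 0]],
  [[0, 0, -1, 1, 0, 0], [0, 1, 0, 0, 0, 0], [0, 1, -1, 1, -1, 1], [1, 1, -1, 1, -1, 1], [1, 1, -1, 1, -1, 0], [1, 1, -1, 0, 0, 0]],
  [[0, 0, -1, 1, 0, 0], [0, 1, 0, 0, 0, 0], [1, 0, -1, 1, 0, 0], [1, 1, -1, 1, 0, -1], [1, 1, -1, 1, -1, 0], [1, 1, -1, 0, 0, 0]],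
  [[0, 0, -1, 1, 0, 0], [0, 1, 0, 0, 0, 0], [0, 1, -1, 1, 0, -1], [1, 1, -1, 1, 0, -1], [1, 1, -1, 0, 1, -1], [1, 1, -1, 0, 0, 0]],
  [[0, 1, 0, 0, 0, -1], [0, 1, 0, 0, 0, 0], [0, 1, -1, 1, 0, -1], [1, 1, -1, 1, 0, -1], [1, 1, -1, 0, 1, -1], [0, 0, 0, 0, 1, -1]],
  [[0, 1, 0, 0, -1, 1], [0, 1, 0, 0, 0, 0], [0, 1, -1, 1, -1, 1], [1, 1, -1, 1, -1, 1], [1, 1, -1, 1, -1, 0], [0, 0, 0, 1, -1, 0]],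
  [[0, 0, -1, 1, 0, 0], [0, 1, 0, 0, 0, 0], [0, 1, -1, 1, -1, 1], [0, 2, -1, 1, -1, 0], [1, 1, -1, 1, -1, 0], [0, 0, 0, 1, -1, 0]],
  [[0, 0, -1, 1, 0, 0], [0, 1, 0, 0, 0, 0], [0, 1, -1, 1, 0, -1], [1, 1, -1, 1, 0, -1], [1, 1, -1, 1, -1, 0], [0, 0, 0, 1, -1, 0]],
  [[0, 1, 0, 0, 0, -1], [0, 1, 0, 0, 0, 0], [0, 1, -1, 1, 0, -1], [1, 1, -1, 1, 0, -1], [0, 0, 0, 1, 0, -1], [0, 0, 0, 1, -1, 0]],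
  [[0, 1, 0, 0, -1, 1], [0, 1, 0, 0, 0, 0], [0, 2, 0, -1, 0, 1], [1, 2, 0, -1, 0, 1], [1, 1, -1, 0, 0, 1], [0, 0, 0, 0, 0, 1]],
  [[0, 1, 0, -1, 1, 0], [0, 1, 0, 0, 0, 0], [0, 2, 0, -1, 0, 1], [1, 2, 0, -1, 0, 1], [1, 1, -1, 0, 0, 1], [1, 1, -1, 0, 0, 0]]]

def stab18 : List IMat := [
  [[0, 1, 0, -1, 1, 0], [0, 1, 0, 0, 0, 0], [1, 1, 0, -1, 1, 0], [1, 2, 0, -1, 0, 1], [1, 2, 0, -1, 0, 0], [1, 1, -1, 0, 0, 0]],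
  [[0, 1, 0, -1, 1, 0], [0, 1, 0, 0, 0, 0], [1, 1, 0, -1, 1, 0], [1, 2, 0, -1, 1, -1], [1, 1, -1, 0, 1, -1], [1, 1, -1, 0, 0, 0]],
  [[0, 1, 0, -1, 1, 0], [0, 1, 0, 0, 0, 0], [0, 2, 0, -1, 1, -1], [1, 2, 0, -1, 1, -1], [1, 1, -1, 0, 1, -1], [0, 0, 0, 0, 1, -1]],
  [[0, 1, 0, 0, -1, 1], [0, 1, 0, 0, 0, 0], [1, 1, 0, 0, -1, 1], [1, 2, 0, -1, 0, 1], [1, 1, -1, 0, 0, 1], [1, 1, -1, 0, 0, 0]],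
  [[1, 0, 0, 0, 0, 0], [0, 1, 0, 0, 0, 0], [1, 1, 0, 0, -1, 1], [1, 2, 0, -1, 0, 1], [1, 2, 0, -1, 0, 0], [1, 1, -1, 0, 0, 0]],
  [[1, 0, 0, 0, 0, 0], [0, 1, 0, 0, 0, 0], [1, 1, 0, -1, 1, 0], [1, 2, 0, -1, 1, -1], [1, 2, 0, -1, 0, 0], [1, 1, -1, 0, 0, 0]],
  [[1, 0, 0, 0, 0, 0], [0, 1, 0, 0, 0, 0], [1, 1, 0, 0, 0, -1], [1, 2, 0, -1, 1, -1], [1, 1, -1, 0, 1, -1], [1, 1, -1, 0, 0, 0]],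
  [[0, 1, 0, 0, 0, -1], [0, 1, 0, 0, 0, 0], [1, 1, 0, 0, 0, -1], [1, 2, 0, -1, 1, -1], [1, 1, -1, 0, 1, -1], [0, 0, 0, 0, 1, -1]],
  [[0, 1, 0, 0, -1, 1], [0, 1, 0, 0, 0, 0], [1, 1, 0, 0, -1, 1], [1, 1, -1, 1, -1, 1], [1, 1, -1, 1, -1, 0], [1, 1, -1, 0, 0, 0]],
  [[1, 0, 0, 0, 0, 0], [0, 1, 0, 0, 0, 0], [1, 1, 0, 0, -1, 1], [1, 2, 0, 0, -1, 0], [1, 1, -1, 1, -1, 0], [1, 1, -1, 0, 0, 0]],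
  [[1, 0, 0, 0, 0, 0], [0, 1, 0, 0, 0, 0], [1, 1, 0, 0, 0, -1], [1, 1, -1, 1, 0, -1], [1, 1, -1, 1, -1, 0], [1, 1, -1, 0, 0, 0]],
  [[0, 1, 0, 0, 0, -1], [0, 1, 0, 0, 0, 0], [1, 1, 0, 0, 0, -1], [1, 1, -1, 1, 0, -1], [1, 1, -1, 0, 1, -1], [1, 1, -1, 0, 0, 0]],
  [[0, 1, 0, 0, -1, 1], [0, 1, 0, 0, 0, 0], [1, 1, 0, 0, -1, 1], [1, 2, 0, 0, -1, 0], [1, 1, -1, 1, -1, 0], [0, 0, 0, 1, -1, 0]],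
  [[1, 0, 0, 0, 0, 0], [0, 1, 0, 0, 0, 0], [1, 1, 0, 0, 0, -1], [1, 2, 0, 0, -1, 0], [1, 1, -1, 1, -1, 0], [0, 0, 0, 1, -1, 0]],
  [[0, 1, 0, 0, 0, -1], [0, 1, 0, 0, 0, 0], [1, 1, 0, 0, 0, -1], [1, 1, -1, 1, 0, -1], [1, 1, -1, 1, -1, 0], [0, 0, 0, 1, -1, 0]],
  [[0, 1, 0, 0, -1, 1], [0, 1, 0, 0, 0, 0], [0, 2, 0, -1, 0, 1], [1, 2, 0, -1, 0, 1], [0, 1, 1, -1, 0, 1], [0, 1, 1, -1, 0, 0]],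
  [[0, 1, 0, -1, 1, 0], [0, 1, 0, 0, 0, 0], [0, 2, 0, -1, 0, 1], [1, 2, 0, -1, 0, 1], [1, 2, 0, -1, 0, 0], [0, 1, 1, -1, 0, 0]],
  [[0, 1, 0, -1, 1, 0], [0, 1, 0, 0, 0, 0], [1, 1, 0, -1, 1, 0], [1, 2, 0, -1, 1, -1], [1, 2, 0, -1, 0, 0], [0, 1, 1, -1, 0, 0]],
  [[0, 1, 0, -1, 1, 0], [0, 1, 0, 0, 0, 0], [0, 2, 0, -1, 1, -1], [1, 2, 0, -1, 1, -1], [0, 1, 1, -1, 1, -1], [0, 1, 1, -1, 0, 0]],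
  [[0, 1, 0, 0, 0, -1], [0, 1, 0, 0, 0, 0], [0, 2, 0, -1, 1, -1], [1, 2, 0, -1, 1, -1], [0, 1, 1, -1, 1, -1], [0, 0, 0, 0, 1, -1]],
  [[0, 1, 0, 0, -1, 1], [0, 1, 0, 0, 0, 0], [1, 1, 0, 0, -1, 1], [1, 2, 0, -1, 0, 1], [1, 2, 0, -1, 0, 0], [0, 1, 1, -1, 0, 0]],
  [[1, 0, 0, 0, 0, 0], [0, 1, 0, 0, 0, 0], [1, 1, 0, 0, -1, 1], [1, 2, 0, 0, -1, 0], [1, 2, 0, -1, 0, 0], [0, 1, 1, -1, 0, 0]],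
  [[1, 0, 0, 0, 0, 0], [0, 1, 0, 0, 0, 0], [1, 1, 0, 0, 0, -1], [1, 2, 0, -1, 1, -1], [1, 2, 0, -1, 0, 0], [0, 1, 1, -1, 0, 0]],
  [[0, 1, 0, 0, 0, -1], [0, 1, 0, 0, 0, 0], [1, 1, 0, 0, 0, -1], [1, 2, 0, -1, 1, -1], [0, 1, 1, -1, 1, -1], [0, 1, 1, -1, 0, 0]]]

def stab19 : List IMat := [
  [[0, 1, 0, 0, -1, 1], [0, 1, 0, 0, 0, 0], [1, 1, 0, 0, -1, 1], [1, 2, 0, 0, -1, 0], [0, 1, 1, 0, -1, 0], [0, 1, 1, -1, 0, 0]],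
  [[1, 0, 0, 0, 0, 0], [0, 1, 0, 0, 0, 0], [1, 1, 0, 0, 0, -1], [1, 2, 0, 0, -1, 0], [0, 1, 1, 0, -1, 0], [0, 1, 1, -1, 0, 0]],
  [[0, 1, 0, 0, 0, -1], [0, 1, 0, 0, 0, 0], [1, 1, 0, 0, 0, -1], [0, 1, 1, 0, 0, -1], [0, 1, 1, 0, -1, 0], [0, 1, 1, -1, 0, 0]],
  [[0, 1, 0, 0, -1, 1], [0, 1, 0, 0, 0, 0], [0, 2, 0, 0, -1, 0], [1, 2, 0, 0, -1, 0], [0, 1, 1, 0, -1, 0], [0, 0, 0, 1, -1, 0]],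
  [[0, 1, 0, 0, 0, -1], [0, 1, 0, 0, 0, 0], [1, 1, 0, 0, 0, -1], [1, 2, 0, 0, -1, 0], [0, 1, 1, 0, -1, 0], [0, 0, 0, 1, -1, 0]],
  [[0, 1, 0, -1, 1, 0], [0, 1, 0, 0, 0, 0], [0, 2, 0, -1, 0, 1], [0, 2, -1, 0, 0, 1], [-1, 1, 0, 0, 0, 1], [0, 0, 0, 0, 0, 1]],
  [[0, 1, 0, -1, 1, 0], [0, 1, 0, 0, 0, 0], [0, 1, -1, 0, 1, 0], [0, 2, -1, 0, 0, 1], [-1, 1, 0, 0, 0, 1], [-1, 1, 0, 0, 0, 0]],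
  [[0, 1, 0, -1, 1, 0], [0, 1, 0, 0, 0, 0], [0, 1, -1, 0, 1, 0], [-1, 1, 0, 0, 1, 0], [-1, 1, 0, 0, 1, -1], [-1, 1, 0, 0, 0, 0]],
  [[0, 1, 0, -1, 1, 0], [0, 1, 0, 0, 0, 0], [0, 1, -1, 0, 1, 0], [0, 2, -1, 0, 1, -1], [-1, 1, 0, 0, 1, -1], [0, 0, 0, 0, 1, -1]],
  [[0, 1, 0, 0, -1, 1], [0, 1, 0, 0, 0, 0], [0, 1, -1, 1, -1, 1], [0, 2, -1, 0, 0, 1], [-1, 1, 0, 0, 0, 1], [0, 0, 0, 0, 0, 1]],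
  [[0, 0, -1, 1, 0, 0], [0, 1, 0, 0, 0, 0], [0, 1, -1, 1, -1, 1], [0, 2, -1, 0, 0, 1], [-1, 1, 0, 0, 0, 1], [-1, 1, 0, 0, 0, 0]],
  [[0, 0, -1, 1, 0, 0], [0, 1, 0, 0, 0, 0], [0, 1, -1, 0, 1, 0], [0, 2, -1, 0, 0, 1], [0, 2, -1, 0, 0, 0], [-1, 1, 0, 0, 0, 0]],
  [[0, 0, -1, 1, 0, 0], [0, 1, 0, 0, 0, 0], [0, 1, -1, 0, 1, 0], [0, 2, -1, 0, 1, -1], [-1, 1, 0, 0, 1, -1], [-1, 1, 0, 0, 0, 0]],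
  [[0, 0, -1, 1, 0, 0], [0, 1, 0, 0, 0, 0], [0, 1, -1, 1, 0, -1], [0, 2, -1, 0, 1, -1], [-1, 1, 0, 0, 1, -1], [0, 0, 0, 0, 1, -1]],
  [[0, 1, 0, 0, -1, 1], [0, 1, 0, 0, 0, 0], [0, 1, -1, 1, -1, 1], [-1, 1, 0, 1, -1, 1], [-1, 1, 0, 0, 0, 1], [-1, 1, 0, 0, 0, 0]],
  [[0, 0, -1, 1, 0, 0], [0, 1, 0, 0, 0, 0], [0, 1, -1, 1, -1, 1], [-1, 1, 0, 1, -1, 1], [-1, 1, 0, 1, -1, 0], [-1, 1, 0, 0, 0, 0]],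
  [[0, 0, -1, 1, 0, 0], [0, 1, 0, 0, 0, 0], [-1, 0, 0, 1, 0, 0], [-1, 1, 0, 1, 0, -1], [-1, 1, 0, 1, -1, 0], [-1, 1, 0, 0, 0, 0]],
  [[0, 0, -1, 1, 0, 0], [0, 1, 0, 0, 0, 0], [0, 1, -1, 1, 0, -1], [-1, 1, 0, 1, 0, -1], [-1, 1, 0, 0, 1, -1], [-1, 1, 0, 0, 0, 0]],
  [[0, 1, 0, 0, 0, -1], [0, 1, 0, 0, 0, 0], [0, 1, -1, 1, 0, -1], [-1, 1, 0, 1, 0, -1], [-1, 1, 0, 0, 1, -1], [0, 0, 0, 0, 1, -1]],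
  [[0, 1, 0, 0, -1, 1], [0, 1, 0, 0, 0, 0], [0, 1, -1, 1, -1, 1], [-1, 1, 0, 1, -1, 1], [-1, 1, 0, 1, -1, 0], [0, 0, 0, 1, -1, 0]],
  [[0, 0, -1, 1, 0, 0], [0, 1, 0, 0, 0, 0], [0, 1, -1, 1, -1, 1], [0, 2, -1, 1, -1, 0], [-1, 1, 0, 1, -1, 0], [0, 0, 0, 1, -1, 0]],
  [[0, 0, -1, 1, 0, 0], [0, 1, 0, 0, 0, 0], [0, 1, -1, 1, 0, -1], [-1, 1, 0, 1, 0, -1], [-1, 1, 0, 1, -1, 0], [0, 0, 0, 1, -1, 0]],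
  [[0, 1, 0, 0, 0, -1], [0, 1, 0, 0, 0, 0], [0, 1, -1, 1, 0, -1], [-1, 1, 0, 1, 0, -1], [0, 0, 0, 1, 0, -1], [0, 0, 0, 1, -1, 0]],
  [[0, 1, 0, 0, -1, 1], [0, 1, 0, 0, 0, 0], [0, 2, 0, -1, 0, 1], [-1, 2, 1, -1, 0, 1], [-1, 1, 0, 0, 0, 1], [0, 0, 0, 0, 0, 1]]]

def stab20 : List IMat := [
  [[0, 1, 0, -1, 1, 0], [0, 1, 0, 0, 0, 0], [0, 2, 0, -1, 0, 1], [-1, 2, 1, -1, 0, 1], [-1, 1, 0, 0, 0, 1], [-1, 1, 0, 0, 0, 0]],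
  [[0, 1, 0, -1, 1, 0], [0, 1, 0, 0, 0, 0], [-1, 1, 1, -1, 1, 0], [-1, 2, 1, -1, 0, 1], [-1, 2, 1, -1, 0, 0], [-1, 1, 0, 0, 0, 0]],
  [[0, 1, 0, -1, 1, 0], [0, 1, 0, 0, 0, 0], [-1, 1, 1, -1, 1, 0], [-1, 2, 1, -1, 1, -1], [-1, 1, 0, 0, 1, -1], [-1, 1, 0, 0, 0, 0]],
  [[0, 1, 0, -1, 1, 0], [0, 1, 0, 0, 0, 0], [0, 2, 0, -1, 1, -1], [-1, 2, 1, -1, 1, -1], [-1, 1, 0, 0, 1, -1], [0, 0, 0, 0, 1, -1]],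
  [[0, 1, 0, 0, -1, 1], [0, 1, 0, 0, 0, 0], [-1, 1, 1, 0, -1, 1], [-1, 2, 1, -1, 0, 1], [-1, 1, 0, 0, 0, 1], [-1, 1, 0, 0, 0, 0]],
  [[-1, 0, 1, 0, 0, 0], [0, 1, 0, 0, 0, 0], [-1, 1, 1, 0, -1, 1], [-1, 2, 1, -1, 0, 1], [-1, 2, 1, -1, 0, 0], [-1, 1, 0, 0, 0, 0]],
  [[-1, 0, 1, 0, 0, 0], [0, 1, 0, 0, 0, 0], [-1, 1, 1, -1, 1, 0], [-1, 2, 1, -1, 1, -1], [-1, 2, 1, -1, 0, 0], [-1, 1, 0, 0, 0, 0]],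
  [[-1, 0, 1, 0, 0, 0], [0, 1, 0, 0, 0, 0], [-1, 1, 1, 0, 0, -1], [-1, 2, 1, -1, 1, -1], [-1, 1, 0, 0, 1, -1], [-1, 1, 0, 0, 0, 0]],
  [[0, 1, 0, 0, 0, -1], [0, 1, 0, 0, 0, 0], [-1, 1, 1, 0, 0, -1], [-1, 2, 1, -1, 1, -1], [-1, 1, 0, 0, 1, -1], [0, 0, 0, 0, 1, -1]],
  [[0, 1, 0, 0, -1, 1], [0, 1, 0, 0, 0, 0], [-1, 1, 1, 0, -1, 1], [-1, 1, 0, 1, -1, 1], [-1, 1, 0, 1, -1, 0], [-1, 1, 0, 0, 0, 0]],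
  [[-1, 0, 1, 0, 0, 0], [0, 1, 0, 0, 0, 0], [-1, 1, 1, 0, -1, 1], [-1, 2, 1, 0, -1, 0], [-1, 1, 0, 1, -1, 0], [-1, 1, 0, 0, 0, 0]],
  [[-1, 0, 1, 0, 0, 0], [0, 1, 0, 0, 0, 0], [-1, 1, 1, 0, 0, -1], [-1, 1, 0, 1, 0, -1], [-1, 1, 0, 1, -1, 0], [-1, 1, 0, 0, 0, 0]],
  [[0, 1, 0, 0, 0, -1], [0, 1, 0, 0, 0, 0], [-1, 1, 1, 0, 0, -1], [-1, 1, 0, 1, 0, -1], [-1, 1, 0, 0, 1, -1], [-1, 1, 0, 0, 0, 0]],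
  [[0, 1, 0, 0, -1, 1], [0, 1, 0, 0, 0, 0], [-1, 1, 1, 0, -1, 1], [-1, 2, 1, 0, -1, 0], [-1, 1, 0, 1, -1, 0], [0, 0, 0, 1, -1, 0]],
  [[-1, 0, 1, 0, 0, 0], [0, 1, 0, 0, 0, 0], [-1, 1, 1, 0, 0, -1], [-1, 2, 1, 0, -1, 0], [-1, 1, 0, 1, -1, 0], [0, 0, 0, 1, -1, 0]],
  [[0, 1, 0, 0, 0, -1], [0, 1, 0, 0, 0, 0], [-1, 1, 1, 0, 0, -1], [-1, 1, 0, 1, 0, -1], [-1, 1, 0, 1, -1, 0], [0, 0, 0, 1, -1, 0]],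
  [[0, 1, 0, 0, -1, 1], [0, 1, 0, 0, 0, 0], [0, 2, 0, -1, 0, 1], [-1, 2, 1, -1, 0, 1], [0, 1, 1, -1, 0, 1], [0, 1, 1, -1, 0, 0]],
  [[0, 1, 0, -1, 1, 0], [0, 1, 0, 0, 0, 0], [0, 2, 0, -1, 0, 1], [-1, 2, 1, -1, 0, 1], [-1, 2, 1, -1, 0, 0], [0, 1, 1, -1, 0, 0]],
  [[0, 1, 0, -1, 1, 0], [0, 1, 0, 0, 0, 0], [-1, 1, 1, -1, 1, 0], [-1, 2, 1, -1, 1, -1], [-1, 2, 1, -1, 0, 0], [0, 1, 1, -1, 0, 0]],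
  [[0, 1, 0, -1, 1, 0], [0, 1, 0, 0, 0, 0], [0, 2, 0, -1, 1, -1], [-1, 2, 1, -1, 1, -1], [0, 1, 1, -1, 1, -1], [0, 1, 1, -1, 0, 0]],
  [[0, 1, 0, 0, 0, -1], [0, 1, 0, 0, 0, 0], [0, 2, 0, -1, 1, -1], [-1, 2, 1, -1, 1, -1], [0, 1, 1, -1, 1, -1], [0, 0, 0, 0, 1, -1]],
  [[0, 1, 0, 0, -1, 1], [0, 1, 0, 0, 0, 0], [-1, 1, 1, 0, -1, 1], [-1, 2, 1, -1, 0, 1], [-1, 2, 1, -1, 0, 0], [0, 1, 1, -1, 0, 0]],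
  [[-1, 0, 1, 0, 0, 0], [0, 1, 0, 0, 0, 0], [-1, 1, 1, 0, -1, 1], [-1, 2, 1, 0, -1, 0], [-1, 2, 1, -1, 0, 0], [0, 1, 1, -1, 0, 0]],
  [[-1, 0, 1, 0, 0, 0], [0, 1, 0, 0, 0, 0], [-1, 1, 1, 0, 0, -1], [-1, 2, 1, -1, 1, -1], [-1, 2, 1, -1, 0, 0], [0, 1, 1, -1, 0, 0]]]

def stab21 : List IMat := [
  [[0, 1, 0, 0, 0, -1], [0, 1, 0, 0, 0, 0], [-1, 1, 1, 0, 0, -1], [-1, 2, 1, -1, 1, -1], [0, 1, 1, -1, 1, -1], [0, 1, 1, -1, 0, 0]],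
  [[0, 1, 0, 0, -1, 1], [0, 1, 0, 0, 0, 0], [-1, 1, 1, 0, -1, 1], [-1, 2, 1, 0, -1, 0], [0, 1, 1, 0, -1, 0], [0, 1, 1, -1, 0, 0]],
  [[-1, 0, 1, 0, 0, 0], [0, 1, 0, 0, 0, 0], [-1, 1, 1, 0, 0, -1], [-1, 2, 1, 0, -1, 0], [0, 1, 1, 0, -1, 0], [0, 1, 1, -1, 0, 0]],
  [[0, 1, 0, 0, 0, -1], [0, 1, 0, 0, 0, 0], [-1, 1, 1, 0, 0, -1], [0, 1, 1, 0, 0, -1], [0, 1, 1, 0, -1, 0], [0, 1, 1, -1, 0, 0]],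
  [[0, 1, 0, 0, -1, 1], [0, 1, 0, 0, 0, 0], [0, 2, 0, 0, -1, 0], [-1, 2, 1, 0, -1, 0], [0, 1, 1, 0, -1, 0], [0, 0, 0, 1, -1, 0]],
  [[0, 1, 0, 0, 0, -1], [0, 1, 0, 0, 0, 0], [-1, 1, 1, 0, 0, -1], [-1, 2, 1, 0, -1, 0], [0, 1, 1, 0, -1, 0], [0, 0, 0, 1, -1, 0]],
  [[0, 1, 0, 0, -1, 1], [0, 1, 0, 0, 0, 0], [0, 2, 0, -1, 0, 1], [0, 2, -1, 0, 0, 1], [1, 1, -1, 0, 0, 1], [0, 0, 0, 0, 0, 1]],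
  [[0, 1, 0, -1, 1, 0], [0, 1, 0, 0, 0, 0], [0, 2, 0, -1, 0, 1], [0, 2, -1, 0, 0, 1], [1, 1, -1, 0, 0, 1], [1, 1, -1, 0, 0, 0]],
  [[0, 1, 0, -1, 1, 0], [0, 1, 0, 0, 0, 0], [0, 1, -1, 0, 1, 0], [0, 2, -1, 0, 0, 1], [0, 2, -1, 0, 0, 0], [1, 1, -1, 0, 0, 0]],
  [[0, 1, 0, -1, 1, 0], [0, 1, 0, 0, 0, 0], [0, 1, -1, 0, 1, 0], [0, 2, -1, 0, 1, -1], [1, 1, -1, 0, 1, -1], [1, 1, -1, 0, 0, 0]],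
  [[0, 1, 0, -1, 1, 0], [0, 1, 0, 0, 0, 0], [0, 2, 0, -1, 1, -1], [0, 2, -1, 0, 1, -1], [1, 1, -1, 0, 1, -1], [0, 0, 0, 0, 1, -1]],
  [[0, 1, 0, 0, -1, 1], [0, 1, 0, 0, 0, 0], [0, 1, -1, 1, -1, 1], [0, 2, -1, 0, 0, 1], [1, 1, -1, 0, 0, 1], [1, 1, -1, 0, 0, 0]],
  [[0, 0, -1, 1, 0, 0], [0, 1, 0, 0, 0, 0], [0, 1, -1, 1, -1, 1], [0, 2, -1, 0, 0, 1], [0, 2, -1, 0, 0, 0], [1, 1, -1, 0, 0, 0]],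
  [[0, 0, -1, 1, 0, 0], [0, 1, 0, 0, 0, 0], [0, 1, -1, 0, 1, 0], [0, 2, -1, 0, 1, -1], [0, 2, -1, 0, 0, 0], [1, 1, -1, 0, 0, 0]],
  [[0, 0, -1, 1, 0, 0], [0, 1, 0, 0, 0, 0], [0, 1, -1, 1, 0, -1], [0, 2, -1, 0, 1, -1], [1, 1, -1, 0, 1, -1], [1, 1, -1, 0, 0, 0]],
  [[0, 1, 0, 0, 0, -1], [0, 1, 0, 0, 0, 0], [0, 1, -1, 1, 0, -1], [0, 2, -1, 0, 1, -1], [1, 1, -1, 0, 1, -1], [0, 0, 0, 0, 1, -1]],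
  [[0, 1, 0, 0, -1, 1], [0, 1, 0, 0, 0, 0], [0, 1, -1, 1, -1, 1], [1, 1, -1, 1, -1, 1], [1, 1, -1, 1, -1, 0], [1, 1, -1, 0, 0, 0]],
  [[0, 0, -1, 1, 0, 0], [0, 1, 0, 0, 0, 0], [0, 1, -1, 1, -1, 1], [0, 2, -1, 1, -1, 0], [1, 1, -1, 1, -1, 0], [1, 1, -1, 0, 0, 0]],
  [[0, 0, -1, 1, 0, 0], [0, 1, 0, 0, 0, 0], [0, 1, -1, 1, 0, -1], [1, 1, -1, 1, 0, -1], [1, 1, -1, 1, -1, 0], [1, 1, -1, 0, 0, 0]],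
  [[0, 1, 0, 0, 0, -1], [0, 1, 0, 0, 0, 0], [0, 1, -1, 1, 0, -1], [1, 1, -1, 1, 0, -1], [1, 1, -1, 0, 1, -1], [1, 1, -1, 0, 0, 0]],
  [[0, 1, 0, 0, -1, 1], [0, 1, 0, 0, 0, 0], [0, 1, -1, 1, -1, 1], [0, 2, -1, 1, -1, 0], [1, 1, -1, 1, -1, 0], [0, 0, 0, 1, -1, 0]],
  [[0, 0, -1, 1, 0, 0], [0, 1, 0, 0, 0, 0], [0, 1, -1, 1, 0, -1], [0, 2, -1, 1, -1, 0], [1, 1, -1, 1, -1, 0], [0, 0, 0, 1, -1, 0]],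
  [[0, 1, 0, 0, 0, -1], [0, 1, 0, 0, 0, 0], [0, 1, -1, 1, 0, -1], [1, 1, -1, 1, 0, -1], [1, 1, -1, 1, -1, 0], [0, 0, 0, 1, -1, 0]],
  [[0, 1, 0, 0, -1, 1], [0, 1, 0, 0, 0, 0], [0, 2, 0, -1, 0, 1], [1, 2, 0, -1, 0, 1], [1, 1, -1, 0, 0, 1], [1, 1, -1, 0, 0, 0]]]

def stab22 : List IMat := [
  [[0, 1, 0, -1, 1, 0], [0, 1, 0, 0, 0, 0], [0, 2, 0, -1, 0, 1], [1, 2, 0, -1, 0, 1], [1, 2, 0, -1, 0, 0], [1, 1, -1, 0, 0, 0]],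
  [[0, 1, 0, -1, 1, 0], [0, 1, 0, 0, 0, 0], [1, 1, 0, -1, 1, 0], [1, 2, 0, -1, 1, -1], [1, 2, 0, -1, 0, 0], [1, 1, -1, 0, 0, 0]],
  [[0, 1, 0, -1, 1, 0], [0, 1, 0, 0, 0, 0], [0, 2, 0, -1, 1, -1], [1, 2, 0, -1, 1, -1], [1, 1, -1, 0, 1, -1], [1, 1, -1, 0, 0, 0]],
  [[0, 1, 0, 0, 0, -1], [0, 1, 0, 0, 0, 0], [0, 2, 0, -1, 1, -1], [1, 2, 0, -1, 1, -1], [1, 1, -1, 0, 1, -1], [0, 0, 0, 0, 1, -1]],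
  [[0, 1, 0, 0, -1, 1], [0, 1, 0, 0, 0, 0], [1, 1, 0, 0, -1, 1], [1, 2, 0, -1, 0, 1], [1, 2, 0, -1, 0, 0], [1, 1, -1, 0, 0, 0]],
  [[1, 0, 0, 0, 0, 0], [0, 1, 0, 0, 0, 0], [1, 1, 0, 0, -1, 1], [1, 2, 0, 0, -1, 0], [1, 2, 0, -1, 0, 0], [1, 1, -1, 0, 0, 0]],
  [[1, 0, 0, 0, 0, 0], [0, 1, 0, 0, 0, 0], [1, 1, 0, 0, 0, -1], [1, 2, 0, -1, 1, -1], [1, 2, 0, -1, 0, 0], [1, 1, -1, 0, 0, 0]],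
  [[0, 1, 0, 0, 0, -1], [0, 1, 0, 0, 0, 0], [1, 1, 0, 0, 0, -1], [1, 2, 0, -1, 1, -1], [1, 1, -1, 0, 1, -1], [1, 1, -1, 0, 0, 0]],
  [[0, 1, 0, 0, -1, 1], [0, 1, 0, 0, 0, 0], [1, 1, 0, 0, -1, 1], [1, 2, 0, 0, -1, 0], [1, 1, -1, 1, -1, 0], [1, 1, -1, 0, 0, 0]],
  [[1, 0, 0, 0, 0, 0], [0, 1, 0, 0, 0, 0], [1, 1, 0, 0, 0, -1], [1, 2, 0, 0, -1, 0], [1, 1, -1, 1, -1, 0], [1, 1, -1, 0, 0, 0]],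
  [[0, 1, 0, 0, 0, -1], [0, 1, 0, 0, 0, 0], [1, 1, 0, 0, 0, -1], [1, 1, -1, 1, 0, -1], [1, 1, -1, 1, -1, 0], [1, 1, -1, 0, 0, 0]],
  [[0, 1, 0, 0, -1, 1], [0, 1, 0, 0, 0, 0], [0, 2, 0, 0, -1, 0], [1, 2, 0, 0, -1, 0], [1, 1, -1, 1, -1, 0], [0, 0, 0, 1, -1, 0]],
  [[0, 1, 0, 0, 0, -1], [0, 1, 0, 0, 0, 0], [1, 1, 0, 0, 0, -1], [1, 2, 0, 0, -1, 0], [1, 1, -1, 1, -1, 0], [0, 0, 0, 1, -1, 0]],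
  [[0, 1, 0, 0, -1, 1], [0, 1, 0, 0, 0, 0], [0, 2, 0, -1, 0, 1], [1, 2, 0, -1, 0, 1], [1, 2, 0, -1, 0, 0], [0, 1, 1, -1, 0, 0]],
  [[0, 1, 0, -1, 1, 0], [0, 1, 0, 0, 0, 0], [0, 2, 0, -1, 0, 1], [0, 3, 0, -1, 0, 0], [1, 2, 0, -1, 0, 0], [0, 1, 1, -1, 0, 0]],
  [[0, 1, 0, -1, 1, 0], [0, 1, 0, 0, 0, 0], [0, 2, 0, -1, 1, -1], [1, 2, 0, -1, 1, -1], [1, 2, 0, -1, 0, 0], [0, 1, 1, -1, 0, 0]],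
  [[0, 1, 0, 0, 0, -1], [0, 1, 0, 0, 0, 0], [0, 2, 0, -1, 1, -1], [1, 2, 0, -1, 1, -1], [0, 1, 1, -1, 1, -1], [0, 1, 1, -1, 0, 0]],
  [[0, 1, 0, 0, -1, 1], [0, 1, 0, 0, 0, 0], [1, 1, 0, 0, -1, 1], [1, 2, 0, 0, -1, 0], [1, 2, 0, -1, 0, 0], [0, 1, 1, -1, 0, 0]],
  [[1, 0, 0, 0, 0, 0], [0, 1, 0, 0, 0, 0], [1, 1, 0, 0, 0, -1], [1, 2, 0, 0, -1, 0], [1, 2, 0, -1, 0, 0], [0, 1, 1, -1, 0, 0]],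
  [[0, 1, 0, 0, 0, -1], [0, 1, 0, 0, 0, 0], [1, 1, 0, 0, 0, -1], [1, 2, 0, -1, 1, -1], [1, 2, 0, -1, 0, 0], [0, 1, 1, -1, 0, 0]],
  [[0, 1, 0, 0, -1, 1], [0, 1, 0, 0, 0, 0], [0, 2, 0, 0, -1, 0], [1, 2, 0, 0, -1, 0], [0, 1, 1, 0, -1, 0], [0, 1, 1, -1, 0, 0]],
  [[0, 1, 0, 0, 0, -1], [0, 1, 0, 0, 0, 0], [1, 1, 0, 0, 0, -1], [1, 2, 0, 0, -1, 0], [0, 1, 1, 0, -1, 0], [0, 1, 1, -1, 0, 0]],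
  [[0, 1, 0, 0, 0, -1], [0, 1, 0, 0, 0, 0], [0, 2, 0, 0, -1, 0], [1, 2, 0, 0, -1, 0], [0, 1, 1, 0, -1, 0], [0, 0, 0, 1, -1, 0]],
  [[0, 1, 0, 0, -1, 1], [0, 1, 0, 0, 0, 0], [0, 2, 0, -1, 0, 1], [0, 2, -1, 0, 0, 1], [-1, 1, 0, 0, 0, 1], [0, 0, 0, 0, 0, 1]]]

def stab23 : List IMat := [
  [[0, 1, 0, -1, 1, 0], [0, 1, 0, 0, 0, 0], [0, 2, 0, -1, 0, 1], [0, 2, -1, 0, 0, 1], [-1, 1, 0, 0, 0, 1], [-1, 1, 0, 0, 0, 0]],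
  [[0, 1, 0, -1, 1, 0], [0, 1, 0, 0, 0, 0], [0, 1, -1, 0, 1, 0], [0, 2, -1, 0, 0, 1], [0, 2, -1, 0, 0, 0], [-1, 1, 0, 0, 0, 0]],
  [[0, 1, 0, -1, 1, 0], [0, 1, 0, 0, 0, 0], [0, 1, -1, 0, 1, 0], [0, 2, -1, 0, 1, -1], [-1, 1, 0, 0, 1, -1], [-1, 1, 0, 0, 0, 0]],
  [[0, 1, 0, -1, 1, 0], [0, 1, 0, 0, 0, 0], [0, 2, 0, -1, 1, -1], [0, 2, -1, 0, 1, -1], [-1, 1, 0, 0, 1, -1], [0, 0, 0, 0, 1, -1]],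
  [[0, 1, 0, 0, -1, 1], [0, 1, 0, 0, 0, 0], [0, 1, -1, 1, -1, 1], [0, 2, -1, 0, 0, 1], [-1, 1, 0, 0, 0, 1], [-1, 1, 0, 0, 0, 0]],
  [[0, 0, -1, 1, 0, 0], [0, 1, 0, 0, 0, 0], [0, 1, -1, 1, -1, 1], [0, 2, -1, 0, 0, 1], [0, 2, -1, 0, 0, 0], [-1, 1, 0, 0, 0, 0]],
  [[0, 0, -1, 1, 0, 0], [0, 1, 0, 0, 0, 0], [0, 1, -1, 0, 1, 0], [0, 2, -1, 0, 1, -1], [0, 2, -1, 0, 0, 0], [-1, 1, 0, 0, 0, 0]],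
  [[0, 0, -1, 1, 0, 0], [0, 1, 0, 0, 0, 0], [0, 1, -1, 1, 0, -1], [0, 2, -1, 0, 1, -1], [-1, 1, 0, 0, 1, -1], [-1, 1, 0, 0, 0, 0]],
  [[0, 1, 0, 0, 0, -1], [0, 1, 0, 0, 0, 0], [0, 1, -1, 1, 0, -1], [0, 2, -1, 0, 1, -1], [-1, 1, 0, 0, 1, -1], [0, 0, 0, 0, 1, -1]],
  [[0, 1, 0, 0, -1, 1], [0, 1, 0, 0, 0, 0], [0, 1, -1, 1, -1, 1], [-1, 1, 0, 1, -1, 1], [-1, 1, 0, 1, -1, 0], [-1, 1, 0, 0, 0, 0]],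
  [[0, 0, -1, 1, 0, 0], [0, 1, 0, 0, 0, 0], [0, 1, -1, 1, -1, 1], [0, 2, -1, 1, -1, 0], [-1, 1, 0, 1, -1, 0], [-1, 1, 0, 0, 0, 0]],
  [[0, 0, -1, 1, 0, 0], [0, 1, 0, 0, 0, 0], [0, 1, -1, 1, 0, -1], [-1, 1, 0, 1, 0, -1], [-1, 1, 0, 1, -1, 0], [-1, 1, 0, 0, 0, 0]],
  [[0, 1, 0, 0, 0, -1], [0, 1, 0, 0, 0, 0], [0, 1, -1, 1, 0, -1], [-1, 1, 0, 1, 0, -1], [-1, 1, 0, 0, 1, -1], [-1, 1, 0, 0, 0, 0]],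
  [[0, 1, 0, 0, -1, 1], [0, 1, 0, 0, 0, 0], [0, 1, -1, 1, -1, 1], [0, 2, -1, 1, -1, 0], [-1, 1, 0, 1, -1, 0], [0, 0, 0, 1, -1, 0]],
  [[0, 0, -1, 1, 0, 0], [0, 1, 0, 0, 0, 0], [0, 1, -1, 1, 0, -1], [0, 2, -1, 1, -1, 0], [-1, 1, 0, 1, -1, 0], [0, 0, 0, 1, -1, 0]],
  [[0, 1, 0, 0, 0, -1], [0, 1, 0, 0, 0, 0], [0, 1, -1, 1, 0, -1], [-1, 1, 0, 1, 0, -1], [-1, 1, 0, 1, -1, 0], [0, 0, 0, 1, -1, 0]],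
  [[0, 1, 0, 0, -1, 1], [0, 1, 0, 0, 0, 0], [0, 2, 0, -1, 0, 1], [-1, 2, 1, -1, 0, 1], [-1, 1, 0, 0, 0, 1], [-1, 1, 0, 0, 0, 0]],
  [[0, 1, 0, -1, 1, 0], [0, 1, 0, 0, 0, 0], [0, 2, 0, -1, 0, 1], [-1, 2, 1, -1, 0, 1], [-1, 2, 1, -1, 0, 0], [-1, 1, 0, 0, 0, 0]],
  [[0, 1, 0, -1, 1, 0], [0, 1, 0, 0, 0, 0], [-1, 1, 1, -1, 1, 0], [-1, 2, 1, -1, 1, -1], [-1, 2, 1, -1, 0, 0], [-1, 1, 0, 0, 0, 0]],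
  [[0, 1, 0, -1, 1, 0], [0, 1, 0, 0, 0, 0], [0, 2, 0, -1, 1, -1], [-1, 2, 1, -1, 1, -1], [-1, 1, 0, 0, 1, -1], [-1, 1, 0, 0, 0, 0]],
  [[0, 1, 0, 0, 0, -1], [0, 1, 0, 0, 0, 0], [0, 2, 0, -1, 1, -1], [-1, 2, 1, -1, 1, -1], [-1, 1, 0, 0, 1, -1], [0, 0, 0, 0, 1, -1]],
  [[0, 1, 0, 0, -1, 1], [0, 1, 0, 0, 0, 0], [-1, 1, 1, 0, -1, 1], [-1, 2, 1, -1, 0, 1], [-1, 2, 1, -1, 0, 0], [-1, 1, 0, 0, 0, 0]],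
  [[-1, 0, 1, 0, 0, 0], [0, 1, 0, 0, 0, 0], [-1, 1, 1, 0, -1, 1], [-1, 2, 1, 0, -1, 0], [-1, 2, 1, -1, 0, 0], [-1, 1, 0, 0, 0, 0]],
  [[-1, 0, 1, 0, 0, 0], [0, 1, 0, 0, 0, 0], [-1, 1, 1, 0, 0, -1], [-1, 2, 1, -1, 1, -1], [-1, 2, 1, -1, 0, 0], [-1, 1, 0, 0, 0, 0]]]

def stab24 : List IMat := [
  [[0, 1, 0, 0, 0, -1], [0, 1, 0, 0, 0, 0], [-1, 1, 1, 0, 0, -1], [-1, 2, 1, -1, 1, -1], [-1, 1, 0, 0, 1, -1], [-1, 1, 0, 0, 0, 0]],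
  [[0, 1, 0, 0, -1, 1], [0, 1, 0, 0, 0, 0], [-1, 1, 1, 0, -1, 1], [-1, 2, 1, 0, -1, 0], [-1, 1, 0, 1, -1, 0], [-1, 1, 0, 0, 0, 0]],
  [[-1, 0, 1, 0, 0, 0], [0, 1, 0, 0, 0, 0], [-1, 1, 1, 0, 0, -1], [-1, 2, 1, 0, -1, 0], [-1, 1, 0, 1, -1, 0], [-1, 1, 0, 0, 0, 0]],
  [[0, 1, 0, 0, 0, -1], [0, 1, 0, 0, 0, 0], [-1, 1, 1, 0, 0, -1], [-1, 1, 0, 1, 0, -1], [-1, 1, 0, 1, -1, 0], [-1, 1, 0, 0, 0, 0]],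
  [[0, 1, 0, 0, -1, 1], [0, 1, 0, 0, 0, 0], [0, 2, 0, 0, -1, 0], [-1, 2, 1, 0, -1, 0], [-1, 1, 0, 1, -1, 0], [0, 0, 0, 1, -1, 0]],
  [[0, 1, 0, 0, 0, -1], [0, 1, 0, 0, 0, 0], [-1, 1, 1, 0, 0, -1], [-1, 2, 1, 0, -1, 0], [-1, 1, 0, 1, -1, 0], [0, 0, 0, 1, -1, 0]],
  [[0, 1, 0, 0, -1, 1], [0, 1, 0, 0, 0, 0], [0, 2, 0, -1, 0, 1], [-1, 2, 1, -1, 0, 1], [-1, 2, 1, -1, 0, 0], [0, 1, 1, -1, 0, 0]],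
  [[0, 1, 0, -1, 1, 0], [0, 1, 0, 0, 0, 0], [0, 2, 0, -1, 0, 1], [0, 3, 0, -1, 0, 0], [-1, 2, 1, -1, 0, 0], [0, 1, 1, -1, 0, 0]],
  [[0, 1, 0, -1, 1, 0], [0, 1, 0, 0, 0, 0], [0, 2, 0, -1, 1, -1], [-1, 2, 1, -1, 1, -1], [-1, 2, 1, -1, 0, 0], [0, 1, 1, -1, 0, 0]],
  [[0, 1, 0, 0, 0, -1], [0, 1, 0, 0, 0, 0], [0, 2, 0, -1, 1, -1], [-1, 2, 1, -1, 1, -1], [0, 1, 1, -1, 1, -1], [0, 1, 1, -1, 0, 0]],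
  [[0, 1, 0, 0, -1, 1], [0, 1, 0, 0, 0, 0], [-1, 1, 1, 0, -1, 1], [-1, 2, 1, 0, -1, 0], [-1, 2, 1, -1, 0, 0], [0, 1, 1, -1, 0, 0]],
  [[-1, 0, 1, 0, 0, 0], [0, 1, 0, 0, 0, 0], [-1, 1, 1, 0, 0, -1], [-1, 2, 1, 0, -1, 0], [-1, 2, 1, -1, 0, 0], [0, 1, 1, -1, 0, 0]],
  [[0, 1, 0, 0, 0, -1], [0, 1, 0, 0, 0, 0], [-1, 1, 1, 0, 0, -1], [-1, 2, 1, -1, 1, -1], [-1, 2, 1, -1, 0, 0], [0, 1, 1, -1, 0, 0]],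
  [[0, 1, 0, 0, -1, 1], [0, 1, 0, 0, 0, 0], [0, 2, 0, 0, -1, 0], [-1, 2, 1, 0, -1, 0], [0, 1, 1, 0, -1, 0], [0, 1, 1, -1, 0, 0]],
  [[0, 1, 0, 0, 0, -1], [0, 1, 0, 0, 0, 0], [-1, 1, 1, 0, 0, -1], [-1, 2, 1, 0, -1, 0], [0, 1, 1, 0, -1, 0], [0, 1, 1, -1, 0, 0]],
  [[0, 1, 0, 0, 0, -1], [0, 1, 0, 0, 0, 0], [0, 2, 0, 0, -1, 0], [-1, 2, 1, 0, -1, 0], [0, 1, 1, 0, -1, 0], [0, 0, 0, 1, -1, 0]],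
  [[0, 1, 0, 0, -1, 1], [0, 1, 0, 0, 0, 0], [0, 2, 0, -1, 0, 1], [0, 2, -1, 0, 0, 1], [1, 1, -1, 0, 0, 1], [1, 1, -1, 0, 0, 0]],
  [[0, 1, 0, -1, 1, 0], [0, 1, 0, 0, 0, 0], [0, 2, 0, -1, 0, 1], [0, 2, -1, 0, 0, 1], [0, 2, -1, 0, 0, 0], [1, 1, -1, 0, 0, 0]],
  [[0, 1, 0, -1, 1, 0], [0, 1, 0, 0, 0, 0], [0, 1, -1, 0, 1, 0], [0, 2, -1, 0, 1, -1], [0, 2, -1, 0, 0, 0], [1, 1, -1, 0, 0, 0]],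
  [[0, 1, 0, -1, 1, 0], [0, 1, 0, 0, 0, 0], [0, 2, 0, -1, 1, -1], [0, 2, -1, 0, 1, -1], [1, 1, -1, 0, 1, -1], [1, 1, -1, 0, 0, 0]],
  [[0, 1, 0, 0, 0, -1], [0, 1, 0, 0, 0, 0], [0, 2, 0, -1, 1, -1], [0, 2, -1, 0, 1, -1], [1, 1, -1, 0, 1, -1], [0, 0, 0, 0, 1, -1]],
  [[0, 1, 0, 0, -1, 1], [0, 1, 0, 0, 0, 0], [0, 1, -1, 1, -1, 1], [0, 2, -1, 0, 0, 1], [0, 2, -1, 0, 0, 0], [1, 1, -1, 0, 0, 0]],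
  [[0, 0, -1, 1, 0, 0], [0, 1, 0, 0, 0, 0], [0, 1, -1, 1, -1, 1], [0, 2, -1, 1, -1, 0], [0, 2, -1, 0, 0, 0], [1, 1, -1, 0, 0, 0]],
  [[0, 0, -1, 1, 0, 0], [0, 1, 0, 0, 0, 0], [0, 1, -1, 1, 0, -1], [0, 2, -1, 0, 1, -1], [0, 2, -1, 0, 0, 0], [1, 1, -1, 0, 0, 0]]]

def stab25 : List IMat := [
  [[0, 1, 0, 0, 0, -1], [0, 1, 0, 0, 0, 0], [0, 1, -1, 1, 0, -1], [0, 2, -1, 0, 1, -1], [1, 1, -1, 0, 1, -1], [1, 1, -1, 0, 0, 0]],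
  [[0, 1, 0, 0, -1, 1], [0, 1, 0, 0, 0, 0], [0, 1, -1, 1, -1, 1], [0, 2, -1, 1, -1, 0], [1, 1, -1, 1, -1, 0], [1, 1, -1, 0, 0, 0]],
  [[0, 0, -1, 1, 0, 0], [0, 1, 0, 0, 0, 0], [0, 1, -1, 1, 0, -1], [0, 2, -1, 1, -1, 0], [1, 1, -1, 1, -1, 0], [1, 1, -1, 0, 0, 0]],
  [[0, 1, 0, 0, 0, -1], [0, 1, 0, 0, 0, 0], [0, 1, -1, 1, 0, -1], [1, 1, -1, 1, 0, -1], [1, 1, -1, 1, -1, 0], [1, 1, -1, 0, 0, 0]],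
  [[0, 1, 0, 0, -1, 1], [0, 1, 0, 0, 0, 0], [0, 2, 0, 0, -1, 0], [0, 2, -1, 1, -1, 0], [1, 1, -1, 1, -1, 0], [0, 0, 0, 1, -1, 0]],
  [[0, 1, 0, 0, 0, -1], [0, 1, 0, 0, 0, 0], [0, 1, -1, 1, 0, -1], [0, 2, -1, 1, -1, 0], [1, 1, -1, 1, -1, 0], [0, 0, 0, 1, -1, 0]],
  [[0, 1, 0, 0, -1, 1], [0, 1, 0, 0, 0, 0], [0, 2, 0, -1, 0, 1], [1, 2, 0, -1, 0, 1], [1, 2, 0, -1, 0, 0], [1, 1, -1, 0, 0, 0]],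
  [[0, 1, 0, -1, 1, 0], [0, 1, 0, 0, 0, 0], [0, 2, 0, -1, 0, 1], [0, 3, 0, -1, 0, 0], [1, 2, 0, -1, 0, 0], [1, 1, -1, 0, 0, 0]],
  [[0, 1, 0, -1, 1, 0], [0, 1, 0, 0, 0, 0], [0, 2, 0, -1, 1, -1], [1, 2, 0, -1, 1, -1], [1, 2, 0, -1, 0, 0], [1, 1, -1, 0, 0, 0]],
  [[0, 1, 0, 0, 0, -1], [0, 1, 0, 0, 0, 0], [0, 2, 0, -1, 1, -1], [1, 2, 0, -1, 1, -1], [1, 1, -1, 0, 1, -1], [1, 1, -1, 0, 0, 0]],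
  [[0, 1, 0, 0, -1, 1], [0, 1, 0, 0, 0, 0], [1, 1, 0, 0, -1, 1], [1, 2, 0, 0, -1, 0], [1, 2, 0, -1, 0, 0], [1, 1, -1, 0, 0, 0]],
  [[1, 0, 0, 0, 0, 0], [0, 1, 0, 0, 0, 0], [1, 1, 0, 0, 0, -1], [1, 2, 0, 0, -1, 0], [1, 2, 0, -1, 0, 0], [1, 1, -1, 0, 0, 0]],
  [[0, 1, 0, 0, 0, -1], [0, 1, 0, 0, 0, 0], [1, 1, 0, 0, 0, -1], [1, 2, 0, -1, 1, -1], [1, 2, 0, -1, 0, 0], [1, 1, -1, 0, 0, 0]],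
  [[0, 1, 0, 0, -1, 1], [0, 1, 0, 0, 0, 0], [0, 2, 0, 0, -1, 0], [1, 2, 0, 0, -1, 0], [1, 1, -1, 1, -1, 0], [1, 1, -1, 0, 0, 0]],
  [[0, 1, 0, 0, 0, -1], [0, 1, 0, 0, 0, 0], [1, 1, 0, 0, 0, -1], [1, 2, 0, 0, -1, 0], [1, 1, -1, 1, -1, 0], [1, 1, -1, 0, 0, 0]],
  [[0, 1, 0, 0, 0, -1], [0, 1, 0, 0, 0, 0], [0, 2, 0, 0, -1, 0], [1, 2, 0, 0, -1, 0], [1, 1, -1, 1, -1, 0], [0, 0, 0, 1, -1, 0]],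
  [[0, 1, 0, 0, -1, 1], [0, 1, 0, 0, 0, 0], [0, 2, 0, -1, 0, 1], [0, 3, 0, -1, 0, 0], [1, 2, 0, -1, 0, 0], [0, 1, 1, -1, 0, 0]],
  [[0, 1, 0, -1, 1, 0], [0, 1, 0, 0, 0, 0], [0, 2, 0, -1, 1, -1], [0, 3, 0, -1, 0, 0], [1, 2, 0, -1, 0, 0], [0, 1, 1, -1, 0, 0]],
  [[0, 1, 0, 0, 0, -1], [0, 1, 0, 0, 0, 0], [0, 2, 0, -1, 1, -1], [1, 2, 0, -1, 1, -1], [1, 2, 0, -1, 0, 0], [0, 1, 1, -1, 0, 0]],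
  [[0, 1, 0, 0, -1, 1], [0, 1, 0, 0, 0, 0], [0, 2, 0, 0, -1, 0], [1, 2, 0, 0, -1, 0], [1, 2, 0, -1, 0, 0], [0, 1, 1, -1, 0, 0]],
  [[0, 1, 0, 0, 0, -1], [0, 1, 0, 0, 0, 0], [1, 1, 0, 0, 0, -1], [1, 2, 0, 0, -1, 0], [1, 2, 0, -1, 0, 0], [0, 1, 1, -1, 0, 0]],
  [[0, 1, 0, 0, 0, -1], [0, 1, 0, 0, 0, 0], [0, 2, 0, 0, -1, 0], [1, 2, 0, 0, -1, 0], [0, 1, 1, 0, -1, 0], [0, 1, 1, -1, 0, 0]],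
  [[0, 1, 0, 0, -1, 1], [0, 1, 0, 0, 0, 0], [0, 2, 0, -1, 0, 1], [0, 2, -1, 0, 0, 1], [-1, 1, 0, 0, 0, 1], [-1, 1, 0, 0, 0, 0]],
  [[0, 1, 0, -1, 1, 0], [0, 1, 0, 0, 0, 0], [0, 2, 0, -1, 0, 1], [0, 2, -1, 0, 0, 1], [0, 2, -1, 0, 0, 0], [-1, 1, 0, 0, 0, 0]]]

def stab26 : List IMat := [
  [[0, 1, 0, -1, 1, 0], [0, 1, 0, 0, 0, 0], [0, 1, -1, 0, 1, 0], [0, 2, -1, 0, 1, -1], [0, 2, -1, 0, 0, 0], [-1, 1, 0, 0, 0, 0]],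
  [[0, 1, 0, -1, 1, 0], [0, 1, 0, 0, 0, 0], [0, 2, 0, -1, 1, -1], [0, 2, -1, 0, 1, -1], [-1, 1, 0, 0, 1, -1], [-1, 1, 0, 0, 0, 0]],
  [[0, 1, 0, 0, 0, -1], [0, 1, 0, 0, 0, 0], [0, 2, 0, -1, 1, -1], [0, 2, -1, 0, 1, -1], [-1, 1, 0, 0, 1, -1], [0, 0, 0, 0, 1, -1]],
  [[0, 1, 0, 0, -1, 1], [0, 1, 0, 0, 0, 0], [0, 1, -1, 1, -1, 1], [0, 2, -1, 0, 0, 1], [0, 2, -1, 0, 0, 0], [-1, 1, 0, 0, 0, 0]],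
  [[0, 0, -1, 1, 0, 0], [0, 1, 0, 0, 0, 0], [0, 1, -1, 1, -1, 1], [0, 2, -1, 1, -1, 0], [0, 2, -1, 0, 0, 0], [-1, 1, 0, 0, 0, 0]],
  [[0, 0, -1, 1, 0, 0], [0, 1, 0, 0, 0, 0], [0, 1, -1, 1, 0, -1], [0, 2, -1, 0, 1, -1], [0, 2, -1, 0, 0, 0], [-1, 1, 0, 0, 0, 0]],
  [[0, 1, 0, 0, 0, -1], [0, 1, 0, 0, 0, 0], [0, 1, -1, 1, 0, -1], [0, 2, -1, 0, 1, -1], [-1, 1, 0, 0, 1, -1], [-1, 1, 0, 0, 0, 0]],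
  [[0, 1, 0, 0, -1, 1], [0, 1, 0, 0, 0, 0], [0, 1, -1, 1, -1, 1], [0, 2, -1, 1, -1, 0], [-1, 1, 0, 1, -1, 0], [-1, 1, 0, 0, 0, 0]],
  [[0, 0, -1, 1, 0, 0], [0, 1, 0, 0, 0, 0], [0, 1, -1, 1, 0, -1], [0, 2, -1, 1, -1, 0], [-1, 1, 0, 1, -1, 0], [-1, 1, 0, 0, 0, 0]],
  [[0, 1, 0, 0, 0, -1], [0, 1, 0, 0, 0, 0], [0, 1, -1, 1, 0, -1], [-1, 1, 0, 1, 0, -1], [-1, 1, 0, 1, -1, 0], [-1, 1, 0, 0, 0, 0]],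
  [[0, 1, 0, 0, -1, 1], [0, 1, 0, 0, 0, 0], [0, 2, 0, 0, -1, 0], [0, 2, -1, 1, -1, 0], [-1, 1, 0, 1, -1, 0], [0, 0, 0, 1, -1, 0]],
  [[0, 1, 0, 0, 0, -1], [0, 1, 0, 0, 0, 0], [0, 1, -1, 1, 0, -1], [0, 2, -1, 1, -1, 0], [-1, 1, 0, 1, -1, 0], [0, 0, 0, 1, -1, 0]],
  [[0, 1, 0, 0, -1, 1], [0, 1, 0, 0, 0, 0], [0, 2, 0, -1, 0, 1], [-1, 2, 1, -1, 0, 1], [-1, 2, 1, -1, 0, 0], [-1, 1, 0, 0, 0, 0]],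
  [[0, 1, 0, -1, 1, 0], [0, 1, 0, 0, 0, 0], [0, 2, 0, -1, 0, 1], [0, 3, 0, -1, 0, 0], [-1, 2, 1, -1, 0, 0], [-1, 1, 0, 0, 0, 0]],
  [[0, 1, 0, -1, 1, 0], [0, 1, 0, 0, 0, 0], [0, 2, 0, -1, 1, -1], [-1, 2, 1, -1, 1, -1], [-1, 2, 1, -1, 0, 0], [-1, 1, 0, 0, 0, 0]],
  [[0, 1, 0, 0, 0, -1], [0, 1, 0, 0, 0, 0], [0, 2, 0, -1, 1, -1], [-1, 2, 1, -1, 1, -1], [-1, 1, 0, 0, 1, -1], [-1, 1, 0, 0, 0, 0]],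
  [[0, 1, 0, 0, -1, 1], [0, 1, 0, 0, 0, 0], [-1, 1, 1, 0, -1, 1], [-1, 2, 1, 0, -1, 0], [-1, 2, 1, -1, 0, 0], [-1, 1, 0, 0, 0, 0]],
  [[-1, 0, 1, 0, 0, 0], [0, 1, 0, 0, 0, 0], [-1, 1, 1, 0, 0, -1], [-1, 2, 1, 0, -1, 0], [-1, 2, 1, -1, 0, 0], [-1, 1, 0, 0, 0, 0]],
  [[0, 1, 0, 0, 0, -1], [0, 1, 0, 0, 0, 0], [-1, 1, 1, 0, 0, -1], [-1, 2, 1, -1, 1, -1], [-1, 2, 1, -1, 0, 0], [-1, 1, 0, 0, 0, 0]],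
  [[0, 1, 0, 0, -1, 1], [0, 1, 0, 0, 0, 0], [0, 2, 0, 0, -1, 0], [-1, 2, 1, 0, -1, 0], [-1, 1, 0, 1, -1, 0], [-1, 1, 0, 0, 0, 0]],
  [[0, 1, 0, 0, 0, -1], [0, 1, 0, 0, 0, 0], [-1, 1, 1, 0, 0, -1], [-1, 2, 1, 0, -1, 0], [-1, 1, 0, 1, -1, 0], [-1, 1, 0, 0, 0, 0]],
  [[0, 1, 0, 0, 0, -1], [0, 1, 0, 0, 0, 0], [0, 2, 0, 0, -1, 0], [-1, 2, 1, 0, -1, 0], [-1, 1, 0, 1, -1, 0], [0, 0, 0, 1, -1, 0]],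
  [[0, 1, 0, 0, -1, 1], [0, 1, 0, 0, 0, 0], [0, 2, 0, -1, 0, 1], [0, 3, 0, -1, 0, 0], [-1, 2, 1, -1, 0, 0], [0, 1, 1, -1, 0, 0]],
  [[0, 1, 0, -1, 1, 0], [0, 1, 0, 0, 0, 0], [0, 2, 0, -1, 1, -1], [0, 3, 0, -1, 0, 0], [-1, 2, 1, -1, 0, 0], [0, 1, 1, -1, 0, 0]]]

def stab27 : List IMat := [
  [[0, 1, 0, 0, 0, -1], [0, 1, 0, 0, 0, 0], [0, 2, 0, -1, 1, -1], [-1, 2, 1, -1, 1, -1], [-1, 2, 1, -1, 0, 0], [0, 1, 1, -1, 0, 0]],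
  [[0, 1, 0, 0, -1, 1], [0, 1, 0, 0, 0, 0], [0, 2, 0, 0, -1, 0], [-1, 2, 1, 0, -1, 0], [-1, 2, 1, -1, 0, 0], [0, 1, 1, -1, 0, 0]],
  [[0, 1, 0, 0, 0, -1], [0, 1, 0, 0, 0, 0], [-1, 1, 1, 0, 0, -1], [-1, 2, 1, 0, -1, 0], [-1, 2, 1, -1, 0, 0], [0, 1, 1, -1, 0, 0]],
  [[0, 1, 0, 0, 0, -1], [0, 1, 0, 0, 0, 0], [0, 2, 0, 0, -1, 0], [-1, 2, 1, 0, -1, 0], [0, 1, 1, 0, -1, 0], [0, 1, 1, -1, 0, 0]],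
  [[0, 1, 0, 0, -1, 1], [0, 1, 0, 0, 0, 0], [0, 2, 0, -1, 0, 1], [0, 2, -1, 0, 0, 1], [0, 2, -1, 0, 0, 0], [1, 1, -1, 0, 0, 0]],
  [[0, 1, 0, -1, 1, 0], [0, 1, 0, 0, 0, 0], [0, 2, 0, -1, 0, 1], [0, 3, 0, -1, 0, 0], [0, 2, -1, 0, 0, 0], [1, 1, -1, 0, 0, 0]],
  [[0, 1, 0, -1, 1, 0], [0, 1, 0, 0, 0, 0], [0, 2, 0, -1, 1, -1], [0, 2, -1, 0, 1, -1], [0, 2, -1, 0, 0, 0], [1, 1, -1, 0, 0, 0]],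
  [[0, 1, 0, 0, 0, -1], [0, 1, 0, 0, 0, 0], [0, 2, 0, -1, 1, -1], [0, 2, -1, 0, 1, -1], [1, 1, -1, 0, 1, -1], [1, 1, -1, 0, 0, 0]],
  [[0, 1, 0, 0, -1, 1], [0, 1, 0, 0, 0, 0], [0, 1, -1, 1, -1, 1], [0, 2, -1, 1, -1, 0], [0, 2, -1, 0, 0, 0], [1, 1, -1, 0, 0, 0]],
  [[0, 0, -1, 1, 0, 0], [0, 1, 0, 0, 0, 0], [0, 1, -1, 1, 0, -1], [0, 2, -1, 1, -1, 0], [0, 2, -1, 0, 0, 0], [1, 1, -1, 0, 0, 0]],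
  [[0, 1, 0, 0, 0, -1], [0, 1, 0, 0, 0, 0], [0, 1, -1, 1, 0, -1], [0, 2, -1, 0, 1, -1], [0, 2, -1, 0, 0, 0], [1, 1, -1, 0, 0, 0]],
  [[0, 1, 0, 0, -1, 1], [0, 1, 0, 0, 0, 0], [0, 2, 0, 0, -1, 0], [0, 2, -1, 1, -1, 0], [1, 1, -1, 1, -1, 0], [1, 1, -1, 0, 0, 0]],
  [[0, 1, 0, 0, 0, -1], [0, 1, 0, 0, 0, 0], [0, 1, -1, 1, 0, -1], [0, 2, -1, 1, -1, 0], [1, 1, -1, 1, -1, 0], [1, 1, -1, 0, 0, 0]],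
  [[0, 1, 0, 0, 0, -1], [0, 1, 0, 0, 0, 0], [0, 2, 0, 0, -1, 0], [0, 2, -1, 1, -1, 0], [1, 1, -1, 1, -1, 0], [0, 0, 0, 1, -1, 0]],
  [[0, 1, 0, 0, -1, 1], [0, 1, 0, 0, 0, 0], [0, 2, 0, -1, 0, 1], [0, 3, 0, -1, 0, 0], [1, 2, 0, -1, 0, 0], [1, 1, -1, 0, 0, 0]],
  [[0, 1, 0, -1, 1, 0], [0, 1, 0, 0, 0, 0], [0, 2, 0, -1, 1, -1], [0, 3, 0, -1, 0, 0], [1, 2, 0, -1, 0, 0], [1, 1, -1, 0, 0, 0]],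
  [[0, 1, 0, 0, 0, -1], [0, 1, 0, 0, 0, 0], [0, 2, 0, -1, 1, -1], [1, 2, 0, -1, 1, -1], [1, 2, 0, -1, 0, 0], [1, 1, -1, 0, 0, 0]],
  [[0, 1, 0, 0, -1, 1], [0, 1, 0, 0, 0, 0], [0, 2, 0, 0, -1, 0], [1, 2, 0, 0, -1, 0], [1, 2, 0, -1, 0, 0], [1, 1, -1, 0, 0, 0]],
  [[0, 1, 0, 0, 0, -1], [0, 1, 0, 0, 0, 0], [1, 1, 0, 0, 0, -1], [1, 2, 0, 0, -1, 0], [1, 2, 0, -1, 0, 0], [1, 1, -1, 0, 0, 0]],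
  [[0, 1, 0, 0, 0, -1], [0, 1, 0, 0, 0, 0], [0, 2, 0, 0, -1, 0], [1, 2, 0, 0, -1, 0], [1, 1, -1, 1, -1, 0], [1, 1, -1, 0, 0, 0]],
  [[0, 1, 0, 0, -1, 1], [0, 1, 0, 0, 0, 0], [0, 2, 0, 0, -1, 0], [0, 3, 0, -1, 0, 0], [1, 2, 0, -1, 0, 0], [0, 1, 1, -1, 0, 0]],
  [[0, 1, 0, 0, 0, -1], [0, 1, 0, 0, 0, 0], [0, 2, 0, -1, 1, -1], [0, 3, 0, -1, 0, 0], [1, 2, 0, -1, 0, 0], [0, 1, 1, -1, 0, 0]],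
  [[0, 1, 0, 0, 0, -1], [0, 1, 0, 0, 0, 0], [0, 2, 0, 0, -1, 0], [1, 2, 0, 0, -1, 0], [1, 2, 0, -1, 0, 0], [0, 1, 1, -1, 0, 0]],
  [[0, 1, 0, 0, -1, 1], [0, 1, 0, 0, 0, 0], [0, 2, 0, -1, 0, 1], [0, 2, -1, 0, 0, 1], [0, 2, -1, 0, 0, 0], [-1, 1, 0, 0, 0, 0]]]

def stab28 : List IMat := [
  [[0, 1, 0, -1, 1, 0], [0, 1, 0, 0, 0, 0], [0, 2, 0, -1, 0, 1], [0, 3, 0, -1, 0, 0], [0, 2, -1, 0, 0, 0], [-1, 1, 0, 0, 0, 0]],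
  [[0, 1, 0, -1, 1, 0], [0, 1, 0, 0, 0, 0], [0, 2, 0, -1, 1, -1], [0, 2, -1, 0, 1, -1], [0, 2, -1, 0, 0, 0], [-1, 1, 0, 0, 0, 0]],
  [[0, 1, 0, 0, 0, -1], [0, 1, 0, 0, 0, 0], [0, 2, 0, -1, 1, -1], [0, 2, -1, 0, 1, -1], [-1, 1, 0, 0, 1, -1], [-1, 1, 0, 0, 0, 0]],
  [[0, 1, 0, 0, -1, 1], [0, 1, 0, 0, 0, 0], [0, 1, -1, 1, -1, 1], [0, 2, -1, 1, -1, 0], [0, 2, -1, 0, 0, 0], [-1, 1, 0, 0, 0, 0]],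
  [[0, 0, -1, 1, 0, 0], [0, 1, 0, 0, 0, 0], [0, 1, -1, 1, 0, -1], [0, 2, -1, 1, -1, 0], [0, 2, -1, 0, 0, 0], [-1, 1, 0, 0, 0, 0]],
  [[0, 1, 0, 0, 0, -1], [0, 1, 0, 0, 0, 0], [0, 1, -1, 1, 0, -1], [0, 2, -1, 0, 1, -1], [0, 2, -1, 0, 0, 0], [-1, 1, 0, 0, 0, 0]],
  [[0, 1, 0, 0, -1, 1], [0, 1, 0, 0, 0, 0], [0, 2, 0, 0, -1, 0], [0, 2, -1, 1, -1, 0], [-1, 1, 0, 1, -1, 0], [-1, 1, 0, 0, 0, 0]],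
  [[0, 1, 0, 0, 0, -1], [0, 1, 0, 0, 0, 0], [0, 1, -1, 1, 0, -1], [0, 2, -1, 1, -1, 0], [-1, 1, 0, 1, -1, 0], [-1, 1, 0, 0, 0, 0]],
  [[0, 1, 0, 0, 0, -1], [0, 1, 0, 0, 0, 0], [0, 2, 0, 0, -1, 0], [0, 2, -1, 1, -1, 0], [-1, 1, 0, 1, -1, 0], [0, 0, 0, 1, -1, 0]],
  [[0, 1, 0, 0, -1, 1], [0, 1, 0, 0, 0, 0], [0, 2, 0, -1, 0, 1], [0, 3, 0, -1, 0, 0], [-1, 2, 1, -1, 0, 0], [-1, 1, 0, 0, 0, 0]],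
  [[0, 1, 0, -1, 1, 0], [0, 1, 0, 0, 0, 0], [0, 2, 0, -1, 1, -1], [0, 3, 0, -1, 0, 0], [-1, 2, 1, -1, 0, 0], [-1, 1, 0, 0, 0, 0]],
  [[0, 1, 0, 0, 0, -1], [0, 1, 0, 0, 0, 0], [0, 2, 0, -1, 1, -1], [-1, 2, 1, -1, 1, -1], [-1, 2, 1, -1, 0, 0], [-1, 1, 0, 0, 0, 0]],
  [[0, 1, 0, 0, -1, 1], [0, 1, 0, 0, 0, 0], [0, 2, 0, 0, -1, 0], [-1, 2, 1, 0, -1, 0], [-1, 2, 1, -1, 0, 0], [-1, 1, 0, 0, 0, 0]],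
  [[0, 1, 0, 0, 0, -1], [0, 1, 0, 0, 0, 0], [-1, 1, 1, 0, 0, -1], [-1, 2, 1, 0, -1, 0], [-1, 2, 1, -1, 0, 0], [-1, 1, 0, 0, 0, 0]],
  [[0, 1, 0, 0, 0, -1], [0, 1, 0, 0, 0, 0], [0, 2, 0, 0, -1, 0], [-1, 2, 1, 0, -1, 0], [-1, 1, 0, 1, -1, 0], [-1, 1, 0, 0, 0, 0]],
  [[0, 1, 0, 0, -1, 1], [0, 1, 0, 0, 0, 0], [0, 2, 0, 0, -1, 0], [0, 3, 0, -1, 0, 0], [-1, 2, 1, -1, 0, 0], [0, 1, 1, -1, 0, 0]],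
  [[0, 1, 0, 0, 0, -1], [0, 1, 0, 0, 0, 0], [0, 2, 0, -1, 1, -1], [0, 3, 0, -1, 0, 0], [-1, 2, 1, -1, 0, 0], [0, 1, 1, -1, 0, 0]],
  [[0, 1, 0, 0, 0, -1], [0, 1, 0, 0, 0, 0], [0, 2, 0, 0, -1, 0], [-1, 2, 1, 0, -1, 0], [-1, 2, 1, -1, 0, 0], [0, 1, 1, -1, 0, 0]],
  [[0, 1, 0, 0, -1, 1], [0, 1, 0, 0, 0, 0], [0, 2, 0, -1, 0, 1], [0, 3, 0, -1, 0, 0], [0, 2, -1, 0, 0, 0], [1, 1, -1, 0, 0, 0]],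
  [[0, 1, 0, -1, 1, 0], [0, 1, 0, 0, 0, 0], [0, 2, 0, -1, 1, -1], [0, 3, 0, -1, 0, 0], [0, 2, -1, 0, 0, 0], [1, 1, -1, 0, 0, 0]],
  [[0, 1, 0, 0, 0, -1], [0, 1, 0, 0, 0, 0], [0, 2, 0, -1, 1, -1], [0, 2, -1, 0, 1, -1], [0, 2, -1, 0, 0, 0], [1, 1, -1, 0, 0, 0]],
  [[0, 1, 0, 0, -1, 1], [0, 1, 0, 0, 0, 0], [0, 2, 0, 0, -1, 0], [0, 2, -1, 1, -1, 0], [0, 2, -1, 0, 0, 0], [1, 1, -1, 0, 0, 0]],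
  [[0, 1, 0, 0, 0, -1], [0, 1, 0, 0, 0, 0], [0, 1, -1, 1, 0, -1], [0, 2, -1, 1, -1, 0], [0, 2, -1, 0, 0, 0], [1, 1, -1, 0, 0, 0]],
  [[0, 1, 0, 0, 0, -1], [0, 1, 0, 0, 0, 0], [0, 2, 0, 0, -1, 0], [0, 2, -1, 1, -1, 0], [1, 1, -1, 1, -1, 0], [1, 1, -1, 0, 0, 0]]]

def stab29 : List IMat := [
  [[0, 1, 0, 0, -1, 1], [0, 1, 0, 0, 0, 0], [0, 2, 0, 0, -1, 0], [0, 3, 0, -1, 0, 0], [1, 2, 0, -1, 0, 0], [1, 1, -1, 0, 0, 0]],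
  [[0, 1, 0, 0, 0, -1], [0, 1, 0, 0, 0, 0], [0, 2, 0, -1, 1, -1], [0, 3, 0, -1, 0, 0], [1, 2, 0, -1, 0, 0], [1, 1, -1, 0, 0, 0]],
  [[0, 1, 0, 0, 0, -1], [0, 1, 0, 0, 0, 0], [0, 2, 0, 0, -1, 0], [1, 2, 0, 0, -1, 0], [1, 2, 0, -1, 0, 0], [1, 1, -1, 0, 0, 0]],
  [[0, 1, 0, 0, 0, -1], [0, 1, 0, 0, 0, 0], [0, 2, 0, 0, -1, 0], [0, 3, 0, -1, 0, 0], [1, 2, 0, -1, 0, 0], [0, 1, 1, -1, 0, 0]],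
  [[0, 1, 0, 0, -1, 1], [0, 1, 0, 0, 0, 0], [0, 2, 0, -1, 0, 1], [0, 3, 0, -1, 0, 0], [0, 2, -1, 0, 0, 0], [-1, 1, 0, 0, 0, 0]],
  [[0, 1, 0, -1, 1, 0], [0, 1, 0, 0, 0, 0], [0, 2, 0, -1, 1, -1], [0, 3, 0, -1, 0, 0], [0, 2, -1, 0, 0, 0], [-1, 1, 0, 0, 0, 0]],
  [[0, 1, 0, 0, 0, -1], [0, 1, 0, 0, 0, 0], [0, 2, 0, -1, 1, -1], [0, 2, -1, 0, 1, -1], [0, 2, -1, 0, 0, 0], [-1, 1, 0, 0, 0, 0]],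
  [[0, 1, 0, 0, -1, 1], [0, 1, 0, 0, 0, 0], [0, 2, 0, 0, -1, 0], [0, 2, -1, 1, -1, 0], [0, 2, -1, 0, 0, 0], [-1, 1, 0, 0, 0, 0]],
  [[0, 1, 0, 0, 0, -1], [0, 1, 0, 0, 0, 0], [0, 1, -1, 1, 0, -1], [0, 2, -1, 1, -1, 0], [0, 2, -1, 0, 0, 0], [-1, 1, 0, 0, 0, 0]],
  [[0, 1, 0, 0, 0, -1], [0, 1, 0, 0, 0, 0], [0, 2, 0, 0, -1, 0], [0, 2, -1, 1, -1, 0], [-1, 1, 0, 1, -1, 0], [-1, 1, 0, 0, 0, 0]],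
  [[0, 1, 0, 0, -1, 1], [0, 1, 0, 0, 0, 0], [0, 2, 0, 0, -1, 0], [0, 3, 0, -1, 0, 0], [-1, 2, 1, -1, 0, 0], [-1, 1, 0, 0, 0, 0]],
  [[0, 1, 0, 0, 0, -1], [0, 1, 0, 0, 0, 0], [0, 2, 0, -1, 1, -1], [0, 3, 0, -1, 0, 0], [-1, 2, 1, -1, 0, 0], [-1, 1, 0, 0, 0, 0]],
  [[0, 1, 0, 0, 0, -1], [0, 1, 0, 0, 0, 0], [0, 2, 0, 0, -1, 0], [-1, 2, 1, 0, -1, 0], [-1, 2, 1, -1, 0, 0], [-1, 1, 0, 0, 0, 0]],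
  [[0, 1, 0, 0, 0, -1], [0, 1, 0, 0, 0, 0], [0, 2, 0, 0, -1, 0], [0, 3, 0, -1, 0, 0], [-1, 2, 1, -1, 0, 0], [0, 1, 1, -1, 0, 0]],
  [[0, 1, 0, 0, -1, 1], [0, 1, 0, 0, 0, 0], [0, 2, 0, 0, -1, 0], [0, 3, 0, -1, 0, 0], [0, 2, -1, 0, 0, 0], [1, 1, -1, 0, 0, 0]],
  [[0, 1, 0, 0, 0, -1], [0, 1, 0, 0, 0, 0], [0, 2, 0, -1, 1, -1], [0, 3, 0, -1, 0, 0], [0, 2, -1, 0, 0, 0], [1, 1, -1, 0, 0, 0]],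
  [[0, 1, 0, 0, 0, -1], [0, 1, 0, 0, 0, 0], [0, 2, 0, 0, -1, 0], [0, 2, -1, 1, -1, 0], [0, 2, -1, 0, 0, 0], [1, 1, -1, 0, 0, 0]],
  [[0, 1, 0, 0, 0, -1], [0, 1, 0, 0, 0, 0], [0, 2, 0, 0, -1, 0], [0, 3, 0, -1, 0, 0], [1, 2, 0, -1, 0, 0], [1, 1, -1, 0, 0, 0]],
  [[0, 1, 0, 0, -1, 1], [0, 1, 0, 0, 0, 0], [0, 2, 0, 0, -1, 0], [0, 3, 0, -1, 0, 0], [0, 2, -1, 0, 0, 0], [-1, 1, 0, 0, 0, 0]],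
  [[0, 1, 0, 0, 0, -1], [0, 1, 0, 0, 0, 0], [0, 2, 0, -1, 1, -1], [0, 3, 0, -1, 0, 0], [0, 2, -1, 0, 0, 0], [-1, 1, 0, 0, 0, 0]],
  [[0, 1, 0, 0, 0, -1], [0, 1, 0, 0, 0, 0], [0, 2, 0, 0, -1, 0], [0, 2, -1, 1, -1, 0], [0, 2, -1, 0, 0, 0], [-1, 1, 0, 0, 0, 0]],
  [[0, 1, 0, 0, 0, -1], [0, 1, 0, 0, 0, 0], [0, 2, 0, 0, -1, 0], [0, 3, 0, -1, 0, 0], [-1, 2, 1, -1, 0, 0], [-1, 1, 0, 0, 0, 0]],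
  [[0, 1, 0, 0, 0, -1], [0, 1, 0, 0, 0, 0], [0, 2, 0, 0, -1, 0], [0, 3, 0, -1, 0, 0], [0, 2, -1, 0, 0, 0], [1, 1, -1, 0, 0, 0]],
  [[0, 1, 0, 0, 0, -1], [0, 1, 0, 0, 0, 0], [0, 2, 0, 0, -1, 0], [0, 3, 0, -1, 0, 0], [0, 2, -1, 0, 0, 0], [-1, 1, 0, 0, 0, 0]]]

def stabBlocks : List (List IMat) := [stab0, stab1, stab2, stab3, stab4, stab5, stab6, stab7, stab8, stab9, stab10, stab11, stab12, stab13, stab14, stab15, stab16, stab17, stab18, stab19, stab20, stab21, stab22, stab23, stab24, stab25, stab26, stab27, stab28, stab29]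

def stabMat (k : ℕ) : IMat := (stabBlocks.getD (k / 24) []).getD (k % 24) []

def next0 : List (List ℕ) := [[1, 2, 3, 4, 5], [0, 6, 7, 8, 9], [10, 0, 11, 12, 13], [7, 14, 0, 15, 16], [8, 12, 17, 0, 18], [9, 13, 16, 19, 0], [20, 1, 21, 22, 23], [3, 24, 1, 25, 26], [4, 22, 27, 1, 28], [5, 23, 26, 29, 1], [2, 20, 30, 31, 32], [30, 33, 2, 34, 35], [31, 4, 36, 2, 37], [32, 5, 35, 38, 2], [39, 3, 33, 40, 41], [25, 40, 42, 3, 43], [26, 41, 5, 44, 3], [27, 45, 4, 42, 46], [28, 37, 46, 47, 4], [29, 38, 48, 5, 47], [6, 10, 49, 50, 51], [49, 52, 6, 53, 54], [50, 8, 55, 6, 56], [51, 9, 54, 57, 6]]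
def next1 : List (List ℕ) := [[58, 7, 52, 59, 60], [15, 59, 61, 7, 62], [16, 60, 9, 63, 7], [17, 64, 8, 61, 65], [18, 56, 65, 66, 8], [19, 57, 67, 9, 66], [11, 68, 10, 69, 70], [12, 50, 71, 10, 72], [13, 51, 70, 73, 10], [74, 11, 14, 75, 76], [69, 75, 77, 11, 78], [70, 76, 13, 79, 11], [71, 80, 12, 77, 81], [72, 18, 81, 82, 12], [73, 19, 83, 13, 82], [14, 58, 74, 84, 85], [84, 15, 86, 14, 87], [85, 16, 76, 88, 14], [61, 89, 15, 17, 90], [62, 87, 90, 91, 15], [63, 88, 92, 16, 91], [93, 17, 80, 89, 94], [65, 94, 18, 95, 17], [66, 82, 96, 18, 19]]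
def next2 : List (List ℕ) := [[67, 97, 19, 92, 96], [21, 98, 20, 99, 100], [22, 31, 101, 20, 102], [23, 32, 100, 103, 20], [104, 21, 24, 105, 106], [99, 105, 107, 21, 108], [100, 106, 23, 109, 21], [101, 110, 22, 107, 111], [102, 28, 111, 112, 22], [103, 29, 113, 23, 112], [24, 39, 104, 114, 115], [114, 25, 116, 24, 117], [115, 26, 106, 118, 24], [42, 119, 25, 27, 120], [43, 117, 120, 121, 25], [44, 118, 122, 26, 121], [123, 27, 110, 119, 124], [46, 124, 28, 125, 27], [47, 112, 126, 28, 29], [48, 127, 29, 122, 126], [128, 30, 98, 129, 130], [34, 129, 131, 30, 132], [35, 130, 32, 133, 30], [36, 134, 31, 131, 135]]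
def next3 : List (List ℕ) := [[37, 102, 135, 136, 31], [38, 103, 137, 32, 136], [33, 128, 39, 138, 139], [138, 34, 140, 33, 141], [139, 35, 41, 142, 33], [131, 143, 34, 36, 144], [132, 141, 144, 145, 34], [133, 142, 146, 35, 145], [147, 36, 45, 143, 148], [135, 148, 37, 149, 36], [136, 47, 150, 37, 38], [137, 151, 38, 146, 150], [40, 114, 152, 39, 153], [41, 115, 139, 154, 39], [152, 155, 40, 140, 156], [153, 43, 156, 157, 40], [154, 44, 158, 41, 157], [159, 42, 155, 45, 160], [120, 160, 43, 161, 42], [121, 157, 162, 43, 44], [122, 163, 44, 48, 162], [45, 123, 147, 159, 164], [164, 46, 148, 165, 45], [125, 165, 166, 46, 161]]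
def next4 : List (List ℕ) := [[126, 167, 47, 166, 48], [168, 48, 151, 163, 167], [169, 49, 68, 170, 171], [53, 170, 172, 49, 173], [54, 171, 51, 174, 49], [55, 175, 50, 172, 176], [56, 72, 176, 177, 50], [57, 73, 178, 51, 177], [52, 169, 58, 179, 180], [179, 53, 181, 52, 182], [180, 54, 60, 183, 52], [172, 184, 53, 55, 185], [173, 182, 185, 186, 53], [174, 183, 187, 54, 186], [188, 55, 64, 184, 189], [176, 189, 56, 190, 55], [177, 66, 191, 56, 57], [178, 192, 57, 187, 191], [59, 84, 193, 58, 194], [60, 85, 180, 195, 58], [193, 196, 59, 181, 197], [194, 62, 197, 198, 59], [195, 63, 199, 60, 198], [200, 61, 196, 64, 201]]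
def next5 : List (List ℕ) := [[90, 201, 62, 202, 61], [91, 198, 203, 62, 63], [92, 204, 63, 67, 203], [64, 93, 188, 200, 205], [205, 65, 189, 206, 64], [95, 206, 207, 65, 202], [96, 208, 66, 207, 67], [209, 67, 192, 204, 208], [68, 74, 169, 210, 211], [210, 69, 212, 68, 213], [211, 70, 171, 214, 68], [77, 215, 69, 71, 216], [78, 213, 216, 217, 69], [79, 214, 218, 70, 217], [219, 71, 175, 215, 220], [81, 220, 72, 221, 71], [82, 177, 222, 72, 73], [83, 223, 73, 218, 222], [75, 210, 224, 74, 225], [76, 211, 85, 226, 74], [224, 227, 75, 86, 228], [225, 78, 228, 229, 75], [226, 79, 230, 76, 229], [231, 77, 227, 80, 232]]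
def next6 : List (List ℕ) := [[216, 232, 78, 233, 77], [217, 229, 234, 78, 79], [218, 235, 79, 83, 234], [80, 219, 93, 231, 236], [236, 81, 94, 237, 80], [221, 237, 238, 81, 233], [222, 239, 82, 238, 83], [240, 83, 97, 235, 239], [86, 241, 84, 224, 242], [87, 194, 242, 243, 84], [88, 195, 244, 85, 243], [245, 86, 89, 227, 246], [242, 246, 87, 247, 86], [243, 91, 248, 87, 88], [244, 249, 88, 230, 248], [89, 200, 245, 93, 250], [250, 90, 246, 251, 89], [202, 251, 252, 90, 95], [203, 253, 91, 252, 92], [254, 92, 249, 97, 253], [94, 205, 236, 255, 93], [255, 95, 256, 94, 251], [207, 257, 95, 96, 252], [258, 96, 239, 257, 97]]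
def next7 : List (List ℕ) := [[97, 209, 240, 254, 258], [98, 104, 128, 259, 260], [259, 99, 261, 98, 262], [260, 100, 130, 263, 98], [107, 264, 99, 101, 265], [108, 262, 265, 266, 99], [109, 263, 267, 100, 266], [268, 101, 134, 264, 269], [111, 269, 102, 270, 101], [112, 136, 271, 102, 103], [113, 272, 103, 267, 271], [105, 259, 273, 104, 274], [106, 260, 115, 275, 104], [273, 276, 105, 116, 277], [274, 108, 277, 278, 105], [275, 109, 279, 106, 278], [280, 107, 276, 110, 281], [265, 281, 108, 282, 107], [266, 278, 283, 108, 109], [267, 284, 109, 113, 283], [110, 268, 123, 280, 285], [285, 111, 124, 286, 110], [270, 286, 287, 111, 282], [271, 288, 112, 287, 113]]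
def next8 : List (List ℕ) := [[289, 113, 127, 284, 288], [116, 290, 114, 273, 291], [117, 153, 291, 292, 114], [118, 154, 293, 115, 292], [294, 116, 119, 276, 295], [291, 295, 117, 296, 116], [292, 121, 297, 117, 118], [293, 298, 118, 279, 297], [119, 159, 294, 123, 299], [299, 120, 295, 300, 119], [161, 300, 301, 120, 125], [162, 302, 121, 301, 122], [303, 122, 298, 127, 302], [124, 164, 285, 304, 123], [304, 125, 305, 124, 300], [166, 306, 125, 126, 301], [307, 126, 288, 306, 127], [127, 168, 289, 303, 307], [129, 138, 308, 128, 309], [130, 139, 260, 310, 128], [308, 311, 129, 261, 312], [309, 132, 312, 313, 129], [310, 133, 314, 130, 313], [315, 131, 311, 134, 316]]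
def next9 : List (List ℕ) := [[144, 316, 132, 317, 131], [145, 313, 318, 132, 133], [146, 319, 133, 137, 318], [134, 147, 268, 315, 320], [320, 135, 269, 321, 134], [149, 321, 322, 135, 317], [150, 323, 136, 322, 137], [324, 137, 272, 319, 323], [140, 325, 138, 152, 326], [141, 309, 326, 327, 138], [142, 310, 328, 139, 327], [329, 140, 143, 155, 330], [326, 330, 141, 331, 140], [327, 145, 332, 141, 142], [328, 333, 142, 158, 332], [143, 315, 329, 147, 334], [334, 144, 330, 335, 143], [317, 335, 336, 144, 149], [318, 337, 145, 336, 146], [338, 146, 333, 151, 337], [148, 320, 164, 339, 147], [339, 149, 340, 148, 335], [322, 341, 149, 150, 336], [342, 150, 167, 341, 151]]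
def next10 : List (List ℕ) := [[151, 324, 168, 338, 342], [343, 152, 290, 325, 344], [156, 344, 153, 345, 152], [157, 292, 346, 153, 154], [158, 347, 154, 328, 346], [155, 343, 159, 329, 348], [348, 156, 160, 349, 155], [345, 349, 350, 156, 331], [346, 351, 157, 350, 158], [352, 158, 163, 333, 351], [160, 299, 348, 353, 159], [353, 161, 354, 160, 165], [301, 355, 161, 162, 166], [356, 162, 351, 355, 163], [163, 303, 352, 168, 356], [165, 304, 357, 164, 353], [357, 358, 165, 340, 354], [359, 166, 358, 167, 355], [167, 307, 342, 359, 168], [170, 179, 360, 169, 361], [171, 180, 211, 362, 169], [360, 363, 170, 212, 364], [361, 173, 364, 365, 170], [362, 174, 366, 171, 365]]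
def next11 : List (List ℕ) := [[367, 172, 363, 175, 368], [185, 368, 173, 369, 172], [186, 365, 370, 173, 174], [187, 371, 174, 178, 370], [175, 188, 219, 367, 372], [372, 176, 220, 373, 175], [190, 373, 374, 176, 369], [191, 375, 177, 374, 178], [376, 178, 223, 371, 375], [181, 377, 179, 193, 378], [182, 361, 378, 379, 179], [183, 362, 380, 180, 379], [381, 181, 184, 196, 382], [378, 382, 182, 383, 181], [379, 186, 384, 182, 183], [380, 385, 183, 199, 384], [184, 367, 381, 188, 386], [386, 185, 382, 387, 184], [369, 387, 388, 185, 190], [370, 389, 186, 388, 187], [390, 187, 385, 192, 389], [189, 372, 205, 391, 188], [391, 190, 392, 189, 387], [374, 393, 190, 191, 388]]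
def next12 : List (List ℕ) := [[394, 191, 208, 393, 192], [192, 376, 209, 390, 394], [395, 193, 241, 377, 396], [197, 396, 194, 397, 193], [198, 243, 398, 194, 195], [199, 399, 195, 380, 398], [196, 395, 200, 381, 400], [400, 197, 201, 401, 196], [397, 401, 402, 197, 383], [398, 403, 198, 402, 199], [404, 199, 204, 385, 403], [201, 250, 400, 405, 200], [405, 202, 406, 201, 206], [252, 407, 202, 203, 207], [408, 203, 403, 407, 204], [204, 254, 404, 209, 408], [206, 255, 409, 205, 405], [409, 410, 206, 392, 406], [411, 207, 410, 208, 407], [208, 258, 394, 411, 209], [212, 412, 210, 360, 413], [213, 225, 413, 414, 210], [214, 226, 415, 211, 414], [416, 212, 215, 363, 417]]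
def next13 : List (List ℕ) := [[413, 417, 213, 418, 212], [414, 217, 419, 213, 214], [415, 420, 214, 366, 419], [215, 231, 416, 219, 421], [421, 216, 417, 422, 215], [233, 422, 423, 216, 221], [234, 424, 217, 423, 218], [425, 218, 420, 223, 424], [220, 236, 372, 426, 219], [426, 221, 427, 220, 422], [238, 428, 221, 222, 423], [429, 222, 375, 428, 223], [223, 240, 376, 425, 429], [430, 224, 412, 241, 431], [228, 431, 225, 432, 224], [229, 414, 433, 225, 226], [230, 434, 226, 244, 433], [227, 430, 231, 245, 435], [435, 228, 232, 436, 227], [432, 436, 437, 228, 247], [433, 438, 229, 437, 230], [439, 230, 235, 249, 438], [232, 421, 435, 440, 231], [440, 233, 441, 232, 237]]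
def next14 : List (List ℕ) := [[423, 442, 233, 234, 238], [443, 234, 438, 442, 235], [235, 425, 439, 240, 443], [237, 426, 444, 236, 440], [444, 445, 237, 256, 441], [446, 238, 445, 239, 442], [239, 429, 258, 446, 240], [241, 245, 395, 430, 447], [447, 242, 396, 448, 241], [247, 448, 449, 242, 432], [248, 450, 243, 449, 244], [451, 244, 399, 434, 450], [246, 447, 250, 452, 245], [452, 247, 453, 246, 436], [449, 454, 247, 248, 437], [455, 248, 253, 454, 249], [249, 451, 254, 439, 455], [251, 405, 456, 250, 255], [456, 457, 251, 453, 256], [458, 252, 457, 253, 257], [253, 408, 455, 458, 254], [256, 459, 255, 444, 456], [460, 256, 257, 445, 457], [257, 411, 460, 258, 458]]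
def next15 : List (List ℕ) := [[261, 461, 259, 308, 462], [262, 274, 462, 463, 259], [263, 275, 464, 260, 463], [465, 261, 264, 311, 466], [462, 466, 262, 467, 261], [463, 266, 468, 262, 263], [464, 469, 263, 314, 468], [264, 280, 465, 268, 470], [470, 265, 466, 471, 264], [282, 471, 472, 265, 270], [283, 473, 266, 472, 267], [474, 267, 469, 272, 473], [269, 285, 320, 475, 268], [475, 270, 476, 269, 471], [287, 477, 270, 271, 472], [478, 271, 323, 477, 272], [272, 289, 324, 474, 478], [479, 273, 461, 290, 480], [277, 480, 274, 481, 273], [278, 463, 482, 274, 275], [279, 483, 275, 293, 482], [276, 479, 280, 294, 484], [484, 277, 281, 485, 276], [481, 485, 486, 277, 296]]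
def next16 : List (List ℕ) := [[482, 487, 278, 486, 279], [488, 279, 284, 298, 487], [281, 470, 484, 489, 280], [489, 282, 490, 281, 286], [472, 491, 282, 283, 287], [492, 283, 487, 491, 284], [284, 474, 488, 289, 492], [286, 475, 493, 285, 489], [493, 494, 286, 305, 490], [495, 287, 494, 288, 491], [288, 478, 307, 495, 289], [290, 294, 343, 479, 496], [496, 291, 344, 497, 290], [296, 497, 498, 291, 481], [297, 499, 292, 498, 293], [500, 293, 347, 483, 499], [295, 496, 299, 501, 294], [501, 296, 502, 295, 485], [498, 503, 296, 297, 486], [504, 297, 302, 503, 298], [298, 500, 303, 488, 504], [300, 353, 505, 299, 304], [505, 506, 300, 502, 305], [507, 301, 506, 302, 306]]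
def next17 : List (List ℕ) := [[302, 356, 504, 507, 303], [305, 508, 304, 493, 505], [509, 305, 306, 494, 506], [306, 359, 509, 307, 507], [510, 308, 325, 461, 511], [312, 511, 309, 512, 308], [313, 327, 513, 309, 310], [314, 514, 310, 464, 513], [311, 510, 315, 465, 515], [515, 312, 316, 516, 311], [512, 516, 517, 312, 467], [513, 518, 313, 517, 314], [519, 314, 319, 469, 518], [316, 334, 515, 520, 315], [520, 317, 521, 316, 321], [336, 522, 317, 318, 322], [523, 318, 518, 522, 319], [319, 338, 519, 324, 523], [321, 339, 524, 320, 520], [524, 525, 321, 476, 521], [526, 322, 525, 323, 522], [323, 342, 478, 526, 324], [325, 329, 510, 343, 527], [527, 326, 511, 528, 325]]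
def next18 : List (List ℕ) := [[331, 528, 529, 326, 345], [332, 530, 327, 529, 328], [531, 328, 514, 347, 530], [330, 527, 334, 532, 329], [532, 331, 533, 330, 349], [529, 534, 331, 332, 350], [535, 332, 337, 534, 333], [333, 531, 338, 352, 535], [335, 520, 536, 334, 339], [536, 537, 335, 533, 340], [538, 336, 537, 337, 341], [337, 523, 535, 538, 338], [340, 539, 339, 357, 536], [540, 340, 341, 358, 537], [341, 526, 540, 342, 538], [344, 348, 496, 541, 343], [541, 345, 542, 344, 528], [350, 543, 345, 346, 529], [544, 346, 499, 543, 347], [347, 352, 500, 531, 544], [349, 541, 545, 348, 532], [545, 546, 349, 354, 533], [547, 350, 546, 351, 534], [351, 544, 356, 547, 352]]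
def next19 : List (List ℕ) := [[354, 548, 353, 545, 357], [549, 354, 355, 546, 358], [355, 507, 549, 356, 359], [550, 357, 508, 539, 548], [358, 550, 359, 540, 549], [551, 360, 377, 412, 552], [364, 552, 361, 553, 360], [365, 379, 554, 361, 362], [366, 555, 362, 415, 554], [363, 551, 367, 416, 556], [556, 364, 368, 557, 363], [553, 557, 558, 364, 418], [554, 559, 365, 558, 366], [560, 366, 371, 420, 559], [368, 386, 556, 561, 367], [561, 369, 562, 368, 373], [388, 563, 369, 370, 374], [564, 370, 559, 563, 371], [371, 390, 560, 376, 564], [373, 391, 565, 372, 561], [565, 566, 373, 427, 562], [567, 374, 566, 375, 563], [375, 394, 429, 567, 376], [377, 381, 551, 395, 568]]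
def next20 : List (List ℕ) := [[568, 378, 552, 569, 377], [383, 569, 570, 378, 397], [384, 571, 379, 570, 380], [572, 380, 555, 399, 571], [382, 568, 386, 573, 381], [573, 383, 574, 382, 401], [570, 575, 383, 384, 402], [576, 384, 389, 575, 385], [385, 572, 390, 404, 576], [387, 561, 577, 386, 391], [577, 578, 387, 574, 392], [579, 388, 578, 389, 393], [389, 564, 576, 579, 390], [392, 580, 391, 409, 577], [581, 392, 393, 410, 578], [393, 567, 581, 394, 579], [396, 400, 447, 582, 395], [582, 397, 583, 396, 569], [402, 584, 397, 398, 570], [585, 398, 450, 584, 399], [399, 404, 451, 572, 585], [401, 582, 586, 400, 573], [586, 587, 401, 406, 574], [588, 402, 587, 403, 575]]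
def next21 : List (List ℕ) := [[403, 585, 408, 588, 404], [406, 589, 405, 586, 409], [590, 406, 407, 587, 410], [407, 458, 590, 408, 411], [591, 409, 459, 580, 589], [410, 591, 411, 581, 590], [412, 416, 430, 551, 592], [592, 413, 431, 593, 412], [418, 593, 594, 413, 553], [419, 595, 414, 594, 415], [596, 415, 434, 555, 595], [417, 592, 421, 597, 416], [597, 418, 598, 417, 557], [594, 599, 418, 419, 558], [600, 419, 424, 599, 420], [420, 596, 425, 560, 600], [422, 440, 601, 421, 426], [601, 602, 422, 598, 427], [603, 423, 602, 424, 428], [424, 443, 600, 603, 425], [427, 604, 426, 565, 601], [605, 427, 428, 566, 602], [428, 446, 605, 429, 603], [431, 435, 592, 606, 430]]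
def next22 : List (List ℕ) := [[606, 432, 607, 431, 448], [437, 608, 432, 433, 449], [609, 433, 595, 608, 434], [434, 439, 596, 451, 609], [436, 606, 610, 435, 452], [610, 611, 436, 441, 453], [612, 437, 611, 438, 454], [438, 609, 443, 612, 439], [441, 613, 440, 610, 444], [614, 441, 442, 611, 445], [442, 603, 614, 443, 446], [615, 444, 604, 459, 613], [445, 615, 446, 460, 614], [448, 452, 616, 447, 606], [616, 617, 448, 583, 607], [618, 449, 617, 450, 608], [450, 455, 585, 618, 451], [453, 619, 452, 456, 610], [620, 453, 454, 457, 611], [454, 618, 620, 455, 612], [621, 456, 589, 619, 459], [457, 621, 458, 620, 460], [459, 460, 591, 615, 621], [461, 465, 479, 510, 622]]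
def next23 : List (List ℕ) := [[622, 462, 480, 623, 461], [467, 623, 624, 462, 512], [468, 625, 463, 624, 464], [626, 464, 483, 514, 625], [466, 622, 470, 627, 465], [627, 467, 628, 466, 516], [624, 629, 467, 468, 517], [630, 468, 473, 629, 469], [469, 626, 474, 519, 630], [471, 489, 631, 470, 475], [631, 632, 471, 628, 476], [633, 472, 632, 473, 477], [473, 492, 630, 633, 474], [476, 634, 475, 524, 631], [635, 476, 477, 525, 632], [477, 495, 635, 478, 633], [480, 484, 622, 636, 479], [636, 481, 637, 480, 497], [486, 638, 481, 482, 498], [639, 482, 625, 638, 483], [483, 488, 626, 500, 639], [485, 636, 640, 484, 501], [640, 641, 485, 490, 502], [642, 486, 641, 487, 503]]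
def next24 : List (List ℕ) := [[487, 639, 492, 642, 488], [490, 643, 489, 640, 493], [644, 490, 491, 641, 494], [491, 633, 644, 492, 495], [645, 493, 634, 508, 643], [494, 645, 495, 509, 644], [497, 501, 646, 496, 636], [646, 647, 497, 542, 637], [648, 498, 647, 499, 638], [499, 504, 544, 648, 500], [502, 649, 501, 505, 640], [650, 502, 503, 506, 641], [503, 648, 650, 504, 642], [651, 505, 548, 649, 508], [506, 651, 507, 650, 509], [508, 509, 550, 645, 651], [511, 515, 527, 652, 510], [652, 512, 653, 511, 623], [517, 654, 512, 513, 624], [655, 513, 530, 654, 514], [514, 519, 531, 626, 655], [516, 652, 656, 515, 627], [656, 657, 516, 521, 628], [658, 517, 657, 518, 629]]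
def next25 : List (List ℕ) := [[518, 655, 523, 658, 519], [521, 659, 520, 656, 524], [660, 521, 522, 657, 525], [522, 538, 660, 523, 526], [661, 524, 539, 634, 659], [525, 661, 526, 635, 660], [528, 532, 662, 527, 541], [662, 663, 528, 653, 542], [664, 529, 663, 530, 543], [530, 535, 655, 664, 531], [533, 665, 532, 536, 545], [666, 533, 534, 537, 546], [534, 664, 666, 535, 547], [667, 536, 659, 665, 539], [537, 667, 538, 666, 540], [539, 540, 661, 550, 667], [542, 668, 541, 646, 662], [669, 542, 543, 647, 663], [543, 547, 669, 544, 664], [670, 545, 668, 548, 665], [546, 670, 547, 549, 666], [548, 549, 651, 670, 550], [552, 556, 568, 671, 551], [671, 553, 672, 552, 593]]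
def next26 : List (List ℕ) := [[558, 673, 553, 554, 594], [674, 554, 571, 673, 555], [555, 560, 572, 596, 674], [557, 671, 675, 556, 597], [675, 676, 557, 562, 598], [677, 558, 676, 559, 599], [559, 674, 564, 677, 560], [562, 678, 561, 675, 565], [679, 562, 563, 676, 566], [563, 579, 679, 564, 567], [680, 565, 580, 604, 678], [566, 680, 567, 605, 679], [569, 573, 681, 568, 582], [681, 682, 569, 672, 583], [683, 570, 682, 571, 584], [571, 576, 674, 683, 572], [574, 684, 573, 577, 586], [685, 574, 575, 578, 587], [575, 683, 685, 576, 588], [686, 577, 678, 684, 580], [578, 686, 579, 685, 581], [580, 581, 680, 591, 686], [583, 687, 582, 616, 681], [688, 583, 584, 617, 682]]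
def next27 : List (List ℕ) := [[584, 588, 688, 585, 683], [689, 586, 687, 589, 684], [587, 689, 588, 590, 685], [589, 590, 621, 689, 591], [593, 597, 690, 592, 671], [690, 691, 593, 607, 672], [692, 594, 691, 595, 673], [595, 600, 609, 692, 596], [598, 693, 597, 601, 675], [694, 598, 599, 602, 676], [599, 692, 694, 600, 677], [695, 601, 613, 693, 604], [602, 695, 603, 694, 605], [604, 605, 615, 680, 695], [607, 696, 606, 690, 616], [697, 607, 608, 691, 617], [608, 612, 697, 609, 618], [698, 610, 696, 613, 619], [611, 698, 612, 614, 620], [613, 614, 695, 698, 615], [699, 616, 619, 687, 696], [617, 699, 618, 688, 697], [619, 620, 699, 621, 698], [623, 627, 700, 622, 652]]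
def next28 : List (List ℕ) := [[700, 701, 623, 637, 653], [702, 624, 701, 625, 654], [625, 630, 639, 702, 626], [628, 703, 627, 631, 656], [704, 628, 629, 632, 657], [629, 702, 704, 630, 658], [705, 631, 643, 703, 634], [632, 705, 633, 704, 635], [634, 635, 645, 661, 705], [637, 706, 636, 700, 646], [707, 637, 638, 701, 647], [638, 642, 707, 639, 648], [708, 640, 706, 643, 649], [641, 708, 642, 644, 650], [643, 644, 705, 708, 645], [709, 646, 649, 668, 706], [647, 709, 648, 669, 707], [649, 650, 709, 651, 708], [653, 710, 652, 662, 700], [711, 653, 654, 663, 701], [654, 658, 711, 655, 702], [712, 656, 710, 659, 703], [657, 712, 658, 660, 704], [659, 660, 667, 712, 661]]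
def next29 : List (List ℕ) := [[713, 662, 665, 710, 668], [663, 713, 664, 711, 669], [665, 666, 713, 667, 670], [668, 669, 670, 709, 713], [672, 714, 671, 681, 690], [715, 672, 673, 682, 691], [673, 677, 715, 674, 692], [716, 675, 714, 678, 693], [676, 716, 677, 679, 694], [678, 679, 686, 716, 680], [717, 681, 684, 714, 687], [682, 717, 683, 715, 688], [684, 685, 717, 686, 689], [687, 688, 689, 699, 717], [718, 690, 693, 696, 714], [691, 718, 692, 697, 715], [693, 694, 718, 695, 716], [696, 697, 698, 718, 699], [719, 700, 703, 706, 710], [701, 719, 702, 707, 711], [703, 704, 719, 705, 712], [706, 707, 708, 719, 709], [710, 711, 712, 713, 719], [714, 715, 716, 717, 718]]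
def nextBlocks : List (List (List ℕ)) := [next0, next1, next2, next3, next4, next5, next6, next7, next8, next9, next10, next11, next12, next13, next14, next15, next16, next17, next18, next19, next20, next21, next22, next23, next24, next25, next26, next27, next28, next29]
def nextIdx (k j : ℕ) : ℕ := ((nextBlocks.getD (k / 24) []).getD (k % 24) []).getD j 0

def repWord0 : List ℕ := [1, 3, 4, 2, 3, 0, 2, 1, 3, 4, 5, 4, 3, 2, 1, 3, 4, 0, 2, 3, 1]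
def repMat0 : IMat := [[1, -1, 0, 0, 0, 0], [0, -1, 0, 0, 0, 0], [0, -2, 1, 0, 0, 0], [0, -3, 0, 1, 0, 0], [0, -2, 0, 0, 1, 0], [0, -1, 0, 0, 0, 1]]
def cert0_0 : List ℕ := [8, 8, 8, 8, 8, 8, 0, 8, 8, 8, 0, 0, 8, 8, 0, 0, 8, 0, 0, 0, 8, 8, 0, 0]
def cert0_1 : List ℕ := [8, 0, 8, 0, 0, 0, 8, 0, 0, 8, 8, 0, 8, 0, 0, 8, 8, 0, 8, 8, 8, 8, 8, 8]
def cert0_2 : List ℕ := [8, 0, 8, 8, 0, 10, 8, 10, 0, 0, 0, 10, 8, 8, 8, 8, 10, 8, 8, 8, 8, 10, 8, 10]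
def cert0_3 : List ℕ := [0, 0, 0, 0, 8, 0, 10, 10, 0, 10, 8, 10, 10, 8, 8, 10, 10, 0, 0, 0, 0, 10, 10, 8]
def cert0_4 : List ℕ := [0, 10, 8, 8, 0, 8, 0, 0, 8, 8, 0, 8, 0, 0, 8, 0, 0, 0, 8, 0, 0, 0, 0, 8]
def cert0_5 : List ℕ := [0, 0, 0, 8, 0, 8, 0, 0, 8, 0, 8, 8, 0, 0, 0, 0, 0, 0, 8, 0, 8, 8, 8, 8]
def cert0_6 : List ℕ := [8, 8, 8, 8, 8, 0, 8, 8, 0, 0, 0, 8, 0, 8, 0, 8, 8, 8, 8, 8, 0, 0, 8, 8]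
def cert0_7 : List ℕ := [0, 8, 10, 8, 0, 10, 10, 10, 10, 8, 10, 0, 8, 10, 10, 10, 0, 10, 10, 10, 0, 10, 8, 10]
def cert0_8 : List ℕ := [10, 8, 10, 10, 10, 0, 10, 0, 0, 10, 8, 8, 10, 10, 8, 8, 10, 10, 10, 8, 10, 8, 8, 8]
def cert0_9 : List ℕ := [10, 10, 10, 10, 8, 8, 10, 8, 10, 10, 10, 8, 10, 0, 10, 0, 0, 10, 0, 0, 10, 8, 10, 0]
def cert0_10 : List ℕ := [10, 10, 0, 10, 0, 10, 10, 10, 8, 10, 10, 10, 8, 0, 10, 8, 10, 10, 10, 0, 8, 0, 0, 0]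
def cert0_11 : List ℕ := [8, 8, 8, 8, 0, 0, 0, 8, 0, 8, 8, 8, 0, 0, 8, 0, 8, 8, 0, 8, 8, 8, 0, 0]
def cert0_12 : List ℕ := [8, 8, 0, 0, 8, 0, 8, 0, 0, 0, 0, 8, 0, 8, 8, 8, 0, 0, 0, 8, 0, 0, 0, 0]
def cert0_13 : List ℕ := [0, 0, 0, 8, 0, 0, 8, 0, 0, 8, 0, 0, 0, 0, 0, 8, 0, 0, 0, 0, 8, 0, 8, 8]
def cert0_14 : List ℕ := [0, 8, 8, 0, 0, 8, 8, 0, 0, 0, 0, 0, 0, 0, 0, 8, 0, 0, 0, 0, 8, 0, 0, 0]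
def cert0_15 : List ℕ := [10, 8, 8, 10, 8, 10, 8, 8, 10, 10, 0, 10, 8, 8, 10, 10, 8, 10, 10, 0, 10, 8, 8, 8]
def cert0_16 : List ℕ := [10, 8, 0, 10, 8, 0, 0, 8, 0, 10, 0, 10, 8, 10, 8, 8, 10, 0, 8, 10, 10, 10, 8, 8]
def cert0_17 : List ℕ := [0, 10, 8, 10, 8, 8, 10, 8, 10, 0, 0, 10, 0, 10, 8, 8, 8, 10, 8, 8, 8, 10, 10, 0]
def cert0_18 : List ℕ := [8, 10, 0, 8, 10, 10, 8, 8, 10, 10, 8, 0, 0, 10, 10, 8, 8, 8, 10, 8, 0, 8, 10, 10]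
def cert0_19 : List ℕ := [8, 10, 8, 0, 8, 8, 0, 0, 0, 0, 0, 0, 0, 0, 0, 0, 0, 8, 0, 8, 0, 0, 0, 0]
def cert0_20 : List ℕ := [0, 0, 8, 0, 0, 0, 0, 0, 0, 8, 0, 0, 8, 0, 0, 8, 0, 0, 0, 0, 0, 0, 0, 0]
def cert0_21 : List ℕ := [8, 0, 0, 0, 0, 0, 8, 0, 0, 0, 0, 0, 0, 0, 0, 0, 0, 0, 8, 8, 0, 0, 0, 0]
def cert0_22 : List ℕ := [0, 0, 0, 0, 0, 8, 0, 0, 0, 0, 0, 0, 0, 0, 8, 0, 0, 0, 8, 0, 0, 0, 0, 8]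
def cert0_23 : List ℕ := [10, 0, 10, 10, 0, 8, 0, 10, 0, 8, 0, 8, 8, 8, 0, 8, 0, 0, 10, 10, 0, 10, 10, 0]
def cert0_24 : List ℕ := [8, 10, 0, 8, 8, 10, 8, 8, 0, 10, 8, 10, 10, 0, 10, 0, 10, 10, 0, 8, 10, 8, 10, 8]
def cert0_25 : List ℕ := [10, 0, 8, 8, 10, 0, 0, 8, 8, 10, 10, 8, 0, 8, 0, 8, 8, 8, 0, 10, 10, 0, 0, 0]
def cert0_26 : List ℕ := [0, 8, 0, 0, 0, 0, 0, 0, 0, 8, 0, 0, 0, 0, 0, 0, 8, 0, 0, 0, 0, 0, 8, 0]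
def cert0_27 : List ℕ := [0, 0, 8, 0, 0, 0, 0, 8, 0, 0, 0, 0, 0, 0, 0, 8, 0, 0, 0, 0, 0, 0, 0, 10]
def cert0_28 : List ℕ := [8, 10, 8, 10, 10, 8, 10, 8, 10, 8, 8, 8, 10, 8, 8, 8, 8, 10, 8, 8, 10, 8, 10, 10]
def cert0_29 : List ℕ := [8, 8, 10, 8, 0, 0, 0, 8, 0, 0, 0, 8, 0, 0, 8, 0, 8, 0, 8, 8, 8, 8, 8, 8]
def cert0 : List (List ℕ) := [cert0_0, cert0_1, cert0_2, cert0_3, cert0_4, cert0_5, cert0_6, cert0_7, cert0_8, cert0_9, cert0_10, cert0_11, cert0_12, cert0_13, cert0_14, cert0_15, cert0_16, cert0_17, cert0_18, cert0_19, cert0_20, cert0_21, cert0_22, cert0_23, cert0_24, cert0_25, cert0_26, cert0_27, cert0_28, cert0_29]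

def repWord1 : List ℕ := [1, 3, 4, 5, 2, 3, 4, 0, 2, 3, 1]
def repMat1 : IMat := [[0, -1, 0, 0, 1, 0], [0, -2, 0, 1, 0, 0], [0, -2, 0, 1, 0, 1], [0, -3, 0, 2, 0, 0], [1, -2, 0, 1, 0, 0], [0, -1, 1, 0, 0, 0]]
def cert1_0 : List ℕ := [8, 8, 8, 0, 8, 8, 0, 10, 8, 0, 0, 10, 0, 8, 10, 10, 10, 10, 0, 0, 8, 9, 8, 8]
def cert1_1 : List ℕ := [1, 0, 1, 0, 8, 8, 1, 8, 8, 0, 9, 0, 1, 8, 8, 9, 1, 0, 0, 9, 1, 9, 1, 8]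
def cert1_2 : List ℕ := [9, 8, 0, 0, 8, 10, 8, 8, 0, 8, 8, 10, 10, 10, 8, 10, 8, 10, 0, 8, 10, 8, 10, 10]
def cert1_3 : List ℕ := [8, 0, 8, 8, 10, 8, 10, 8, 8, 10, 0, 8, 8, 8, 0, 8, 10, 8, 8, 8, 8, 10, 8, 10]
def cert1_4 : List ℕ := [8, 10, 9, 1, 9, 9, 8, 8, 0, 0, 9, 1, 1, 0, 0, 9, 8, 0, 9, 9, 1, 9, 0, 9]
def cert1_5 : List ℕ := [9, 9, 9, 1, 9, 1, 9, 0, 9, 9, 1, 9, 0, 9, 9, 0, 8, 9, 0, 9, 1, 1, 9, 0]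
def cert1_6 : List ℕ := [0, 1, 0, 0, 9, 9, 9, 1, 1, 0, 9, 1, 1, 9, 1, 1, 0, 9, 0, 0, 0, 9, 9, 1]
def cert1_7 : List ℕ := [1, 0, 10, 8, 10, 10, 10, 0, 8, 8, 0, 8, 0, 0, 10, 10, 8, 10, 10, 8, 8, 0, 10, 0]
def cert1_8 : List ℕ := [8, 8, 0, 8, 8, 0, 8, 8, 10, 0, 8, 0, 10, 10, 8, 8, 10, 10, 0, 8, 0, 10, 8, 0]
def cert1_9 : List ℕ := [10, 10, 0, 10, 8, 8, 8, 10, 8, 8, 0, 8, 0, 10, 8, 8, 8, 10, 8, 8, 10, 0, 0, 10]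
def cert1_10 : List ℕ := [10, 0, 8, 0, 0, 0, 8, 0, 8, 0, 8, 0, 0, 8, 10, 10, 0, 10, 10, 9, 0, 0, 0, 1]
def cert1_11 : List ℕ := [9, 1, 0, 9, 9, 0, 0, 0, 9, 1, 9, 9, 1, 0, 1, 1, 0, 9, 0, 9, 1, 9, 9, 9]
def cert1_12 : List ℕ := [9, 9, 10, 10, 0, 10, 1, 10, 1, 10, 1, 9, 0, 0, 9, 1, 0, 10, 1, 0, 10, 9, 0, 10]
def cert1_13 : List ℕ := [1, 0, 10, 9, 9, 1, 9, 9, 1, 0, 0, 0, 0, 10, 1, 9, 10, 1, 1, 0, 1, 1, 1, 9]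
def cert1_14 : List ℕ := [9, 0, 9, 9, 10, 9, 1, 0, 10, 10, 10, 1, 1, 10, 10, 1, 0, 9, 10, 9, 9, 1, 0, 0]
def cert1_15 : List ℕ := [10, 8, 8, 10, 0, 10, 10, 10, 8, 10, 8, 10, 8, 8, 8, 8, 8, 0, 10, 8, 0, 0, 10, 0]
def cert1_16 : List ℕ := [10, 0, 10, 8, 8, 10, 10, 10, 0, 10, 8, 10, 8, 8, 8, 8, 0, 8, 8, 0, 10, 8, 8, 8]
def cert1_17 : List ℕ := [8, 8, 10, 10, 8, 8, 8, 8, 0, 8, 0, 8, 0, 10, 8, 8, 10, 8, 8, 8, 8, 10, 10, 0]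
def cert1_18 : List ℕ := [10, 0, 8, 0, 10, 10, 0, 10, 10, 0, 10, 10, 8, 10, 8, 10, 8, 8, 8, 0, 0, 8, 0, 10]
def cert1_19 : List ℕ := [8, 10, 8, 0, 0, 8, 1, 9, 8, 0, 1, 1, 1, 0, 0, 9, 9, 1, 0, 1, 8, 0, 9, 0]
def cert1_20 : List ℕ := [8, 1, 8, 1, 0, 1, 1, 0, 0, 1, 8, 0, 0, 1, 0, 1, 8, 10, 10, 10, 1, 1, 10, 1]
def cert1_21 : List ℕ := [8, 10, 8, 9, 1, 1, 8, 10, 1, 10, 10, 1, 1, 1, 1, 8, 0, 10, 1, 1, 10, 8, 9, 0]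
def cert1_22 : List ℕ := [8, 8, 1, 1, 0, 8, 0, 0, 1, 0, 0, 1, 1, 8, 9, 10, 1, 10, 8, 8, 1, 1, 1, 8]
def cert1_23 : List ℕ := [0, 8, 0, 10, 0, 8, 8, 0, 8, 10, 0, 10, 10, 10, 8, 10, 8, 0, 0, 10, 0, 0, 0, 0]
def cert1_24 : List ℕ := [8, 10, 8, 10, 0, 0, 10, 0, 8, 0, 8, 10, 10, 0, 0, 8, 10, 0, 0, 8, 0, 0, 0, 0]
def cert1_25 : List ℕ := [10, 8, 10, 10, 0, 0, 8, 0, 10, 0, 10, 8, 8, 0, 0, 8, 0, 0, 0, 0, 0, 8, 0, 10]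
def cert1_26 : List ℕ := [10, 1, 0, 1, 10, 1, 0, 1, 0, 1, 0, 0, 0, 9, 1, 0, 1, 0, 0, 0, 0, 1, 0, 0]
def cert1_27 : List ℕ := [1, 1, 1, 10, 0, 9, 1, 1, 1, 0, 0, 1, 1, 10, 0, 0, 0, 0, 0, 1, 9, 9, 10, 10]
def cert1_28 : List ℕ := [0, 8, 0, 8, 10, 10, 0, 0, 10, 0, 0, 0, 0, 0, 10, 0, 0, 8, 0, 0, 0, 0, 0, 8]
def cert1_29 : List ℕ := [0, 0, 10, 0, 0, 0, 1, 1, 1, 1, 9, 9, 1, 0, 9, 9, 1, 0, 0, 0, 8, 0, 0, 0]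
def cert1 : List (List ℕ) := [cert1_0, cert1_1, cert1_2, cert1_3, cert1_4, cert1_5, cert1_6, cert1_7, cert1_8, cert1_9, cert1_10, cert1_11, cert1_12, cert1_13, cert1_14, cert1_15, cert1_16, cert1_17, cert1_18, cert1_19, cert1_20, cert1_21, cert1_22, cert1_23, cert1_24, cert1_25, cert1_26, cert1_27, cert1_28, cert1_29]

def repWord2 : List ℕ := [0, 2, 3, 4, 5, 1, 3, 4, 2, 3, 1]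
def repMat2 : IMat := [[1, -1, 0, 0, 0, 0], [1, -1, 0, 0, 0, 1], [2, -1, 0, 0, 0, 0], [2, -2, 0, 0, 1, 0], [1, -2, 0, 1, 0, 0], [0, -1, 1, 0, 0, 0]]
def cert2_0 : List ℕ := [0, 8, 9, 0, 0, 9, 8, 0, 0, 8, 10, 0, 0, 0, 0, 0, 0, 0, 0, 0, 1, 10, 10, 8]
def cert2_1 : List ℕ := [10, 8, 10, 8, 10, 10, 9, 9, 1, 10, 10, 10, 9, 10, 0, 9, 9, 0, 0, 10, 9, 10, 9, 10]
def cert2_2 : List ℕ := [10, 0, 0, 10, 0, 0, 0, 8, 0, 0, 0, 8, 0, 8, 0, 8, 0, 8, 0, 0, 8, 0, 8, 10]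
def cert2_3 : List ℕ := [8, 0, 0, 0, 0, 10, 8, 0, 0, 0, 0, 0, 10, 0, 10, 0, 0, 10, 10, 0, 10, 0, 0, 10]
def cert2_4 : List ℕ := [0, 0, 8, 9, 8, 1, 8, 9, 9, 10, 10, 0, 8, 10, 10, 8, 10, 10, 1, 9, 0, 10, 8, 0]
def cert2_5 : List ℕ := [0, 10, 0, 9, 10, 0, 10, 8, 9, 9, 9, 0, 10, 9, 8, 1, 8, 8, 9, 9, 9, 8, 10, 9]
def cert2_6 : List ℕ := [8, 8, 9, 9, 0, 9, 0, 9, 0, 8, 1, 9, 9, 10, 9, 0, 9, 9, 9, 0, 9, 9, 9, 9]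
def cert2_7 : List ℕ := [9, 0, 0, 0, 0, 0, 0, 8, 10, 8, 8, 0, 0, 8, 8, 0, 8, 8, 8, 8, 0, 0, 8, 0]
def cert2_8 : List ℕ := [8, 0, 8, 10, 8, 8, 0, 8, 0, 8, 8, 8, 8, 0, 8, 8, 8, 0, 8, 0, 10, 0, 0, 10]
def cert2_9 : List ℕ := [10, 0, 10, 0, 0, 10, 0, 10, 10, 0, 8, 0, 0, 8, 0, 10, 0, 0, 0, 10, 0, 0, 0, 0]
def cert2_10 : List ℕ := [0, 10, 10, 8, 10, 10, 0, 0, 0, 10, 10, 0, 0, 10, 0, 10, 0, 10, 0, 8, 9, 1, 10, 9]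
def cert2_11 : List ℕ := [1, 0, 10, 1, 9, 9, 1, 9, 1, 1, 10, 8, 10, 0, 8, 10, 1, 0, 0, 0, 0, 9, 10, 10]
def cert2_12 : List ℕ := [8, 9, 1, 1, 8, 1, 1, 10, 8, 10, 0, 1, 10, 10, 0, 0, 1, 8, 0, 9, 1, 10, 9, 9]
def cert2_13 : List ℕ := [9, 10, 9, 1, 9, 9, 9, 0, 9, 9, 9, 1, 9, 8, 9, 10, 8, 9, 8, 8, 8, 9, 9, 8]
def cert2_14 : List ℕ := [8, 8, 1, 8, 10, 9, 9, 1, 9, 1, 9, 0, 8, 0, 0, 9, 1, 9, 10, 9, 1, 1, 0, 1]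
def cert2_15 : List ℕ := [10, 0, 0, 0, 8, 0, 0, 10, 8, 8, 8, 0, 0, 0, 0, 10, 0, 8, 8, 0, 8, 0, 8, 8]
def cert2_16 : List ℕ := [8, 8, 8, 8, 8, 8, 10, 8, 0, 8, 0, 10, 0, 10, 0, 0, 8, 0, 0, 8, 10, 0, 0, 8]
def cert2_17 : List ℕ := [10, 10, 8, 10, 0, 0, 0, 0, 8, 0, 0, 0, 10, 0, 0, 0, 10, 10, 0, 0, 10, 0, 0, 0]
def cert2_18 : List ℕ := [10, 0, 10, 0, 0, 0, 0, 0, 0, 8, 0, 0, 8, 10, 0, 0, 0, 0, 10, 10, 0, 0, 0, 0]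
def cert2_19 : List ℕ := [8, 10, 0, 0, 0, 9, 8, 10, 9, 8, 10, 8, 10, 1, 8, 10, 10, 0, 1, 9, 9, 1, 9, 9]
def cert2_20 : List ℕ := [10, 0, 10, 1, 10, 0, 0, 0, 9, 10, 8, 0, 8, 8, 0, 9, 9, 9, 9, 1, 1, 9, 8, 8]
def cert2_21 : List ℕ := [9, 8, 0, 9, 0, 0, 8, 0, 9, 0, 1, 10, 0, 0, 9, 8, 0, 10, 9, 9, 9, 0, 8, 0]
def cert2_22 : List ℕ := [9, 9, 9, 9, 9, 8, 8, 0, 10, 8, 0, 1, 1, 9, 9, 1, 8, 1, 0, 9, 1, 1, 1, 8]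
def cert2_23 : List ℕ := [0, 8, 0, 10, 0, 0, 0, 8, 8, 0, 0, 8, 8, 0, 0, 8, 0, 8, 8, 8, 0, 8, 8, 8]
def cert2_24 : List ℕ := [0, 0, 8, 0, 10, 10, 0, 0, 10, 8, 10, 8, 0, 10, 10, 10, 0, 0, 0, 0, 8, 0, 0, 0]
def cert2_25 : List ℕ := [0, 0, 10, 0, 10, 10, 0, 0, 10, 0, 10, 8, 0, 0, 0, 8, 0, 0, 0, 0, 0, 8, 10, 10]
def cert2_26 : List ℕ := [10, 8, 8, 10, 8, 8, 10, 10, 0, 10, 1, 1, 8, 8, 0, 10, 0, 8, 8, 8, 8, 8, 9, 0]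
def cert2_27 : List ℕ := [9, 0, 0, 8, 10, 10, 9, 10, 9, 0, 10, 9, 9, 9, 9, 0, 9, 0, 0, 10, 1, 1, 1, 0]
def cert2_28 : List ℕ := [0, 8, 0, 8, 8, 0, 8, 8, 0, 8, 8, 8, 8, 8, 0, 10, 10, 10, 0, 10, 0, 10, 10, 0]
def cert2_29 : List ℕ := [10, 10, 10, 0, 10, 0, 10, 0, 0, 10, 0, 0, 0, 9, 9, 9, 9, 9, 8, 8, 8, 8, 0, 10]
def cert2 : List (List ℕ) := [cert2_0, cert2_1, cert2_2, cert2_3, cert2_4, cert2_5, cert2_6, cert2_7, cert2_8, cert2_9, cert2_10, cert2_11, cert2_12, cert2_13, cert2_14, cert2_15, cert2_16, cert2_17, cert2_18, cert2_19, cert2_20, cert2_21, cert2_22, cert2_23, cert2_24, cert2_25, cert2_26, cert2_27, cert2_28, cert2_29]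

def repWord3 : List ℕ := [3, 4, 5, 2, 3, 4, 0, 2, 3, 1]
def repMat3 : IMat := [[0, -1, 0, 0, 1, 0], [0, -1, 0, 1, 0, 0], [0, -2, 0, 1, 0, 1], [0, -3, 0, 2, 0, 0], [1, -2, 0, 1, 0, 0], [0, -1, 1, 0, 0, 0]]
def cert3_0 : List ℕ := [0, 0, 0, 8, 0, 0, 0, 9, 0, 0, 0, 9, 0, 0, 9, 9, 9, 9, 0, 0, 0, 0, 0, 0]
def cert3_1 : List ℕ := [0, 8, 0, 8, 0, 0, 0, 0, 0, 8, 0, 8, 0, 0, 0, 0, 0, 8, 8, 0, 0, 0, 0, 0]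
def cert3_2 : List ℕ := [0, 10, 0, 0, 10, 9, 10, 10, 0, 0, 10, 9, 9, 9, 10, 9, 10, 9, 0, 10, 9, 10, 9, 9]
def cert3_3 : List ℕ := [0, 0, 10, 10, 9, 10, 9, 10, 10, 9, 0, 10, 10, 10, 1, 10, 9, 10, 10, 10, 10, 9, 10, 9]
def cert3_4 : List ℕ := [10, 9, 0, 0, 0, 0, 0, 0, 8, 8, 0, 0, 0, 8, 8, 0, 0, 8, 0, 0, 8, 0, 8, 0]
def cert3_5 : List ℕ := [0, 0, 0, 0, 0, 0, 0, 8, 0, 0, 0, 0, 8, 0, 0, 8, 0, 0, 8, 0, 8, 0, 0, 8]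
def cert3_6 : List ℕ := [8, 0, 8, 8, 0, 0, 0, 0, 8, 8, 0, 8, 8, 0, 8, 0, 8, 0, 8, 8, 8, 0, 0, 0]
def cert3_7 : List ℕ := [0, 8, 9, 10, 9, 9, 9, 8, 10, 0, 8, 10, 8, 1, 9, 9, 10, 9, 9, 10, 10, 8, 9, 8]
def cert3_8 : List ℕ := [10, 0, 8, 10, 0, 10, 10, 0, 9, 8, 10, 8, 9, 9, 10, 10, 9, 9, 8, 10, 10, 9, 10, 8]
def cert3_9 : List ℕ := [9, 9, 8, 9, 10, 10, 10, 9, 0, 10, 8, 0, 1, 9, 0, 10, 10, 9, 10, 10, 9, 8, 8, 9]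
def cert3_10 : List ℕ := [9, 10, 0, 8, 10, 1, 0, 10, 0, 1, 10, 8, 8, 10, 9, 9, 10, 9, 9, 0, 8, 10, 8, 0]
def cert3_11 : List ℕ := [0, 0, 8, 0, 0, 8, 8, 8, 0, 8, 0, 0, 8, 10, 0, 8, 8, 0, 8, 0, 0, 0, 0, 0]
def cert3_12 : List ℕ := [0, 0, 8, 8, 8, 8, 8, 8, 8, 8, 8, 0, 8, 8, 0, 0, 8, 8, 0, 8, 8, 0, 8, 8]
def cert3_13 : List ℕ := [8, 8, 8, 0, 0, 0, 0, 0, 0, 8, 8, 8, 8, 8, 8, 0, 8, 8, 8, 10, 8, 8, 0, 0]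
def cert3_14 : List ℕ := [0, 8, 0, 0, 8, 0, 0, 10, 8, 8, 8, 8, 8, 8, 8, 8, 10, 0, 8, 0, 0, 8, 10, 8]
def cert3_15 : List ℕ := [8, 10, 10, 8, 1, 9, 8, 9, 10, 9, 10, 9, 10, 10, 10, 10, 10, 10, 8, 10, 10, 1, 8, 1]
def cert3_16 : List ℕ := [8, 1, 9, 10, 10, 9, 9, 9, 10, 9, 10, 8, 9, 0, 9, 0, 10, 0, 0, 10, 8, 10, 9, 10]
def cert3_17 : List ℕ := [10, 0, 8, 9, 9, 0, 10, 9, 10, 0, 1, 0, 10, 9, 10, 10, 9, 10, 10, 9, 10, 9, 8, 10]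
def cert3_18 : List ℕ := [8, 10, 0, 1, 8, 8, 1, 8, 9, 10, 9, 9, 0, 8, 10, 8, 9, 9, 0, 1, 10, 9, 10, 8]
def cert3_19 : List ℕ := [0, 8, 10, 1, 1, 0, 8, 0, 0, 10, 8, 8, 8, 10, 8, 0, 0, 0, 8, 0, 0, 8, 0, 10]
def cert3_20 : List ℕ := [0, 8, 0, 8, 10, 8, 8, 10, 10, 0, 0, 8, 8, 8, 10, 0, 0, 8, 8, 8, 8, 8, 8, 8]
def cert3_21 : List ℕ := [0, 8, 0, 0, 8, 8, 0, 8, 8, 8, 8, 8, 8, 8, 8, 0, 8, 8, 0, 0, 8, 0, 0, 10]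
def cert3_22 : List ℕ := [0, 0, 8, 8, 10, 0, 10, 10, 8, 10, 8, 8, 8, 0, 8, 8, 8, 8, 0, 0, 8, 8, 8, 0]
def cert3_23 : List ℕ := [10, 0, 10, 8, 1, 0, 0, 1, 0, 9, 10, 9, 9, 8, 0, 9, 0, 10, 10, 8, 1, 1, 10, 1]
def cert3_24 : List ℕ := [0, 8, 0, 9, 1, 1, 8, 8, 0, 10, 0, 8, 8, 10, 10, 0, 8, 10, 10, 0, 10, 1, 10, 1]
def cert3_25 : List ℕ := [8, 0, 8, 9, 10, 10, 0, 8, 8, 1, 8, 0, 0, 1, 1, 0, 8, 8, 10, 10, 10, 0, 10, 8]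
def cert3_26 : List ℕ := [8, 8, 10, 8, 8, 8, 10, 8, 10, 0, 10, 10, 10, 0, 8, 10, 8, 10, 10, 10, 10, 8, 8, 8]
def cert3_27 : List ℕ := [8, 8, 8, 8, 10, 0, 8, 8, 8, 10, 10, 8, 8, 8, 8, 8, 10, 10, 10, 8, 0, 0, 8, 8]
def cert3_28 : List ℕ := [8, 0, 1, 0, 8, 8, 1, 1, 8, 0, 0, 1, 1, 1, 8, 0, 0, 0, 0, 0, 1, 1, 1, 0]
def cert3_29 : List ℕ := [0, 0, 8, 8, 8, 8, 8, 8, 8, 8, 0, 0, 8, 8, 0, 0, 8, 8, 0, 0, 0, 0, 0, 8]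
def cert3 : List (List ℕ) := [cert3_0, cert3_1, cert3_2, cert3_3, cert3_4, cert3_5, cert3_6, cert3_7, cert3_8, cert3_9, cert3_10, cert3_11, cert3_12, cert3_13, cert3_14, cert3_15, cert3_16, cert3_17, cert3_18, cert3_19, cert3_20, cert3_21, cert3_22, cert3_23, cert3_24, cert3_25, cert3_26, cert3_27, cert3_28, cert3_29]

def repWord4 : List ℕ := []
def repMat4 : IMat := [[1, 0, 0, 0, 0, 0], [0, 1, 0, 0, 0, 0], [0, 0, 1, 0, 0, 0], [0, 0, 0, 1, 0, 0], [0, 0, 0, 0, 1, 0], [0, 0, 0, 0, 0, 1]]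
def cert4_0 : List ℕ := [8, 8, 8, 8, 8, 8, 9, 8, 8, 8, 9, 9, 8, 8, 9, 9, 8, 9, 9, 9, 8, 8, 0, 0]
def cert4_1 : List ℕ := [8, 0, 8, 0, 0, 0, 8, 0, 0, 8, 8, 0, 8, 0, 0, 8, 8, 0, 8, 8, 8, 8, 8, 8]
def cert4_2 : List ℕ := [8, 9, 8, 8, 9, 10, 8, 10, 9, 9, 9, 10, 8, 8, 8, 8, 10, 8, 8, 8, 8, 10, 8, 10]
def cert4_3 : List ℕ := [9, 9, 9, 9, 8, 9, 10, 10, 9, 10, 8, 10, 10, 8, 8, 10, 10, 9, 9, 9, 9, 10, 10, 8]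
def cert4_4 : List ℕ := [9, 10, 8, 8, 0, 8, 0, 0, 8, 8, 0, 8, 0, 0, 8, 0, 0, 0, 8, 0, 0, 0, 0, 8]
def cert4_5 : List ℕ := [0, 0, 0, 8, 0, 8, 0, 0, 8, 0, 8, 8, 0, 0, 0, 0, 0, 0, 8, 0, 8, 8, 8, 8]
def cert4_6 : List ℕ := [8, 8, 8, 8, 8, 0, 8, 8, 0, 0, 0, 8, 0, 8, 0, 8, 8, 8, 8, 8, 0, 0, 8, 8]
def cert4_7 : List ℕ := [0, 8, 10, 8, 9, 10, 10, 10, 10, 8, 10, 9, 8, 10, 10, 10, 9, 10, 10, 10, 9, 10, 8, 10]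
def cert4_8 : List ℕ := [10, 8, 10, 10, 10, 9, 10, 9, 9, 10, 8, 8, 10, 10, 8, 8, 10, 10, 10, 8, 10, 8, 8, 8]
def cert4_9 : List ℕ := [10, 10, 10, 10, 8, 8, 10, 8, 10, 10, 10, 8, 10, 9, 10, 9, 9, 10, 9, 9, 10, 8, 10, 9]
def cert4_10 : List ℕ := [10, 10, 9, 10, 9, 10, 10, 10, 8, 10, 10, 10, 8, 9, 10, 8, 10, 10, 10, 0, 8, 0, 0, 0]
def cert4_11 : List ℕ := [8, 8, 8, 8, 0, 0, 0, 8, 0, 8, 8, 8, 0, 0, 8, 0, 8, 8, 0, 8, 8, 8, 0, 0]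
def cert4_12 : List ℕ := [8, 8, 0, 0, 8, 0, 8, 0, 0, 0, 0, 8, 0, 8, 8, 8, 0, 0, 0, 8, 0, 0, 0, 0]
def cert4_13 : List ℕ := [0, 0, 0, 8, 0, 0, 8, 0, 0, 8, 0, 0, 0, 0, 0, 8, 0, 0, 0, 0, 8, 0, 8, 8]
def cert4_14 : List ℕ := [0, 8, 8, 0, 0, 8, 8, 0, 0, 0, 0, 0, 0, 0, 0, 8, 0, 0, 0, 0, 8, 0, 0, 0]
def cert4_15 : List ℕ := [10, 8, 8, 10, 8, 10, 8, 8, 10, 10, 9, 10, 8, 8, 10, 10, 8, 10, 10, 9, 10, 8, 8, 8]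
def cert4_16 : List ℕ := [10, 8, 9, 10, 8, 9, 9, 8, 9, 10, 9, 10, 8, 10, 8, 8, 10, 9, 8, 10, 10, 10, 8, 8]
def cert4_17 : List ℕ := [9, 10, 8, 10, 8, 8, 10, 8, 10, 9, 9, 10, 9, 10, 8, 8, 8, 10, 8, 8, 8, 10, 10, 9]
def cert4_18 : List ℕ := [8, 10, 9, 8, 10, 10, 8, 8, 10, 10, 8, 9, 9, 10, 10, 8, 8, 8, 10, 8, 9, 8, 10, 10]
def cert4_19 : List ℕ := [8, 10, 8, 9, 8, 8, 0, 0, 0, 0, 0, 0, 0, 0, 0, 0, 0, 8, 0, 8, 0, 0, 0, 0]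
def cert4_20 : List ℕ := [0, 0, 8, 0, 0, 0, 0, 0, 0, 8, 0, 0, 8, 0, 0, 8, 0, 0, 0, 0, 0, 0, 0, 0]
def cert4_21 : List ℕ := [8, 0, 0, 0, 0, 0, 8, 0, 0, 0, 0, 0, 0, 0, 0, 0, 0, 0, 8, 8, 0, 0, 0, 0]
def cert4_22 : List ℕ := [0, 0, 0, 0, 0, 8, 0, 0, 0, 0, 0, 0, 0, 0, 8, 0, 0, 0, 8, 0, 0, 0, 0, 8]
def cert4_23 : List ℕ := [10, 9, 10, 10, 9, 8, 9, 10, 9, 8, 9, 8, 8, 8, 9, 8, 9, 9, 10, 10, 9, 10, 10, 9]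
def cert4_24 : List ℕ := [8, 10, 9, 8, 8, 10, 8, 8, 9, 10, 8, 10, 10, 9, 10, 9, 10, 10, 9, 8, 10, 8, 10, 8]
def cert4_25 : List ℕ := [10, 9, 8, 8, 10, 9, 9, 8, 8, 10, 10, 8, 9, 8, 9, 8, 8, 8, 9, 10, 10, 9, 0, 0]
def cert4_26 : List ℕ := [0, 8, 0, 0, 0, 0, 0, 0, 0, 8, 0, 0, 0, 0, 0, 0, 8, 0, 0, 0, 0, 0, 8, 0]
def cert4_27 : List ℕ := [0, 0, 8, 0, 0, 0, 0, 8, 0, 0, 0, 0, 0, 0, 0, 8, 0, 0, 0, 0, 0, 0, 0, 10]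
def cert4_28 : List ℕ := [8, 10, 8, 10, 10, 8, 10, 8, 10, 8, 8, 8, 10, 8, 8, 8, 8, 10, 8, 8, 10, 8, 10, 10]
def cert4_29 : List ℕ := [8, 8, 10, 8, 0, 0, 0, 8, 0, 0, 0, 8, 0, 0, 8, 0, 8, 0, 8, 8, 8, 8, 8, 8]
def cert4 : List (List ℕ) := [cert4_0, cert4_1, cert4_2, cert4_3, cert4_4, cert4_5, cert4_6, cert4_7, cert4_8, cert4_9, cert4_10, cert4_11, cert4_12, cert4_13, cert4_14, cert4_15, cert4_16, cert4_17, cert4_18, cert4_19, cert4_20, cert4_21, cert4_22, cert4_23, cert4_24, cert4_25, cert4_26, cert4_27, cert4_28, cert4_29]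

def rootForms : IMat := [[0, 0, 0, 0, -1, 2], [0, 0, 0, -1, 2, -1], [0, 0, 0, -1, 1, 1], [0, -1, -1, 2, -1, 0], [0, -1, -1, 1, 1, -1], [0, -1, -1, 1, 0, 1], [-1, 0, 2, -1, 0, 0], [-1, -1, 1, 1, -1, 0], [-1, -1, 1, 0, 1, -1], [-1, -1, 1, 0, 0, 1], [0, 2, 0, -1, 0, 0], [0, 1, -1, 1, -1, 0], [0, 1, -1, 0, 1, -1], [0, 1, -1, 0, 0, 1], [-1, 1, 1, 0, -1, 0], [-1, 1, 1, -1, 1, -1], [-1, 1, 1, -1, 0, 1], [-1, 0, 0, 1, 0, -1], [-1, 0, 0, 1, -1, 1], [-1, 0, 0, 0, 1, 0], [2, 0, -1, 0, 0, 0], [1, 0, 1, -1, 0, 0], [1, -1, 0, 1, -1, 0], [1, -1, 0, 0, 1, -1], [1, -1, 0, 0, 0, 1], [1, 1, 0, 0, -1, 0], [1, 1, 0, -1, 1, -1], [1, 1, 0, -1, 0, 1], [1, 0, -1, 1, 0, -1], [1, 0, -1, 1, -1, 1], [1, 0, -1, 0, 1, 0], [0, 0, 1, 0, 0, -1], [0, 0, 1, 0, -1,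 1], [0, 0, 1, -1, 1, 0], [0, -1, 0, 1, 0, 0], [0, 1, 0, 0, 0, 0]]

def imPowTen (M : IMat) : Bool :=
  let M2 := imMul M M; let M4 := imMul M2 M2
  imMul (imMul M4 M4) M2 == imOne

def imZero : IMat := imOne.map fun r => r.map fun _ => 0

def imNeg (X : IMat) : IMat := X.map fun r => r.map fun x => -x

/-- A certificate for one element. -/
def certOK (M : IMat) : ℕ → Bool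
  | 5 => let M2 := imMul M M; imMul (imMul M2 M2) M == imOne
  | 8 => let M2 := imMul M M; let M4 := imMul M2 M2; imMul M4 M4 == imOne
  | 9 => let M2 := imMul M M; let M4 := imMul M2 M2; imMul (imMul M4 M4) M == imOne
  | 10 => imPowTen M
  | 0 => let M2 := imMul M M; let M4 := imMul M2 M2; let M6 := imMul M4 M2
         imAdd (imMul M4 M4) M6 == imAdd M2 imOne
  | 1 => let M2 := imMul M M; let M3 := imMul M2 M; let M5 := imMul M3 M2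
         (imAdd (imAdd (imMul M5 M) M5) (imAdd M imOne) == M3) &&
           imAdd (imMul M2 M2) imOne != M2 &&
           rootForms.all fun r => rowMul r (imAdd (imAdd M2 M) imOne) != [0, 0, 0, 0, 0, 0]
  | _ => false

/-- The certificates of one block of a coset. -/
def blockOK (g : IMat) (ms : List IMat) (cs : List ℕ) : Bool :=
  ms.length == cs.length && (ms.zip cs).all fun p => certOK (imMul g p.1) p.2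

end H34.E6Cox
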