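import Cfsg.Agent.H34.E6Torus

/-!
An element of the group of type E6 over an extension field twisting Frobenius to a monomial element whose Weyl
component has a primitive twelfth eigenvalue.
-/

set_option autoImplicit false
set_option linter.unusedSectionVars false

open Cfsg.Lie
open scoped MatrixGroups
open Matrix Polynomial

attribute [local irreducible] Cfsg.Lie.chevE6

namespace H34.E6Cox

/-- The twisting element. -/
theorem exists_frame {F E : Type*} [Field F] [Fintype F] [Field E] [Fintype E] {m : ℕ} (hm : 12 ∣ m)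
    (hm0 : 0 < m) (hQ : Fintype.card E = Fintype.card F ^ m) (ι : F →+* E) (σ : E ≃+* E)
    (hσ : ∀ x, σ x = x ^ Fintype.card F) (hσι : σ.toRingHom.comp ι = ι) {N : ℕ} [NeZero N]
    (e : Multiplicative (ZMod N) ≃* Eˣ) {ℓ : ℕ} (hl : ℓ.Prime) (hl12 : 12 < ℓ)
    (hprim : IsPrimitiveRoot ((Fintype.card F : ℤ) : ZMod ℓ) 12) :
    ∃ gE ∈ chevE6.group E, ∃ (a f₀ : Fin chevE6.rank → ZMod N) (L : List (Fin chevE6.rank)),
      Tori.InT a ∧ H54.glF chevE6 σ.toRingHom gE * gE⁻¹ = Tori.tor C6 e a * H54.Ctx.nw chevE6 E L ∧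
        f₀ ≠ 0 ∧ ℓ • f₀ = 0 ∧
        f₀ ᵥ* Tori.toZ N (Tori.lmat C6 (C6.wperm L)⁻¹) = ((Fintype.card F : ℤ) : ZMod N) • f₀ := by
  classical
  set q := Fintype.card F with hqdef
  have hq2 : 1 < q := Fintype.one_lt_card
  have := Fact.mk hl
  have hpow : ∀ (n : ℕ) (f : Fin chevE6.rank → ZMod N), Tori.tor C6 e (n • f) = Tori.tor C6 e f ^ n := by
    intro n f
    induction n with
    | zero => rw [zero_smul, Tori.tor_zero, pow_zero]
    | succ n ih => rw [succ_nsmul, Tori.tor_add, ih, pow_succ]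
  -- an element of order `ℓ`
  have hlG : ℓ ∣ Nat.card ↥(chevE6.group F) := by
    have h := card_group_E6 (F := F)
    have hdvd : ℓ ∣ q ^ 12 - 1 := by
      rw [← ZMod.natCast_eq_zero_iff, Nat.cast_sub (Nat.one_le_pow _ _ (by omega))]
      have h12 := hprim.pow_eq_one
      rw [Int.cast_natCast] at h12
      simp [h12]
    have h2 : ℓ ∣ Nat.gcd (q - 1) 3 * Nat.card ↥(chevE6.group F) := by
      rw [h]
      exact dvd_mul_of_dvd_right (hdvd.trans (List.dvd_prod (List.mem_map.2 ⟨12, by simp, rfl⟩))) _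
    refine (hl.dvd_mul.1 h2).resolve_left fun h3 => ?_
    have := Nat.le_of_dvd (Nat.gcd_pos_of_pos_right _ (by norm_num)) h3
    have := Nat.gcd_le_right (q - 1) (show 0 < 3 by norm_num)
    omega
  obtain ⟨x, hx⟩ := exists_prime_orderOf_dvd_card' (G := ↥(chevE6.group F)) ℓ hlG
  let ιG : ↥(chevE6.group F) →* ↥(chevE6.group E) :=
    ((H54.glF chevE6 ι).comp (chevE6.group F).subtype).codRestrict (chevE6.group E) fun z =>
      C6.glF_group_le ι ⟨(z : GL chevE6.Idx F), z.2, rfl⟩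
  have hιG : Function.Injective ιG := fun a b h =>
    Subtype.ext (H54.glF_injective ι (congrArg Subtype.val h))
  set T : Subgroup ↥(chevE6.group E) := (chevE6.diagonalSubgroup E).subgroupOf (chevE6.group E) with hTdef
  have hT : ¬ ℓ ∣ T.index := by
    intro hdiv
    have hTc : Nat.gcd (Fintype.card E - 1) 3 * Nat.card ↥T = (Fintype.card E - 1) ^ 6 := by
      rw [Nat.card_congr (Subgroup.subgroupOfEquivOfLe C6.diag_le_group).toEquiv]
      exact card_diag_E6
    have hG := card_group_E6 (F := E)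
    set Q := Fintype.card E with hQdef
    have hQ1 : (Q : ZMod ℓ) = 1 := by
      have h := hprim.pow_eq_one
      rw [Int.cast_natCast] at h
      rw [hQ, show m = 12 * (m / 12) by omega, pow_mul, Nat.cast_pow, Nat.cast_pow, h, one_pow]
    have hprod : (([2, 5, 6, 8, 9, 12] : List ℕ).map fun d => Q ^ d - 1).prod =
        (([2, 5, 6, 8, 9, 12] : List ℕ).map fun d => ∑ i ∈ Finset.range d, Q ^ i).prod * (Q - 1) ^ 6 := by
      have hg := fun a => geom_sum_mul_of_one_le (show 1 ≤ Q from Fintype.card_pos) a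
      simp only [List.map_cons, List.map_nil, List.prod_cons, List.prod_nil, ← hQdef] at hg ⊢
      rw [← hg 2, ← hg 5, ← hg 6, ← hg 8, ← hg 9, ← hg 12]
      ring
    have hidx : T.index = Q ^ (chevE6.nroots / 2) *
        (([2, 5, 6, 8, 9, 12] : List ℕ).map fun d => ∑ i ∈ Finset.range d, Q ^ i).prod := by
      have h := T.card_mul_index
      have hQ0 : 0 < (Q - 1) ^ 6 := by
        have := Fintype.one_lt_card (α := E)
        exact pow_pos (by omega) _
      refine Nat.eq_of_mul_eq_mul_left hQ0 ?_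
      rw [← hTc, mul_assoc, h, hG, hTc, hprod]
      ring
    rw [hidx, ← ZMod.natCast_eq_zero_iff, Nat.cast_mul, Nat.cast_pow, hQ1, one_pow, one_mul,
      Nat.cast_list_prod, List.prod_eq_zero_iff, List.map_map, List.mem_map] at hdiv
    obtain ⟨a, ha, ha'⟩ := hdiv
    rw [Function.comp_apply, Tori.geom_prod_cast hQ1, ZMod.natCast_eq_zero_iff] at ha'
    simp only [List.mem_cons, List.not_mem_nil, or_false] at ha
    have := Nat.le_of_dvd (by omega) ha'
    omega
  obtain ⟨g, hg⟩ := Tori.exists_conj_diag T hT (x := ιG x) (by rw [orderOf_injective ιG hιG, hx])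
  rw [hTdef, Subgroup.mem_subgroupOf, Subgroup.coe_mul, Subgroup.coe_mul, Subgroup.coe_inv] at hg
  obtain ⟨f₀, hT₀, hf₀⟩ := Tori.exists_tor C6 e hg
  set gE : GL chevE6.Idx E := (g : GL chevE6.Idx E) with hgE
  set xE : GL chevE6.Idx E := H54.glF chevE6 ι (x : GL chevE6.Idx F) with hxE
  have hf₀' : Tori.tor C6 e f₀ = gE * xE * gE⁻¹ := hf₀
  have hlf : ℓ • f₀ = 0 := by
    refine Tori.tor_injective C6 e ?_
    rw [hpow, hf₀', conj_pow, Tori.tor_zero, hxE, ← map_pow, ← SubgroupClass.coe_pow, ← hx, pow_orderOf_eq_one]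
    simp
  have hf0 : f₀ ≠ 0 := by
    intro h0
    rw [h0, Tori.tor_zero, eq_comm, conj_eq_one_iff, hxE, ← map_one (H54.glF chevE6 ι)] at hf₀'
    have : x = 1 := Subtype.ext (H54.glF_injective ι hf₀')
    rw [this, orderOf_one] at hx
    exact hl.ne_one hx.symm
  set s := H54.glF chevE6 σ.toRingHom with hs
  have hsι : ∀ z : GL chevE6.Idx F, s (H54.glF chevE6 ι z) = H54.glF chevE6 ι z := fun z => by
    rw [hs, H54.glF_comp, hσι]
  have hgE_mem : gE ∈ chevE6.group E := g.2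
  set n := s gE * gE⁻¹ with hn
  have hn_mem : n ∈ chevE6.group E :=
    mul_mem (C6.glF_group_le σ.toRingHom ⟨gE, hgE_mem, rfl⟩) (inv_mem hgE_mem)
  have hglF : ∀ f : Fin chevE6.rank → ZMod N,
      s (Tori.tor C6 e f) = Tori.tor C6 e (((q : ℤ) : ZMod N) • f) := fun f => by
    rw [hs, Tori.glF_tor C6 e σ q hσ, Int.cast_natCast]
  have hconj : n * Tori.tor C6 e f₀ = Tori.tor C6 e (((q : ℤ) : ZMod N) • f₀) * n := by
    rw [← hglF, hf₀', map_mul, map_mul, map_inv, hxE, hsι, hn]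
    group
  obtain ⟨u, v, a, L, hu, hv, haT, hnEq, hw, hu1, hv1⟩ :=
    Tori.nf_of_conj C6 e hT₀ (hT₀.smul _) hn_mem hconj
  set π₀ := (C6.wperm L)⁻¹ with hπ₀def
  have hπ₀ : π₀ ∈ Tori.wgrp C6 := inv_mem (Tori.wperm_mem_wgrp C6 L)
  obtain ⟨hchar, hreg, hstab⟩ := eigen_data hl hl12 hprim hπ₀ hf0 hlf hw.symm
  have hregq : ∀ r, Tori.rval C6 (((q : ℤ) : ZMod N) • f₀) r ≠ 0 := fun r =>
    Tori.rval_smul_ne C6 hl hlf (fun h => hprim.ne_zero (by omega)
      ((ZMod.intCast_zmod_eq_zero_iff_dvd _ _).2 h)) (hreg r)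
  rw [Tori.eq_one_of_commute C6 e hregq hu hu1, Tori.eq_one_of_commute C6 e hreg hv hv1, one_mul,
    mul_one] at hnEq
  exact ⟨gE, hgE_mem, a, f₀, L, haT, hnEq, hf0, hlf, hw.symm⟩

end H34.E6Cox
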