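import Cfsg.Agent.H34.E6CoxData
import Cfsg.Agent.H52.OrderE6
import Cfsg.Agent.H53.StEmb

/-!
Numerical data of the torus of type E6.
-/

set_option autoImplicit false
set_option maxRecDepth 10000

open Cfsg.Lie
open Matrix

namespace H34.E6Cox

/-- Three times the inverse of the Cartan matrix. -/
def invThree : Matrix (Fin chevE6.rank) (Fin chevE6.rank) ℤ :=
  (!![4, 3, 5, 6, 4, 2; 3, 6, 6, 9, 6, 3; 5, 6, 10, 12, 8, 4; 6, 9, 12, 18, 12, 6; 4, 6, 8, 12, 10, 5;
    2, 3, 4, 6, 5, 4] : Matrix (Fin 6) (Fin 6) ℤ)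

theorem cmat_invThree : Tori.cmat chevE6 * invThree = (3 : ℤ) • 1 := by decide +kernel

theorem invThree_cmat : invThree * Tori.cmat chevE6 = (3 : ℤ) • 1 := by decide +kernel

/-- The Cartan matrix with a fixed index type. -/
def cmatSix : Matrix (Fin 6) (Fin 6) ℤ := Tori.cmat chevE6

theorem det_cmat : (Tori.cmat chevE6).det = 3 := by
  show (cmatSix).det = 3
  decide +kernel

theorem card_group_E6 {F : Type*} [Field F] [Fintype F] :
    Nat.gcd (Fintype.card F - 1) 3 * Nat.card ↥(chevE6.group F) = Fintype.card F ^ (chevE6.nroots / 2) *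
      (([2, 5, 6, 8, 9, 12] : List ℕ).map fun e => Fintype.card F ^ e - 1).prod := by
  have h := H52.e6_card (F := F) H52.divisorsE6
  have hp : (∏ i : Fin 6, (Fintype.card F - 1).gcd (![1, 1, 1, 1, 1, 3] i)) = Nat.gcd (Fintype.card F - 1) 3 := by
    simp [Fin.prod_univ_succ]
  exact (congrArg (· * Nat.card ↥(chevE6.group F)) hp).symm.trans h

theorem card_diag_E6 {F : Type*} [Field F] [Fintype F] :
    Nat.gcd (Fintype.card F - 1) 3 * Nat.card ↥(chevE6.diagonalSubgroup F) = (Fintype.card F - 1) ^ 6 := by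
  have h := C6.hC.card_diagonal (F := F) H52.divisorsE6
  have hp : (∏ i : Fin 6, (Fintype.card F - 1).gcd (![1, 1, 1, 1, 1, 3] i)) = Nat.gcd (Fintype.card F - 1) 3 := by
    simp [Fin.prod_univ_succ]
  exact (congrArg (· * Nat.card ↥(chevE6.diagonalSubgroup F)) hp).symm.trans h

theorem stTorus_injective {F : Type*} [Field F] :
    Function.Injective (H53.stTorus (F := F) C6.hC C6.W H53.pairsE6) := by
  obtain ⟨TE, hE⟩ := H52.checked_of_mem (D := chevE8) (by simp)
  exact H53.stTorus_injective_of_emb C6.hC hE H53.e6InE8_ok C6.W H53.pairsE6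
    (H53.torus_injective_of_divisors hE H52.divisorsE8 H53.divE8_one)

end H34.E6Cox
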