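import Cfsg.Agent.H54.ChevBaseChange
import Cfsg.Agent.H54.ChevGroup

/-!
Points fixed by a field automorphism in a Chevalley group with torus kernel of exponent `k`: their `k`-th powers
come from the fixed field.
-/

set_option autoImplicit false
set_option linter.unusedSectionVars false

open Cfsg.Lie
open scoped MatrixGroups

namespace H34.Tori

variable {D : ChevalleyDatum} (C : H54.Ctx D) {F K : Type*} [Field F] [Field K]
include C

/-- A fixed diagonal element normalises the points over the fixed field. -/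
theorem diag_fixed_conj (σ : F ≃+* F) (ι : K →+* F) (hι : ∀ x, (∃ y, ι y = x) ↔ σ x = x)
    (c : Fin D.rank → Fˣ) (hfix : H54.glF D σ.toRingHom (H52.torus D c) = H52.torus D c) {z : GL D.Idx F}
    (hz : z ∈ (D.group K).map (H54.glF D ι)) :
    H52.torus D c * z * (H52.torus D c)⁻¹ ∈ (D.group K).map (H54.glF D ι) := by
  obtain ⟨y, hy, rfl⟩ := hz
  rw [C.hC.group_eq] at hy
  induction hy using Subgroup.closure_induction with
  | mem g hg =>
    obtain ⟨r, t, hr, rfl⟩ := hg
    rw [C.glF_rt, C.hC.torus_conj_rt c hr]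
    set χ : F := ((∏ i : Fin D.rank, c i ^ D.cartan i.val r : Fˣ) : F) with hχ
    have h1 := congrArg (H54.glF D σ.toRingHom) (C.hC.torus_conj_rt c hr (1 : F))
    rw [map_mul, map_mul, map_inv, hfix, C.glF_rt, C.glF_rt, ← hχ, mul_one, map_one, C.hC.torus_conj_rt c hr,
      ← hχ, mul_one] at h1
    have h2 : σ χ = χ := (C.hC.rt_injective hr h1).symm
    obtain ⟨b, hb⟩ := (hι χ).2 h2
    rw [← hb, ← map_mul, ← C.glF_rt]
    exact ⟨_, C.rt_mem_group r _, rfl⟩
  | one => simp
  | mul x y _ _ hx hy =>
    have := mul_mem hx hy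
    rw [map_mul]
    convert this using 1
    group
  | inv x _ hx =>
    have := inv_mem hx
    rw [map_inv]
    convert this using 1
    group

/-- The `k`-th power of a fixed element comes from the fixed field. -/
theorem fixed_pow_mem (σ : F ≃+* F) (ι : K →+* F) (hι : ∀ x, (∃ y, ι y = x) ↔ σ x = x) {k : ℕ}
    (htor : ∀ c : Fin D.rank → Fˣ, H52.torus D c = 1 → c ^ k = 1) {g : GL D.Idx F} (hg : g ∈ D.group F)
    (hfix : H54.glF D σ.toRingHom g = g) : g ^ k ∈ (D.group K).map (H54.glF D ι) := by
  classical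
  obtain ⟨u, hu, t, ht, L, v, hv, rfl⟩ := C.exists_nf hg
  rw [map_mul, map_mul, map_mul, C.glF_nw] at hfix
  obtain ⟨hu', ht', hv'⟩ := (C.nf_unique (C.glF_pos σ.toRingHom hu) hu (C.glF_diag σ.toRingHom ht) ht
    (C.glF_uinv σ.toRingHom hv) hv hfix).2 rfl
  set R := (D.group K).map (H54.glF D ι) with hR
  have hU : ∀ {w : GL D.Idx F}, w ∈ D.posUnipotent F → H54.glF D σ.toRingHom w = w → w ∈ R := by
    intro w hw hwf
    rw [C.hC.posUnipotent_eq] at hw
    obtain ⟨a, rfl⟩ := C.hC.exists_upProd le_rfl hw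
    rw [C.glF_upProd] at hwf
    have ha := C.hC.upProd_injective le_rfl hwf
    let b : ℕ → K := fun r => if h : ∃ y, ι y = a r then h.choose else 0
    refine ⟨H52.upProd D (D.nroots / 2) b, ?_, ?_⟩
    · refine C.pos_le_group ?_
      rw [C.hC.posUnipotent_eq]
      exact H52.Checked.upProd_mem _ _
    · rw [C.glF_upProd]
      refine H52.Checked.upProd_congr fun r hr hr' => ?_
      have h : ∃ y, ι y = a r := (hι _).2 (ha r hr hr')
      simp only [b, dif_pos h, h.choose_spec]
  rw [C.hC.diagonalSubgroup_eq] at ht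
  obtain ⟨c, rfl⟩ := ht
  set T := H52.torus D c with hT
  have hTn : ∀ {z}, z ∈ R → T * z * T⁻¹ ∈ R := fun hz => diag_fixed_conj C σ ι hι c ht' hz
  have hTk : T ^ k ∈ R := by
    have h0 : H52.torus D ((fun i => Units.map σ.toRingHom.toMonoidHom (c i)) * c⁻¹) = 1 := by
      rw [map_mul, map_inv, ← H54.Ctx.glF_torus, ht', mul_inv_cancel]
    have hck : ∀ i, σ ((c i : F) ^ k) = (c i : F) ^ k := fun i => by
      have := congrFun (htor _ h0) i
      simp only [Pi.pow_apply, Pi.mul_apply, Pi.inv_apply, Pi.one_apply, mul_pow, inv_pow, mul_inv_eq_one] at this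
      rw [map_pow]
      exact congrArg Units.val this
    choose b hb using fun i => (hι _).2 (hck i)
    have hb0 : ∀ i, b i ≠ 0 := fun i e => pow_ne_zero k (c i).ne_zero (by rw [← hb i, e, map_zero])
    refine ⟨H52.torus D fun i => Units.mk0 (b i) (hb0 i), C.diag_le_group (C.hC.torus_mem_diag _), ?_⟩
    rw [H54.Ctx.glF_torus, hT, ← map_pow]
    congr 1
    funext i
    refine Units.ext ?_
    simpa using hb i
  have hn : H54.Ctx.nw D F L ∈ R := ⟨H54.Ctx.nw D K L, C.nw_mem L, C.glF_nw ι L⟩
  have hr : u * T * H54.Ctx.nw D F L * v * T⁻¹ ∈ R := by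
    have h1 := hTn (mul_mem hn (hU (C.uinv_le _ hv) hv'))
    convert mul_mem (hU hu hu') h1 using 1
    group
  set g := u * T * H54.Ctx.nw D F L * v with hgd
  -- `g` normalises the fixed points as well
  have hpow : ∀ n : ℕ, g ^ n * (T ^ n)⁻¹ ∈ R := by
    intro n
    induction n with
    | zero => simp
    | succ n ih =>
      have h2 : T ^ n * (g * T⁻¹) * (T ^ n)⁻¹ ∈ R := by
        clear ih
        induction n with
        | zero => simpa using hr
        | succ n ih =>
          convert hTn ih using 1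
          rw [pow_succ']
          group
      convert mul_mem ih h2 using 1
      rw [pow_succ, pow_succ' T]
      group
  have := mul_mem (hpow k) hTk
  rwa [inv_mul_cancel_right] at this

end H34.Tori
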