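import Cfsg.Agent.H34.StFunctor
import Cfsg.Agent.H34.RegularTorusWeyl
import Cfsg.Agent.H53.StKernel

/-!
Rationality of elements of order three in a twisted torus, through the presented group.
-/

set_option autoImplicit false
set_option linter.unusedSectionVars false

open Cfsg.Lie
open scoped MatrixGroups
open Matrix

namespace H34.Tori

/-- An element killed by nine is a multiple of three when twenty-seven divides the modulus. -/
theorem exists_three_smul {r N : ℕ} [NeZero N] (hN : 27 ∣ N) (g : Fin r → ZMod N) (h : 9 • g = 0) :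
    ∃ g' : Fin r → ZMod N, 3 • g' = g := by
  have hi : ∀ i, ∃ x : ZMod N, 3 • x = g i := by
    intro i
    obtain ⟨M, rfl⟩ := hN
    have h1 := congrFun h i
    rw [Pi.smul_apply, Pi.zero_apply, nsmul_eq_mul, ← ZMod.natCast_rightInverse (g i)] at h1
    rw [← Nat.cast_mul, ZMod.natCast_eq_zero_iff] at h1
    have h2 := (dvd_mul_right 27 M).trans h1
    obtain ⟨z, hz⟩ : 3 ∣ (g i).val := by omega
    refine ⟨(z : ZMod _), ?_⟩
    rw [nsmul_eq_mul, ← Nat.cast_mul, ← hz]
    exact ZMod.natCast_rightInverse (g i)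
  choose x hx using hi
  exact ⟨x, funext hx⟩

variable {D : ChevalleyDatum} (C : H54.Ctx D) {F E : Type*} [Field F] [Field E] {N : ℕ}
  (e : Multiplicative (ZMod N) ≃* Eˣ)

/-- The transposed inverse of the matrix of a permutation of the roots. -/
def dmat (π : Equiv.Perm (Fin D.nroots)) : Matrix (Fin D.rank) (Fin D.rank) ℤ := (lmat C π⁻¹)ᵀ

theorem dmat_mul_cmat (hsym : ∀ i, (smat D i)ᵀ * cmat D * smat D i = cmat D)
    {π : Equiv.Perm (Fin D.nroots)} (hπ : π ∈ wgrp C) : dmat C π * cmat D = cmat D * lmat C π := by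
  have h := lmat_isom C hsym (inv_mem hπ)
  have h1 : lmat C π⁻¹ * lmat C π = 1 := by
    rw [← lmat_mul C (inv_mem hπ), inv_mul_cancel, lmat_one]
  conv_rhs => rw [← h, Matrix.mul_assoc, h1, Matrix.mul_one]
  rfl

/-- The lifted torus element of an exponent vector. -/
noncomputable def hatT (hP : H53.HasPairs D) (g : Fin D.rank → ZMod N) : D.SteinbergGroup E :=
  H53.stTorus C.hC C.W hP fun i => uval e (g i)

theorem hatT_add (hP : H53.HasPairs D) (g g' : Fin D.rank → ZMod N) :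
    hatT C e hP (g + g') = hatT C e hP g * hatT C e hP g' := by
  rw [hatT, hatT, hatT, ← map_mul (H53.stTorus C.hC C.W hP)]
  exact congrArg (H53.stTorus C.hC C.W hP) (funext fun i => uval_add e (g i) (g' i))

theorem hatT_zero (hP : H53.HasPairs D) : hatT C e hP (0 : Fin D.rank → ZMod N) = 1 := by
  have h := hatT_add C e hP 0 0
  rw [add_zero] at h
  exact mul_eq_left.1 h.symm

theorem hatT_nsmul (hP : H53.HasPairs D) (k : ℕ) (g : Fin D.rank → ZMod N) :
    hatT C e hP (k • g) = hatT C e hP g ^ k := by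
  induction k with
  | zero => rw [zero_smul, pow_zero, hatT_zero]
  | succ k ih => rw [succ_nsmul, hatT_add, ih, pow_succ]

theorem hatT_injective (hP : H53.HasPairs D)
    (hinj : Function.Injective (H53.stTorus (F := E) C.hC C.W hP)) : Function.Injective (hatT C e hP) :=
  fun _ _ h => funext fun i => uval_injective e (congrFun (hinj h) i)

theorem theta_hatT (hP : H53.HasPairs D) (θ : D.SteinbergGroup E →* GL D.Idx E)
    (hθ : ∀ r < D.nroots, ∀ t, θ (D.stGen E r t) = H52.rt D r t) (g : Fin D.rank → ZMod N) :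
    θ (hatT C e hP g) = tor C e (g ᵥ* toZ N (cmat D)) := by
  rw [hatT, H53.theta_stTorus C.hC C.W hP θ hθ, torus_eq_tor]

theorem stMap_hatT (hP : H53.HasPairs D) {q : ℕ} (σ : E ≃+* E) (hσ : ∀ x, σ x = x ^ q)
    (g : Fin D.rank → ZMod N) : St.stMap σ.toRingHom (hatT C e hP g) = hatT C e hP (q • g) := by
  rw [hatT, hatT, St.stMap_stTorus C hP]
  refine congrArg (H53.stTorus C.hC C.W hP) (funext fun i => Units.ext ?_)
  rw [Pi.smul_apply, nsmul_eq_mul, uval_natCast_mul, Units.val_pow_eq_pow_val]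
  exact hσ _

theorem exists_hatT (hP : H53.HasPairs D) (c : Fin D.rank → Eˣ) :
    ∃ k, hatT C e hP k = H53.stTorus C.hC C.W hP c :=
  ⟨fun i => Multiplicative.toAdd (e.symm (c i)),
    congrArg (H53.stTorus C.hC C.W hP) (funext fun i => by simp [uval])⟩

/-- A twisted torus element of order three conjugate to a rational one lifts to a twisted torus element of the
presented group. -/
theorem exists_twisted_lift [NeZero N] (hP : H53.HasPairs D)
    (hinj : Function.Injective (H53.stTorus (F := E) C.hC C.W hP))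
    {p : ℕ} {B : Matrix (Fin D.rank) (Fin D.rank) ℤ} (hAB : cmat D * B = (p : ℤ) • 1)
    {q : ℕ} (σ : E ≃+* E) (hσ : ∀ x, σ x = x ^ q) (ι : F →+* E)
    (hσι : σ.toRingHom.comp ι = ι) {gE : GL D.Idx E} (hgE : gE ∈ D.group E)
    {M M' : Matrix (Fin D.rank) (Fin D.rank) ℤ} (hMM' : M' * cmat D = cmat D * M)
    (hn : ∀ f : Fin D.rank → ZMod N, InT f →
      (H54.glF D σ.toRingHom gE * gE⁻¹) * tor C e f * (H54.glF D σ.toRingHom gE * gE⁻¹)⁻¹ =
        tor C e (f ᵥ* toZ N M))
    {f : Fin D.rank → ZMod N} (hfT : InT f)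
    (hdiv : ∀ g : Fin D.rank → ZMod N, g ᵥ* toZ N (cmat D) = f → ∃ g', p • g' = g) {y : GL D.Idx F} (hy : y ∈ D.group F)
    (hyf : H54.glF D ι y = gE⁻¹ * tor C e f * gE) :
    ∃ g : Fin D.rank → ZMod N, g ∈ solutions N M' (q : ℤ) ∧ g ᵥ* toZ N (cmat D) = f := by
  classical
  obtain ⟨θ, hθ⟩ := H53.exists_stHom (F := E) C.hC
  obtain ⟨θF, hθF⟩ := H53.exists_stHom (F := F) C.hC
  have hS := H53.stSys_rel θ hθ
  have hSF := H53.stSys_rel θF hθF
  obtain ⟨gh, hgh⟩ := H53.ChevSys.thetaG_surjective C.hC C.W C.hok hS hP ⟨gE, hgE⟩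
  obtain ⟨yh, hyh⟩ := H53.ChevSys.thetaG_surjective C.hC C.W C.hok hSF hP ⟨y, hy⟩
  have hgh' : θ gh = gE := congrArg Subtype.val hgh
  have hyh' : θF yh = y := congrArg Subtype.val hyh
  set s := St.stMap (D := D) σ.toRingHom with hs
  set x := St.stMap (D := D) ι yh with hx
  have hsx : s x = x := by rw [hs, hx, St.stMap_comp, hσι]
  set nh := s gh * gh⁻¹ with hnh
  -- the lifted torus
  have hat_add := hatT_add C e hP
  have hat_nsmul := hatT_nsmul C e hP
  have hat_inj := hatT_injective C e hP hinj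
  have hθhat := theta_hatT C e hP θ hθ
  have hshat := stMap_hatT C e hP σ hσ
  have hker : ∀ z, θ z = 1 → z ∈ Subgroup.center (D.SteinbergGroup E) ∧
      ∃ k, hatT C e hP k = z ∧ k ᵥ* toZ N (cmat D) = 0 := by
    intro z hz
    constructor
    · rw [← H53.ChevSys.ker_eq_center C.hC C.W C.hok hS hP, MonoidHom.mem_ker,
        H53.ChevSys.thetaG_eq_one C.hC C.hok hS hP]
      exact hz
    · obtain ⟨c, hc⟩ := H53.H_le_range C.hC C.W hP (H53.ChevSys.ker_le_H C.hC C.W C.hok hS hP hz)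
      obtain ⟨k, hk⟩ := exists_hatT C e hP c
      refine ⟨k, hk.trans hc, tor_injective C e ?_⟩
      rw [← hθhat, tor_zero, ← hz, ← hc, ← hk]
  have hthree : ∀ k : Fin D.rank → ZMod N, p • k = (k ᵥ* toZ N (cmat D)) ᵥ* toZ N B := fun k => by
    rw [Matrix.vecMul_vecMul, toZ, toZ, ← Matrix.map_mul, hAB,
      Matrix.map_smul' (Int.castRingHom (ZMod N)) (p : ℤ) _ (map_mul _), Matrix.map_one _ (map_zero _) (map_one _),
      Matrix.vecMul_smul, Matrix.vecMul_one]
    funext i
    simp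
  -- the element over the torus
  set w := gh * x * gh⁻¹ with hw
  have hθw : θ w = tor C e f := by
    rw [hw, map_mul, map_mul, map_inv, hgh', hx, St.theta_stMap C ι θF hθF θ hθ, hyh', hyf]
    group
  obtain ⟨g0, hg0⟩ := hfT
  obtain ⟨-, k, hk, hk0⟩ := hker (w * (hatT C e hP g0)⁻¹) (by
    rw [map_mul, map_inv, hθhat, hθw, hg0, mul_inv_cancel])
  set g := k + g0 with hg
  have hwg : hatT C e hP g = w := by rw [hg, hat_add, hk]; group
  have hgA : g ᵥ* toZ N (cmat D) = f := by rw [hg, Matrix.add_vecMul, hk0, hg0, zero_add]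
  obtain ⟨g', hg'⟩ := hdiv g hgA
  -- the twisting
  have hθn : θ nh = H54.glF D σ.toRingHom gE * gE⁻¹ := by
    rw [hnh, map_mul, map_inv, hs, St.theta_stMap C σ.toRingHom θ hθ θ hθ, hgh']
  have hAM : ∀ h : Fin D.rank → ZMod N, (h ᵥ* toZ N (cmat D)) ᵥ* toZ N M =
      (h ᵥ* toZ N M') ᵥ* toZ N (cmat D) := fun h => by
    rw [Matrix.vecMul_vecMul, Matrix.vecMul_vecMul, toZ, toZ, toZ, ← Matrix.map_mul, ← Matrix.map_mul,
      hMM']
  obtain ⟨hzc, j, hj, hj0⟩ := hker (nh * hatT C e hP g' * nh⁻¹ * (hatT C e hP (g' ᵥ* toZ N M'))⁻¹) (by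
    rw [map_mul, map_mul, map_mul, map_inv, map_inv, hθn, hθhat, hθhat, hn _ ⟨g', rfl⟩, hAM,
      mul_inv_cancel])
  set z := nh * hatT C e hP g' * nh⁻¹ * (hatT C e hP (g' ᵥ* toZ N M'))⁻¹ with hz
  have hz3 : z ^ p = 1 := by
    rw [← hj, ← hat_nsmul, hthree, hj0, Matrix.zero_vecMul, ← zero_smul ℕ (0 : Fin D.rank → ZMod N),
      hat_nsmul, pow_zero]
  have hconj : nh * hatT C e hP g * nh⁻¹ = hatT C e hP (g ᵥ* toZ N M') := by
    have hz' : nh * hatT C e hP g' * nh⁻¹ = z * hatT C e hP (g' ᵥ* toZ N M') := by rw [hz]; group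
    rw [← hg', hat_nsmul, Matrix.smul_vecMul, hat_nsmul, ← conj_pow, hz',
      Commute.mul_pow (Subgroup.mem_center_iff.1 hzc _).symm, hz3, one_mul]
  refine ⟨g, mem_solutions.2 ?_, hgA⟩
  rw [Int.cast_natCast, Nat.cast_smul_eq_nsmul]
  refine hat_inj ?_
  rw [← hconj, ← hshat, ← hs, hwg, hnh, hw, map_mul, map_mul, map_inv, hsx]
  group

omit e in
/-- The kernel of the Cartan matrix is fixed by the dual action. -/
theorem dmat_fix (hcs : (cmat D)ᵀ = cmat D) {π : Equiv.Perm (Fin D.nroots)} (hπ : π ∈ wgrp C)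
    {k : Fin D.rank → ZMod N} (hk : k ᵥ* toZ N (cmat D) = 0) : k ᵥ* toZ N (dmat C π) = k := by
  have key : ∀ π ∈ wgrp C, toZ N (lmat C π) *ᵥ k = k := by
    intro π hπ
    obtain ⟨L, rfl⟩ := C.exists_wperm hπ
    clear hπ
    induction L with
    | nil => rw [H54.Ctx.wperm_nil, lmat_one, toZ, Matrix.map_one _ (map_zero _) (map_one _), Matrix.one_mulVec]
    | cons i L ih =>
      rw [H54.Ctx.wperm_cons, lmat_mul C (π := C.W.sigma i) (Subgroup.subset_closure ⟨i, rfl⟩), toZ,
        Matrix.map_mul, ← Matrix.mulVec_mulVec, ← toZ, ← toZ, ih, lmat_sigma]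
      funext j
      have hi := congrFun hk i
      rw [← hcs, toZ, Matrix.transpose_map, ← Matrix.mulVec_transpose, Matrix.transpose_transpose] at hi
      simp only [Matrix.mulVec, dotProduct, Matrix.map_apply, Pi.zero_apply, Int.coe_castRingHom] at hi
      simp only [toZ, smat, Matrix.mulVec, dotProduct, Matrix.map_apply, Matrix.of_apply, Int.coe_castRingHom,
        Int.cast_sub, sub_mul, Finset.sum_sub_distrib]
      by_cases h : j = i
      · subst h
        simp [hi]
      · simp [h]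
  rw [dmat, toZ, Matrix.transpose_map, Matrix.vecMul_transpose, ← toZ, key _ (inv_mem hπ)]

end H34.Tori
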