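import Cfsg.Agent.H34.E6CoxSpec
import Cfsg.Agent.H34.E6TorusData
import Cfsg.Agent.H34.TorusLift
import Cfsg.Agent.H34.FixedCube
import Cfsg.Agent.H34.RegularTorusMain
import Mathlib.RingTheory.ZMod.UnitsCyclic

/-!
A self-centralising cyclic subgroup of order `Φ₁₂(q)Φ₃(q)/gcd(3, q - 1)` in the group of type E6.
-/

set_option autoImplicit false
set_option linter.unusedSectionVars false

open Cfsg.Lie
open scoped MatrixGroups
open Matrix Polynomial

attribute [local irreducible] Cfsg.Lie.chevE6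

namespace H34.E6Cox

/-- The order of the full twisted torus. -/
def torN (q : ℕ) : ℕ := (q ^ 4 - q ^ 2 + 1) * (q ^ 2 + q + 1)

theorem torN_cast (q : ℕ) : (torN q : ℤ) = ((q : ℤ) ^ 4 - (q : ℤ) ^ 2 + 1) * ((q : ℤ) ^ 2 + q + 1) := by
  rcases Nat.eq_zero_or_pos q with rfl | hq
  · rfl
  · have h : q ^ 2 ≤ q ^ 4 := Nat.pow_le_pow_right hq (by norm_num)
    rw [torN]
    push_cast [h]
    ring

theorem pol_eval (q : ℕ) : pol.eval (q : ℤ) = (torN q : ℤ) := by
  rw [torN_cast, pol, eval_mul, cyclo12_eq, cyclotomic_three]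
  simp

theorem torN_pos (q : ℕ) : 0 < torN q := Nat.mul_pos (Nat.succ_pos _) (Nat.succ_pos _)

theorem three_dvd_torN_iff (q : ℕ) : 3 ∣ torN q ↔ q % 3 = 1 := by
  rw [← ZMod.natCast_eq_zero_iff, ← Int.cast_natCast (R := ZMod 3), torN_cast,
    show q % 3 = 1 ↔ (q : ZMod 3) = 1 by
      rw [← ZMod.natCast_mod q 3]
      have : q % 3 < 3 := Nat.mod_lt _ (by norm_num)
      interval_cases h : q % 3 <;> decide]
  push_cast
  revert q
  intro q
  generalize (q : ZMod 3) = x
  revert x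
  decide

theorem not_nine_dvd_torN (q : ℕ) : ¬ 9 ∣ torN q := by
  rw [← ZMod.natCast_eq_zero_iff, ← Int.cast_natCast (R := ZMod 9), torN_cast]
  push_cast
  generalize (q : ZMod 9) = x
  revert x
  decide

theorem not_two_dvd_torN (q : ℕ) : ¬ 2 ∣ torN q := by
  rw [← ZMod.natCast_eq_zero_iff, ← Int.cast_natCast (R := ZMod 2), torN_cast]
  push_cast
  generalize (q : ZMod 2) = x
  revert x
  decide

theorem gcd_three (q : ℕ) (hq : 0 < q) : Nat.gcd 3 (q - 1) = Nat.gcd (torN q) 3 := by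
  by_cases h : q % 3 = 1
  · rw [Nat.gcd_eq_left (show 3 ∣ q - 1 by omega), Nat.gcd_eq_right ((three_dvd_torN_iff q).2 h)]
  · rw [Nat.Coprime.gcd_eq_one ((Nat.prime_three.coprime_iff_not_dvd).2 (by omega)),
      Nat.Coprime.gcd_eq_one ((Nat.prime_three.coprime_iff_not_dvd).2
        (fun h3 => h ((three_dvd_torN_iff q).1 h3))).symm]

/-- A prime at which `q` has order twelve. -/
theorem exists_ell (q : ℕ) (hq : 2 ≤ q) : ∃ l : ℕ, l.Prime ∧ 12 < l ∧ IsPrimitiveRoot ((q : ℤ) : ZMod l) 12 := by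
  have h4 : q ^ 2 + 2 ≤ q ^ 4 := by nlinarith [Nat.mul_le_mul hq hq]
  have hz2 : ∀ y : ZMod 2, y ^ 4 - y ^ 2 + 1 ≠ 0 := by decide
  have hz3 : ∀ y : ZMod 3, y ^ 4 - y ^ 2 + 1 ≠ 0 := by decide
  obtain ⟨l, hl, hld⟩ := Nat.exists_prime_and_dvd (n := q ^ 4 - q ^ 2 + 1) (by omega)
  have := Fact.mk hl
  have hz : ((q : ZMod l)) ^ 4 - (q : ZMod l) ^ 2 + 1 = 0 := by
    rw [← (ZMod.natCast_eq_zero_iff _ _).2 hld]
    push_cast [show q ^ 2 ≤ q ^ 4 by omega]
    rfl
  have hl2 : l ≠ 2 := by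
    rintro rfl
    exact hz2 _ hz
  have hl3 : l ≠ 3 := by
    rintro rfl
    exact hz3 _ hz
  have : NeZero ((12 : ℕ) : ZMod l) := ⟨fun e => by
    have h12 := (ZMod.natCast_eq_zero_iff _ _).1 e
    have hle := Nat.le_of_dvd (by norm_num) h12
    interval_cases l <;> simp_all (config := {decide := true})⟩
  have hprim : IsPrimitiveRoot ((q : ℤ) : ZMod l) 12 := by
    refine isRoot_cyclotomic_iff.1 ?_
    rw [IsRoot, ← map_cyclotomic 12 (Int.castRingHom (ZMod l)), Polynomial.eval_intCast_map, cyclo12_eq]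
    simpa using hz
  refine ⟨l, hl, ?_, hprim⟩
  have h12 : 12 ∣ l - 1 := by
    rw [hprim.eq_orderOf]
    exact ZMod.orderOf_dvd_card_sub_one (hprim.ne_zero (by norm_num))
  have := hl.two_le
  have := Nat.le_of_dvd (by omega) h12
  omega

/-- The value of the derivative of the polynomial at a multiple root modulo a prime. -/
theorem not_dvd_derivative (q : ℕ) {p : ℕ} (hp : p.Prime) (h2 : p ^ 2 ∣ (pol.eval (q : ℤ)).natAbs) :
    ¬ (p : ℤ) ∣ (derivative pol).eval (q : ℤ) := by
  intro hd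
  rw [pol_eval, Int.natAbs_natCast] at h2
  have hpn : p ∣ torN q := (dvd_pow_self p two_ne_zero).trans h2
  have hfac : (X : ℤ[X]) ^ 12 - 1 = pol * ((X ^ 4 - 1) * (X ^ 2 - X + 1)) := by rw [pol_eq]; ring
  have h := congrArg (fun P => eval (q : ℤ) (derivative P)) hfac
  rw [show derivative ((X : ℤ[X]) ^ 12 - 1) = C (12 : ℤ) * X ^ 11 by simp, derivative_mul] at h
  simp only [eval_add (p := derivative pol * ((X ^ 4 - 1) * (X ^ 2 - X + 1))),
    eval_mul (p := derivative pol), eval_mul (p := pol), eval_mul (p := C (12 : ℤ)), eval_pow, eval_X, eval_C] at h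
  have h12 : (p : ℤ) ∣ 12 * (q : ℤ) ^ 11 := by
    rw [h]
    exact dvd_add (dvd_mul_of_dvd_left hd _) (dvd_mul_of_dvd_left (show (p : ℤ) ∣ pol.eval (q : ℤ) by rw [pol_eval]; exact_mod_cast hpn) _)
  rcases (Nat.prime_iff_prime_int.1 hp).dvd_or_dvd h12 with h' | h'
  · have h' : p ∣ 12 := by exact_mod_cast h'
    have hle := Nat.le_of_dvd (by norm_num) h'
    interval_cases p <;> simp_all (config := {decide := true})
    · exact not_two_dvd_torN q hpn
    · exact not_nine_dvd_torN q h2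
  · have hpq : p ∣ q := Int.natCast_dvd_natCast.1 ((Nat.prime_iff_prime_int.1 hp).dvd_of_dvd_pow h')
    have hz : ((torN q : ℤ) : ZMod p) = 0 := by
      rw [Int.cast_natCast, ZMod.natCast_eq_zero_iff]; exact hpn
    have := Fact.mk hp
    rw [torN_cast] at hz
    simp [(ZMod.natCast_eq_zero_iff q p).2 hpq] at hz

/-- The theorem. -/
theorem torus_E6 {F : Type*} [Field F] [Fintype F] :
    ∃ H : Subgroup ↥(chevE6.group F), IsCyclic ↥H ∧
      Nat.card ↥H = torN (Fintype.card F) / Nat.gcd 3 (Fintype.card F - 1) ∧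
      Subgroup.centralizer (H : Set ↥(chevE6.group F)) = H := by
  classical
  set q := Fintype.card F with hqdef
  have hq2 : 1 < q := Fintype.one_lt_card
  obtain ⟨ℓ, hl, hl12, hprim⟩ := exists_ell q hq2
  have := Fact.mk hl
  obtain ⟨p, hpF⟩ := CharP.exists F
  have := Fact.mk (CharP.char_is_prime F p)
  have : NeZero (36 : ℕ) := ⟨by omega⟩
  let E := FiniteField.Extension F p 36
  let : Fintype E := Fintype.ofFinite E
  have hQ : Fintype.card E = q ^ 36 := by
    rw [← Nat.card_eq_fintype_card, FiniteField.natCard_extension, Nat.card_eq_fintype_card]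
  set N := Nat.card Eˣ with hN
  have : NeZero N := ⟨Nat.card_pos.ne'⟩
  have hN1 : N + 1 = q ^ 36 := by
    rw [hN, Nat.card_units, Nat.card_eq_fintype_card, hQ]
    have := Nat.one_le_pow 36 q (by omega)
    omega
  let e : Multiplicative (ZMod N) ≃* Eˣ := zmodCyclicMulEquiv inferInstance
  set d := torN q with hd
  have hdN : d ∣ N ∧ (3 ∣ d → 3 * d ∣ N ∧ 27 ∣ N) := by
    have key : (N : ℤ) = (d : ℤ) * (((q : ℤ) ^ 4 - 1) * ((q : ℤ) ^ 2 - q + 1) * ((q : ℤ) ^ 24 + (q : ℤ) ^ 12 + 1)) := by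
      have h : ((N : ℤ) + 1) = (q : ℤ) ^ 36 := by exact_mod_cast hN1
      rw [hd, torN_cast]
      linear_combination h
    refine ⟨Int.natCast_dvd_natCast.1 ⟨_, key⟩, fun h3 => ?_⟩
    have hq3 := (three_dvd_torN_iff q).1 h3
    constructor
    · refine Int.natCast_dvd_natCast.1 ?_
      rw [key]
      push_cast
      rw [mul_comm (3 : ℤ)]
      refine mul_dvd_mul_left _ (dvd_mul_of_dvd_right ?_ _)
      refine (ZMod.intCast_zmod_eq_zero_iff_dvd _ 3).1 ?_
      push_cast
      rw [← ZMod.natCast_mod q 3, hq3]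
      decide
    · have hpow : ∀ n, q ^ n % 27 = (q % 27) ^ n % 27 := fun n => Nat.pow_mod _ _ _
      have h36 : (q ^ 36) % 27 = 1 := by
        rw [hpow]
        have h27 : q % 27 < 27 := Nat.mod_lt _ (by norm_num)
        have h3' : (q % 27) % 3 = 1 := by omega
        interval_cases q % 27 <;> simp_all
      omega
  -- base change
  set ι := algebraMap F E with hι'
  let σ : E ≃+* E := (FiniteField.Extension.frob F p 36).toRingEquiv
  have hσ : ∀ x : E, σ x = x ^ q := fun x => by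
    show FiniteField.Extension.frob F p 36 x = _
    rw [FiniteField.Extension.frob_apply, Nat.card_eq_fintype_card]
  have hfix : ∀ x : E, (∃ y, ι y = x) ↔ σ x = x := by
    intro x
    have hsub : Finset.univ.image ι ⊆ ((X ^ q - X : E[X]).roots).toFinset := by
      intro z hz
      obtain ⟨y, -, rfl⟩ := Finset.mem_image.1 hz
      rw [Multiset.mem_toFinset, mem_roots (FiniteField.X_pow_card_sub_X_ne_zero E hq2)]
      simp [← map_pow, hqdef, FiniteField.pow_card]
    have heq := Finset.eq_of_subset_of_card_le hsub (by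
      rw [Finset.card_image_of_injective _ ι.injective, Finset.card_univ]
      refine (Multiset.toFinset_card_le _).trans ((card_roots' _).trans ?_)
      rw [FiniteField.X_pow_card_sub_X_natDegree_eq E hq2])
    rw [hσ]
    have hmem : x ^ q = x ↔ x ∈ ((X ^ q - X : E[X]).roots).toFinset := by
      rw [Multiset.mem_toFinset, mem_roots (FiniteField.X_pow_card_sub_X_ne_zero E hq2)]
      simp [sub_eq_zero]
    rw [hmem, ← heq, Finset.mem_image]
    simp
  have hσι : σ.toRingHom.comp ι = ι := RingHom.ext fun y => (hfix (ι y)).1 ⟨y, rfl⟩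
  -- the cube of the kernel of the torus
  have hthree : ∀ g : Fin chevE6.rank → ZMod N,
      3 • g = (g ᵥ* Tori.toZ N (Tori.cmat chevE6)) ᵥ* Tori.toZ N invThree := fun k => by
    rw [Matrix.vecMul_vecMul, Tori.toZ, Tori.toZ, ← Matrix.map_mul, cmat_invThree,
      Matrix.map_smul' (Int.castRingHom (ZMod N)) 3 _ (map_mul _), Matrix.map_one _ (map_zero _) (map_one _),
      Matrix.vecMul_smul, Matrix.vecMul_one]
    funext i
    simp
  have hInT3 : ∀ u : Fin chevE6.rank → ZMod N, Tori.InT (3 • u) := fun u =>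
    ⟨u ᵥ* Tori.toZ N invThree, by
      rw [Matrix.vecMul_vecMul, Tori.toZ, Tori.toZ, ← Matrix.map_mul, invThree_cmat,
        Matrix.map_smul' (Int.castRingHom (ZMod N)) 3 _ (map_mul _), Matrix.map_one _ (map_zero _) (map_one _),
        Matrix.vecMul_smul, Matrix.vecMul_one]
      funext i
      simp⟩
  have hpow : ∀ (n : ℕ) (f : Fin chevE6.rank → ZMod N), Tori.tor C6 e (n • f) = Tori.tor C6 e f ^ n := by
    intro n f
    induction n with
    | zero => rw [zero_smul, Tori.tor_zero, pow_zero]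
    | succ n ih => rw [succ_nsmul, Tori.tor_add, ih, pow_succ]
  have htor : ∀ c : Fin chevE6.rank → Eˣ, H52.torus chevE6 c = 1 → c ^ 3 = 1 := by
    intro c hc
    set g : Fin chevE6.rank → ZMod N := fun i => Multiplicative.toAdd (e.symm (c i)) with hg
    have hcg : c = fun i => Tori.uval e (g i) := funext fun i => by simp [hg, Tori.uval]
    have h2 : g ᵥ* Tori.toZ N (Tori.cmat chevE6) = 0 := by
      refine Tori.tor_injective C6 e ?_
      rw [← Tori.torus_eq_tor C6 e, Tori.tor_zero, ← hcg, hc]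
    have h4 := hthree g
    rw [h2, Matrix.zero_vecMul] at h4
    funext i
    rw [Pi.pow_apply, Pi.one_apply, hcg, ← Tori.uval_natCast_mul, ← nsmul_eq_mul]
    have h5 := congrFun h4 i
    rw [Pi.smul_apply, Pi.zero_apply] at h5
    rw [h5, Tori.uval_zero]
  -- an element of order `ℓ`
  have hlG : ℓ ∣ Nat.card ↥(chevE6.group F) := by
    have h := card_group_E6 (F := F)
    have hdvd : ℓ ∣ q ^ 12 - 1 := by
      rw [← ZMod.natCast_eq_zero_iff, Nat.cast_sub (Nat.one_le_pow _ _ (by omega))]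
      have h12 := hprim.pow_eq_one
      rw [Int.cast_natCast] at h12
      simp [h12]
    have h2 : ℓ ∣ Nat.gcd (q - 1) 3 * Nat.card ↥(chevE6.group F) := by
      rw [h]
      exact dvd_mul_of_dvd_right (hdvd.trans (List.dvd_prod (List.mem_map.2 ⟨12, by simp, rfl⟩))) _
    refine (hl.dvd_mul.1 h2).resolve_left fun h3 => ?_
    have := Nat.le_of_dvd (Nat.gcd_pos_of_pos_right _ (by norm_num)) h3
    have := Nat.gcd_le_right (q - 1) (show 0 < 3 by norm_num)
    omega
  obtain ⟨x, hx⟩ := exists_prime_orderOf_dvd_card' (G := ↥(chevE6.group F)) ℓ hlG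
  let ιG : ↥(chevE6.group F) →* ↥(chevE6.group E) :=
    ((H54.glF chevE6 ι).comp (chevE6.group F).subtype).codRestrict (chevE6.group E) fun z =>
      C6.glF_group_le ι ⟨(z : GL chevE6.Idx F), z.2, rfl⟩
  have hιG : Function.Injective ιG := fun a b h =>
    Subtype.ext (H54.glF_injective ι (congrArg Subtype.val h))
  set T : Subgroup ↥(chevE6.group E) := (chevE6.diagonalSubgroup E).subgroupOf (chevE6.group E) with hTdef
  have hT : ¬ ℓ ∣ T.index := by
    intro hdiv
    have hTc : Nat.gcd (Fintype.card E - 1) 3 * Nat.card ↥T = (Fintype.card E - 1) ^ 6 := by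
      rw [Nat.card_congr (Subgroup.subgroupOfEquivOfLe C6.diag_le_group).toEquiv]
      exact card_diag_E6
    have hG := card_group_E6 (F := E)
    set Q := Fintype.card E with hQdef
    have hQ1 : (Q : ZMod ℓ) = 1 := by
      have h := hprim.pow_eq_one
      rw [Int.cast_natCast] at h
      rw [hQ, show 36 = 12 * 3 from rfl, pow_mul, Nat.cast_pow, Nat.cast_pow, h, one_pow]
    have hprod : (([2, 5, 6, 8, 9, 12] : List ℕ).map fun d => Q ^ d - 1).prod =
        (([2, 5, 6, 8, 9, 12] : List ℕ).map fun d => ∑ i ∈ Finset.range d, Q ^ i).prod * (Q - 1) ^ 6 := by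
      have hg := fun a => geom_sum_mul_of_one_le (show 1 ≤ Q from Fintype.card_pos) a
      simp only [List.map_cons, List.map_nil, List.prod_cons, List.prod_nil, ← hQdef] at hg ⊢
      rw [← hg 2, ← hg 5, ← hg 6, ← hg 8, ← hg 9, ← hg 12]
      ring
    have hidx : T.index = Q ^ (chevE6.nroots / 2) *
        (([2, 5, 6, 8, 9, 12] : List ℕ).map fun d => ∑ i ∈ Finset.range d, Q ^ i).prod := by
      have h := T.card_mul_index
      have hQ0 : 0 < (Q - 1) ^ 6 := by
        have := Fintype.one_lt_card (α := E)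
        exact pow_pos (by omega) _
      refine Nat.eq_of_mul_eq_mul_left hQ0 ?_
      rw [← hTc, mul_assoc, h, hG, hTc, hprod]
      ring
    rw [hidx, ← ZMod.natCast_eq_zero_iff, Nat.cast_mul, Nat.cast_pow, hQ1, one_pow, one_mul,
      Nat.cast_list_prod, List.prod_eq_zero_iff, List.map_map, List.mem_map] at hdiv
    obtain ⟨a, ha, ha'⟩ := hdiv
    rw [Function.comp_apply, Tori.geom_prod_cast hQ1, ZMod.natCast_eq_zero_iff] at ha'
    simp only [List.mem_cons, List.not_mem_nil, or_false] at ha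
    have := Nat.le_of_dvd (by omega) ha'
    omega
  obtain ⟨g, hg⟩ := Tori.exists_conj_diag T hT (x := ιG x) (by rw [orderOf_injective ιG hιG, hx])
  rw [hTdef, Subgroup.mem_subgroupOf, Subgroup.coe_mul, Subgroup.coe_mul, Subgroup.coe_inv] at hg
  obtain ⟨f₀, hT₀, hf₀⟩ := Tori.exists_tor C6 e hg
  set gE : GL chevE6.Idx E := (g : GL chevE6.Idx E) with hgE
  set xE : GL chevE6.Idx E := H54.glF chevE6 ι (x : GL chevE6.Idx F) with hxE
  have hf₀' : Tori.tor C6 e f₀ = gE * xE * gE⁻¹ := hf₀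
  have hlf : ℓ • f₀ = 0 := by
    refine Tori.tor_injective C6 e ?_
    rw [hpow, hf₀', conj_pow, Tori.tor_zero, hxE, ← map_pow, ← SubgroupClass.coe_pow, ← hx, pow_orderOf_eq_one]
    simp
  have hf0 : f₀ ≠ 0 := by
    intro h0
    rw [h0, Tori.tor_zero, eq_comm, conj_eq_one_iff, hxE, ← map_one (H54.glF chevE6 ι)] at hf₀'
    have : x = 1 := Subtype.ext (H54.glF_injective ι hf₀')
    rw [this, orderOf_one] at hx
    exact hl.ne_one hx.symm
  set s := H54.glF chevE6 σ.toRingHom with hs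
  have hsι : ∀ z : GL chevE6.Idx F, s (H54.glF chevE6 ι z) = H54.glF chevE6 ι z := fun z => by
    rw [hs, H54.glF_comp, hσι]
  have hgE_mem : gE ∈ chevE6.group E := g.2
  set n := s gE * gE⁻¹ with hn
  have hn_mem : n ∈ chevE6.group E :=
    mul_mem (C6.glF_group_le σ.toRingHom ⟨gE, hgE_mem, rfl⟩) (inv_mem hgE_mem)
  have hglF : ∀ f : Fin chevE6.rank → ZMod N,
      s (Tori.tor C6 e f) = Tori.tor C6 e (((q : ℤ) : ZMod N) • f) := fun f => by
    rw [hs, Tori.glF_tor C6 e σ q hσ, Int.cast_natCast]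
  have hconj : n * Tori.tor C6 e f₀ = Tori.tor C6 e (((q : ℤ) : ZMod N) • f₀) * n := by
    rw [← hglF, hf₀', map_mul, map_mul, map_inv, hxE, hsι, hn]
    group
  obtain ⟨u, v, a, L, hu, hv, haT, hnEq, hw, hu1, hv1⟩ :=
    Tori.nf_of_conj C6 e hT₀ (hT₀.smul _) hn_mem hconj
  set π₀ := (C6.wperm L)⁻¹ with hπ₀def
  have hπ₀ : π₀ ∈ Tori.wgrp C6 := inv_mem (Tori.wperm_mem_wgrp C6 L)
  obtain ⟨hchar, hreg, hstab⟩ := eigen_data hl hl12 hprim hπ₀ hf0 hlf hw.symm
  have hregq : ∀ r, Tori.rval C6 (((q : ℤ) : ZMod N) • f₀) r ≠ 0 := fun r =>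
    Tori.rval_smul_ne C6 hl hlf (fun h => hprim.ne_zero (by omega)
      ((ZMod.intCast_zmod_eq_zero_iff_dvd _ _).2 h)) (hreg r)
  rw [Tori.eq_one_of_commute C6 e hregq hu hu1, Tori.eq_one_of_commute C6 e hreg hv hv1, one_mul,
    mul_one] at hnEq
  have hnconj : ∀ f : Fin chevE6.rank → ZMod N, Tori.InT f →
      n * Tori.tor C6 e f * n⁻¹ = Tori.tor C6 e (f ᵥ* Tori.toZ N (Tori.lmat C6 π₀)) := by
    intro f hf
    rw [hnEq, show Tori.tor C6 e a * H54.Ctx.nw chevE6 E L * Tori.tor C6 e f *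
      (Tori.tor C6 e a * H54.Ctx.nw chevE6 E L)⁻¹ =
      Tori.tor C6 e a * (H54.Ctx.nw chevE6 E L * Tori.tor C6 e f * (H54.Ctx.nw chevE6 E L)⁻¹) *
        (Tori.tor C6 e a)⁻¹ by group,
      Tori.nw_conj_tor C6 e _ hf, ← Tori.tor_add, mul_inv_eq_iff_eq_mul, ← Tori.tor_add, add_comm]
  have hfixed : ∀ f : Fin chevE6.rank → ZMod N, Tori.InT f →
      (f ∈ Tori.solutions N (Tori.lmat C6 π₀) (q : ℤ) ↔
        s (gE⁻¹ * Tori.tor C6 e f * gE) = gE⁻¹ * Tori.tor C6 e f * gE) := by
    intro f hfT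
    rw [Tori.mem_solutions, map_mul, map_mul, map_inv, hglF, show s gE = n * gE by rw [hn]; group]
    constructor
    · intro hf
      rw [← hf, ← hnconj f hfT]
      group
    · intro h
      refine Tori.tor_injective C6 e ?_
      rw [← hnconj f hfT]
      calc n * Tori.tor C6 e f * n⁻¹ = n * gE * (gE⁻¹ * Tori.tor C6 e f * gE) * (n * gE)⁻¹ := by group
        _ = _ := by rw [← h]; group
  have hev : pol.eval (q : ℤ) = (d : ℤ) := pol_eval q
  obtain ⟨hcyc, hK⟩ := Tori.solutions_cyclic_poly (N := N) hchar (q := (q : ℤ))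
    (by rw [hev]; exact_mod_cast (torN_pos q).ne') (by rw [hev]; exact Int.natCast_dvd_natCast.2 hdN.1)
    (fun p hp h => Or.inl (not_dvd_derivative q hp h))
  rw [hev, Int.natAbs_natCast] at hK
  set K := Tori.solutions N (Tori.lmat C6 π₀) (q : ℤ) with hKdef
  have hKd : ∀ f ∈ K, d • f = 0 := fun f hf => by
    have h := card_nsmul_eq_zero' (x := (⟨f, hf⟩ : ↥K))
    rw [hK] at h
    exact congrArg Subtype.val h
  have hKT : ∀ f ∈ K, Tori.InT f := by
    intro f hf
    have hdf := hKd f hf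
    suffices ∃ u : Fin chevE6.rank → ZMod N, 3 • u = f by
      obtain ⟨u, rfl⟩ := this
      exact hInT3 u
    by_cases h3 : 3 ∣ d
    · have hw' := (hdN.2 h3).1
      have hi : ∀ i, ∃ z : ZMod N, 3 • z = f i := by
        intro i
        have h1 := congrFun hdf i
        rw [Pi.smul_apply, Pi.zero_apply, nsmul_eq_mul, ← ZMod.natCast_rightInverse (f i), ← Nat.cast_mul,
          ZMod.natCast_eq_zero_iff] at h1
        obtain ⟨z, hz⟩ : 3 ∣ (f i).val := by
          have h2 := hw'.trans h1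
          rw [mul_comm 3 d] at h2
          exact Nat.dvd_of_mul_dvd_mul_left (torN_pos q) h2
        refine ⟨(z : ZMod _), ?_⟩
        rw [nsmul_eq_mul, ← Nat.cast_mul, ← hz]
        exact ZMod.natCast_rightInverse (f i)
      choose z hz using hi
      exact ⟨z, funext hz⟩
    · have hcop := (Nat.prime_iff_prime_int.1 Nat.prime_three).coprime_iff_not_dvd.2
        (fun h => h3 (Int.natCast_dvd_natCast.1 h) : ¬ ((3 : ℕ) : ℤ) ∣ (d : ℤ))
      obtain ⟨a, b, hab⟩ := hcop
      refine ⟨(a : ZMod N) • f, ?_⟩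
      have h1 : (((a * ((3 : ℕ) : ℤ) + b * (d : ℤ)) : ℤ) : ZMod N) • f = f := by
        rw [hab, Int.cast_one, one_smul]
      rw [Int.cast_add, Int.cast_mul, Int.cast_mul, add_smul, mul_smul, mul_smul, Int.cast_natCast,
        Int.cast_natCast, Nat.cast_smul_eq_nsmul, Nat.cast_smul_eq_nsmul, hdf, smul_zero, add_zero] at h1
      rw [smul_comm]
      exact h1
  -- the subgroup
  let ψ : Multiplicative ↥K →* GL chevE6.Idx E :=
    { toFun := fun f => gE⁻¹ * Tori.tor C6 e ((Multiplicative.toAdd f : ↥K) : Fin chevE6.rank → ZMod N) * gE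
      map_one' := by simp [Tori.tor_zero]
      map_mul' := fun a b => by rw [toAdd_mul, AddSubgroup.coe_add, Tori.tor_add]; group }
  have hψ : Function.Injective ψ := fun a b h =>
    Multiplicative.toAdd.injective (Subtype.ext (Tori.tor_injective C6 e
      (mul_left_cancel (mul_right_cancel h))))
  let j : ↥(chevE6.group F) →* GL chevE6.Idx E := (H54.glF chevE6 ι).comp (chevE6.group F).subtype
  have hj : Function.Injective j := fun a b h => Subtype.ext (H54.glF_injective ι h)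
  have hcube : ∀ f, ψ f ^ 3 ∈ j.range := by
    intro f
    have hmem : ψ f ∈ chevE6.group E :=
      mul_mem (mul_mem (inv_mem hgE_mem)
        (C6.diag_le_group (Tori.tor_mem C6 e (hKT _ (Multiplicative.toAdd f).2)))) hgE_mem
    obtain ⟨z, hz, hze⟩ := Tori.fixed_pow_mem C6 σ ι hfix htor hmem
      ((hfixed _ (hKT _ (Multiplicative.toAdd f).2)).1 (Multiplicative.toAdd f).2)
    exact ⟨⟨z, hz⟩, hze⟩
  set S : Subgroup (Multiplicative ↥K) := j.range.comap ψ with hS
  have : IsCyclic (Multiplicative ↥K) := isCyclic_multiplicative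
  have hcardK : Nat.card (Multiplicative ↥K) = d := by rw [Nat.card_congr Multiplicative.toAdd, hK]
  have hidxS : S.index = Nat.gcd d 3 := by
    have hle : (powMonoidHom 3 : Multiplicative ↥K →* Multiplicative ↥K).range ≤ S := by
      rintro _ ⟨f, rfl⟩
      rw [hS, Subgroup.mem_comap, powMonoidHom_apply, map_pow]
      exact hcube f
    have hdiv := Subgroup.index_dvd_of_le hle
    rw [IsCyclic.index_powMonoidHom_range, hcardK] at hdiv
    by_cases h3 : 3 ∣ d
    · rw [Nat.gcd_eq_right h3] at hdiv ⊢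
      refine ((Nat.dvd_prime Nat.prime_three).1 hdiv).resolve_left fun h1 => ?_
      rw [Subgroup.index_eq_one] at h1
      -- an element of order three is not rational
      obtain ⟨a', ha'⟩ := exists_prime_addOrderOf_dvd_card' (G := ↥K) 3 (hK.symm ▸ h3)
      obtain ⟨y, hy⟩ : ψ (Multiplicative.ofAdd a') ∈ j.range := by
        rw [← Subgroup.mem_comap, ← hS, h1]
        trivial
      have hq31 : q % 3 = 1 := (three_dvd_torN_iff q).1 h3
      have h3a : 3 • (a' : Fin chevE6.rank → ZMod N) = 0 := by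
        rw [← AddSubgroup.coe_nsmul, ← ha', addOrderOf_nsmul_eq_zero, AddSubgroup.coe_zero]
      obtain ⟨g1, hg1, hg1A⟩ := Tori.exists_twisted_lift C6 e H53.pairsE6 stTorus_injective
        (p := 3) cmat_invThree (q := q) σ hσ ι hσι hgE_mem (Tori.dmat_mul_cmat C6 hsym6 hπ₀) hnconj
        (hKT _ a'.2) (fun g hg => Tori.exists_three_smul (hdN.2 h3).2 g (by
          rw [show 9 = 3 * 3 from rfl, mul_smul, hthree g, hg, ← Matrix.smul_vecMul, h3a, Matrix.zero_vecMul]))
        y.2 hy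
      -- the image of the lifts has order prime to three
      set L' := Tori.solutions N (Tori.dmat C6 π₀) (q : ℤ) with hL'
      have hN3 : 3 ∣ N := (show 3 ∣ 27 by norm_num).trans (hdN.2 h3).2
      have hdet : (Tori.dmat C6 π₀ - (q : ℤ) • (1 : Matrix (Fin chevE6.rank) (Fin chevE6.rank) ℤ)).det.natAbs
          = d := by
        have h1 : (Tori.dmat C6 π₀ - (q : ℤ) • 1) * Tori.cmat chevE6 =
            Tori.cmat chevE6 * (Tori.lmat C6 π₀ - (q : ℤ) • 1) := by
          rw [sub_mul, mul_sub, Tori.dmat_mul_cmat C6 hsym6 hπ₀, smul_mul_assoc, one_mul, mul_smul_comm, mul_one]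
        have h2 := congrArg Matrix.det h1
        rw [Matrix.det_mul, Matrix.det_mul, det_cmat, mul_comm] at h2
        rw [mul_left_cancel₀ (by norm_num) h2]
        have h5 := Matrix.eval_charpoly (Tori.lmat C6 π₀) (q : ℤ)
        rw [hchar, hev] at h5
        rw [show Tori.lmat C6 π₀ - (q : ℤ) • (1 : Matrix (Fin chevE6.rank) (Fin chevE6.rank) ℤ) =
            -(Matrix.scalar (Fin chevE6.rank) (q : ℤ) - Tori.lmat C6 π₀) by
          rw [neg_sub, Matrix.smul_one_eq_diagonal]; rfl, Matrix.det_neg, Int.natAbs_mul, Int.natAbs_pow,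
          Int.natAbs_neg, Int.natAbs_one, one_pow, one_mul, ← h5, Int.natAbs_natCast]
      have hcL : Nat.card ↥L' = d := by
        rw [hL', Tori.solutions, Tori.card_ker_vecMul, hdet]
        · rw [← Int.natAbs_ne_zero, hdet]; exact (torN_pos q).ne'
        · rw [← Int.natAbs_dvd, hdet]; exact Int.natCast_dvd_natCast.2 hdN.1
      set kA := (Tori.toZ N (Tori.cmat chevE6)).vecMulLinear.toAddMonoidHom.ker with hkA
      have hck : Nat.card ↥kA = 3 := by
        rw [hkA, Tori.card_ker_vecMul, det_cmat]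
        · rfl
        · rw [det_cmat]; norm_num
        · rw [det_cmat]; exact Int.natCast_dvd_natCast.2 hN3
      have hkL : kA ≤ L' := by
        intro k hk
        rw [hkA, AddMonoidHom.mem_ker, LinearMap.toAddMonoidHom_coe, Matrix.vecMulLinear_apply] at hk
        rw [hL', Tori.mem_solutions, Tori.dmat_fix C6 cmat_symm hπ₀ hk, Int.cast_natCast,
          Nat.cast_smul_eq_nsmul]
        have h4 := hthree k
        rw [hk, Matrix.zero_vecMul] at h4
        conv_rhs => rw [← Nat.mod_add_div q 3, hq31, add_smul, one_smul, mul_comm, mul_smul, h4,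
          smul_zero, add_zero]
      let Λ : ↥L' →+ (Fin chevE6.rank → ZMod N) :=
        (Tori.toZ N (Tori.cmat chevE6)).vecMulLinear.toAddMonoidHom.comp L'.subtype
      have hΛ : Λ.ker = kA.addSubgroupOf L' := rfl
      have hcr : 3 * Nat.card ↥Λ.range = d := by
        have h := Λ.ker.card_mul_index
        rw [AddSubgroup.index_ker, hcL, hΛ, Nat.card_congr (AddSubgroup.addSubgroupOfEquivOfLe hkL).toEquiv,
          hck] at h
        exact h
      let b : ↥Λ.range := ⟨(a' : Fin chevE6.rank → ZMod N), ⟨⟨g1, hg1⟩, hg1A⟩⟩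
      have hb3 : addOrderOf b = 3 := by
        rw [← AddSubgroup.addOrderOf_coe]
        show addOrderOf (a' : Fin chevE6.rank → ZMod N) = 3
        rw [AddSubgroup.addOrderOf_coe, ha']
      obtain ⟨c, hc⟩ := hb3 ▸ addOrderOf_dvd_natCard b
      exact not_nine_dvd_torN q ⟨c, by rw [← hd, ← hcr, hc]; ring⟩
    · rw [Nat.Coprime.gcd_eq_one ((Nat.prime_three.coprime_iff_not_dvd).2 h3).symm] at hdiv ⊢
      exact Nat.dvd_one.1 hdiv
  let H : Subgroup ↥(chevE6.group F) := ψ.range.comap j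
  have hmap : H.map j = S.map ψ := by
    rw [hS, Subgroup.map_comap_eq, Subgroup.map_comap_eq, inf_comm]
  have hcardH : Nat.card ↥H = d / Nat.gcd 3 (q - 1) := by
    rw [← Subgroup.card_map_of_injective hj, hmap, Subgroup.card_map_of_injective hψ, gcd_three q (by omega),
      ← hd, ← hidxS, ← hcardK, ← S.card_mul_index, Nat.mul_div_left _ (Nat.pos_of_ne_zero S.index_ne_zero_of_finite)]
  have : IsCyclic ↥ψ.range := isCyclic_of_surjective ψ.rangeRestrict ψ.rangeRestrict_surjective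
  refine ⟨H, ?_, hcardH, ?_⟩
  · exact isCyclic_of_injective (j.subgroupComap ψ.range) (fun a b h =>
      Subtype.ext (hj (congrArg Subtype.val h)))
  have hxH : x ∈ H := by
    refine ⟨Multiplicative.ofAdd ⟨f₀, Tori.mem_solutions.2 hw.symm⟩, ?_⟩
    show gE⁻¹ * Tori.tor C6 e f₀ * gE = xE
    rw [hf₀']
    group
  refine le_antisymm (fun y hy => ?_) (fun y hy => ?_)
  · have hyx := congrArg j (Subgroup.mem_centralizer_iff.1 hy x hxH)
    rw [map_mul, map_mul] at hyx
    set yE := j y with hyE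
    have hyG : gE * yE * gE⁻¹ ∈ chevE6.group E :=
      mul_mem (mul_mem hgE_mem (C6.glF_group_le ι ⟨_, y.2, rfl⟩)) (inv_mem hgE_mem)
    have hcomm : gE * yE * gE⁻¹ * Tori.tor C6 e f₀ = Tori.tor C6 e f₀ * (gE * yE * gE⁻¹) := by
      rw [hf₀']
      calc _ = gE * (yE * xE) * gE⁻¹ := by group
        _ = gE * (xE * yE) * gE⁻¹ := by rw [show xE * yE = yE * xE from hyx]
        _ = _ := by group
    obtain ⟨b, L', hbT, hyb, hb⟩ := Tori.mono_of_conj C6 e hT₀ hT₀ hreg hreg hyG hcomm
    have hL' : C6.wperm L' = 1 := inv_eq_one.1 (hstab _ (inv_mem (Tori.wperm_mem_wgrp C6 L')) fun r => by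
      rw [← Tori.rval_vecMul C6 (inv_mem (Tori.wperm_mem_wgrp C6 L')), ← hb])
    obtain ⟨c, hcT, hc⟩ := Tori.exists_tor C6 e (C6.nw_mem_diag (F := E) hL')
    rw [← hc, ← Tori.tor_add] at hyb
    have hback : gE⁻¹ * Tori.tor C6 e (b + c) * gE = yE := by rw [← hyb]; group
    refine ⟨Multiplicative.ofAdd ⟨b + c, (hfixed _ (hbT.add hcT)).2 ?_⟩, hback⟩
    rw [hback]
    exact hsι _
  · rw [Subgroup.mem_centralizer_iff]
    intro z hz
    obtain ⟨a, ha⟩ := hy
    obtain ⟨b, hb⟩ := hz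
    refine hj ?_
    rw [map_mul, map_mul, ← ha, ← hb, ← map_mul, ← map_mul, mul_comm]

end H34.E6Cox
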