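import Cfsg.Agent.H34.E7WtTables

/-! Weight certificates for one coset (generated). -/

set_option autoImplicit false
set_option maxRecDepth 100000

namespace H34.E6Cox

theorem wcheck0_0 : blockW repMat0 stab0 cert0_0 = true := by decide +kernel
theorem wcheck0_1 : blockW repMat0 stab1 cert0_1 = true := by decide +kernel
theorem wcheck0_2 : blockW repMat0 stab2 cert0_2 = true := by decide +kernel
theorem wcheck0_3 : blockW repMat0 stab3 cert0_3 = true := by decide +kernel
theorem wcheck0_4 : blockW repMat0 stab4 cert0_4 = true := by decide +kernel
theorem wcheck0_5 : blockW repMat0 stab5 cert0_5 = true := by decide +kernel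
theorem wcheck0_6 : blockW repMat0 stab6 cert0_6 = true := by decide +kernel
theorem wcheck0_7 : blockW repMat0 stab7 cert0_7 = true := by decide +kernel
theorem wcheck0_8 : blockW repMat0 stab8 cert0_8 = true := by decide +kernel
theorem wcheck0_9 : blockW repMat0 stab9 cert0_9 = true := by decide +kernel
theorem wcheck0_10 : blockW repMat0 stab10 cert0_10 = true := by decide +kernel
theorem wcheck0_11 : blockW repMat0 stab11 cert0_11 = true := by decide +kernel
theorem wcheck0_12 : blockW repMat0 stab12 cert0_12 = true := by decide +kernel
theorem wcheck0_13 : blockW repMat0 stab13 cert0_13 = true := by decide +kernel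
theorem wcheck0_14 : blockW repMat0 stab14 cert0_14 = true := by decide +kernel
theorem wcheck0_15 : blockW repMat0 stab15 cert0_15 = true := by decide +kernel
theorem wcheck0_16 : blockW repMat0 stab16 cert0_16 = true := by decide +kernel
theorem wcheck0_17 : blockW repMat0 stab17 cert0_17 = true := by decide +kernel
theorem wcheck0_18 : blockW repMat0 stab18 cert0_18 = true := by decide +kernel
theorem wcheck0_19 : blockW repMat0 stab19 cert0_19 = true := by decide +kernel
theorem wcheck0_20 : blockW repMat0 stab20 cert0_20 = true := by decide +kernel
theorem wcheck0_21 : blockW repMat0 stab21 cert0_21 = true := by decide +kernel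
theorem wcheck0_22 : blockW repMat0 stab22 cert0_22 = true := by decide +kernel
theorem wcheck0_23 : blockW repMat0 stab23 cert0_23 = true := by decide +kernel
theorem wcheck0_24 : blockW repMat0 stab24 cert0_24 = true := by decide +kernel
theorem wcheck0_25 : blockW repMat0 stab25 cert0_25 = true := by decide +kernel
theorem wcheck0_26 : blockW repMat0 stab26 cert0_26 = true := by decide +kernel
theorem wcheck0_27 : blockW repMat0 stab27 cert0_27 = true := by decide +kernel
theorem wcheck0_28 : blockW repMat0 stab28 cert0_28 = true := by decide +kernel
theorem wcheck0_29 : blockW repMat0 stab29 cert0_29 = true := by decide +kernel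

end H34.E6Cox
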