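import Cfsg.Agent.H34.E7WtTables

/-! Weight certificates for one coset (generated). -/

set_option autoImplicit false
set_option maxRecDepth 100000

namespace H34.E6Cox

theorem wcheck1_0 : blockW repMat1 stab0 cert1_0 = true := by decide +kernel
theorem wcheck1_1 : blockW repMat1 stab1 cert1_1 = true := by decide +kernel
theorem wcheck1_2 : blockW repMat1 stab2 cert1_2 = true := by decide +kernel
theorem wcheck1_3 : blockW repMat1 stab3 cert1_3 = true := by decide +kernel
theorem wcheck1_4 : blockW repMat1 stab4 cert1_4 = true := by decide +kernel
theorem wcheck1_5 : blockW repMat1 stab5 cert1_5 = true := by decide +kernel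
theorem wcheck1_6 : blockW repMat1 stab6 cert1_6 = true := by decide +kernel
theorem wcheck1_7 : blockW repMat1 stab7 cert1_7 = true := by decide +kernel
theorem wcheck1_8 : blockW repMat1 stab8 cert1_8 = true := by decide +kernel
theorem wcheck1_9 : blockW repMat1 stab9 cert1_9 = true := by decide +kernel
theorem wcheck1_10 : blockW repMat1 stab10 cert1_10 = true := by decide +kernel
theorem wcheck1_11 : blockW repMat1 stab11 cert1_11 = true := by decide +kernel
theorem wcheck1_12 : blockW repMat1 stab12 cert1_12 = true := by decide +kernel
theorem wcheck1_13 : blockW repMat1 stab13 cert1_13 = true := by decide +kernel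
theorem wcheck1_14 : blockW repMat1 stab14 cert1_14 = true := by decide +kernel
theorem wcheck1_15 : blockW repMat1 stab15 cert1_15 = true := by decide +kernel
theorem wcheck1_16 : blockW repMat1 stab16 cert1_16 = true := by decide +kernel
theorem wcheck1_17 : blockW repMat1 stab17 cert1_17 = true := by decide +kernel
theorem wcheck1_18 : blockW repMat1 stab18 cert1_18 = true := by decide +kernel
theorem wcheck1_19 : blockW repMat1 stab19 cert1_19 = true := by decide +kernel
theorem wcheck1_20 : blockW repMat1 stab20 cert1_20 = true := by decide +kernel
theorem wcheck1_21 : blockW repMat1 stab21 cert1_21 = true := by decide +kernel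
theorem wcheck1_22 : blockW repMat1 stab22 cert1_22 = true := by decide +kernel
theorem wcheck1_23 : blockW repMat1 stab23 cert1_23 = true := by decide +kernel
theorem wcheck1_24 : blockW repMat1 stab24 cert1_24 = true := by decide +kernel
theorem wcheck1_25 : blockW repMat1 stab25 cert1_25 = true := by decide +kernel
theorem wcheck1_26 : blockW repMat1 stab26 cert1_26 = true := by decide +kernel
theorem wcheck1_27 : blockW repMat1 stab27 cert1_27 = true := by decide +kernel
theorem wcheck1_28 : blockW repMat1 stab28 cert1_28 = true := by decide +kernel
theorem wcheck1_29 : blockW repMat1 stab29 cert1_29 = true := by decide +kernel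

end H34.E6Cox
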