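import Cfsg.Agent.H34.E7WtTables

/-! Weight certificates for one coset (generated). -/

set_option autoImplicit false
set_option maxRecDepth 100000

namespace H34.E6Cox

theorem wcheck2_0 : blockW repMat2 stab0 cert2_0 = true := by decide +kernel
theorem wcheck2_1 : blockW repMat2 stab1 cert2_1 = true := by decide +kernel
theorem wcheck2_2 : blockW repMat2 stab2 cert2_2 = true := by decide +kernel
theorem wcheck2_3 : blockW repMat2 stab3 cert2_3 = true := by decide +kernel
theorem wcheck2_4 : blockW repMat2 stab4 cert2_4 = true := by decide +kernel
theorem wcheck2_5 : blockW repMat2 stab5 cert2_5 = true := by decide +kernel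
theorem wcheck2_6 : blockW repMat2 stab6 cert2_6 = true := by decide +kernel
theorem wcheck2_7 : blockW repMat2 stab7 cert2_7 = true := by decide +kernel
theorem wcheck2_8 : blockW repMat2 stab8 cert2_8 = true := by decide +kernel
theorem wcheck2_9 : blockW repMat2 stab9 cert2_9 = true := by decide +kernel
theorem wcheck2_10 : blockW repMat2 stab10 cert2_10 = true := by decide +kernel
theorem wcheck2_11 : blockW repMat2 stab11 cert2_11 = true := by decide +kernel
theorem wcheck2_12 : blockW repMat2 stab12 cert2_12 = true := by decide +kernel
theorem wcheck2_13 : blockW repMat2 stab13 cert2_13 = true := by decide +kernel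
theorem wcheck2_14 : blockW repMat2 stab14 cert2_14 = true := by decide +kernel
theorem wcheck2_15 : blockW repMat2 stab15 cert2_15 = true := by decide +kernel
theorem wcheck2_16 : blockW repMat2 stab16 cert2_16 = true := by decide +kernel
theorem wcheck2_17 : blockW repMat2 stab17 cert2_17 = true := by decide +kernel
theorem wcheck2_18 : blockW repMat2 stab18 cert2_18 = true := by decide +kernel
theorem wcheck2_19 : blockW repMat2 stab19 cert2_19 = true := by decide +kernel
theorem wcheck2_20 : blockW repMat2 stab20 cert2_20 = true := by decide +kernel
theorem wcheck2_21 : blockW repMat2 stab21 cert2_21 = true := by decide +kernel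
theorem wcheck2_22 : blockW repMat2 stab22 cert2_22 = true := by decide +kernel
theorem wcheck2_23 : blockW repMat2 stab23 cert2_23 = true := by decide +kernel
theorem wcheck2_24 : blockW repMat2 stab24 cert2_24 = true := by decide +kernel
theorem wcheck2_25 : blockW repMat2 stab25 cert2_25 = true := by decide +kernel
theorem wcheck2_26 : blockW repMat2 stab26 cert2_26 = true := by decide +kernel
theorem wcheck2_27 : blockW repMat2 stab27 cert2_27 = true := by decide +kernel
theorem wcheck2_28 : blockW repMat2 stab28 cert2_28 = true := by decide +kernel
theorem wcheck2_29 : blockW repMat2 stab29 cert2_29 = true := by decide +kernel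

end H34.E6Cox
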