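import Cfsg.Agent.H34.E7WtTables

/-! Weight certificates for one coset (generated). -/

set_option autoImplicit false
set_option maxRecDepth 100000

namespace H34.E6Cox

theorem wcheck3_0 : blockW repMat3 stab0 cert3_0 = true := by decide +kernel
theorem wcheck3_1 : blockW repMat3 stab1 cert3_1 = true := by decide +kernel
theorem wcheck3_2 : blockW repMat3 stab2 cert3_2 = true := by decide +kernel
theorem wcheck3_3 : blockW repMat3 stab3 cert3_3 = true := by decide +kernel
theorem wcheck3_4 : blockW repMat3 stab4 cert3_4 = true := by decide +kernel
theorem wcheck3_5 : blockW repMat3 stab5 cert3_5 = true := by decide +kernel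
theorem wcheck3_6 : blockW repMat3 stab6 cert3_6 = true := by decide +kernel
theorem wcheck3_7 : blockW repMat3 stab7 cert3_7 = true := by decide +kernel
theorem wcheck3_8 : blockW repMat3 stab8 cert3_8 = true := by decide +kernel
theorem wcheck3_9 : blockW repMat3 stab9 cert3_9 = true := by decide +kernel
theorem wcheck3_10 : blockW repMat3 stab10 cert3_10 = true := by decide +kernel
theorem wcheck3_11 : blockW repMat3 stab11 cert3_11 = true := by decide +kernel
theorem wcheck3_12 : blockW repMat3 stab12 cert3_12 = true := by decide +kernel
theorem wcheck3_13 : blockW repMat3 stab13 cert3_13 = true := by decide +kernel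
theorem wcheck3_14 : blockW repMat3 stab14 cert3_14 = true := by decide +kernel
theorem wcheck3_15 : blockW repMat3 stab15 cert3_15 = true := by decide +kernel
theorem wcheck3_16 : blockW repMat3 stab16 cert3_16 = true := by decide +kernel
theorem wcheck3_17 : blockW repMat3 stab17 cert3_17 = true := by decide +kernel
theorem wcheck3_18 : blockW repMat3 stab18 cert3_18 = true := by decide +kernel
theorem wcheck3_19 : blockW repMat3 stab19 cert3_19 = true := by decide +kernel
theorem wcheck3_20 : blockW repMat3 stab20 cert3_20 = true := by decide +kernel
theorem wcheck3_21 : blockW repMat3 stab21 cert3_21 = true := by decide +kernel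
theorem wcheck3_22 : blockW repMat3 stab22 cert3_22 = true := by decide +kernel
theorem wcheck3_23 : blockW repMat3 stab23 cert3_23 = true := by decide +kernel
theorem wcheck3_24 : blockW repMat3 stab24 cert3_24 = true := by decide +kernel
theorem wcheck3_25 : blockW repMat3 stab25 cert3_25 = true := by decide +kernel
theorem wcheck3_26 : blockW repMat3 stab26 cert3_26 = true := by decide +kernel
theorem wcheck3_27 : blockW repMat3 stab27 cert3_27 = true := by decide +kernel
theorem wcheck3_28 : blockW repMat3 stab28 cert3_28 = true := by decide +kernel
theorem wcheck3_29 : blockW repMat3 stab29 cert3_29 = true := by decide +kernel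

end H34.E6Cox
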