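import Cfsg.Agent.H34.E7WtTables

/-! Weight certificates for one coset (generated). -/

set_option autoImplicit false
set_option maxRecDepth 100000

namespace H34.E6Cox

theorem wcheck4_0 : blockW repMat4 stab0 cert4_0 = true := by decide +kernel
theorem wcheck4_1 : blockW repMat4 stab1 cert4_1 = true := by decide +kernel
theorem wcheck4_2 : blockW repMat4 stab2 cert4_2 = true := by decide +kernel
theorem wcheck4_3 : blockW repMat4 stab3 cert4_3 = true := by decide +kernel
theorem wcheck4_4 : blockW repMat4 stab4 cert4_4 = true := by decide +kernel
theorem wcheck4_5 : blockW repMat4 stab5 cert4_5 = true := by decide +kernel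
theorem wcheck4_6 : blockW repMat4 stab6 cert4_6 = true := by decide +kernel
theorem wcheck4_7 : blockW repMat4 stab7 cert4_7 = true := by decide +kernel
theorem wcheck4_8 : blockW repMat4 stab8 cert4_8 = true := by decide +kernel
theorem wcheck4_9 : blockW repMat4 stab9 cert4_9 = true := by decide +kernel
theorem wcheck4_10 : blockW repMat4 stab10 cert4_10 = true := by decide +kernel
theorem wcheck4_11 : blockW repMat4 stab11 cert4_11 = true := by decide +kernel
theorem wcheck4_12 : blockW repMat4 stab12 cert4_12 = true := by decide +kernel
theorem wcheck4_13 : blockW repMat4 stab13 cert4_13 = true := by decide +kernel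
theorem wcheck4_14 : blockW repMat4 stab14 cert4_14 = true := by decide +kernel
theorem wcheck4_15 : blockW repMat4 stab15 cert4_15 = true := by decide +kernel
theorem wcheck4_16 : blockW repMat4 stab16 cert4_16 = true := by decide +kernel
theorem wcheck4_17 : blockW repMat4 stab17 cert4_17 = true := by decide +kernel
theorem wcheck4_18 : blockW repMat4 stab18 cert4_18 = true := by decide +kernel
theorem wcheck4_19 : blockW repMat4 stab19 cert4_19 = true := by decide +kernel
theorem wcheck4_20 : blockW repMat4 stab20 cert4_20 = true := by decide +kernel
theorem wcheck4_21 : blockW repMat4 stab21 cert4_21 = true := by decide +kernel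
theorem wcheck4_22 : blockW repMat4 stab22 cert4_22 = true := by decide +kernel
theorem wcheck4_23 : blockW repMat4 stab23 cert4_23 = true := by decide +kernel
theorem wcheck4_24 : blockW repMat4 stab24 cert4_24 = true := by decide +kernel
theorem wcheck4_25 : blockW repMat4 stab25 cert4_25 = true := by decide +kernel
theorem wcheck4_26 : blockW repMat4 stab26 cert4_26 = true := by decide +kernel
theorem wcheck4_27 : blockW repMat4 stab27 cert4_27 = true := by decide +kernel
theorem wcheck4_28 : blockW repMat4 stab28 cert4_28 = true := by decide +kernel
theorem wcheck4_29 : blockW repMat4 stab29 cert4_29 = true := by decide +kernel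

end H34.E6Cox
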