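import Cfsg.Agent.H34.E6CoxCheckAll
import Cfsg.Agent.H34.E7WtCheck0
import Cfsg.Agent.H34.E7WtCheck1
import Cfsg.Agent.H34.E7WtCheck2
import Cfsg.Agent.H34.E7WtCheck3
import Cfsg.Agent.H34.E7WtCheck4

/-! All weight certificates (generated). -/

set_option autoImplicit false

namespace H34.E6Cox

theorem wcheck_all0 : ∀ b, b < 30 →
    blockW (repMats.getD 0 []) (stabBlocks.getD b []) ((repCerts.getD 0 []).getD b []) = true := by
  intro b hb
  interval_cases b
  · exact wcheck0_0
  · exact wcheck0_1
  · exact wcheck0_2
  · exact wcheck0_3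
  · exact wcheck0_4
  · exact wcheck0_5
  · exact wcheck0_6
  · exact wcheck0_7
  · exact wcheck0_8
  · exact wcheck0_9
  · exact wcheck0_10
  · exact wcheck0_11
  · exact wcheck0_12
  · exact wcheck0_13
  · exact wcheck0_14
  · exact wcheck0_15
  · exact wcheck0_16
  · exact wcheck0_17
  · exact wcheck0_18
  · exact wcheck0_19
  · exact wcheck0_20
  · exact wcheck0_21
  · exact wcheck0_22
  · exact wcheck0_23
  · exact wcheck0_24
  · exact wcheck0_25
  · exact wcheck0_26
  · exact wcheck0_27
  · exact wcheck0_28
  · exact wcheck0_29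

theorem wcheck_all1 : ∀ b, b < 30 →
    blockW (repMats.getD 1 []) (stabBlocks.getD b []) ((repCerts.getD 1 []).getD b []) = true := by
  intro b hb
  interval_cases b
  · exact wcheck1_0
  · exact wcheck1_1
  · exact wcheck1_2
  · exact wcheck1_3
  · exact wcheck1_4
  · exact wcheck1_5
  · exact wcheck1_6
  · exact wcheck1_7
  · exact wcheck1_8
  · exact wcheck1_9
  · exact wcheck1_10
  · exact wcheck1_11
  · exact wcheck1_12
  · exact wcheck1_13
  · exact wcheck1_14
  · exact wcheck1_15
  · exact wcheck1_16
  · exact wcheck1_17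
  · exact wcheck1_18
  · exact wcheck1_19
  · exact wcheck1_20
  · exact wcheck1_21
  · exact wcheck1_22
  · exact wcheck1_23
  · exact wcheck1_24
  · exact wcheck1_25
  · exact wcheck1_26
  · exact wcheck1_27
  · exact wcheck1_28
  · exact wcheck1_29

theorem wcheck_all2 : ∀ b, b < 30 →
    blockW (repMats.getD 2 []) (stabBlocks.getD b []) ((repCerts.getD 2 []).getD b []) = true := by
  intro b hb
  interval_cases b
  · exact wcheck2_0
  · exact wcheck2_1
  · exact wcheck2_2
  · exact wcheck2_3
  · exact wcheck2_4
  · exact wcheck2_5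
  · exact wcheck2_6
  · exact wcheck2_7
  · exact wcheck2_8
  · exact wcheck2_9
  · exact wcheck2_10
  · exact wcheck2_11
  · exact wcheck2_12
  · exact wcheck2_13
  · exact wcheck2_14
  · exact wcheck2_15
  · exact wcheck2_16
  · exact wcheck2_17
  · exact wcheck2_18
  · exact wcheck2_19
  · exact wcheck2_20
  · exact wcheck2_21
  · exact wcheck2_22
  · exact wcheck2_23
  · exact wcheck2_24
  · exact wcheck2_25
  · exact wcheck2_26
  · exact wcheck2_27
  · exact wcheck2_28
  · exact wcheck2_29

theorem wcheck_all3 : ∀ b, b < 30 →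
    blockW (repMats.getD 3 []) (stabBlocks.getD b []) ((repCerts.getD 3 []).getD b []) = true := by
  intro b hb
  interval_cases b
  · exact wcheck3_0
  · exact wcheck3_1
  · exact wcheck3_2
  · exact wcheck3_3
  · exact wcheck3_4
  · exact wcheck3_5
  · exact wcheck3_6
  · exact wcheck3_7
  · exact wcheck3_8
  · exact wcheck3_9
  · exact wcheck3_10
  · exact wcheck3_11
  · exact wcheck3_12
  · exact wcheck3_13
  · exact wcheck3_14
  · exact wcheck3_15
  · exact wcheck3_16
  · exact wcheck3_17
  · exact wcheck3_18
  · exact wcheck3_19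
  · exact wcheck3_20
  · exact wcheck3_21
  · exact wcheck3_22
  · exact wcheck3_23
  · exact wcheck3_24
  · exact wcheck3_25
  · exact wcheck3_26
  · exact wcheck3_27
  · exact wcheck3_28
  · exact wcheck3_29

theorem wcheck_all4 : ∀ b, b < 30 →
    blockW (repMats.getD 4 []) (stabBlocks.getD b []) ((repCerts.getD 4 []).getD b []) = true := by
  intro b hb
  interval_cases b
  · exact wcheck4_0
  · exact wcheck4_1
  · exact wcheck4_2
  · exact wcheck4_3
  · exact wcheck4_4
  · exact wcheck4_5
  · exact wcheck4_6
  · exact wcheck4_7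
  · exact wcheck4_8
  · exact wcheck4_9
  · exact wcheck4_10
  · exact wcheck4_11
  · exact wcheck4_12
  · exact wcheck4_13
  · exact wcheck4_14
  · exact wcheck4_15
  · exact wcheck4_16
  · exact wcheck4_17
  · exact wcheck4_18
  · exact wcheck4_19
  · exact wcheck4_20
  · exact wcheck4_21
  · exact wcheck4_22
  · exact wcheck4_23
  · exact wcheck4_24
  · exact wcheck4_25
  · exact wcheck4_26
  · exact wcheck4_27
  · exact wcheck4_28
  · exact wcheck4_29

theorem coset_weights {i k : ℕ} (hi : i < 5) (hk : k < 720) (hc : code i k = 1) :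
    zCount (imMul (repMats.getD i []) (stabMat k)) = 3 := by
  have hb : k / 24 < 30 := by omega
  have h : blockW (repMats.getD i []) (stabBlocks.getD (k / 24) [])
      ((repCerts.getD i []).getD (k / 24) []) = true := by
    interval_cases i
    · exact wcheck_all0 _ hb
    · exact wcheck_all1 _ hb
    · exact wcheck_all2 _ hb
    · exact wcheck_all3 _ hb
    · exact wcheck_all4 _ hb
  have hlen := stab_length _ hb
  have h1 : (stabBlocks.getD (k / 24) []).length = ((repCerts.getD i []).getD (k / 24) []).length := by
    have hb' : blockOK (repMats.getD i []) (stabBlocks.getD (k / 24) [])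
        ((repCerts.getD i []).getD (k / 24) []) = true := by
      interval_cases i
      · exact check_all0 _ hb
      · exact check_all1 _ hb
      · exact check_all2 _ hb
      · exact check_all3 _ hb
      · exact check_all4 _ hb
    rw [blockOK, Bool.and_eq_true, beq_iff_eq] at hb'
    exact hb'.1
  rw [blockW, List.all_eq_true] at h
  have h2 := h
  have ho : k % 24 < (stabBlocks.getD (k / 24) []).length := by omega
  have := h2 ((stabBlocks.getD (k / 24) [])[k % 24], ((repCerts.getD i []).getD (k / 24) [])[k % 24]'(by omega))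
    (List.mem_iff_getElem.2 ⟨k % 24, by rw [List.length_zip]; omega, List.getElem_zip⟩)
  rw [stabMat, List.getD_eq_getElem _ _ ho]
  rw [code, List.getD_eq_getElem _ _ (show k % 24 < ((repCerts.getD i []).getD (k / 24) []).length by omega)] at hc
  simp only [hc] at this
  simpa [certW] using this

end H34.E6Cox
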