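import Cfsg.Agent.H34.E7Data
import Cfsg.Agent.H34.E7WtCheckAll
import Cfsg.Agent.H34.E6CoxSpec

/-!
The roots of E7 orthogonal to the component of the twelfth roots of unity of a Weyl element of the subdiagram
E6: three mutually orthogonal positive roots in a cycle, and their negatives.
-/

set_option autoImplicit false
set_option linter.unusedSectionVars false

open Cfsg.Lie
open Matrix Polynomial

attribute [local irreducible] Cfsg.Lie.chevE6 Cfsg.Lie.chevE7

namespace H34.E7Cox

open E6Cox (C6 rootForms wts wtIdx)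

/-- The inclusion of the fundamental indices. -/
def inc (i : Fin chevE6.rank) : Fin chevE7.rank := Fin.castLE six_le i

/-- The last fundamental index. -/
def last : Fin chevE7.rank := ⟨6, by rw [rank_seven]; omega⟩

/-- A vector of the sublattice. -/
def ext (x : Fin chevE6.rank → ℤ) : Fin chevE7.rank → ℤ :=
  fun j => if h : j.val < chevE6.rank then x ⟨j.val, h⟩ else 0

theorem ext_inc (x : Fin chevE6.rank → ℤ) (i : Fin chevE6.rank) : ext x (inc i) = x i := dif_pos i.isLt

theorem ext_last (x : Fin chevE6.rank → ℤ) : ext x last = 0 :=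
  dif_neg (by rw [E6Cox.rank_six]; exact Nat.lt_irrefl 6)

theorem eq_inc_or_last (j : Fin chevE7.rank) : (∃ i, j = inc i) ∨ j = last := by
  rcases Nat.lt_or_ge j.val 6 with h | h
  · exact Or.inl ⟨⟨j.val, by rw [E6Cox.rank_six]; exact h⟩, rfl⟩
  · exact Or.inr (Fin.ext (by
      have := lt_of_lt_of_eq j.isLt rank_seven
      show j.val = 6
      omega))

theorem inc_ne_last (i : Fin chevE6.rank) : inc i ≠ last := fun e => by
  have h6 : i.val = 6 := congrArg Fin.val e
  have := lt_of_lt_of_eq i.isLt E6Cox.rank_six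
  omega

theorem sum_eq (g : Fin chevE7.rank → ℤ) : ∑ j, g j = (∑ i, g (inc i)) + g last := by
  have hu : (Finset.univ : Finset (Fin chevE7.rank)) =
      insert last ((Finset.univ : Finset (Fin chevE6.rank)).map ⟨inc, Fin.castLE_injective six_le⟩) := by
    ext j
    simp only [Finset.mem_univ, Finset.mem_insert, Finset.mem_map, true_and, Function.Embedding.coeFn_mk,
      true_iff]
    rcases eq_inc_or_last j with ⟨i, rfl⟩ | rfl
    · exact Or.inr ⟨i, rfl⟩
    · exact Or.inl rfl
  have hnot : last ∉ (Finset.univ : Finset (Fin chevE6.rank)).map ⟨inc, Fin.castLE_injective six_le⟩ := by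
    simp only [Finset.mem_map, Finset.mem_univ, true_and, Function.Embedding.coeFn_mk, not_exists]
    exact fun i => inc_ne_last i
  rw [hu, Finset.sum_insert hnot, Finset.sum_map, add_comm]
  rfl

theorem dot_ext (v : Fin chevE7.rank → ℤ) (x : Fin chevE6.rank → ℤ) :
    v ⬝ᵥ ext x = (fun i => v (inc i)) ⬝ᵥ x := by
  rw [dotProduct, sum_eq, ext_last, mul_zero, add_zero]
  simp [dotProduct, ext_inc]

theorem smat_ext (i : Fin chevE6.rank) (x : Fin chevE6.rank → ℤ) :
    Tori.smat chevE7 (inc i) *ᵥ ext x = ext (Tori.smat chevE6 i *ᵥ x) := by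
  have hA : (Tori.cmat chevE7 *ᵥ ext x) (inc i) = (Tori.cmat chevE6 *ᵥ x) i := by
    rw [Matrix.mulVec, dot_ext]
    exact congrArg (· ⬝ᵥ x) (funext fun j => cmat_block i j)
  rw [Tori.smat_mulVec, Tori.smat_mulVec, hA]
  funext j
  rcases eq_inc_or_last j with ⟨k, rfl⟩ | rfl
  · rw [Pi.sub_apply, ext_inc, ext_inc, Pi.sub_apply, Pi.smul_apply, Pi.smul_apply, Pi.single_apply,
      Pi.single_apply]
    simp [inc, (Fin.castLE_injective six_le).eq_iff]
  · have hne : last ≠ inc i := fun e => by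
      have := congrArg Fin.val e
      have := lt_of_lt_of_eq i.isLt E6Cox.rank_six
      simp [inc, last] at *
      omega
    simp [ext_last, Pi.single_apply, hne]

/-- The word in the larger diagram. -/
def up (W : List (Fin chevE6.rank)) : List (Fin chevE7.rank) := W.map inc

theorem lmat_ext (W : List (Fin chevE6.rank)) (x : Fin chevE6.rank → ℤ) :
    Tori.lmat C7 (C7.wperm (up W)) *ᵥ ext x = ext (Tori.lmat C6 (C6.wperm W) *ᵥ x) := by
  rw [Tori.lmat_wperm, Tori.lmat_wperm]
  induction W with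
  | nil => simp [up]
  | cons i W ih =>
    simp only [up, List.map_cons, List.prod_cons] at ih ⊢
    rw [← Matrix.mulVec_mulVec, ih, smat_ext, Matrix.mulVec_mulVec]

theorem lmat_last (W : List (Fin chevE6.rank)) (v : Fin chevE7.rank → ℤ) :
    (Tori.lmat C7 (C7.wperm (up W)) *ᵥ v) last = v last := by
  rw [Tori.lmat_wperm]
  induction W with
  | nil => simp [up]
  | cons i W ih =>
    simp only [up, List.map_cons, List.prod_cons] at ih ⊢
    have hne : last ≠ inc i := (inc_ne_last i).symm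
    rw [← Matrix.mulVec_mulVec, Tori.smat_mulVec, Pi.sub_apply, Pi.smul_apply, Pi.single_apply, if_neg hne,
      smul_zero, sub_zero, ih]

/-- The values of a root on the fundamental coroots of the subdiagram. -/
def wr (r : Fin chevE7.nroots) : Fin chevE6.rank → ℤ :=
  fun j => (Tori.cov C7 r ᵥ* Tori.cmat chevE7) (inc j)

theorem wr_dot (r : Fin chevE7.nroots) (x : Fin chevE6.rank → ℤ) :
    wr r ⬝ᵥ x = Tori.bform (Tori.cov C7 r) (ext x) := by
  rw [Tori.bform, Matrix.dotProduct_mulVec, dot_ext]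
  rfl

theorem wr_perm (W : List (Fin chevE6.rank)) (r : Fin chevE7.nroots) :
    wr (C7.wperm (up W) r) ᵥ* Tori.lmat C6 (C6.wperm W) = wr r := by
  refine (dotProduct_eq _ _ fun x => ?_)
  rw [← Matrix.dotProduct_mulVec, wr_dot, wr_dot, ← lmat_ext,
    ← Tori.lmat_spec C7 (Tori.wperm_mem_wgrp C7 _), Tori.bform_isom C7 hsym7 (Tori.wperm_mem_wgrp C7 _)]

theorem co_last_perm (W : List (Fin chevE6.rank)) (r : Fin chevE7.nroots) :
    Tori.cov C7 (C7.wperm (up W) r) last = Tori.cov C7 r last := by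
  rw [← Tori.lmat_spec C7 (Tori.wperm_mem_wgrp C7 _), lmat_last]

theorem ofFn_wr {n : ℕ} (hn : n = chevE6.rank) (r : Fin chevE7.nroots) :
    List.ofFn (fun j : Fin n => wr r (Fin.cast hn j)) = List.ofFn (wr r) := by subst hn; rfl

theorem wr_list (r : Fin chevE7.nroots) : List.ofFn (wr r) = wRow r.val := by
  rw [← ofFn_wr E6Cox.rank_six.symm]
  have h : ∀ (j : Fin chevE7.rank), (Tori.cov C7 r ᵥ* Tori.cmat chevE7) j =
      ((List.range 7).map fun i => H52.tablesE7.co r.val i * chevE7.cartan i (chevE7.simple j.val)).sum := by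
    intro j
    rw [← List.sum_toFinset _ List.nodup_range, List.toFinset_range, ← rank_seven, Finset.sum_range]
    rfl
  simp only [wr, h]
  rw [wRow, List.ofFn_eq_map]
  rfl

theorem bform_list (r s : Fin chevE7.nroots) :
    Tori.bform (Tori.cov C7 r) (Tori.cov C7 s) = bForm r.val s.val := by
  rw [Tori.bform, bForm, ← List.sum_toFinset _ List.nodup_range, List.toFinset_range, ← rank_seven,
    Finset.sum_range, dotProduct]
  refine Finset.sum_congr rfl fun i _ => ?_
  rw [← Tori.cartan_cov]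
  rfl

/-- The root with a given table index. -/
def rootAt {r : ℕ} (h : r ∈ wtIdx) : Fin chevE7.nroots :=
  ⟨r, by rw [nroots_E7]; exact (wtIdx_pos r h).2.1⟩

theorem mem_of_last {r : Fin chevE7.nroots} (h : Tori.cov C7 r last = 1) : r.val ∈ wtIdx := by
  have hk := kindOK_all r.val (lt_of_lt_of_eq r.isLt nroots_E7)
  have h6 : H52.tablesE7.co r.val 6 = 1 := h
  rw [kindOK, h6] at hk
  simp only [beq_iff_eq, one_ne_zero, if_false, Bool.or_eq_true, List.contains_iff_mem] at hk
  rcases hk with hk | hk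
  · exact hk
  · exfalso
    have h1 := co_neg_last _ hk
    rw [C7.hC.neg_neg r.isLt] at h1
    omega

theorem last_of_mem {r : Fin chevE7.nroots} (h : r.val ∈ wtIdx) : Tori.cov C7 r last = 1 := (wtIdx_pos _ h).2.2

theorem wr_injective_last {r s : Fin chevE7.nroots} (hr : Tori.cov C7 r last = 1) (hs : Tori.cov C7 s last = 1)
    (h : wr r = wr s) : r = s := by
  have hnd := wtIdx_nodup.2
  rw [← wts_eq] at hnd
  refine Fin.ext (List.inj_on_of_nodup_map hnd (mem_of_last hr) (mem_of_last hs) ?_)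
  rw [← wr_list, ← wr_list, h]

/-- The set of roots with last coefficient one orthogonal to the component. -/
noncomputable def zset (W : List (Fin chevE6.rank)) : Finset (Fin chevE7.nroots) :=
  Finset.univ.filter fun r => Tori.cov C7 r last = 1 ∧
    wr r ᵥ* aeval (Tori.lmat C6 (C6.wperm W)) (cyclotomic 3 ℤ) = 0

theorem zCount_ofMat {n : ℕ} (hn : n = 6) (M : Matrix (Fin n) (Fin n) ℤ) :
    E6Cox.zCount (E6Cox.ofMat M) = (wts.filter fun y =>
      E6Cox.rowMul y (E6Cox.ofMat (M ^ 2 + M + 1)) == [0, 0, 0, 0, 0, 0]).length := by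
  rw [E6Cox.zCount, E6Cox.imMul_ofMat hn, ← E6Cox.ofMat_one hn, E6Cox.imAdd_ofMat hn, E6Cox.imAdd_ofMat hn, sq]

theorem card_zset {W : List (Fin chevE6.rank)}
    (h : E6Cox.zCount (E6Cox.ofMat (Tori.lmat C6 (C6.wperm W))) = 3) : (zset W).card = 3 := by
  classical
  set M := Tori.lmat C6 (C6.wperm W) with hM
  rw [zCount_ofMat E6Cox.rank_six, ← wts_eq, List.filter_map, List.length_map,
    ← List.toFinset_card_of_nodup (wtIdx_nodup.1.filter _)] at h
  rw [← h]
  refine Finset.card_bij (fun r _ => r.val) (fun r hr => ?_) (fun a _ b _ e => Fin.ext e) (fun b hb => ?_)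
  · obtain ⟨-, h1, h2⟩ := Finset.mem_filter.1 hr
    rw [List.mem_toFinset, List.mem_filter]
    refine ⟨mem_of_last h1, ?_⟩
    rw [cyclotomic_three] at h2
    simp only [map_add, map_pow, aeval_X, map_one] at h2
    rw [Function.comp_apply, beq_iff_eq, ← wr_list, E6Cox.rowMul_ofMat E6Cox.rank_six, h2]
    rw [show List.ofFn (0 : Fin chevE6.rank → ℤ) = List.replicate chevE6.rank 0 from List.ofFn_const _ _,
      E6Cox.rank_six]
    rfl
  · rw [List.mem_toFinset, List.mem_filter] at hb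
    refine ⟨rootAt hb.1, Finset.mem_filter.2 ⟨Finset.mem_univ _, last_of_mem hb.1, ?_⟩, rfl⟩
    have h2 := hb.2
    rw [Function.comp_apply, beq_iff_eq, show b = (rootAt hb.1).val from rfl, ← wr_list,
      E6Cox.rowMul_ofMat E6Cox.rank_six] at h2
    rw [cyclotomic_three]
    simp only [map_add, map_pow, aeval_X, map_one]
    apply List.ofFn_injective
    rw [h2, show List.ofFn (0 : Fin chevE6.rank → ℤ) = List.replicate chevE6.rank 0 from List.ofFn_const _ _,
      E6Cox.rank_six]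
    rfl

theorem rootForm_cases {r : Fin chevE7.nroots}
    (h1 : Tori.cov C7 r last ≠ 1) (h2 : Tori.cov C7 r last ≠ -1) :
    ∃ s : Fin chevE6.nroots, wr r = Tori.cov C6 s ᵥ* Tori.cmat chevE6 ∨
      wr r = -(Tori.cov C6 s ᵥ* Tori.cmat chevE6) := by
  have hk := kindOK_all r.val (lt_of_lt_of_eq r.isLt nroots_E7)
  have h6 : H52.tablesE7.co r.val 6 = 0 := by
    by_contra hne
    simp only [kindOK, beq_iff_eq, hne, if_false, Bool.or_eq_true, List.contains_iff_mem] at hk
    rcases hk with hk | hk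
    · exact h1 (last_of_mem hk)
    · have h3 := co_neg_last _ hk
      rw [C7.hC.neg_neg r.isLt] at h3
      exact h2 h3
  simp only [kindOK, h6, beq_self_eq_true, if_true, Bool.or_eq_true, List.contains_iff_mem, ← wr_list,
    List.map_ofFn] at hk
  have key : ∀ y : Fin chevE6.rank → ℤ, List.ofFn y ∈ rootForms →
      ∃ s : Fin chevE6.nroots, y = Tori.cov C6 s ᵥ* Tori.cmat chevE6 := by
    intro y hy
    have := rootForms_roots _ hy
    rw [List.any_eq_true] at this
    obtain ⟨s, hs, hs'⟩ := this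
    refine ⟨⟨s, by rw [E6Cox.nroots_E6]; exact List.mem_range.1 hs⟩, List.ofFn_injective ?_⟩
    rw [beq_iff_eq] at hs'
    rw [← E6Cox.rowMul_ofMat E6Cox.rank_six, E6Cox.cmat_eq, E6Cox.cvL_eq]
    exact hs'.symm
  rcases hk with hk | hk
  · obtain ⟨s, hs⟩ := key _ hk
    exact ⟨s, Or.inl hs⟩
  · obtain ⟨s, hs⟩ := key (-wr r) hk
    exact ⟨s, Or.inr (by rw [← hs, neg_neg])⟩

/-- The three orthogonal roots. -/
theorem exists_beta {q : ℤ} {ℓ : ℕ} (hl : ℓ.Prime) (hprim : IsPrimitiveRoot (q : ZMod ℓ) 12) {N : ℕ}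
    {W : List (Fin chevE6.rank)} {f : Fin chevE6.rank → ZMod N} (hf0 : f ≠ 0) (hlf : ℓ • f = 0)
    (hf : f ᵥ* Tori.toZ N (Tori.lmat C6 (C6.wperm W)) = (q : ZMod N) • f) :
    ∃ β : Fin chevE7.nroots,
      let ρ := (C7.wperm (up W))⁻¹
      Tori.cov C7 β last = 1 ∧ ρ (ρ (ρ β)) = β ∧ Tori.bform (Tori.cov C7 β) (Tori.cov C7 (ρ β)) = 0 ∧
        Tori.bform (Tori.cov C7 β) (Tori.cov C7 (ρ (ρ β))) = 0 ∧
        Tori.bform (Tori.cov C7 (ρ β)) (Tori.cov C7 (ρ (ρ β))) = 0 ∧
        wr β ᵥ* aeval (Tori.lmat C6 (C6.wperm W)) (cyclotomic 3 ℤ) = 0 ∧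
        ∀ r : Fin chevE7.nroots, wr r ᵥ* aeval (Tori.lmat C6 (C6.wperm W)) (cyclotomic 3 ℤ) = 0 →
          ∃ s, (s = β ∨ s = ρ β ∨ s = ρ (ρ β)) ∧ (r = s ∨ r.val = chevE7.neg s.val) := by
  classical
  set M := Tori.lmat C6 (C6.wperm W) with hM
  obtain ⟨hpol, -, h3, u, hu, i, k, hi, hk, hc, heq⟩ :=
    E6Cox.eigen_cert hl hprim (Tori.wperm_mem_wgrp C6 W) hf0 hlf hf
  obtain ⟨Wu, rfl⟩ := C6.exists_wperm hu
  -- transport of the count
  have hW' : (C6.wperm Wu)⁻¹ * C6.wperm W * C6.wperm Wu = C6.wperm (Wu.reverse ++ W ++ Wu) := by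
    rw [H54.Ctx.wperm_append, H54.Ctx.wperm_append, C6.wperm_reverse]
  have h' := E6Cox.coset_weights hi hk hc
  rw [← heq, hW'] at h'
  have hcard' := card_zset h'
  set W' := Wu.reverse ++ W ++ Wu with hW'def
  set U := Tori.lmat C6 (C6.wperm Wu) with hU
  set U' := Tori.lmat C6 (C6.wperm Wu.reverse) with hU'
  have hUU : U * U' = 1 := by
    rw [hU, hU', ← Tori.lmat_mul C6 (Tori.wperm_mem_wgrp C6 _), C6.wperm_reverse, mul_inv_cancel, Tori.lmat_one]
  have hUU' : U' * U = 1 := mul_eq_one_comm.1 hUU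
  have hW'M : Tori.lmat C6 (C6.wperm W') = U' * M * U := by
    rw [hW'def, H54.Ctx.wperm_append, H54.Ctx.wperm_append,
      Tori.lmat_mul C6 (mul_mem (Tori.wperm_mem_wgrp C6 _) (Tori.wperm_mem_wgrp C6 _)),
      Tori.lmat_mul C6 (Tori.wperm_mem_wgrp C6 _)]
  have hmul : ∀ x : Fin chevE6.rank → ℤ, (x ᵥ* aeval (Tori.lmat C6 (C6.wperm W')) (cyclotomic 3 ℤ) = 0 ↔
      (x ᵥ* U') ᵥ* aeval M (cyclotomic 3 ℤ) = 0) := by
    intro x
    have he : aeval (Tori.lmat C6 (C6.wperm W')) (cyclotomic 3 ℤ) = U' * aeval M (cyclotomic 3 ℤ) * U := by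
      rw [hW'M, cyclotomic_three]
      simp only [map_add, map_pow, aeval_X, map_one]
      simp only [sq, Matrix.mul_add, Matrix.add_mul, mul_one]
      rw [hUU', show U' * M * U * (U' * M * U) = U' * M * (U * U') * M * U by simp only [mul_assoc], hUU, mul_one]
      simp only [mul_assoc]
    rw [he, ← Matrix.vecMul_vecMul, ← Matrix.vecMul_vecMul]
    constructor
    · intro h
      have := congrArg (fun z => z ᵥ* U') h
      simpa [Matrix.vecMul_vecMul, hUU, Matrix.mul_assoc] using this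
    · intro h; rw [h, Matrix.zero_vecMul]
  have hu7 : ∀ r, wr (C7.wperm (up Wu) r) = wr r ᵥ* U' := by
    intro r
    conv_rhs => rw [← wr_perm Wu r]
    rw [← hU, Matrix.vecMul_vecMul, hUU, Matrix.vecMul_one]
  have hcard : (zset W).card = 3 := by
    rw [← hcard']
    refine (Finset.card_equiv (C7.wperm (up Wu)) fun r => ?_).symm
    simp only [zset, Finset.mem_filter, Finset.mem_univ, true_and, co_last_perm, hu7]
    exact and_congr_right fun _ => hmul _
  -- the cycle
  set ρ := (C7.wperm (up W))⁻¹ with hρ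
  have hρw : ∀ r, wr (ρ r) = wr r ᵥ* M := fun r => by
    conv_rhs => rw [← Equiv.apply_symm_apply (C7.wperm (up W)) r]
    exact (wr_perm W _).symm
  have hρl : ∀ r, Tori.cov C7 (ρ r) last = Tori.cov C7 r last := fun r => by
    conv_rhs => rw [← Equiv.apply_symm_apply (C7.wperm (up W)) r]
    exact (co_last_perm W _).symm
  have hρz : ∀ r ∈ zset W, ρ r ∈ zset W := by
    intro r hr
    obtain ⟨-, h1, h2⟩ := Finset.mem_filter.1 hr
    refine Finset.mem_filter.2 ⟨Finset.mem_univ _, by rw [hρl, h1], ?_⟩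
    rw [hρw, Matrix.vecMul_vecMul, show M * aeval M (cyclotomic 3 ℤ) = aeval M (cyclotomic 3 ℤ) * M by
      have := ((Commute.all (X : ℤ[X]) (cyclotomic 3 ℤ)).map (aeval M)).eq
      rwa [aeval_X] at this, ← Matrix.vecMul_vecMul, h2, Matrix.zero_vecMul]
  obtain ⟨β, hβ⟩ := Finset.card_pos.1 (by omega : 0 < (zset W).card)
  obtain ⟨-, hβ1, hβ2⟩ := Finset.mem_filter.1 hβ
  have hβ3 := hβ2
  have hsum : wr β + wr (ρ β) + wr (ρ (ρ β)) = 0 := by
    rw [hρw, hρw, hρw, Matrix.vecMul_vecMul]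
    rw [cyclotomic_three] at hβ2
    simp only [map_add, map_pow, aeval_X, map_one] at hβ2
    simp only [sq, Matrix.vecMul_add, Matrix.vecMul_one] at hβ2
    rw [← hβ2]
    abel
  have hsum2 : wr (ρ β) + wr (ρ (ρ β)) + wr (ρ (ρ (ρ β))) = 0 := by
    have := congrArg (fun z => z ᵥ* M) hsum
    simpa [Matrix.add_vecMul, ← hρw] using this
  have h3cyc : ρ (ρ (ρ β)) = β := by
    refine wr_injective_last (by rw [hρl, hρl, hρl, hβ1]) hβ1 ?_
    linear_combination hsum2 - hsum
  have hne : ρ β ≠ β := by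
    intro e
    rw [e, e] at hsum
    refine wts_ne_zero _ (mem_of_last hβ1) ?_
    rw [← wr_list]
    have h0 : wr β = 0 := by
      funext j
      have := congrFun hsum j
      simp only [Pi.add_apply, Pi.zero_apply] at this
      show wr β j = 0
      omega
    rw [h0, show List.ofFn (0 : Fin chevE6.rank → ℤ) = List.replicate chevE6.rank 0 from List.ofFn_const _ _,
      E6Cox.rank_six]
    rfl
  have hne2 : ρ (ρ β) ≠ β := fun e => hne (by
    calc ρ β = ρ (ρ (ρ β)) := by rw [e]
      _ = β := h3cyc)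
  have hne3 : ρ (ρ β) ≠ ρ β := fun e => hne (ρ.injective e)
  have hz : zset W = {β, ρ β, ρ (ρ β)} := by
    refine (Finset.eq_of_subset_of_card_le (fun x hx => ?_) ?_).symm
    · simp only [Finset.mem_insert, Finset.mem_singleton] at hx
      rcases hx with rfl | rfl | rfl
      exacts [hβ, hρz _ hβ, hρz _ (hρz _ hβ)]
    · rw [hcard, Finset.card_insert_of_notMem (by simp [hne.symm, hne2.symm]),
        Finset.card_insert_of_notMem (by simp [hne3.symm]), Finset.card_singleton]
  have horth : ∀ {a b c : Fin chevE7.nroots}, Tori.cov C7 a last = 1 → Tori.cov C7 b last = 1 →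
      Tori.cov C7 c last = 1 → wr a + wr b + wr c = 0 → Tori.bform (Tori.cov C7 a) (Tori.cov C7 b) = 0 := by
    intro a b c ha hb hc h
    have ht := triOK_all _ (mem_of_last ha) _ (mem_of_last hb)
    simp only [triOK, Bool.or_eq_true, beq_iff_eq, List.all_eq_true, bne_iff_ne] at ht
    rw [bform_list]
    refine ht.resolve_right fun hall => hall _ (mem_of_last hc) ?_
    rw [← wr_list, ← wr_list, ← wr_list]
    have hlist : ∀ (n : ℕ), n = 6 → ∀ u v w : Fin n → ℤ, u + v + w = 0 →
        List.zipWith (· + ·) (List.zipWith (· + ·) (List.ofFn u) (List.ofFn v)) (List.ofFn w) =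
          [0, 0, 0, 0, 0, 0] := by
      rintro _ rfl u v w huvw
      have := fun i => congrFun huvw i
      simp only [Pi.add_apply, Pi.zero_apply] at this
      simp [List.ofFn_succ, this]
    exact hlist _ E6Cox.rank_six _ _ _ h
  have hρ1 : Tori.cov C7 (ρ β) last = 1 := by rw [hρl, hβ1]
  have hρ2 : Tori.cov C7 (ρ (ρ β)) last = 1 := by rw [hρl, hρl, hβ1]
  refine ⟨β, hβ1, h3cyc, horth hβ1 hρ1 hρ2 hsum, horth hβ1 hρ2 hρ1 (by rw [← hsum]; abel),
    horth hρ1 hρ2 hβ1 (by rw [← hsum]; abel), hβ3, fun r hr => ?_⟩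
  by_cases h1 : Tori.cov C7 r last = 1
  · have : r ∈ zset W := Finset.mem_filter.2 ⟨Finset.mem_univ _, h1, hr⟩
    rw [hz] at this
    simp only [Finset.mem_insert, Finset.mem_singleton] at this
    exact ⟨r, this, Or.inl rfl⟩
  by_cases h2 : Tori.cov C7 r last = -1
  · let s : Fin chevE7.nroots := ⟨chevE7.neg r.val, C7.hC.neg_lt r.isLt⟩
    have hs : ∀ j, Tori.cov C7 s j = -Tori.cov C7 r j := fun j => C7.hC.co_neg r.isLt j.isLt
    have hs' : wr s = -wr r := by
      funext j
      simp [wr, show Tori.cov C7 s = -Tori.cov C7 r from funext hs, Matrix.neg_vecMul]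
    have : s ∈ zset W := Finset.mem_filter.2 ⟨Finset.mem_univ _, by rw [hs, h2]; rfl,
      by rw [hs', Matrix.neg_vecMul, hr, neg_zero]⟩
    rw [hz] at this
    simp only [Finset.mem_insert, Finset.mem_singleton] at this
    exact ⟨s, this, Or.inr (C7.hC.neg_neg r.isLt).symm⟩
  · obtain ⟨s, hs | hs⟩ := rootForm_cases h1 h2
    · exact absurd (hs ▸ hr) (h3 s)
    · rw [hs, Matrix.neg_vecMul, neg_eq_zero] at hr
      exact absurd hr (h3 s)

end H34.E7Cox
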