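import Cfsg.Agent.H34.E6CoxTables

/-! The twenty-seven weights of E6 inside the roots of E7 (generated). -/

set_option autoImplicit false

namespace H34.E6Cox

/-- The indices of the roots of E7 with last coefficient one. -/
def wtIdx : List ℕ := [63, 65, 68, 72, 77, 82, 86, 89, 91, 92, 98, 102, 105, 107, 108, 111, 113, 114, 116, 117, 118, 120, 121, 122, 123, 124, 125]

def wts : IMat := [
  [0, 0, 0, 0, 0, -1],
  [0, 0, 0, 0, -1, 1],
  [0, 0, 0, -1, 1, 0],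
  [0, -1, -1, 1, 0, 0],
  [-1, -1, 1, 0, 0, 0],
  [0, 1, -1, 0, 0, 0],
  [-1, 1, 1, -1, 0, 0],
  [-1, 0, 0, 1, -1, 0],
  [-1, 0, 0, 0, 1, -1],
  [-1, 0, 0, 0, 0, 1],
  [1, -1, 0, 0, 0, 0],
  [1, 1, 0, -1, 0, 0],
  [1, 0, -1, 1, -1, 0],
  [1, 0, -1, 0, 1, -1],
  [1, 0, -1, 0, 0, 1],
  [0, 0, 1, 0, -1, 0],
  [0, 0, 1, -1, 1, -1],
  [0, 0, 1, -1, 0, 1],
  [0, -1, 0, 1, 0, -1],
  [0, -1, 0, 1, -1, 1],
  [0, -1, 0, 0, 1, 0],
  [0, 1, 0, 0, 0, -1],
  [0, 1, 0, 0, -1, 1],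
  [0, 1, 0, -1, 1, 0],
  [0, 0, -1, 1, 0, 0],
  [-1, 0, 1, 0, 0, 0],
  [1, 0, 0, 0, 0, 0]]

/-- The number of weights orthogonal to the component of the twelfth roots of unity. -/
def zCount (M : IMat) : ℕ :=
  let Z := imAdd (imAdd (imMul M M) M) imOne
  (wts.filter fun y => rowMul y Z == [0, 0, 0, 0, 0, 0]).length

/-- The additional certificate for one element. -/
def certW (M : IMat) (c : ℕ) : Bool := c != 1 || zCount M == 3

/-- The additional certificates of one block of a coset. -/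
def blockW (g : IMat) (ms : List IMat) (cs : List ℕ) : Bool :=
  (ms.zip cs).all fun p => p.2 != 1 || certW (imMul g p.1) p.2

end H34.E6Cox
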