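import Cfsg.Agent.H34.E6CoxData
import Cfsg.Agent.H34.E7WtTables
import Cfsg.Agent.H52.DataE7
import Cfsg.Agent.H52.OrderE7
import Cfsg.Agent.H53.StEmb

/-!
The data of type E7 and the subdiagram of type E6.
-/

set_option autoImplicit false
set_option maxRecDepth 100000

open Cfsg.Lie
open Matrix

namespace H34.E7Cox

open E6Cox (C6 rootForms wts wtIdx)

/-- The context of type E7. -/
def C7 : H54.Ctx chevE7 := ⟨H52.tablesE7, H52.checkedE7, H53.weylForE7, H54.chainOK_E7⟩

theorem rank_seven : chevE7.rank = 7 := rfl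

theorem nroots_E7 : chevE7.nroots = 126 := rfl

/-- The roots of E6 among those of E7. -/
def e6InE7 : List ℕ := [6, 10, 13, 15, 16, 19, 21, 22, 24, 25, 26, 28, 29, 30, 31, 32, 35, 37, 38, 40, 41, 42, 44, 45, 46, 47, 49, 50, 51, 52, 54, 55, 56, 58, 59, 61, 64, 66, 67, 69, 70, 71, 73, 74, 75, 76, 78, 79, 80, 81, 83, 84, 85, 87, 88, 90, 93, 94, 95, 96, 97, 99, 100, 101, 103, 104, 106, 109, 110, 112, 115, 119]

theorem e6InE7_ok : H53.EmbOK chevE6 chevE7 e6InE7 := by constructor <;> decide +kernel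

theorem six_le : chevE6.rank ≤ chevE7.rank := by decide +kernel

theorem simple_emb : ∀ i : Fin chevE6.rank, H53.embIdx e6InE7 (chevE6.simple i.val) = chevE7.simple i.val := by
  decide +kernel

theorem cartan_block : ∀ i j : Fin chevE6.rank,
    chevE7.cartan i.val (chevE7.simple j.val) = chevE6.cartan i.val (chevE6.simple j.val) := by decide +kernel

theorem cmat_block (i j : Fin chevE6.rank) :
    Tori.cmat chevE7 (Fin.castLE six_le i) (Fin.castLE six_le j) = Tori.cmat chevE6 i j := cartan_block i j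

theorem hsym7 : ∀ i : Fin chevE7.rank,
    (Tori.smat chevE7 i)ᵀ * Tori.cmat chevE7 * Tori.smat chevE7 i = Tori.cmat chevE7 := by decide +kernel

theorem cartan_two : ∀ i : Fin chevE7.rank, chevE7.cartan i.val (chevE7.simple i.val) = 2 := by decide +kernel

theorem cmat_symm7 : (Tori.cmat chevE7)ᵀ = Tori.cmat chevE7 := by decide +kernel

/-- Twice the inverse of the Cartan matrix. -/
def invTwo : Matrix (Fin chevE7.rank) (Fin chevE7.rank) ℤ :=
  (!![4, 4, 6, 8, 6, 4, 2; 4, 7, 8, 12, 9, 6, 3; 6, 8, 12, 16, 12, 8, 4; 8, 12, 16, 24, 18, 12, 6; 6, 9, 12, 18, 15, 10, 5; 4, 6, 8, 12, 10, 8, 4; 2, 3, 4, 6, 5, 4, 3] : Matrix (Fin 7) (Fin 7) ℤ)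

theorem cmat_invTwo : Tori.cmat chevE7 * invTwo = (2 : ℤ) • 1 := by decide +kernel

theorem invTwo_cmat : invTwo * Tori.cmat chevE7 = (2 : ℤ) • 1 := by decide +kernel

theorem natAbs_det_of_divisors {D : ChevalleyDatum} {d : Fin D.rank → ℕ} (h : H52.HasDivisors D d) :
    (Tori.cmat D).det.natAbs = ∏ i, d i := by
  obtain ⟨P, P', Q, Q', h1, h2, -, h4⟩ := h
  have hu : ∀ {X Y : Matrix (Fin D.rank) (Fin D.rank) ℤ}, X * Y = 1 → X.det.natAbs = 1 := fun {X Y} h =>
    Nat.eq_one_of_mul_eq_one_right (n := Y.det.natAbs)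
      (by rw [← Int.natAbs_mul, ← Matrix.det_mul, h, Matrix.det_one]; rfl)
  rw [show Matrix.of (fun j i : Fin D.rank => D.cartan i.val (D.simple j.val)) = (Tori.cmat D)ᵀ from rfl] at h4
  have h5 := congrArg (fun X => X.det.natAbs) h4
  simp only [Matrix.det_mul, Int.natAbs_mul, Matrix.det_transpose, hu h2, hu (mul_eq_one_comm.1 h1), one_mul,
    mul_one, Matrix.det_diagonal] at h5
  rw [h5, ← Nat.cast_prod, Int.natAbs_natCast]

theorem prod_divisors7 : (∏ i : Fin 7, (![1, 1, 1, 1, 1, 1, 2] : Fin 7 → ℕ) i) = 2 := by decide +kernel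

theorem det_cmat7 : (Tori.cmat chevE7).det.natAbs = 2 :=
  (natAbs_det_of_divisors H52.divisorsE7).trans prod_divisors7

theorem crt_eq_co : ∀ r, r < 126 → ∀ i, i < 7 → H52.crt chevE7 r i = H52.tablesE7.co r i := by decide +kernel

theorem eps_neg : ∀ r, r < 126 → ∀ i, i < 7 →
    H52.tablesE7.eps i r * H52.tablesE7.eps i (chevE7.neg r) = 1 := by decide +kernel

/-- The first six values of a root on the fundamental coroots. -/
def wRow (r : ℕ) : List ℤ := (List.range 6).map fun j =>
  ((List.range 7).map fun i => H52.tablesE7.co r i * chevE7.cartan i (chevE7.simple j)).sum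

theorem cmat_entry : ∀ i j : Fin chevE7.rank,
    Tori.cmat chevE7 i j = chevE7.cartan i.val (chevE7.simple j.val) := fun _ _ => rfl

/-- Check the kind of one root. -/
def kindOK (r : ℕ) : Bool :=
  if H52.tablesE7.co r 6 == 0 then
    rootForms.contains (wRow r) || rootForms.contains ((wRow r).map fun x => -x)
  else wtIdx.contains r || wtIdx.contains (chevE7.neg r)

theorem kindOK_all : ∀ r, r < 126 → kindOK r = true := by decide +kernel

theorem wts_eq : wtIdx.map wRow = wts := by decide +kernel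

theorem wtIdx_pos : ∀ r ∈ wtIdx, 63 ≤ r ∧ r < 126 ∧ H52.tablesE7.co r 6 = 1 := by decide +kernel

theorem wtIdx_nodup : wtIdx.Nodup ∧ wts.Nodup := by decide +kernel

/-- Check that two orthogonal roots of the list, or their negatives, commute. -/
def orthOK (r s : ℕ) : Bool :=
  let b := ((List.range 7).map fun i => H52.tablesE7.co r i * chevE7.cartan i s).sum
  b != 0 || ((chevE7.commTerms r s).isEmpty && (chevE7.commTerms r (chevE7.neg s)).isEmpty &&
    (chevE7.commTerms (chevE7.neg r) s).isEmpty &&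
    (chevE7.commTerms (chevE7.neg r) (chevE7.neg s)).isEmpty)

theorem orthOK_all : ∀ r ∈ wtIdx, ∀ s ∈ wtIdx, orthOK r s = true := by decide +kernel

theorem card_group_E7 {F : Type*} [Field F] [Fintype F] :
    Nat.gcd (Fintype.card F - 1) 2 * Nat.card ↥(chevE7.group F) = Fintype.card F ^ (chevE7.nroots / 2) *
      (([2, 6, 8, 10, 12, 14, 18] : List ℕ).map fun e => Fintype.card F ^ e - 1).prod := by
  have h := H52.e7_card (F := F) H52.divisorsE7
  have hp : (∏ i : Fin 7, (Fintype.card F - 1).gcd (![1, 1, 1, 1, 1, 1, 2] i)) =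
      Nat.gcd (Fintype.card F - 1) 2 := by simp [Fin.prod_univ_succ]
  exact (congrArg (· * Nat.card ↥(chevE7.group F)) hp).symm.trans h

theorem stTorus_injective7 {F : Type*} [Field F] :
    Function.Injective (H53.stTorus (F := F) C7.hC C7.W H53.pairsE7) := by
  obtain ⟨TE, hE⟩ := H52.checked_of_mem (D := chevE8) (by simp)
  exact H53.stTorus_injective_of_emb C7.hC hE H53.e7InE8_ok C7.W H53.pairsE7
    (H53.torus_injective_of_divisors hE H52.divisorsE8 H53.divE8_one)

end H34.E7Cox

namespace H34.E7Cox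

open E6Cox (rootForms wts wtIdx)

/-- The inner product of two roots. -/
def bForm (r s : ℕ) : ℤ := ((List.range 7).map fun i => H52.tablesE7.co r i * chevE7.cartan i s).sum

/-- Check one pair of weights lying in a zero-sum triple. -/
def triOK (r s : ℕ) : Bool :=
  bForm r s == 0 || wtIdx.all fun t =>
    List.zipWith (· + ·) (List.zipWith (· + ·) (wRow r) (wRow s)) (wRow t) != [0, 0, 0, 0, 0, 0]

theorem triOK_all : ∀ r ∈ wtIdx, ∀ s ∈ wtIdx, triOK r s = true := by decide +kernel

theorem wts_ne_zero : ∀ r ∈ wtIdx, wRow r ≠ [0, 0, 0, 0, 0, 0] := by decide +kernel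

theorem co_neg_last : ∀ r ∈ wtIdx, H52.tablesE7.co (chevE7.neg r) 6 = -1 := by decide +kernel

theorem rootForms_roots : ∀ y ∈ rootForms, ((List.range 72).any fun r =>
    E6Cox.rowMul (E6Cox.cvL r) ((List.range 6).map fun i => (List.range 6).map fun j =>
      chevE6.cartan i (chevE6.simple j)) == y) = true := by decide +kernel

end H34.E7Cox
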