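import Cfsg.Agent.H34.E7Cox
import Cfsg.Agent.H34.TorusLift

/-!
The twisted element: a Weyl element of the subdiagram E6 times the reflection in one of the three orthogonal
roots; its characteristic polynomial and a basis adapted to it.
-/

set_option autoImplicit false
set_option linter.unusedSectionVars false

open Cfsg.Lie
open Matrix Polynomial

attribute [local irreducible] Cfsg.Lie.chevE6 Cfsg.Lie.chevE7

namespace H34.E7Cox

open E6Cox (C6)
open Tori (bform cov cmat lmat)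

/-- The reflection matrix of a root. -/
def refl (β : Fin chevE7.nroots) : Matrix (Fin chevE7.rank) (Fin chevE7.rank) ℤ :=
  1 - vecMulVec (cov C7 β) (cov C7 β ᵥ* cmat chevE7)

/-- The matrix of the twisted element. -/
def twm (W : List (Fin chevE6.rank)) (β : Fin chevE7.nroots) : Matrix (Fin chevE7.rank) (Fin chevE7.rank) ℤ :=
  lmat C7 (C7.wperm (up W)) * refl β

/-- The dual matrix of the twisted element. -/
def twd (W : List (Fin chevE6.rank)) (β : Fin chevE7.nroots) : Matrix (Fin chevE7.rank) (Fin chevE7.rank) ℤ :=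
  Tori.dmat C7 (C7.wperm (up W)) * (refl β)ᵀ

theorem refl_mulVec (β : Fin chevE7.nroots) (v : Fin chevE7.rank → ℤ) :
    refl β *ᵥ v = v - bform (cov C7 β) v • cov C7 β := by
  rw [refl, Matrix.sub_mulVec, Matrix.one_mulVec, Matrix.vecMulVec_mulVec, bform, Matrix.dotProduct_mulVec,
    op_smul_eq_smul]

theorem bform_comm (u v : Fin chevE7.rank → ℤ) : bform u v = bform v u := by
  rw [bform, bform, Matrix.dotProduct_mulVec, ← Matrix.mulVec_transpose, cmat_symm7, dotProduct_comm]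

theorem bform_self (r : Fin chevE7.nroots) : bform (cov C7 r) (cov C7 r) = 2 := by
  obtain ⟨π, hπ, i, hi⟩ := Tori.exists_conj_simple C7 r
  rw [← hi, ← Tori.lmat_spec C7 hπ, Tori.bform_isom C7 hsym7 hπ, Tori.cov_simple, bform]
  rw [Matrix.mulVec_single_one, single_one_dotProduct]
  show chevE7.cartan i.val (chevE7.simple i.val) = 2
  exact cartan_two i

/-- The hypotheses on the word and the root. -/
structure TData (W : List (Fin chevE6.rank)) (β : Fin chevE7.nroots) : Prop where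
  last_one : cov C7 β last = 1
  cyc : (C7.wperm (up W))⁻¹ ((C7.wperm (up W))⁻¹ ((C7.wperm (up W))⁻¹ β)) = β
  o12 : bform (cov C7 β) (cov C7 ((C7.wperm (up W))⁻¹ β)) = 0
  o13 : bform (cov C7 β) (cov C7 ((C7.wperm (up W))⁻¹ ((C7.wperm (up W))⁻¹ β))) = 0
  o23 : bform (cov C7 ((C7.wperm (up W))⁻¹ β)) (cov C7 ((C7.wperm (up W))⁻¹ ((C7.wperm (up W))⁻¹ β))) = 0
  zero : ∀ r : Fin chevE7.nroots, wr r ᵥ* aeval (lmat C6 (C6.wperm W)) (cyclotomic 3 ℤ) = 0 →
    ∃ s, (s = β ∨ s = (C7.wperm (up W))⁻¹ β ∨ s = (C7.wperm (up W))⁻¹ ((C7.wperm (up W))⁻¹ β)) ∧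
      (r = s ∨ r.val = chevE7.neg s.val)
  wzero : wr β ᵥ* aeval (lmat C6 (C6.wperm W)) (cyclotomic 3 ℤ) = 0
  pol6 : aeval (lmat C6 (C6.wperm W)) E6Cox.pol = 0
  h12 : aeval (lmat C6 (C6.wperm W)) (cyclotomic 12 ℤ) ≠ 0
  hx : ∃ x : Fin chevE6.rank → ℤ, x ≠ 0 ∧ aeval (lmat C6 (C6.wperm W)) (cyclotomic 12 ℤ) *ᵥ x = 0

variable {W : List (Fin chevE6.rank)} {β : Fin chevE7.nroots} (h : TData W β)

/-- The three roots. -/
def broot (W : List (Fin chevE6.rank)) (β : Fin chevE7.nroots) : Fin 3 → Fin chevE7.nroots :=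
  ![β, (C7.wperm (up W))⁻¹ β, (C7.wperm (up W))⁻¹ ((C7.wperm (up W))⁻¹ β)]

include h

theorem bform_broot (i j : Fin 3) :
    bform (cov C7 (broot W β i)) (cov C7 (broot W β j)) = if i = j then 2 else 0 := by
  fin_cases i <;> fin_cases j
  · exact bform_self β
  · exact h.o12
  · exact h.o13
  · exact (bform_comm _ _).trans h.o12
  · exact bform_self _
  · exact h.o23
  · exact (bform_comm _ _).trans h.o13
  · exact (bform_comm _ _).trans h.o23
  · exact bform_self _

theorem perm_broot : C7.wperm (up W) β = broot W β 2 ∧ C7.wperm (up W) (broot W β 1) = β ∧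
    C7.wperm (up W) (broot W β 2) = broot W β 1 := by
  refine ⟨?_, Equiv.apply_symm_apply _ _, Equiv.apply_symm_apply _ _⟩
  conv_lhs => rw [← h.cyc]
  exact Equiv.apply_symm_apply _ _

theorem twm_beta : twm W β *ᵥ cov C7 β = -cov C7 (broot W β 2) ∧
    twm W β *ᵥ cov C7 (broot W β 1) = cov C7 β ∧
    twm W β *ᵥ cov C7 (broot W β 2) = cov C7 (broot W β 1) := by
  have hb := bform_broot h
  obtain ⟨p0, p1, p2⟩ := perm_broot h
  have hW := Tori.wperm_mem_wgrp C7 (up W)
  refine ⟨?_, ?_, ?_⟩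
  · rw [twm, ← Matrix.mulVec_mulVec, refl_mulVec, bform_self, two_smul]
    rw [show cov C7 β - (cov C7 β + cov C7 β) = -cov C7 β by abel, Matrix.mulVec_neg,
      Tori.lmat_spec C7 hW, p0]
  · have := hb 0 1
    simp [broot] at this
    rw [twm, ← Matrix.mulVec_mulVec, refl_mulVec, show bform (cov C7 β) (cov C7 (broot W β 1)) = 0 from h.o12,
      zero_smul, sub_zero, Tori.lmat_spec C7 hW, p1]
  · rw [twm, ← Matrix.mulVec_mulVec, refl_mulVec, show bform (cov C7 β) (cov C7 (broot W β 2)) = 0 from h.o13,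
      zero_smul, sub_zero, Tori.lmat_spec C7 hW, p2]

theorem twm_cube_beta (i : Fin 3) : (twm W β ^ 3) *ᵥ cov C7 (broot W β i) = -cov C7 (broot W β i) := by
  obtain ⟨m0, m1, m2⟩ := twm_beta h
  rw [show (3 : ℕ) = 1 + 1 + 1 from rfl, pow_add, pow_add, pow_one, ← Matrix.mulVec_mulVec,
    ← Matrix.mulVec_mulVec]
  fin_cases i
  · show twm W β *ᵥ (twm W β *ᵥ (twm W β *ᵥ cov C7 β)) = -cov C7 β
    rw [m0, Matrix.mulVec_neg, m2, Matrix.mulVec_neg, m1]
  · show twm W β *ᵥ (twm W β *ᵥ (twm W β *ᵥ cov C7 (broot W β 1))) = -cov C7 (broot W β 1)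
    rw [m1, m0, Matrix.mulVec_neg, m2]
  · show twm W β *ᵥ (twm W β *ᵥ (twm W β *ᵥ cov C7 (broot W β 2))) = -cov C7 (broot W β 2)
    rw [m2, m1, m0]

omit h in
theorem twm_isom (W : List (Fin chevE6.rank)) (β : Fin chevE7.nroots) (u v : Fin chevE7.rank → ℤ) :
    bform (twm W β *ᵥ u) (twm W β *ᵥ v) = bform u v := by
  rw [twm, ← Matrix.mulVec_mulVec, ← Matrix.mulVec_mulVec,
    Tori.bform_isom C7 hsym7 (Tori.wperm_mem_wgrp C7 _), refl_mulVec, refl_mulVec]
  have hs := bform_self β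
  have hc := bform_comm (cov C7 β) u
  simp only [bform, Matrix.mulVec_sub, Matrix.mulVec_smul, sub_dotProduct, dotProduct_sub, smul_dotProduct,
    dotProduct_smul, smul_eq_mul] at hs hc ⊢
  rw [hs, ← hc]
  ring

omit h in
theorem twd_mul_cmat (W : List (Fin chevE6.rank)) (β : Fin chevE7.nroots) :
    twd W β * cmat chevE7 = cmat chevE7 * twm W β := by
  have hA : (refl β)ᵀ * cmat chevE7 = cmat chevE7 * refl β := by
    rw [refl, Matrix.transpose_sub, Matrix.transpose_one, Matrix.transpose_vecMulVec, Matrix.sub_mul,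
      Matrix.mul_sub, Matrix.one_mul, Matrix.mul_one, Matrix.vecMulVec_mul, Matrix.mul_vecMulVec]
    congr 2
    rw [← Matrix.mulVec_transpose, cmat_symm7]
  rw [twd, Matrix.mul_assoc, hA, ← Matrix.mul_assoc, Tori.dmat_mul_cmat C7 hsym7 (Tori.wperm_mem_wgrp C7 _),
    twm, Matrix.mul_assoc]

omit h in
theorem twd_fix (W : List (Fin chevE6.rank)) (β : Fin chevE7.nroots) {N : ℕ} {k : Fin chevE7.rank → ZMod N}
    (hk : k ᵥ* Tori.toZ N (cmat chevE7) = 0) : k ᵥ* Tori.toZ N (twd W β) = k := by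
  rw [twd, Tori.toZ, Matrix.map_mul, ← Matrix.vecMul_vecMul, ← Tori.toZ, ← Tori.toZ,
    Tori.dmat_fix C7 cmat_symm7 (Tori.wperm_mem_wgrp C7 _) hk, refl, Tori.toZ, Matrix.transpose_sub,
    Matrix.transpose_one, Matrix.map_sub _ (map_sub _), Matrix.map_one _ (map_zero _) (map_one _),
    Matrix.vecMul_sub, Matrix.vecMul_one, sub_eq_self]
  funext j
  have hz : ∀ i, (∑ a, k a * ((cmat chevE7 a i : ℤ) : ZMod N)) = 0 := fun i => congrFun hk i
  simp only [Matrix.vecMul, dotProduct, Matrix.map_apply, Matrix.transpose_apply, Matrix.vecMulVec_apply,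
    Int.coe_castRingHom, Int.cast_mul, Int.cast_sum, Pi.zero_apply, Finset.mul_sum]
  rw [Finset.sum_comm]
  refine Finset.sum_eq_zero fun i _ => ?_
  have hsy : ∀ a, cmat chevE7 i a = cmat chevE7 a i := fun a => by
    conv_rhs => rw [← cmat_symm7]
    rfl
  calc ∑ a, k a * (((cov C7 β j : ℤ) : ZMod N) * (((cov C7 β i : ℤ) : ZMod N) * ((cmat chevE7 i a : ℤ) : ZMod N)))
      = (((cov C7 β j : ℤ) : ZMod N) * ((cov C7 β i : ℤ) : ZMod N)) *
          ∑ a, k a * ((cmat chevE7 a i : ℤ) : ZMod N) := by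
        rw [Finset.mul_sum]
        exact Finset.sum_congr rfl fun a _ => by rw [hsy]; ring
    _ = 0 := by rw [hz, mul_zero]

theorem wr_broot_zero (i : Fin 3) :
    wr (broot W β i) ᵥ* aeval (lmat C6 (C6.wperm W)) (cyclotomic 3 ℤ) = 0 := by
  set M := lmat C6 (C6.wperm W)
  have hstep : ∀ r, wr r ᵥ* aeval M (cyclotomic 3 ℤ) = 0 →
      wr ((C7.wperm (up W))⁻¹ r) ᵥ* aeval M (cyclotomic 3 ℤ) = 0 := by
    intro r hr
    have hw : wr ((C7.wperm (up W))⁻¹ r) = wr r ᵥ* M := by
      conv_rhs => rw [← Equiv.apply_symm_apply (C7.wperm (up W)) r]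
      exact (wr_perm W _).symm
    have hc := ((Commute.all (X : ℤ[X]) (cyclotomic 3 ℤ)).map (aeval M)).eq
    rw [aeval_X] at hc
    rw [hw, Matrix.vecMul_vecMul, hc, ← Matrix.vecMul_vecMul, hr, Matrix.zero_vecMul]
  fin_cases i
  exacts [h.wzero, hstep _ h.wzero, hstep _ (hstep _ h.wzero)]

theorem bform_broot_ext (i : Fin 3) {z : Fin chevE6.rank → ℤ}
    (hz : aeval (lmat C6 (C6.wperm W)) (cyclotomic 12 ℤ) *ᵥ z = 0) :
    bform (cov C7 (broot W β i)) (ext z) = 0 := by
  have hy := wr_broot_zero h i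
  set M := lmat C6 (C6.wperm W)
  set y := wr (broot W β i)
  rw [← wr_dot]
  have hid : (cyclotomic 12 ℤ) * X = -2 + cyclotomic 3 ℤ * (X ^ 3 - X ^ 2 - X + 2) - X + X := by
    rw [E6Cox.cyclo12_eq, cyclotomic_three]; ring
  have h1 : y ᵥ* aeval M (cyclotomic 12 ℤ * X) = (-2 : ℤ) • y := by
    rw [hid, sub_add_cancel, map_add, map_mul, Matrix.vecMul_add, ← Matrix.vecMul_vecMul, hy, Matrix.zero_vecMul,
      add_zero, map_neg, map_ofNat, Matrix.vecMul_neg, show (2 : Matrix (Fin chevE6.rank) (Fin chevE6.rank) ℤ) =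
        1 + 1 from one_add_one_eq_two.symm, Matrix.vecMul_add, Matrix.vecMul_one, neg_smul, two_smul]
  have h2 : ((-2 : ℤ) • y) ⬝ᵥ z = 0 := by
    rw [← h1, mul_comm, map_mul, ← Matrix.vecMul_vecMul, ← Matrix.dotProduct_mulVec, hz, dotProduct_zero]
  rw [smul_dotProduct, smul_eq_mul] at h2
  show y ⬝ᵥ z = 0
  omega

omit h in
theorem pow_ker {M : Matrix (Fin chevE6.rank) (Fin chevE6.rank) ℤ} {P : ℤ[X]} {x : Fin chevE6.rank → ℤ}
    (hx : aeval M P *ᵥ x = 0) (k : ℕ) : aeval M P *ᵥ ((M ^ k) *ᵥ x) = 0 := by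
  rw [Matrix.mulVec_mulVec, ← aeval_X_pow (R := ℤ) M, ← map_mul, mul_comm, map_mul, ← Matrix.mulVec_mulVec, hx,
    Matrix.mulVec_zero]

theorem twm_ext {z : Fin chevE6.rank → ℤ} (hz : aeval (lmat C6 (C6.wperm W)) (cyclotomic 12 ℤ) *ᵥ z = 0) :
    twm W β *ᵥ ext z = ext (lmat C6 (C6.wperm W) *ᵥ z) := by
  rw [twm, ← Matrix.mulVec_mulVec, refl_mulVec,
    show bform (cov C7 β) (ext z) = 0 from bform_broot_ext h 0 hz, zero_smul, sub_zero, lmat_ext]

theorem twm_pow_ext {z : Fin chevE6.rank → ℤ} (hz : aeval (lmat C6 (C6.wperm W)) (cyclotomic 12 ℤ) *ᵥ z = 0)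
    (k : ℕ) : (twm W β ^ k) *ᵥ ext z = ext ((lmat C6 (C6.wperm W) ^ k) *ᵥ z) := by
  induction k with
  | zero => simp
  | succ k ih =>
    rw [pow_succ', pow_succ', ← Matrix.mulVec_mulVec, ih, twm_ext h (pow_ker hz k), Matrix.mulVec_mulVec]

/-- A functional killing the four vectors and the three roots is zero. -/
theorem eq_zero_of_perp {x : Fin chevE6.rank → ℤ} (hx0 : x ≠ 0)
    (hx : aeval (lmat C6 (C6.wperm W)) (cyclotomic 12 ℤ) *ᵥ x = 0) {y : Fin chevE7.rank → ℤ}
    (h1 : ∀ k, k < 4 → y ⬝ᵥ ext ((lmat C6 (C6.wperm W) ^ k) *ᵥ x) = 0)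
    (h2 : ∀ i, y ⬝ᵥ cov C7 (broot W β i) = 0) : y = 0 := by
  classical
  set M := lmat C6 (C6.wperm W)
  let cq : ∀ {n : ℕ}, (Fin n → ℤ) → (Fin n → ℚ) := fun v i => (v i : ℚ)
  let vecs : Fin 4 ⊕ Fin 3 → (Fin chevE7.rank → ℤ) :=
    Sum.elim (fun k => ext ((M ^ (k : ℕ)) *ᵥ x)) (fun i => cov C7 (broot W β i))
  have hdot : ∀ (a : Fin 4 ⊕ Fin 3 → ℚ) (u : Fin chevE7.rank → ℤ),
      cq u ⬝ᵥ (∑ p, a p • cq (vecs p)) = ∑ p, a p * ((u ⬝ᵥ vecs p : ℤ) : ℚ) := by
    intro a u
    rw [dotProduct_sum]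
    refine Finset.sum_congr rfl fun p _ => ?_
    rw [dotProduct_smul, smul_eq_mul]
    congr 1
    simp [cq, dotProduct]
  have hli : LinearIndependent ℚ fun p => cq (vecs p) := by
    rw [Fintype.linearIndependent_iff]
    intro a ha
    have hb : ∀ j, a (Sum.inr j) = 0 := by
      intro j
      have h3 := hdot a (cov C7 (broot W β j) ᵥ* cmat chevE7)
      rw [ha, dotProduct_zero, Fintype.sum_sum_type] at h3
      have e1 : ∀ k : Fin 4, (cov C7 (broot W β j) ᵥ* cmat chevE7) ⬝ᵥ vecs (Sum.inl k) = 0 := fun k => by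
        rw [← Matrix.dotProduct_mulVec]
        exact bform_broot_ext h j (pow_ker hx k)
      have e2 : ∀ i, (cov C7 (broot W β j) ᵥ* cmat chevE7) ⬝ᵥ vecs (Sum.inr i) = if j = i then 2 else 0 :=
        fun i => by rw [← Matrix.dotProduct_mulVec]; exact bform_broot h j i
      simp only [e1, e2, Int.cast_zero, mul_zero, Finset.sum_const_zero, zero_add, Int.cast_ite, Int.cast_ofNat,
        mul_ite, Finset.sum_ite_eq, Finset.mem_univ, if_true] at h3
      linarith
    have hsum : ∀ j : Fin chevE7.rank, ∑ k : Fin 4, a (Sum.inl k) * (vecs (Sum.inl k) j : ℚ) = 0 := by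
      intro j
      have := congrFun ha j
      simp only [Fintype.sum_sum_type, hb, Finset.sum_apply, Pi.add_apply,
        Pi.smul_apply, smul_eq_mul, Pi.zero_apply, zero_mul, Finset.sum_const_zero, add_zero] at this
      exact this
    have hxq : cq x ≠ 0 := fun e => hx0 (funext fun i => Int.cast_eq_zero.1 (congrFun e i))
    have hkq : aeval (Tori.toQ M) (cyclotomic 12 ℚ) *ᵥ cq x = 0 := by
      funext i
      rw [← map_cyclotomic 12 (Int.castRingHom ℚ), Tori.aeval_toQ]
      have := congrArg (Int.cast : ℤ → ℚ) (congrFun hx i)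
      simp [cq, Tori.toQ, Matrix.mulVec, dotProduct] at this ⊢
      exact this
    have li := Fintype.linearIndependent_iff.1
      (Tori.indep_of_irreducible (cyclotomic.irreducible_rat (n := 12) (by norm_num)) hxq hkq)
    have hdeg : (cyclotomic 12 ℚ).natDegree = 4 := by rw [natDegree_cyclotomic]; decide
    have hinl := li (fun k => a (Sum.inl (Fin.cast hdeg k))) (by
      funext i
      rw [Finset.sum_apply, Pi.zero_apply]
      rw [← hsum (inc i)]
      refine Fintype.sum_equiv (finCongr hdeg) _ _ fun k => ?_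
      rw [Pi.smul_apply, smul_eq_mul, finCongr_apply]
      congr 1
      show _ = ((ext ((M ^ ((Fin.cast hdeg k) : ℕ)) *ᵥ x) (inc i) : ℤ) : ℚ)
      rw [ext_inc, Tori.toQ, ← Matrix.map_pow]
      simp [cq, Matrix.mulVec, dotProduct])
    rintro (k | i)
    · have := hinl (Fin.cast hdeg.symm k)
      simpa using this
    · exact hb i
  have hspan := hli.span_eq_top_of_card_eq_finrank' (by
    rw [Fintype.card_sum, Fintype.card_fin, Fintype.card_fin, Module.finrank_fin_fun, rank_seven])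
  have hq : cq y = 0 := by
    refine dotProduct_eq_zero _ fun v => ?_
    have hv : v ∈ LinearMap.ker (dotProductBilin ℚ ℚ (cq y)) := by
      refine (show (⊤ : Submodule ℚ _) ≤ _ from ?_) Submodule.mem_top
      rw [← hspan, Submodule.span_le]
      rintro _ ⟨p, rfl⟩
      rw [SetLike.mem_coe, LinearMap.mem_ker, dotProductBilin_apply_apply]
      have h0 : y ⬝ᵥ vecs p = 0 := by
        rcases p with k | i
        exacts [h1 k k.isLt, h2 i]
      have := congrArg (Int.cast : ℤ → ℚ) h0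
      simpa [cq, dotProduct] using this
    simpa [LinearMap.mem_ker, dotProductBilin_apply_apply] using hv
  exact funext fun i => Int.cast_eq_zero.1 (congrFun hq i)

theorem eq_zero_of_orth {x : Fin chevE6.rank → ℤ} (hx0 : x ≠ 0)
    (hx : aeval (lmat C6 (C6.wperm W)) (cyclotomic 12 ℤ) *ᵥ x = 0) {w : Fin chevE7.rank → ℤ}
    (h1 : ∀ k, k < 4 → bform w (ext ((lmat C6 (C6.wperm W) ^ k) *ᵥ x)) = 0)
    (h2 : ∀ i, bform w (cov C7 (broot W β i)) = 0) : w = 0 := by
  have h0 := eq_zero_of_perp h hx0 hx (y := w ᵥ* cmat chevE7)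
    (fun k hk => by rw [← Matrix.dotProduct_mulVec]; exact h1 k hk)
    (fun i => by rw [← Matrix.dotProduct_mulVec]; exact h2 i)
  have h3 := congrArg (fun z => z ᵥ* invTwo) h0
  simp only [Matrix.vecMul_vecMul, cmat_invTwo, Matrix.vecMul_smul, Matrix.vecMul_one, Matrix.zero_vecMul] at h3
  exact (smul_eq_zero.1 h3).resolve_left two_ne_zero

/-- Twice the image of the twelfth cyclotomic value lies in the span of the roots. -/
theorem decomp (v : Fin chevE7.rank → ℤ) : ∃ c : Fin 3 → ℤ,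
    (2 : ℤ) • (aeval (twm W β) (cyclotomic 12 ℤ) *ᵥ v) =
      ∑ i, c i • (aeval (twm W β) (cyclotomic 12 ℤ) *ᵥ cov C7 (broot W β i)) := by
  set M := twm W β with hM
  set v' := (2 : ℤ) • v - ∑ i, bform (cov C7 (broot W β i)) v • cov C7 (broot W β i) with hv'
  have ho : ∀ i, bform v' (cov C7 (broot W β i)) = 0 := by
    intro j
    have hexp : bform v' (cov C7 (broot W β j)) = 2 * bform v (cov C7 (broot W β j)) -
        ∑ i, bform (cov C7 (broot W β i)) v * bform (cov C7 (broot W β i)) (cov C7 (broot W β j)) := by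
      rw [hv', bform, sub_dotProduct, smul_dotProduct, sum_dotProduct]
      simp only [smul_dotProduct, smul_eq_mul]
      rfl
    rw [hexp]
    simp only [bform_broot h, mul_ite, mul_zero, Finset.sum_ite_eq', Finset.mem_univ, if_true]
    rw [bform_comm v]
    ring
  have hk : ∀ (k : ℕ) i, bform ((M ^ k) *ᵥ v') (cov C7 (broot W β i)) = 0 := by
    intro k
    induction k with
    | zero => simpa using ho
    | succ k ih =>
      obtain ⟨m0, m1, m2⟩ := twm_beta h
      intro i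
      rw [pow_succ', ← Matrix.mulVec_mulVec]
      fin_cases i
      · have := ih 1
        rw [← twm_isom W β, m1] at this
        exact this
      · have := ih 2
        rw [← twm_isom W β, m2] at this
        exact this
      · have := ih 0
        rw [← twm_isom W β, show cov C7 (broot W β 0) = cov C7 β from rfl, m0] at this
        simpa [bform, Matrix.mulVec_neg, dotProduct_neg] using this
  obtain ⟨x, hx0, hx⟩ := h.hx
  have hpow : ∀ (k : ℕ) a b, bform ((M ^ k) *ᵥ a) ((M ^ k) *ᵥ b) = bform a b := by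
    intro k
    induction k with
    | zero => simp
    | succ k ih =>
      intro a b
      rw [pow_succ', ← Matrix.mulVec_mulVec, ← Matrix.mulVec_mulVec, hM, twm_isom, ← hM, ih]
  have hzero : aeval M (cyclotomic 12 ℤ) *ᵥ v' = 0 := by
    refine eq_zero_of_orth h hx0 hx (fun k _ => ?_) (fun i => ?_)
    · set z := (lmat C6 (C6.wperm W) ^ k) *ᵥ x
      have hz := pow_ker hx k
      have h4 : ∀ j, (M ^ j) *ᵥ ext z = ext ((lmat C6 (C6.wperm W) ^ j) *ᵥ z) := twm_pow_ext h hz
      have hc : (lmat C6 (C6.wperm W) ^ 4) *ᵥ z - (lmat C6 (C6.wperm W) ^ 2) *ᵥ z + z = 0 := by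
        rw [E6Cox.cyclo12_eq] at hz
        simp only [map_add, map_sub, map_pow, aeval_X, map_one, Matrix.add_mulVec, Matrix.sub_mulVec,
          Matrix.one_mulVec] at hz
        exact hz
      have h12' : (M ^ 4) *ᵥ ext z = (M ^ 2) *ᵥ ext z - ext z := by
        funext j
        rw [h4, h4, Pi.sub_apply]
        rcases eq_inc_or_last j with ⟨i, rfl⟩ | rfl
        · rw [ext_inc, ext_inc, ext_inc]
          have := congrFun hc i
          simp only [Pi.add_apply, Pi.sub_apply, Pi.zero_apply] at this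
          linarith
        · simp [ext_last]
      have h12p : ∀ j, (M ^ (j + 4)) *ᵥ ext z = (M ^ (j + 2)) *ᵥ ext z - (M ^ j) *ᵥ ext z := fun j => by
        rw [pow_add, ← Matrix.mulVec_mulVec, h12', Matrix.mulVec_sub, Matrix.mulVec_mulVec, ← pow_add]
      have h6 : (M ^ 6) *ᵥ ext z = -ext z := by
        rw [show 6 = 2 + 4 from rfl, h12p 2, show 2 + 2 = 4 from rfl, h12']; abel
      have h12'' : (M ^ 12) *ᵥ ext z = ext z := by
        rw [show 12 = 6 + 6 from rfl, pow_add, ← Matrix.mulVec_mulVec, h6, Matrix.mulVec_neg, h6, neg_neg]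
      rw [E6Cox.cyclo12_eq]
      simp only [map_add, map_sub, map_pow, aeval_X, map_one, Matrix.add_mulVec, Matrix.sub_mulVec,
        Matrix.one_mulVec]
      have hb : bform ((M ^ 4) *ᵥ v' - (M ^ 2) *ᵥ v' + v') (ext z) =
          bform v' ((M ^ 8) *ᵥ ext z - (M ^ 10) *ᵥ ext z + (M ^ 12) *ᵥ ext z) := by
        have e4 : bform ((M ^ 4) *ᵥ v') (ext z) = bform v' ((M ^ 8) *ᵥ ext z) := by
          conv_lhs => rw [← h12'', show 12 = 4 + 8 from rfl, pow_add, ← Matrix.mulVec_mulVec, hpow]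
        have e2 : bform ((M ^ 2) *ᵥ v') (ext z) = bform v' ((M ^ 10) *ᵥ ext z) := by
          conv_lhs => rw [← h12'', show 12 = 2 + 10 from rfl, pow_add, ← Matrix.mulVec_mulVec, hpow]
        have e0 : bform v' (ext z) = bform v' ((M ^ 12) *ᵥ ext z) := by rw [h12'']
        simp only [bform, add_dotProduct, sub_dotProduct, Matrix.mulVec_add, Matrix.mulVec_sub, dotProduct_add,
          dotProduct_sub] at e4 e2 e0 ⊢
        rw [e4, e2, e0]
      rw [hb, show 12 = 8 + 4 from rfl, h12p 8, show 8 + 2 = 10 from rfl]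
      simp [bform]
    · rw [E6Cox.cyclo12_eq]
      simp only [map_add, map_sub, map_pow, aeval_X, map_one, Matrix.add_mulVec, Matrix.sub_mulVec,
        Matrix.one_mulVec]
      have e4 := hk 4 i
      have e2 := hk 2 i
      have e0 := ho i
      simp only [bform, add_dotProduct, sub_dotProduct] at e4 e2 e0 ⊢
      rw [e4, e2, e0]; ring
  refine ⟨fun i => bform (cov C7 (broot W β i)) v, ?_⟩
  rw [hv', Matrix.mulVec_sub, sub_eq_zero, Matrix.mulVec_smul, Matrix.mulVec_sum] at hzero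
  rw [hzero]
  exact Finset.sum_congr rfl fun i _ => Matrix.mulVec_smul _ _ _

/-- The characteristic polynomial. -/
theorem charpoly_twm : (twm W β).charpoly = cyclotomic 12 ℤ * (X ^ 3 + 1) := by
  classical
  obtain ⟨x, hx0, hx⟩ := h.hx
  set M := twm W β with hM
  set P : ℤ[X] := cyclotomic 12 ℤ * (X ^ 3 + 1) with hP
  have hP12 : aeval M (cyclotomic 12 ℤ) *ᵥ ext x = 0 := by
    rw [E6Cox.cyclo12_eq] at hx ⊢
    simp only [map_add, map_sub, map_pow, aeval_X, map_one, Matrix.add_mulVec, Matrix.sub_mulVec,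
      Matrix.one_mulVec] at hx ⊢
    rw [twm_pow_ext h (by rw [E6Cox.cyclo12_eq]; simpa [Matrix.add_mulVec, Matrix.sub_mulVec] using hx),
      twm_pow_ext h (by rw [E6Cox.cyclo12_eq]; simpa [Matrix.add_mulVec, Matrix.sub_mulVec] using hx)]
    funext j
    rcases eq_inc_or_last j with ⟨i, rfl⟩ | rfl
    · simpa [ext_inc] using congrFun hx i
    · simp [ext_last]
  have hP3 : ∀ i, aeval M (X ^ 3 + 1 : ℤ[X]) *ᵥ cov C7 (broot W β i) = 0 := fun i => by
    simp [Matrix.add_mulVec, hM, twm_cube_beta h i]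
  have hkill : aeval M P = 0 := by
    ext i j
    have hrow := eq_zero_of_perp h hx0 hx (y := (aeval M P) i) (fun k hk => ?_) (fun a => ?_)
    · rw [hrow]; rfl
    · have : aeval M P *ᵥ ext ((lmat C6 (C6.wperm W) ^ k) *ᵥ x) = 0 := by
        rw [← twm_pow_ext h hx, ← hM, ← aeval_X_pow (R := ℤ) M, Matrix.mulVec_mulVec, ← map_mul,
          show P * X ^ k = (X ^ 3 + 1) * X ^ k * cyclotomic 12 ℤ by ring, map_mul, ← Matrix.mulVec_mulVec, hP12,
          Matrix.mulVec_zero]
      exact congrFun this i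
    · have : aeval M P *ᵥ cov C7 (broot W β a) = 0 := by
        rw [hP, map_mul, ← Matrix.mulVec_mulVec, hP3, Matrix.mulVec_zero]
      exact congrFun this i
  -- the minimal polynomial
  let cq : (Fin chevE7.rank → ℤ) → (Fin chevE7.rank → ℚ) := fun v i => (v i : ℚ)
  have hcmul : ∀ (A : Matrix (Fin chevE7.rank) (Fin chevE7.rank) ℤ) v, cq (A *ᵥ v) = Tori.toQ A *ᵥ cq v :=
    fun A v => by funext i; simp [cq, Tori.toQ, Matrix.mulVec, dotProduct]
  have hq : ∀ (P : ℤ[X]) v, aeval M P *ᵥ v = 0 → aeval (Tori.toQ M) (P.map (Int.castRingHom ℚ)) *ᵥ cq v = 0 := by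
    intro P v hv
    rw [Tori.aeval_toQ, ← hcmul, hv]
    funext i; simp [cq]
  set Q := P.map (Int.castRingHom ℚ) with hQ
  have hmin : minpoly ℚ (Tori.toQ M) ∣ Q := minpoly.dvd ℚ _ (by
    rw [hQ, Tori.aeval_toQ, hkill]; exact Matrix.map_zero _ (map_zero _))
  set μ := minpoly ℚ (Tori.toQ M) with hμ
  have hμv : ∀ v, aeval (Tori.toQ M) μ *ᵥ v = 0 := fun v => by rw [hμ, minpoly.aeval, Matrix.zero_mulVec]
  have hmem : ∀ (R : ℚ[X]) (v : Fin chevE7.rank → ℚ), v ≠ 0 → aeval (Tori.toQ M) R *ᵥ v = 0 → Irreducible R →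
      R ∣ μ := by
    intro R v hv hR hirr
    by_contra hnd
    obtain ⟨a, b, hab⟩ := hirr.coprime_iff_not_dvd.2 hnd
    have := congrArg (fun p => aeval (Tori.toQ M) p *ᵥ v) hab
    simp only [map_add, map_mul, map_one, Matrix.one_mulVec, Matrix.add_mulVec, ← Matrix.mulVec_mulVec, hR,
      hμv, Matrix.mulVec_zero, add_zero] at this
    exact hv this.symm
  have hext0 : cq (ext x) ≠ 0 := fun e => hx0 (funext fun i => by
    have := congrFun e (inc i)
    simpa [cq, ext_inc] using this)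
  have hd12 : cyclotomic 12 ℚ ∣ μ := by
    refine hmem _ _ hext0 ?_ (cyclotomic.irreducible_rat (by norm_num))
    rw [← map_cyclotomic 12 (Int.castRingHom ℚ)]
    exact hq _ _ hP12
  have hsplit : (X ^ 3 + 1 : ℤ[X]) = cyclotomic 6 ℤ * cyclotomic 2 ℤ := by
    rw [cyclotomic_six, cyclotomic_two]; ring
  obtain ⟨m0, m1, m2⟩ := twm_beta h
  rw [← hM] at m0 m1 m2
  have hd6 : cyclotomic 6 ℚ ∣ μ := by
    refine hmem _ (cq (aeval M (cyclotomic 2 ℤ) *ᵥ cov C7 β)) (fun e => ?_) ?_
      (cyclotomic.irreducible_rat (by norm_num))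
    · have e' : aeval M (cyclotomic 2 ℤ) *ᵥ cov C7 β = 0 := funext fun i => Int.cast_eq_zero.1 (congrFun e i)
      rw [cyclotomic_two, map_add, aeval_X, map_one, Matrix.add_mulVec, Matrix.one_mulVec, m0] at e'
      have hb := congrArg (fun w => bform (cov C7 β) w) e'
      simp only [bform, Matrix.mulVec_add, Matrix.mulVec_neg, dotProduct_add, dotProduct_neg, Matrix.mulVec_zero,
        dotProduct_zero] at hb
      have b1 := bform_self β
      have b2 : bform (cov C7 β) (cov C7 (broot W β 2)) = 0 := h.o13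
      simp only [bform] at b1 b2
      omega
    · rw [← map_cyclotomic 6 (Int.castRingHom ℚ)]
      refine hq _ _ ?_
      rw [Matrix.mulVec_mulVec, ← map_mul, ← hsplit]
      exact hP3 0
  have hd2 : cyclotomic 2 ℚ ∣ μ := by
    refine hmem _ (cq (aeval M (cyclotomic 6 ℤ) *ᵥ cov C7 β)) (fun e => ?_) ?_
      (cyclotomic.irreducible_rat (by norm_num))
    · have e' : aeval M (cyclotomic 6 ℤ) *ᵥ cov C7 β = 0 := funext fun i => Int.cast_eq_zero.1 (congrFun e i)
      rw [cyclotomic_six] at e'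
      simp only [map_add, map_sub, map_mul, aeval_X, map_one, sq, Matrix.add_mulVec, Matrix.sub_mulVec,
        ← Matrix.mulVec_mulVec, Matrix.one_mulVec, m0, Matrix.mulVec_neg, m2] at e'
      have hb := congrArg (fun w => bform (cov C7 β) w) e'
      simp only [bform, Matrix.mulVec_add, Matrix.mulVec_sub, Matrix.mulVec_neg, dotProduct_add, dotProduct_sub,
        dotProduct_neg, Matrix.mulVec_zero, dotProduct_zero] at hb
      have b1 := bform_self β
      have b2 : bform (cov C7 β) (cov C7 (broot W β 2)) = 0 := h.o13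
      have b3 : bform (cov C7 β) (cov C7 (broot W β 1)) = 0 := h.o12
      simp only [bform] at b1 b2 b3
      omega
    · rw [← map_cyclotomic 2 (Int.castRingHom ℚ)]
      refine hq _ _ ?_
      rw [Matrix.mulVec_mulVec, ← map_mul, mul_comm, ← hsplit]
      exact hP3 0
  have hdvd : Q ∣ μ := by
    rw [hQ, hP, hsplit, Polynomial.map_mul, Polynomial.map_mul, map_cyclotomic, map_cyclotomic, map_cyclotomic]
    refine (IsCoprime.mul_right (cyclotomic.isCoprime_rat (by norm_num))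
      (cyclotomic.isCoprime_rat (by norm_num))).mul_dvd hd12
      ((cyclotomic.isCoprime_rat (by norm_num)).mul_dvd hd6 hd2)
  have hmon : P.Monic := by
    rw [hP, hsplit]; exact (cyclotomic.monic 12 ℤ).mul ((cyclotomic.monic 6 ℤ).mul (cyclotomic.monic 2 ℤ))
  have hdeg : P.natDegree = 7 := by
    rw [hP, hsplit, (cyclotomic.monic 12 ℤ).natDegree_mul ((cyclotomic.monic 6 ℤ).mul (cyclotomic.monic 2 ℤ)),
      (cyclotomic.monic 6 ℤ).natDegree_mul (cyclotomic.monic 2 ℤ), natDegree_cyclotomic, natDegree_cyclotomic,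
      natDegree_cyclotomic]
    decide
  apply Polynomial.map_injective (Int.castRingHom ℚ) Int.cast_injective
  rw [← Matrix.charpoly_map, ← hQ]
  refine Polynomial.eq_of_monic_of_dvd_of_natDegree_le (hmon.map _) (Matrix.charpoly_monic _)
    (hdvd.trans (Matrix.minpoly_dvd_charpoly _)) ?_
  rw [Matrix.charpoly_natDegree_eq_dim, Fintype.card_fin, hQ, hmon.natDegree_map, hdeg, rank_seven]

end H34.E7Cox
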