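import Cfsg.Agent.H34.E7Spec

/-!
A weight of maximal order solving the twisted equation: it is regular and fixed by no other Weyl element.
-/

set_option autoImplicit false
set_option linter.unusedSectionVars false

open Cfsg.Lie
open Matrix Polynomial

attribute [local irreducible] Cfsg.Lie.chevE6 Cfsg.Lie.chevE7

namespace H34.E7Cox

open E6Cox (C6)
open Tori (bform cov cmat lmat rval)

/-- The order of the full twisted torus. -/
def torN (q : ℕ) : ℕ := (q ^ 4 - q ^ 2 + 1) * (q ^ 3 + 1)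

theorem torN_cast (q : ℕ) : (torN q : ℤ) = ((q : ℤ) ^ 4 - (q : ℤ) ^ 2 + 1) * ((q : ℤ) ^ 3 + 1) := by
  rcases Nat.eq_zero_or_pos q with rfl | hq
  · rfl
  · have h : q ^ 2 ≤ q ^ 4 := Nat.pow_le_pow_right hq (by norm_num)
    rw [torN]
    push_cast [h]
    ring

theorem torN_pos (q : ℕ) : 0 < torN q := Nat.mul_pos (Nat.succ_pos _) (Nat.succ_pos _)

/-- Every reflection matrix comes from a Weyl element. -/
theorem exists_refl (r : Fin chevE7.nroots) : ∃ π ∈ Tori.wgrp C7, lmat C7 π = refl r := by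
  obtain ⟨u, hu, i, rfl⟩ := Tori.exists_conj_simple C7 r
  have hs : C7.W.sigma i ∈ Tori.wgrp C7 := Subgroup.subset_closure ⟨i, rfl⟩
  refine ⟨u * C7.W.sigma i * u⁻¹, mul_mem (mul_mem hu hs) (inv_mem hu), Matrix.ext_iff_mulVec.2 fun v => ?_⟩
  have hUU : lmat C7 u * lmat C7 u⁻¹ = 1 := by rw [← Tori.lmat_mul C7 hu, mul_inv_cancel, Tori.lmat_one]
  rw [Tori.lmat_mul C7 (mul_mem hu hs), Tori.lmat_mul C7 hu, Tori.lmat_sigma, refl_mulVec,
    ← Matrix.mulVec_mulVec, ← Matrix.mulVec_mulVec, Tori.smat_mulVec, Matrix.mulVec_sub, Matrix.mulVec_smul,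
    Matrix.mulVec_mulVec, hUU, Matrix.one_mulVec]
  congr 2
  · rw [show cov C7 (u (Tori.simpleF C7 i)) = lmat C7 u *ᵥ cov C7 (Tori.simpleF C7 i) from
      (Tori.lmat_spec C7 hu _).symm]
    conv_rhs => rw [← Matrix.one_mulVec v, ← hUU, ← Matrix.mulVec_mulVec, Tori.bform_isom C7 hsym7 hu]
    rw [Tori.cov_simple, bform, single_one_dotProduct]
  · rw [← Tori.cov_simple C7, Tori.lmat_spec C7 hu]

/-- The value of a weight on a lattice vector. -/
def ev {N : ℕ} (f : Fin chevE7.rank → ZMod N) (v : Fin chevE7.rank → ℤ) : ZMod N :=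
  f ⬝ᵥ fun j => (v j : ZMod N)

theorem ev_cov {N : ℕ} (f : Fin chevE7.rank → ZMod N) (r : Fin chevE7.nroots) :
    ev f (cov C7 r) = rval C7 f r := rfl

theorem ev_neg {N : ℕ} (f : Fin chevE7.rank → ZMod N) (v : Fin chevE7.rank → ℤ) : ev f (-v) = -ev f v := by
  simp only [ev, dotProduct, Pi.neg_apply, Int.cast_neg, mul_neg, Finset.sum_neg_distrib]

theorem ev_mulVec {N : ℕ} (f : Fin chevE7.rank → ZMod N) (A : Matrix (Fin chevE7.rank) (Fin chevE7.rank) ℤ)
    (v : Fin chevE7.rank → ℤ) : ev f (A *ᵥ v) = ev (f ᵥ* Tori.toZ N A) v := by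
  rw [ev, ev, ← Matrix.dotProduct_mulVec]
  congr 1
  funext j
  simp [Tori.toZ, Matrix.mulVec, dotProduct]

theorem ev_sum {N : ℕ} (f : Fin chevE7.rank → ZMod N) (c : Fin 3 → ℤ) (v : Fin 3 → Fin chevE7.rank → ℤ) :
    ev f (∑ i, c i • v i) = ∑ i, (c i : ZMod N) * ev f (v i) := by
  simp only [ev, dotProduct, Finset.sum_apply, Pi.smul_apply, smul_eq_mul, Int.cast_sum, Int.cast_mul,
    Finset.mul_sum]
  rw [Finset.sum_comm]
  refine Finset.sum_congr rfl fun i _ => Finset.sum_congr rfl fun j _ => ?_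
  ring

theorem ev_smul {N : ℕ} (f : Fin chevE7.rank → ZMod N) (a : ℤ) (v : Fin chevE7.rank → ℤ) :
    ev f (a • v) = (a : ZMod N) * ev f v := by
  simp only [ev, dotProduct, Pi.smul_apply, smul_eq_mul, Int.cast_mul, Finset.mul_sum]
  exact Finset.sum_congr rfl fun j _ => by ring

theorem ev_smul_left {N : ℕ} (c : ZMod N) (f : Fin chevE7.rank → ZMod N) (v : Fin chevE7.rank → ℤ) :
    ev (c • f) v = c * ev f v := smul_dotProduct _ _ _

theorem rval_neg {N : ℕ} (f : Fin chevE7.rank → ZMod N) {r s : Fin chevE7.nroots}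
    (h : r.val = chevE7.neg s.val) : rval C7 f r = -rval C7 f s := by
  rw [← ev_cov, ← ev_cov, ← ev_neg]
  congr 1
  funext j
  rw [Pi.neg_apply]
  exact (congrArg (H52.tablesE7.co · j.val) h).trans (C7.hC.co_neg s.isLt j.isLt)

variable {W : List (Fin chevE6.rank)} {β : Fin chevE7.nroots} (h : TData W β)
include h

theorem broot_last (i : Fin 3) : cov C7 (broot W β i) last = 1 := by
  have hp : ∀ r, cov C7 r last = 1 → cov C7 ((C7.wperm (up W))⁻¹ r) last = 1 := fun r hr => by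
    rw [← hr]
    conv_rhs => rw [← Equiv.apply_symm_apply (C7.wperm (up W)) r]
    exact (co_last_perm W _).symm
  fin_cases i
  exacts [h.last_one, hp _ h.last_one, hp _ (hp _ h.last_one)]

/-- The last coordinate through the three roots. -/
theorem two_mul_last (v : Fin chevE7.rank → ℤ) :
    2 * v last = ∑ i, bform (cov C7 (broot W β i)) v := by
  obtain ⟨x, hx0, hx⟩ := h.hx
  have h0 := eq_zero_of_perp h hx0 hx
    (y := (2 : ℤ) • (Pi.single last 1 : Fin chevE7.rank → ℤ) -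
      ∑ i, cov C7 (broot W β i) ᵥ* cmat chevE7) (fun k _ => ?_) (fun a => ?_)
  · have := congrArg (fun y => y ⬝ᵥ v) h0
    simp only [sub_dotProduct, smul_dotProduct, single_one_dotProduct, sum_dotProduct, zero_dotProduct,
      smul_eq_mul, ← Matrix.dotProduct_mulVec] at this
    rw [sub_eq_zero] at this
    exact this
  · simp only [sub_dotProduct, smul_dotProduct, single_one_dotProduct, sum_dotProduct, ext_last,
      smul_eq_mul, mul_zero, zero_sub, neg_eq_zero, ← Matrix.dotProduct_mulVec]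
    exact Finset.sum_eq_zero fun i _ => bform_broot_ext h i (pow_ker hx k)
  · simp only [sub_dotProduct, smul_dotProduct, single_one_dotProduct, sum_dotProduct, broot_last h,
      smul_eq_mul, ← Matrix.dotProduct_mulVec]
    rw [show ∑ i, cov C7 (broot W β i) ⬝ᵥ cmat chevE7 *ᵥ cov C7 (broot W β a) =
      ∑ i, if i = a then (2 : ℤ) else 0 from Finset.sum_congr rfl fun i _ => bform_broot h i a]
    simp

/-- The kernel of the twelfth cyclotomic value lies in the subdiagram. -/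
theorem ext_of_ker {w : Fin chevE7.rank → ℤ} (hw : aeval (twm W β) (cyclotomic 12 ℤ) *ᵥ w = 0) :
    ∃ z, aeval (lmat C6 (C6.wperm W)) (cyclotomic 12 ℤ) *ᵥ z = 0 ∧
      ∀ k : ℕ, (twm W β ^ k) *ᵥ w = ext ((lmat C6 (C6.wperm W) ^ k) *ᵥ z) := by
  set M := twm W β with hM
  have hker : ∀ k : ℕ, aeval M (cyclotomic 12 ℤ) *ᵥ ((M ^ k) *ᵥ w) = 0 := fun k => by
    rw [Matrix.mulVec_mulVec, ← aeval_X_pow (R := ℤ) M, ← map_mul, mul_comm, map_mul, ← Matrix.mulVec_mulVec, hw,
      Matrix.mulVec_zero]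
  have hsix : ∀ k : ℕ, (M ^ 6) *ᵥ ((M ^ k) *ᵥ w) = -((M ^ k) *ᵥ w) := fun k => by
    have h1 := congrArg (fun v => aeval M ((X : ℤ[X]) ^ 2 + 1) *ᵥ v) (hker k)
    simp only [Matrix.mulVec_zero] at h1
    rw [Matrix.mulVec_mulVec, ← map_mul, E6Cox.cyclo12_eq,
      show ((X : ℤ[X]) ^ 2 + 1) * (X ^ 4 - X ^ 2 + 1) = X ^ 6 + 1 by ring] at h1
    simp only [map_add, map_pow, aeval_X, map_one, Matrix.add_mulVec, Matrix.one_mulVec] at h1
    exact eq_neg_of_add_eq_zero_left h1
  have hflip : ∀ (i : Fin 3) v, bform (cov C7 (broot W β i)) ((M ^ 3) *ᵥ v) = -bform (cov C7 (broot W β i)) v := by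
    intro i v
    have h3 : ∀ a b, bform ((M ^ 3) *ᵥ a) ((M ^ 3) *ᵥ b) = bform a b := fun a b => by
      rw [show (3 : ℕ) = 1 + 1 + 1 from rfl, pow_add, pow_add, pow_one, ← Matrix.mulVec_mulVec,
        ← Matrix.mulVec_mulVec, ← Matrix.mulVec_mulVec, ← Matrix.mulVec_mulVec, hM, twm_isom, twm_isom, twm_isom]
    have := h3 (cov C7 (broot W β i)) v
    rw [twm_cube_beta h i] at this
    rw [← this]
    simp [bform, neg_dotProduct]
  have horth : ∀ (k : ℕ) i, bform (cov C7 (broot W β i)) ((M ^ k) *ᵥ w) = 0 := fun k i => by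
    have h1 := hflip i ((M ^ 3) *ᵥ ((M ^ k) *ᵥ w))
    rw [Matrix.mulVec_mulVec _ (M ^ 3) (M ^ 3), ← pow_add, hsix, hflip i, neg_neg] at h1
    simp only [bform, Matrix.mulVec_neg, dotProduct_neg] at h1 ⊢
    omega
  have hz : ∀ k : ℕ, ext (fun i => ((M ^ k) *ᵥ w) (inc i)) = (M ^ k) *ᵥ w := fun k => by
    funext j
    rcases eq_inc_or_last j with ⟨i, rfl⟩ | rfl
    · rw [ext_inc]
    · rw [ext_last]
      have h2 := two_mul_last h ((M ^ k) *ᵥ w)
      rw [Finset.sum_eq_zero fun i _ => horth k i] at h2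
      omega
  set z := fun i => w (inc i) with hzdef
  have hzk : ∀ k : ℕ, (M ^ k) *ᵥ w = ext ((lmat C6 (C6.wperm W) ^ k) *ᵥ z) := by
    intro k
    induction k with
    | zero =>
      have := hz 0
      simp only [pow_zero, Matrix.one_mulVec] at this ⊢
      exact this.symm
    | succ k ih =>
      have h0 : bform (cov C7 β) ((M ^ k) *ᵥ w) = 0 := horth k 0
      rw [pow_succ', ← Matrix.mulVec_mulVec, hM, twm, ← Matrix.mulVec_mulVec, refl_mulVec, ← twm, ← hM, h0,
        zero_smul, sub_zero, ih, lmat_ext, pow_succ', Matrix.mulVec_mulVec]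
  refine ⟨z, ?_, hzk⟩
  funext i
  have h1 := congrFun hw (inc i)
  rw [E6Cox.cyclo12_eq] at h1 ⊢
  simp only [map_add, map_sub, map_pow, aeval_X, map_one, Matrix.add_mulVec, Matrix.sub_mulVec,
    Matrix.one_mulVec, Pi.add_apply, Pi.sub_apply, Pi.zero_apply, hzk, ext_inc] at h1 ⊢
  exact h1

omit h in
theorem small_ne (q : ℕ) (hq : 2 ≤ q) (x : ℤ)
    (hx : x = 2 ∨ x = 2 * q ∨ x = 2 * q ^ 2 ∨ x = q + 1 ∨ x = q - 1 ∨ x = q ^ 2 + 1 ∨ x = q ^ 2 - 1 ∨
      x = q ^ 2 + q ∨ x = q ^ 2 - q) : ¬ ((q : ℤ) ^ 3 + 1) ∣ 4 * x := by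
  intro hd
  by_cases h9 : q < 9
  · interval_cases q <;> (rcases hx with rfl | rfl | rfl | rfl | rfl | rfl | rfl | rfl | rfl <;> revert hd <;> decide)
  · have hq9 : (9 : ℤ) ≤ q := by exact_mod_cast Nat.le_of_not_lt h9
    have hpos : 0 < 4 * x := by
      rcases hx with rfl | rfl | rfl | rfl | rfl | rfl | rfl | rfl | rfl <;> nlinarith
    have hle := Int.le_of_dvd hpos hd
    have h2 : 9 * (q : ℤ) ≤ (q : ℤ) ^ 2 := by nlinarith
    have h3 : 9 * (q : ℤ) ^ 2 ≤ (q : ℤ) ^ 3 := by nlinarith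
    rcases hx with rfl | rfl | rfl | rfl | rfl | rfl | rfl | rfl | rfl <;> nlinarith

/-- A weight of maximal order is regular and has trivial stabiliser. -/
theorem weight_data {q : ℕ} (hq : 2 ≤ q) {ℓ : ℕ} (hl : ℓ.Prime) (hl12 : 12 < ℓ)
    (hprim : IsPrimitiveRoot ((q : ℤ) : ZMod ℓ) 12) {N : ℕ} [NeZero N] {f : Fin chevE7.rank → ZMod N}
    (hf : f ᵥ* Tori.toZ N (twm W β) = ((q : ℤ) : ZMod N) • f) {g : ℕ} (hg : g = 1 ∨ g = 2)
    (hord : addOrderOf f * g = torN q) :
    (∀ r, rval C7 f r ≠ 0) ∧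
      ∀ π ∈ Tori.wgrp C7, (∀ r, rval C7 f (π r) = rval C7 f r) → π = 1 := by
  classical
  set M := twm W β with hM
  set m := addOrderOf f with hm
  have := Fact.mk hl
  obtain ⟨π₁, hπ₁, hπ₁M⟩ := exists_refl β
  set π₀ := C7.wperm (up W) * π₁
  have hπ₀ : π₀ ∈ Tori.wgrp C7 := mul_mem (Tori.wperm_mem_wgrp C7 _) hπ₁
  have hπ₀M : lmat C7 π₀ = M := by
    rw [Tori.lmat_mul C7 (Tori.wperm_mem_wgrp C7 _), hπ₁M]; rfl
  obtain ⟨e0, e1, e2⟩ := twm_beta h
  rw [← hM] at e0 e1 e2
  set a := rval C7 f β with ha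
  have hev : ∀ v, ev f (M *ᵥ v) = ((q : ℤ) : ZMod N) * ev f v := fun v => by
    rw [ev_mulVec, hf, ev_smul_left]
  have v2 : rval C7 f (broot W β 2) = -(((q : ℤ) : ZMod N) * a) := by
    have := hev (cov C7 β)
    rw [e0, ev_neg, ev_cov, ev_cov] at this
    rw [ha, ← this, neg_neg]
  have v1 : rval C7 f (broot W β 1) = -(((q : ℤ) : ZMod N) ^ 2 * a) := by
    have := hev (cov C7 (broot W β 2))
    rw [e2, ev_cov, ev_cov] at this
    rw [this, v2]; ring
  have hA : (((q : ℤ) : ZMod N) ^ 3 + 1) * a = 0 := by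
    have := hev (cov C7 (broot W β 1))
    rw [e1, ev_cov, ev_cov, ← ha, v1] at this
    linear_combination this
  simp only [Int.cast_natCast] at v1 v2 hA
  -- the multiple of order `ℓ`
  have hzl : ((q : ℤ) : ZMod ℓ) ^ 6 ≠ 1 := fun e => by
    have := hprim.dvd_of_pow_eq_one 6 e
    omega
  have hlm : ℓ ∣ m := by
    have hd : ℓ ∣ torN q := by
      rw [← ZMod.natCast_eq_zero_iff, ← Int.cast_natCast (R := ZMod ℓ), torN_cast]
      have h12 : NeZero ((12 : ℕ) : ZMod ℓ) := ⟨fun e => by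
        have := Nat.le_of_dvd (by norm_num) ((ZMod.natCast_eq_zero_iff _ _).1 e)
        omega⟩
      have hr := isRoot_cyclotomic_iff.2 hprim
      rw [IsRoot, ← map_cyclotomic 12 (Int.castRingHom (ZMod ℓ)), Polynomial.eval_intCast_map,
        E6Cox.cyclo12_eq] at hr
      simp at hr
      push_cast
      linear_combination ((q : ZMod ℓ) ^ 3 + 1) * hr
    rw [← hord] at hd
    refine (hl.dvd_mul.1 hd).resolve_right fun h2 => ?_
    have := Nat.le_of_dvd (by omega) h2
    omega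
  set fl := ((m / ℓ : ℕ) : ZMod N) • f with hfl
  have hlfl : ℓ • fl = 0 := by
    rw [hfl, ← Nat.cast_smul_eq_nsmul (ZMod N), smul_smul, ← Nat.cast_mul, Nat.mul_div_cancel' hlm,
      Nat.cast_smul_eq_nsmul, addOrderOf_nsmul_eq_zero]
  have hm0 : 0 < m := addOrderOf_pos f
  have hfl0 : fl ≠ 0 := by
    intro e
    rw [hfl, Nat.cast_smul_eq_nsmul, ← addOrderOf_dvd_iff_nsmul_eq_zero, ← hm] at e
    have hlt := Nat.div_lt_self hm0 hl.one_lt
    have := Nat.le_of_dvd (Nat.div_pos (Nat.le_of_dvd hm0 hlm) hl.pos) e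
    omega
  have hflM : fl ᵥ* Tori.toZ N (lmat C7 π₀) = ((q : ℤ) : ZMod N) • fl := by
    rw [hπ₀M, hfl, Matrix.smul_vecMul, hf, smul_comm]
  have hlv : ∀ v, (ℓ : ZMod N) * ev fl v = 0 := fun v => by
    rw [← ev_smul_left, Nat.cast_smul_eq_nsmul, hlfl]
    exact zero_dotProduct _
  have hkill : ∀ (n : ℤ), ¬ (ℓ : ℤ) ∣ n → ∀ x : ZMod N, (ℓ : ZMod N) * x = 0 → (n : ZMod N) * x = 0 → x = 0 := by
    intro n hn x h1 h2
    refine congrFun (Tori.eq_zero_of_smul (r := 1) hl (f := fun _ => x) ?_ hn ?_) 0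
    · funext _; simpa [nsmul_eq_mul] using h1
    · funext _; simpa using h2
  have hq31 : ¬ (ℓ : ℤ) ∣ (q : ℤ) ^ 3 + 1 := fun hd => hzl (by
    have h1 := (ZMod.intCast_zmod_eq_zero_iff_dvd _ _).2 hd
    push_cast at h1
    push_cast
    linear_combination ((q : ZMod ℓ) ^ 3 - 1) * h1)
  have hflb : ∀ i, rval C7 fl (broot W β i) = 0 := by
    have h0 : ((m / ℓ : ℕ) : ZMod N) * a = 0 := by
      refine hkill _ hq31 _ ?_ ?_
      · have := hlv (cov C7 β)
        rwa [hfl, ev_smul_left, ev_cov, ← ha] at this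
      · push_cast
        linear_combination ((m / ℓ : ℕ) : ZMod N) * hA
    intro i
    rw [hfl, Tori.rval_smul]
    fin_cases i
    · exact h0
    · show _ * rval C7 f (broot W β 1) = 0
      rw [v1]; linear_combination -((q : ZMod N) ^ 2) * h0
    · show _ * rval C7 f (broot W β 2) = 0
      rw [v2]; linear_combination -(q : ZMod N) * h0
  -- stabilisers of the multiple fix the twelfth component
  set M6 := lmat C6 (C6.wperm W) with hM6
  have hstab : ∀ π ∈ Tori.wgrp C7, (∀ r, rval C7 fl (π r) = rval C7 fl r) →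
      ∃ z : Fin chevE6.rank → ℤ, z ≠ 0 ∧ aeval M6 (cyclotomic 12 ℤ) *ᵥ z = 0 ∧
        ∀ k : ℕ, lmat C7 π *ᵥ ext ((M6 ^ k) *ᵥ z) = ext ((M6 ^ k) *ᵥ z) := by
    intro π hπ hfix
    obtain ⟨v, hv, hvfix⟩ := Tori.stab_orbit C7 hl (by rw [rank_seven]; omega) hπ₀ hfl0 hlfl hflM π hπ hfix
    rw [hπ₀M] at hvfix
    set w := aeval M ((X : ℤ[X]) ^ 3 + 1) *ᵥ v with hw
    have hw12 : aeval M (cyclotomic 12 ℤ) *ᵥ w = 0 := by
      rw [hw, Matrix.mulVec_mulVec, ← map_mul, hM, ← charpoly_twm h, Matrix.aeval_self_charpoly,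
        Matrix.zero_mulVec]
    obtain ⟨z, hz12, hz⟩ := ext_of_ker h hw12
    refine ⟨z, fun e => hv ?_, hz12, fun k => ?_⟩
    · have h0 := hz 0
      rw [pow_zero, Matrix.one_mulVec, pow_zero, Matrix.one_mulVec, e, hw] at h0
      have h1 := congrArg (ev fl) h0
      rw [ev_mulVec, Tori.vecMul_aeval (hπ₀M ▸ hflM), ev_smul_left,
        show ext (0 : Fin chevE6.rank → ℤ) = 0 by
          funext j; rcases eq_inc_or_last j with ⟨i, rfl⟩ | rfl <;> simp [ext_inc, ext_last]] at h1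
      refine hkill _ hq31 _ (hlv v) ?_
      simpa [ev, dotProduct] using h1
    · rw [← hz k, hw, map_add, map_pow, aeval_X, map_one, Matrix.add_mulVec, Matrix.one_mulVec,
        Matrix.mulVec_add, Matrix.mulVec_mulVec, ← pow_add, Matrix.mulVec_add, hvfix, hvfix]
  have hroots : ∀ z : Fin chevE6.rank → ℤ, z ≠ 0 → aeval M6 (cyclotomic 12 ℤ) *ᵥ z = 0 →
      ∀ r, (∀ k : ℕ, bform (cov C7 r) (ext ((M6 ^ k) *ᵥ z)) = 0) →
        ∃ j, r = broot W β j ∨ r.val = chevE7.neg (broot W β j).val := by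
    intro z hz0 hz12 r hr
    obtain ⟨s, hs, hrs⟩ := h.zero r (E6Cox.orbit_detects E6Cox.rank_six h.pol6 h.h12 hz0 hz12 fun k _ => by
      rw [wr_dot]; exact hr k)
    rcases hs with rfl | rfl | rfl
    exacts [⟨0, hrs⟩, ⟨1, hrs⟩, ⟨2, hrs⟩]
  -- distinct values
  have hK : ∀ x : ℤ, (x : ZMod N) * a = 0 → ((q : ℤ) ^ 3 + 1) ∣ 4 * x := by
    intro x hx
    have hb : ∀ i, (x : ZMod N) * rval C7 f (broot W β i) = 0 := by
      intro i
      fin_cases i
      · exact hx
      · show _ * rval C7 f (broot W β 1) = 0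
        rw [v1]; linear_combination -((q : ZMod N) ^ 2) * hx
      · show _ * rval C7 f (broot W β 2) = 0
        rw [v2]; linear_combination -(q : ZMod N) * hx
    set P := (cyclotomic 12 ℤ).eval (q : ℤ) with hP
    have hall : ∀ v, ((2 * P * x : ℤ) : ZMod N) * ev f v = 0 := by
      intro v
      obtain ⟨c, hc⟩ := decomp h v
      rw [← hM] at hc
      have h1 := congrArg (fun u => (x : ZMod N) * ev f u) hc
      simp only [ev_smul, ev_sum, ev_mulVec, Tori.vecMul_aeval hf, ev_smul_left, ev_cov, Tori.rval_smul, ← hP] at h1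
      rw [Finset.mul_sum, Finset.sum_eq_zero fun i _ => by
        linear_combination ((c i : ZMod N) * (P : ZMod N)) * hb i] at h1
      push_cast at h1 ⊢
      linear_combination h1
    have hzero : (2 * P * x) • f = 0 := by
      funext j
      have := hall (Pi.single j 1)
      rw [Pi.smul_apply, zsmul_eq_mul, Pi.zero_apply]
      simpa [ev, dotProduct, Pi.single_apply] using this
    have hdvd : (m : ℤ) ∣ 2 * P * x := addOrderOf_dvd_iff_zsmul_eq_zero.2 hzero
    have h2 : (torN q : ℤ) ∣ P * (4 * x) := by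
      rw [← hord, Nat.cast_mul]
      refine (mul_dvd_mul_right hdvd (g : ℤ)).trans ?_
      rcases hg with rfl | rfl
      · exact ⟨2, by push_cast; ring⟩
      · exact ⟨1, by push_cast; ring⟩
    have hPv : P = (q : ℤ) ^ 4 - (q : ℤ) ^ 2 + 1 := by rw [hP, E6Cox.cyclo12_eq]; simp
    rw [torN_cast, ← hPv] at h2
    refine Int.dvd_of_mul_dvd_mul_left ?_ h2
    rw [hPv]
    have : (4 : ℤ) ≤ (q : ℤ) ^ 2 := by
      have : (2 : ℤ) ≤ q := by exact_mod_cast hq
      nlinarith
    nlinarith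
  have hsm : ∀ x : ℤ, x = 2 ∨ x = 2 * q ∨ x = 2 * q ^ 2 ∨ x = q + 1 ∨ x = q - 1 ∨ x = q ^ 2 + 1 ∨
      x = q ^ 2 - 1 ∨ x = q ^ 2 + q ∨ x = q ^ 2 - q → (x : ZMod N) * a ≠ 0 :=
    fun x hx e => small_ne q hq x hx (hK x e)
  have hdist : ∀ i j, (rval C7 f (broot W β i) = rval C7 f (broot W β j) → i = j) ∧
      rval C7 f (broot W β i) ≠ -rval C7 f (broot W β j) := by
    have d1 := hsm 2 (by simp)
    have d2 := hsm (2 * q) (by simp)
    have d3 := hsm (2 * q ^ 2) (by simp)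
    have d4 := hsm (q + 1) (by simp)
    have d5 := hsm (q - 1) (by simp)
    have d6 := hsm (q ^ 2 + 1) (by simp)
    have d7 := hsm (q ^ 2 - 1) (by simp)
    have d8 := hsm (q ^ 2 + q) (by simp)
    have d9 := hsm (q ^ 2 - q) (by simp)
    push_cast at d1 d2 d3 d4 d5 d6 d7 d8 d9
    have v0 : rval C7 f (broot W β 0) = a := rfl
    intro i j
    fin_cases i <;> fin_cases j
    · refine ⟨fun _ => rfl, fun e => d1 ?_⟩
      simp only [Fin.zero_eta, v0] at e; linear_combination e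
    · refine ⟨fun e => absurd ?_ d6, fun e => d7 ?_⟩ <;>
        simp only [Fin.zero_eta, Fin.mk_one, v0, v1] at e
      · linear_combination e
      · linear_combination -e
    · refine ⟨fun e => absurd ?_ d4, fun e => d5 ?_⟩ <;>
        simp only [Fin.zero_eta, Fin.reduceFinMk, v0, v2] at e
      · linear_combination e
      · linear_combination -e
    · refine ⟨fun e => absurd ?_ d6, fun e => d7 ?_⟩ <;>
        simp only [Fin.zero_eta, Fin.mk_one, v0, v1] at e
      · linear_combination -e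
      · linear_combination -e
    · refine ⟨fun _ => rfl, fun e => d3 ?_⟩
      simp only [Fin.mk_one, v1] at e; linear_combination -e
    · refine ⟨fun e => absurd ?_ d9, fun e => d8 ?_⟩ <;>
        simp only [Fin.mk_one, Fin.reduceFinMk, v1, v2] at e
      · linear_combination -e
      · linear_combination -e
    · refine ⟨fun e => absurd ?_ d4, fun e => d5 ?_⟩ <;>
        simp only [Fin.zero_eta, Fin.reduceFinMk, v0, v2] at e
      · linear_combination -e
      · linear_combination -e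
    · refine ⟨fun e => absurd ?_ d9, fun e => d8 ?_⟩ <;>
        simp only [Fin.mk_one, Fin.reduceFinMk, v1, v2] at e
      · linear_combination e
      · linear_combination -e
    · refine ⟨fun _ => rfl, fun e => d2 ?_⟩
      simp only [Fin.reduceFinMk, v2] at e; linear_combination -e
  refine ⟨fun r hr0 => ?_, fun π hπ hfix => ?_⟩
  · obtain ⟨π, hπ, hπr⟩ := exists_refl r
    have hrl : rval C7 fl r = 0 := by rw [hfl, Tori.rval_smul, hr0, mul_zero]
    obtain ⟨z, hz0, hz12, hz⟩ := hstab π hπ fun s => by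
      rw [← ev_cov, ← ev_cov, ← Tori.lmat_spec C7 hπ, hπr, refl_mulVec, sub_eq_add_neg, ← neg_smul]
      have : ev fl (cov C7 s + -bform (cov C7 r) (cov C7 s) • cov C7 r) =
          ev fl (cov C7 s) + ((-bform (cov C7 r) (cov C7 s) : ℤ) : ZMod N) * ev fl (cov C7 r) := by
        rw [← ev_smul]
        simp only [ev, dotProduct, Pi.add_apply, Int.cast_add, mul_add, Finset.sum_add_distrib]
      rw [this, ev_cov fl r, hrl, mul_zero, add_zero]
    obtain ⟨j, hj⟩ := hroots z hz0 hz12 r fun k => by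
      have := hz k
      rw [hπr, refl_mulVec, sub_eq_self] at this
      rcases smul_eq_zero.1 this with h0 | h0
      · exact h0
      · exfalso
        have hb := bform_self r
        rw [h0, bform] at hb
        simp at hb
    have hne : rval C7 f (broot W β j) ≠ 0 := fun e => (hdist j j).2 (by rw [e, neg_zero])
    rcases hj with rfl | hj
    · exact hne hr0
    · rw [rval_neg f hj, neg_eq_zero] at hr0
      exact hne hr0
  · obtain ⟨z, hz0, hz12, hz⟩ := hstab π hπ fun r => by rw [hfl, Tori.rval_smul, Tori.rval_smul, hfix]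
    have hb : ∀ i, π (broot W β i) = broot W β i := by
      intro i
      obtain ⟨j, hj⟩ := hroots z hz0 hz12 (π (broot W β i)) fun k => by
        rw [← Tori.lmat_spec C7 hπ, ← hz k, Tori.bform_isom C7 hsym7 hπ]
        exact bform_broot_ext h i (pow_ker hz12 k)
      have hv := hfix (broot W β i)
      rcases hj with hj | hj
      · rw [hj] at hv
        rw [hj, (hdist j i).1 hv]
      · rw [rval_neg f hj] at hv
        exact absurd hv.symm (hdist i j).2
    refine Tori.eq_one_of_lmat C7 hπ (sub_eq_zero.1 (Matrix.ext fun i j => ?_))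
    have hrow := eq_zero_of_perp h hz0 hz12 (y := (lmat C7 π - 1) i) (fun k _ => ?_) (fun c => ?_)
    · rw [hrow]; rfl
    · have : (lmat C7 π - 1) *ᵥ ext ((M6 ^ k) *ᵥ z) = 0 := by
        rw [Matrix.sub_mulVec, hz k, Matrix.one_mulVec, sub_self]
      exact congrFun this i
    · have : (lmat C7 π - 1) *ᵥ cov C7 (broot W β c) = 0 := by
        rw [Matrix.sub_mulVec, Tori.lmat_spec C7 hπ, hb, Matrix.one_mulVec, sub_self]
      exact congrFun this i

end H34.E7Cox
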