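import Cfsg.Agent.H34.E7Twist
import Cfsg.Agent.H34.E7Weight
import Cfsg.Agent.H34.FixedCube
import Mathlib.RingTheory.ZMod.UnitsCyclic

/-!
A self-centralising cyclic subgroup of order `Φ₁₂(q)(q³ + 1)/gcd(2, q - 1)` in the group of type E7.
-/

set_option autoImplicit false
set_option linter.unusedSectionVars false

open Cfsg.Lie
open scoped MatrixGroups
open Matrix Polynomial

attribute [local irreducible] Cfsg.Lie.chevE6 Cfsg.Lie.chevE7

namespace H34.E7Cox

open E6Cox (C6)
open Tori (bform cov cmat lmat rval InT uval)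

theorem charpoly_eval (q : ℕ) :
    (cyclotomic 12 ℤ * (X ^ 3 + 1)).eval (q : ℤ) = (torN q : ℤ) := by
  rw [torN_cast, eval_mul, E6Cox.cyclo12_eq]
  simp

theorem two_dvd_torN_iff (q : ℕ) : 2 ∣ torN q ↔ q % 2 = 1 := by
  rw [← ZMod.natCast_eq_zero_iff, ← Int.cast_natCast (R := ZMod 2), torN_cast,
    show q % 2 = 1 ↔ (q : ZMod 2) = 1 by
      rw [← ZMod.natCast_mod q 2]
      have : q % 2 < 2 := Nat.mod_lt _ (by norm_num)
      interval_cases h : q % 2 <;> decide]
  push_cast
  generalize (q : ZMod 2) = x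
  revert x
  decide

/-- At a prime with square dividing the order, `q` is a simple root unless the prime is three. -/
theorem not_dvd_derivative (q : ℕ) {p : ℕ} (hp : p.Prime) (h2 : p ^ 2 ∣ torN q) (h3 : p ≠ 3) :
    ¬ (p : ℤ) ∣ (derivative (cyclotomic 12 ℤ * (X ^ 3 + 1))).eval (q : ℤ) := by
  intro hd
  set P : ℤ[X] := cyclotomic 12 ℤ * (X ^ 3 + 1) with hP
  have hpn : p ∣ torN q := (dvd_pow_self p two_ne_zero).trans h2
  have := Fact.mk hp
  by_cases hp2 : p = 2
  · subst hp2
    have hq := (two_dvd_torN_iff q).1 hpn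
    have hz := (ZMod.intCast_zmod_eq_zero_iff_dvd _ _).2 hd
    rw [hP, E6Cox.cyclo12_eq] at hz
    simp at hz
    rw [show (q : ZMod 2) = 1 by rw [← ZMod.natCast_mod q 2, hq]; rfl] at hz
    revert hz
    decide +revert
  have hfac : (X : ℤ[X]) ^ 12 - 1 = P * ((X ^ 3 - 1) * (X ^ 2 + 1)) := by rw [hP, E6Cox.cyclo12_eq]; ring
  have h := congrArg (fun R => eval (q : ℤ) (derivative R)) hfac
  rw [show derivative ((X : ℤ[X]) ^ 12 - 1) = C (12 : ℤ) * X ^ 11 by simp, derivative_mul] at h
  simp only [eval_add (p := derivative P * ((X ^ 3 - 1) * (X ^ 2 + 1))), eval_mul (p := derivative P),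
    eval_mul (p := P), eval_mul (p := C (12 : ℤ)), eval_pow, eval_X, eval_C] at h
  have h12 : (p : ℤ) ∣ 12 * (q : ℤ) ^ 11 := by
    rw [h]
    exact dvd_add (dvd_mul_of_dvd_left hd _)
      (dvd_mul_of_dvd_left (show (p : ℤ) ∣ P.eval (q : ℤ) by rw [hP, charpoly_eval]; exact_mod_cast hpn) _)
  rcases (Nat.prime_iff_prime_int.1 hp).dvd_or_dvd h12 with h' | h'
  · have h' : p ∣ 12 := by exact_mod_cast h'
    have hle := Nat.le_of_dvd (by norm_num) h'
    interval_cases p <;> simp_all (config := {decide := true})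
  · have hpq : p ∣ q := Int.natCast_dvd_natCast.1 ((Nat.prime_iff_prime_int.1 hp).dvd_of_dvd_pow h')
    have hz : ((torN q : ℤ) : ZMod p) = 0 := by rw [Int.cast_natCast, ZMod.natCast_eq_zero_iff]; exact hpn
    rw [torN_cast] at hz
    simp [(ZMod.natCast_eq_zero_iff q p).2 hpq] at hz

variable {W : List (Fin chevE6.rank)} {β : Fin chevE7.nroots} (h : TData W β)
include h

theorem card_solutions {N q : ℕ} [NeZero N] (hdN : torN q ∣ N) :
    Nat.card ↥(Tori.solutions N (twm W β) (q : ℤ)) = torN q := by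
  have hdet : (twm W β - (q : ℤ) • (1 : Matrix (Fin chevE7.rank) (Fin chevE7.rank) ℤ)).det.natAbs = torN q := by
    have h5 := Matrix.eval_charpoly (twm W β) (q : ℤ)
    rw [charpoly_twm h, charpoly_eval] at h5
    rw [show twm W β - (q : ℤ) • (1 : Matrix (Fin chevE7.rank) (Fin chevE7.rank) ℤ) =
        -(Matrix.scalar (Fin chevE7.rank) (q : ℤ) - twm W β) by
      rw [neg_sub, Matrix.smul_one_eq_diagonal]; rfl, Matrix.det_neg, Int.natAbs_mul, Int.natAbs_pow,
      Int.natAbs_neg, Int.natAbs_one, one_pow, one_mul, ← h5, Int.natAbs_natCast]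
  rw [Tori.solutions, Tori.card_ker_vecMul, hdet]
  · rw [← Int.natAbs_ne_zero, hdet]; exact (torN_pos q).ne'
  · rw [← Int.natAbs_dvd, hdet]; exact Int.natCast_dvd_natCast.2 hdN

/-- The solutions form a cyclic group. -/
theorem solutions_cyclic {N q : ℕ} [NeZero N] (hdN : torN q ∣ N) :
    IsAddCyclic ↥(Tori.solutions N (twm W β) (q : ℤ)) := by
  classical
  refine (Tori.solutions_cyclic_poly (charpoly_twm h) (q := (q : ℤ))
    (by rw [charpoly_eval]; exact_mod_cast (torN_pos q).ne')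
    (by rw [charpoly_eval]; exact Int.natCast_dvd_natCast.2 hdN) fun p hp h2 => ?_).1
  rw [charpoly_eval, Int.natAbs_natCast] at h2 ⊢
  by_cases h3 : p = 3
  swap
  · exact Or.inl (not_dvd_derivative q hp h2 h3)
  subst h3
  right
  set K := Tori.solutions N (twm W β) (q : ℤ)
  let φ : ↥K →+ ZMod N := AddMonoidHom.mk' (fun f => ev (f : Fin chevE7.rank → ZMod N) (cov C7 β))
    fun a b => by rw [AddSubgroup.coe_add]; exact add_dotProduct _ _ _
  set P := (cyclotomic 12 ℤ).eval (q : ℤ) with hP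
  have hP3 : ¬ (3 : ℤ) ∣ 2 * P := by
    intro hd
    have hz := (ZMod.intCast_zmod_eq_zero_iff_dvd _ 3).2 hd
    rw [hP, E6Cox.cyclo12_eq] at hz
    simp at hz
    revert hz
    generalize (q : ZMod 3) = x
    revert x
    decide
  have hker : ∀ f : ↥K, f ∈ φ.ker → (2 * P) • f = 0 := by
    intro f hf
    have hfK := Tori.mem_solutions.1 f.2
    set v := (f : Fin chevE7.rank → ZMod N)
    have h0 : ev v (cov C7 β) = 0 := hf
    obtain ⟨e0, e1, e2⟩ := twm_beta h
    have hev : ∀ u, ev v (twm W β *ᵥ u) = ((q : ℤ) : ZMod N) * ev v u := fun u => by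
      rw [ev_mulVec, hfK, ev_smul_left]
    have b2 : ev v (cov C7 (broot W β 2)) = 0 := by
      have := hev (cov C7 β)
      rw [e0, ev_neg, h0, mul_zero, neg_eq_zero] at this
      exact this
    have b1 : ev v (cov C7 (broot W β 1)) = 0 := by
      have := hev (cov C7 (broot W β 2))
      rw [e2, b2, mul_zero] at this
      exact this
    have hb : ∀ i, ev v (cov C7 (broot W β i)) = 0 := by
      intro i
      fin_cases i
      exacts [h0, b1, b2]
    have hall : ∀ u, ((2 * P : ℤ) : ZMod N) * ev v u = 0 := by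
      intro u
      obtain ⟨c, hc⟩ := decomp h u
      have h1 := congrArg (ev v) hc
      simp only [ev_smul, ev_sum, ev_mulVec, Tori.vecMul_aeval hfK, ev_smul_left, ← hP, hb, mul_zero,
        Finset.sum_const_zero] at h1
      push_cast at h1 ⊢
      linear_combination h1
    refine Subtype.ext (funext fun j => ?_)
    rw [AddSubgroup.coe_zsmul, Pi.smul_apply, zsmul_eq_mul, AddSubgroup.coe_zero, Pi.zero_apply]
    have := hall (Pi.single j 1)
    simpa [ev, dotProduct, Pi.single_apply] using this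
  have hnk : ¬ 3 ∣ Nat.card ↥φ.ker := fun hd => by
    obtain ⟨x, hx⟩ := exists_prime_addOrderOf_dvd_card' (G := ↥φ.ker) 3 hd
    refine hP3 ?_
    have : (2 * P) • x = 0 := Subtype.ext (by rw [AddSubgroup.coe_zsmul]; exact hker _ x.2)
    have := addOrderOf_dvd_iff_zsmul_eq_zero.2 this
    rwa [hx] at this
  have hcard : Nat.card ↥φ.ker * Nat.card ↥φ.range = torN q := by
    rw [← AddSubgroup.index_ker, φ.ker.card_mul_index, card_solutions h hdN]
  have hr : Nat.card ↥φ.range ∣ AddMonoid.exponent ↥K := by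
    rw [← IsAddCyclic.exponent_eq_card]
    refine AddMonoid.exponent_dvd_of_forall_nsmul_eq_zero ?_
    rintro ⟨_, x, rfl⟩
    refine Subtype.ext ?_
    rw [AddSubgroup.coe_nsmul, AddSubgroup.coe_zero, ← map_nsmul, AddMonoid.exponent_nsmul_eq_zero, map_zero]
  refine dvd_trans ?_ hr
  refine (Nat.Coprime.pow_left _ ((Nat.prime_three.coprime_iff_not_dvd).2 hnk)).dvd_of_dvd_mul_left ?_
  rw [hcard]
  exact Nat.ordProj_dvd _ _

omit h in
/-- The theorem. -/
theorem torus_E7 {F : Type*} [Field F] [Fintype F] :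
    ∃ H : Subgroup ↥(chevE7.group F), IsCyclic ↥H ∧
      Nat.card ↥H = torN (Fintype.card F) / Nat.gcd 2 (Fintype.card F - 1) ∧
      Subgroup.centralizer (H : Set ↥(chevE7.group F)) = H := by
  classical
  set q := Fintype.card F with hqdef
  have hq2 : 1 < q := Fintype.one_lt_card
  obtain ⟨ℓ, hl, hl12, hprim⟩ := E6Cox.exists_ell q hq2
  obtain ⟨p, hpF⟩ := CharP.exists F
  have := Fact.mk (CharP.char_is_prime F p)
  set k := q ^ 6 - 1 with hk
  have hk0 : 0 < k := by
    have := Nat.one_lt_pow (show 6 ≠ 0 by norm_num) hq2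
    omega
  have : NeZero (36 : ℕ) := ⟨by omega⟩
  have : NeZero (36 * k) := ⟨by omega⟩
  let E1 := FiniteField.Extension F p 36
  let E := FiniteField.Extension F p (36 * k)
  let : Fintype E1 := Fintype.ofFinite E1
  let : Fintype E := Fintype.ofFinite E
  have hQ1 : Fintype.card E1 = q ^ 36 := by
    rw [← Nat.card_eq_fintype_card, FiniteField.natCard_extension, Nat.card_eq_fintype_card]
  have hQ : Fintype.card E = q ^ (36 * k) := by
    rw [← Nat.card_eq_fintype_card, FiniteField.natCard_extension, Nat.card_eq_fintype_card]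
  obtain ⟨j1⟩ : Nonempty (E1 →ₐ[F] E) := FiniteField.nonempty_algHom_of_finrank_dvd (by
    rw [FiniteField.finrank_extension, FiniteField.finrank_extension]; exact dvd_mul_right _ _)
  set N := Nat.card Eˣ with hN
  have : NeZero N := ⟨Nat.card_pos.ne'⟩
  have hN1 : N + 1 = q ^ (36 * k) := by
    rw [hN, Nat.card_units, Nat.card_eq_fintype_card, hQ]
    have := Nat.one_le_pow (36 * k) q (by omega)
    omega
  let e : Multiplicative (ZMod N) ≃* Eˣ := zmodCyclicMulEquiv inferInstance
  set d := torN q with hd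
  have h12N : ((q : ℤ) ^ 12 - 1) ∣ (N : ℤ) := by
    have h : ((N : ℤ) + 1) = (q : ℤ) ^ (36 * k) := by exact_mod_cast hN1
    rw [show (N : ℤ) = ((q : ℤ) ^ 12) ^ (3 * k) - 1 ^ (3 * k) by
      rw [← pow_mul, one_pow, show 12 * (3 * k) = 36 * k by ring, ← h]; ring]
    exact sub_dvd_pow_sub_pow _ _ _
  have hdN : d ∣ N := by
    refine Int.natCast_dvd_natCast.1 (dvd_trans ?_ h12N)
    rw [hd, torN_cast]
    exact ⟨((q : ℤ) ^ 3 - 1) * ((q : ℤ) ^ 2 + 1), by ring⟩
  have h4dN : q % 2 = 1 → 4 * d ∣ N := by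
    intro hodd
    refine Int.natCast_dvd_natCast.1 (dvd_trans ?_ h12N)
    obtain ⟨t, ht⟩ : ∃ t : ℕ, q = 2 * t + 1 := ⟨q / 2, by omega⟩
    have hqt : (q : ℤ) = 2 * t + 1 := by exact_mod_cast ht
    rw [Nat.cast_mul, hd, torN_cast, hqt]
    exact ⟨(4 * (t : ℤ) ^ 3 + 6 * (t : ℤ) ^ 2 + 3 * t) * (2 * (t : ℤ) ^ 2 + 2 * t + 1), by push_cast; ring⟩
  set g := Nat.gcd 2 (q - 1) with hg
  have hgd : g = Nat.gcd d 2 := by
    by_cases h : q % 2 = 1
    · rw [hg, Nat.gcd_eq_left (show 2 ∣ q - 1 by omega), Nat.gcd_eq_right ((two_dvd_torN_iff q).2 h)]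
    · rw [hg, Nat.Coprime.gcd_eq_one ((Nat.prime_two.coprime_iff_not_dvd).2 (by omega)),
        Nat.Coprime.gcd_eq_one ((Nat.prime_two.coprime_iff_not_dvd).2
          (fun h2 => h ((two_dvd_torN_iff q).1 h2))).symm]
  have hg12 : g = 1 ∨ g = 2 := (Nat.dvd_prime Nat.prime_two).1 (Nat.gcd_dvd_left 2 (q - 1))
  -- base change
  set ι := algebraMap F E with hι'
  let σ : E ≃+* E := (FiniteField.Extension.frob F p (36 * k)).toRingEquiv
  have hσ : ∀ x : E, σ x = x ^ q := fun x => by
    show FiniteField.Extension.frob F p (36 * k) x = _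
    rw [FiniteField.Extension.frob_apply, Nat.card_eq_fintype_card]
  let σ1 : E1 ≃+* E1 := (FiniteField.Extension.frob F p 36).toRingEquiv
  have hσ1 : ∀ x : E1, σ1 x = x ^ q := fun x => by
    show FiniteField.Extension.frob F p 36 x = _
    rw [FiniteField.Extension.frob_apply, Nat.card_eq_fintype_card]
  have hσι1 : σ1.toRingHom.comp (algebraMap F E1) = algebraMap F E1 := RingHom.ext fun y => by
    show σ1 (algebraMap F E1 y) = _
    rw [hσ1, ← map_pow, hqdef, FiniteField.pow_card]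
  have hfix : ∀ x : E, (∃ y, ι y = x) ↔ σ x = x := by
    intro x
    have hsub : Finset.univ.image ι ⊆ ((X ^ q - X : E[X]).roots).toFinset := by
      intro z hz
      obtain ⟨y, -, rfl⟩ := Finset.mem_image.1 hz
      rw [Multiset.mem_toFinset, mem_roots (FiniteField.X_pow_card_sub_X_ne_zero E hq2)]
      simp [← map_pow, hqdef, FiniteField.pow_card]
    have heq := Finset.eq_of_subset_of_card_le hsub (by
      rw [Finset.card_image_of_injective _ ι.injective, Finset.card_univ]
      refine (Multiset.toFinset_card_le _).trans ((card_roots' _).trans ?_)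
      rw [FiniteField.X_pow_card_sub_X_natDegree_eq E hq2])
    rw [hσ]
    have hmem : x ^ q = x ↔ x ∈ ((X ^ q - X : E[X]).roots).toFinset := by
      rw [Multiset.mem_toFinset, mem_roots (FiniteField.X_pow_card_sub_X_ne_zero E hq2)]
      simp [sub_eq_zero]
    rw [hmem, ← heq, Finset.mem_image]
    simp
  have hσι : σ.toRingHom.comp ι = ι := RingHom.ext fun y => (hfix (ι y)).1 ⟨y, rfl⟩
  obtain ⟨gE, hgE_mem, W, β, hT, hnconj⟩ :=
    exists_twisting hQ1 (algebraMap F E1) σ1 hσ1 hσι1 j1.toRingHom σ hσ hN1 e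
  set M := twm W β with hM
  -- the square of the kernel of the torus
  have htwo : ∀ f : Fin chevE7.rank → ZMod N,
      2 • f = (f ᵥ* Tori.toZ N (cmat chevE7)) ᵥ* Tori.toZ N invTwo := fun f => by
    rw [Matrix.vecMul_vecMul, Tori.toZ, Tori.toZ, ← Matrix.map_mul, cmat_invTwo,
      Matrix.map_smul' (Int.castRingHom (ZMod N)) 2 _ (map_mul _), Matrix.map_one _ (map_zero _) (map_one _),
      Matrix.vecMul_smul, Matrix.vecMul_one]
    funext i
    simp
  have hInT2 : ∀ u : Fin chevE7.rank → ZMod N, InT (2 • u) := fun u =>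
    ⟨u ᵥ* Tori.toZ N invTwo, by
      rw [Matrix.vecMul_vecMul, Tori.toZ, Tori.toZ, ← Matrix.map_mul, invTwo_cmat,
        Matrix.map_smul' (Int.castRingHom (ZMod N)) 2 _ (map_mul _), Matrix.map_one _ (map_zero _) (map_one _),
        Matrix.vecMul_smul, Matrix.vecMul_one]
      funext i
      simp⟩
  have htor : ∀ c : Fin chevE7.rank → Eˣ, H52.torus chevE7 c = 1 → c ^ 2 = 1 := by
    intro c hc
    set u : Fin chevE7.rank → ZMod N := fun i => Multiplicative.toAdd (e.symm (c i)) with hu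
    have hcu : c = fun i => uval e (u i) := funext fun i => by simp [hu, uval]
    have h2 : u ᵥ* Tori.toZ N (cmat chevE7) = 0 := by
      refine Tori.tor_injective C7 e ?_
      rw [← Tori.torus_eq_tor C7 e, Tori.tor_zero, ← hcu, hc]
    have h4 := htwo u
    rw [h2, Matrix.zero_vecMul] at h4
    funext i
    rw [Pi.pow_apply, Pi.one_apply, hcu, ← Tori.uval_natCast_mul, ← nsmul_eq_mul]
    have h5 := congrFun h4 i
    rw [Pi.smul_apply, Pi.zero_apply] at h5
    rw [h5, Tori.uval_zero]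
  set s := H54.glF chevE7 σ.toRingHom with hs
  have hsι : ∀ z : GL chevE7.Idx F, s (H54.glF chevE7 ι z) = H54.glF chevE7 ι z := fun z => by
    rw [hs, H54.glF_comp, hσι]
  set n := s gE * gE⁻¹ with hn
  have hglF : ∀ f : Fin chevE7.rank → ZMod N,
      s (Tori.tor C7 e f) = Tori.tor C7 e (((q : ℤ) : ZMod N) • f) := fun f => by
    rw [hs, Tori.glF_tor C7 e σ q hσ, Int.cast_natCast]
  have hfixed : ∀ f : Fin chevE7.rank → ZMod N, InT f →
      (f ∈ Tori.solutions N M (q : ℤ) ↔
        s (gE⁻¹ * Tori.tor C7 e f * gE) = gE⁻¹ * Tori.tor C7 e f * gE) := by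
    intro f hfT
    rw [Tori.mem_solutions, map_mul, map_mul, map_inv, hglF, show s gE = n * gE by rw [hn]; group]
    constructor
    · intro hf
      rw [← hf, ← hnconj f hfT]
      group
    · intro h
      refine Tori.tor_injective C7 e ?_
      rw [← hnconj f hfT]
      calc n * Tori.tor C7 e f * n⁻¹ = n * gE * (gE⁻¹ * Tori.tor C7 e f * gE) * (n * gE)⁻¹ := by group
        _ = _ := by rw [← h]; group
  have hcyc := solutions_cyclic hT (N := N) (q := q) hdN
  have hK := card_solutions hT (N := N) (q := q) hdN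
  set K := Tori.solutions N M (q : ℤ) with hKdef
  have hKd : ∀ f ∈ K, d • f = 0 := fun f hf => by
    have h := card_nsmul_eq_zero' (x := (⟨f, hf⟩ : ↥K))
    rw [hK] at h
    exact congrArg Subtype.val h
  have hhalf : ∀ f : Fin chevE7.rank → ZMod N, q % 2 = 1 → (2 * d) • f = 0 → ∃ u, 2 • u = f := by
    intro f hodd hdf
    have hi : ∀ i, ∃ z : ZMod N, 2 • z = f i := by
      intro i
      have h1 := congrFun hdf i
      rw [Pi.smul_apply, Pi.zero_apply, nsmul_eq_mul, ← ZMod.natCast_rightInverse (f i), ← Nat.cast_mul,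
        ZMod.natCast_eq_zero_iff] at h1
      obtain ⟨z, hz⟩ : 2 ∣ (f i).val := by
        have h2 := (h4dN hodd).trans h1
        rw [show 4 * d = 2 * d * 2 by ring] at h2
        exact Nat.dvd_of_mul_dvd_mul_left (Nat.mul_pos two_pos (torN_pos q)) h2
      refine ⟨(z : ZMod _), ?_⟩
      rw [nsmul_eq_mul, ← Nat.cast_mul, ← hz]
      exact ZMod.natCast_rightInverse (f i)
    choose z hz using hi
    exact ⟨z, funext hz⟩
  have hKT : ∀ f ∈ K, InT f := by
    intro f hf
    have hdf := hKd f hf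
    suffices ∃ u : Fin chevE7.rank → ZMod N, 2 • u = f by
      obtain ⟨u, rfl⟩ := this
      exact hInT2 u
    by_cases h2 : q % 2 = 1
    · exact hhalf f h2 (by rw [mul_smul, hdf, smul_zero])
    · obtain ⟨t, ht⟩ : ∃ t, d = 2 * t + 1 := ⟨d / 2, by
        have := mt (two_dvd_torN_iff q).1 h2
        rw [← hd] at this
        omega⟩
      refine ⟨(t + 1) • f, ?_⟩
      rw [← mul_smul, show 2 * (t + 1) = d + 1 by omega, add_smul, hdf, one_smul, zero_add]
  -- the subgroup
  let ψ : Multiplicative ↥K →* GL chevE7.Idx E :=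
    { toFun := fun f => gE⁻¹ * Tori.tor C7 e ((Multiplicative.toAdd f : ↥K) : Fin chevE7.rank → ZMod N) * gE
      map_one' := by simp [Tori.tor_zero]
      map_mul' := fun a b => by rw [toAdd_mul, AddSubgroup.coe_add, Tori.tor_add]; group }
  have hψ : Function.Injective ψ := fun a b h =>
    Multiplicative.toAdd.injective (Subtype.ext (Tori.tor_injective C7 e
      (mul_left_cancel (mul_right_cancel h))))
  let j : ↥(chevE7.group F) →* GL chevE7.Idx E := (H54.glF chevE7 ι).comp (chevE7.group F).subtype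
  have hj : Function.Injective j := fun a b h => Subtype.ext (H54.glF_injective ι h)
  have hsq : ∀ f, ψ f ^ 2 ∈ j.range := by
    intro f
    have hmem : ψ f ∈ chevE7.group E :=
      mul_mem (mul_mem (inv_mem hgE_mem)
        (C7.diag_le_group (Tori.tor_mem C7 e (hKT _ (Multiplicative.toAdd f).2)))) hgE_mem
    obtain ⟨z, hz, hze⟩ := Tori.fixed_pow_mem C7 σ ι hfix htor hmem
      ((hfixed _ (hKT _ (Multiplicative.toAdd f).2)).1 (Multiplicative.toAdd f).2)
    exact ⟨⟨z, hz⟩, hze⟩
  set S : Subgroup (Multiplicative ↥K) := j.range.comap ψ with hS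
  have : IsCyclic (Multiplicative ↥K) := isCyclic_multiplicative
  have hcardK : Nat.card (Multiplicative ↥K) = d := by rw [Nat.card_congr Multiplicative.toAdd, hK]
  have hidxS : S.index = g := by
    have hle : (powMonoidHom 2 : Multiplicative ↥K →* Multiplicative ↥K).range ≤ S := by
      rintro _ ⟨f, rfl⟩
      rw [hS, Subgroup.mem_comap, powMonoidHom_apply, map_pow]
      exact hsq f
    have hdiv := Subgroup.index_dvd_of_le hle
    rw [IsCyclic.index_powMonoidHom_range, hcardK, ← hgd] at hdiv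
    rcases hg12 with h1 | h2
    · rw [h1] at hdiv ⊢
      exact Nat.dvd_one.1 hdiv
    rw [h2] at hdiv ⊢
    refine ((Nat.dvd_prime Nat.prime_two).1 hdiv).resolve_left fun h1 => ?_
    rw [Subgroup.index_eq_one] at h1
    -- a generator is not rational
    have h2d : 2 ∣ d := by rw [← h2, hgd]; exact Nat.gcd_dvd_left _ _
    have hodd : q % 2 = 1 := (two_dvd_torN_iff q).1 h2d
    obtain ⟨a', ha'⟩ := IsAddCyclic.exists_generator (α := ↥K)
    have hord : addOrderOf (a' : Fin chevE7.rank → ZMod N) = d := by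
      rw [AddSubgroup.addOrderOf_coe, addOrderOf_eq_card_of_forall_mem_zmultiples ha', hK]
    obtain ⟨y, hy⟩ : ψ (Multiplicative.ofAdd a') ∈ j.range := by
      rw [← Subgroup.mem_comap, ← hS, h1]
      trivial
    obtain ⟨g1, hg1, hg1A⟩ := Tori.exists_twisted_lift C7 e H53.pairsE7 stTorus_injective7
      (p := 2) cmat_invTwo (q := q) σ hσ ι hσι hgE_mem (twd_mul_cmat W β) hnconj
      (hKT _ a'.2) (fun u hu => hhalf u hodd (by
        rw [mul_comm, mul_smul, htwo u, hu, ← Matrix.smul_vecMul, hKd _ a'.2, Matrix.zero_vecMul]))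
      y.2 hy
    -- the image of the lifts has half the order
    set L' := Tori.solutions N (twd W β) (q : ℤ) with hL'
    have hN2 : 2 ∣ N := h2d.trans hdN
    have hdet : (twd W β - (q : ℤ) • (1 : Matrix (Fin chevE7.rank) (Fin chevE7.rank) ℤ)).det.natAbs = d := by
      have h1 : (twd W β - (q : ℤ) • 1) * cmat chevE7 = cmat chevE7 * (M - (q : ℤ) • 1) := by
        rw [sub_mul, mul_sub, twd_mul_cmat, smul_mul_assoc, one_mul, mul_smul_comm, mul_one]
      have h2' := congrArg (fun X => X.det.natAbs) h1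
      simp only [Matrix.det_mul, Int.natAbs_mul, det_cmat7] at h2'
      have h3 : (M - (q : ℤ) • (1 : Matrix (Fin chevE7.rank) (Fin chevE7.rank) ℤ)).det.natAbs = d := by
        have h5 := Matrix.eval_charpoly M (q : ℤ)
        rw [hM, charpoly_twm hT, charpoly_eval] at h5
        rw [show M - (q : ℤ) • (1 : Matrix (Fin chevE7.rank) (Fin chevE7.rank) ℤ) =
            -(Matrix.scalar (Fin chevE7.rank) (q : ℤ) - M) by
          rw [neg_sub, Matrix.smul_one_eq_diagonal]; rfl, Matrix.det_neg, Int.natAbs_mul, Int.natAbs_pow,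
          Int.natAbs_neg, Int.natAbs_one, one_pow, one_mul, hM, ← h5, Int.natAbs_natCast]
      omega
    have hcL : Nat.card ↥L' = d := by
      rw [hL', Tori.solutions, Tori.card_ker_vecMul, hdet]
      · rw [← Int.natAbs_ne_zero, hdet]; exact (torN_pos q).ne'
      · rw [← Int.natAbs_dvd, hdet]; exact Int.natCast_dvd_natCast.2 hdN
    set kA := (Tori.toZ N (cmat chevE7)).vecMulLinear.toAddMonoidHom.ker with hkA
    have hck : Nat.card ↥kA = 2 := by
      rw [hkA, Tori.card_ker_vecMul, det_cmat7]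
      · rw [← Int.natAbs_ne_zero, det_cmat7]; norm_num
      · rw [← Int.natAbs_dvd, det_cmat7]; exact Int.natCast_dvd_natCast.2 hN2
    have hkL : kA ≤ L' := by
      intro u hu
      rw [hkA, AddMonoidHom.mem_ker, LinearMap.toAddMonoidHom_coe, Matrix.vecMulLinear_apply] at hu
      rw [hL', Tori.mem_solutions, twd_fix W β hu, Int.cast_natCast, Nat.cast_smul_eq_nsmul]
      have h4 := htwo u
      rw [hu, Matrix.zero_vecMul] at h4
      conv_rhs => rw [← Nat.mod_add_div q 2, hodd, add_smul, one_smul, mul_comm, mul_smul, h4,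
        smul_zero, add_zero]
    let Λ : ↥L' →+ (Fin chevE7.rank → ZMod N) :=
      (Tori.toZ N (cmat chevE7)).vecMulLinear.toAddMonoidHom.comp L'.subtype
    have hΛ : Λ.ker = kA.addSubgroupOf L' := rfl
    have hcr : 2 * Nat.card ↥Λ.range = d := by
      have h := Λ.ker.card_mul_index
      rw [AddSubgroup.index_ker, hcL, hΛ, Nat.card_congr (AddSubgroup.addSubgroupOfEquivOfLe hkL).toEquiv,
        hck] at h
      exact h
    let b : ↥Λ.range := ⟨(a' : Fin chevE7.rank → ZMod N), ⟨⟨g1, hg1⟩, hg1A⟩⟩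
    have hb : addOrderOf b = d := by rw [← AddSubgroup.addOrderOf_coe]; exact hord
    have hle := Nat.le_of_dvd Nat.card_pos (hb ▸ addOrderOf_dvd_natCard b)
    have := torN_pos q
    omega
  let H : Subgroup ↥(chevE7.group F) := ψ.range.comap j
  have hmap : H.map j = S.map ψ := by
    rw [hS, Subgroup.map_comap_eq, Subgroup.map_comap_eq, inf_comm]
  have hcardH : Nat.card ↥H = d / g := by
    rw [← Subgroup.card_map_of_injective hj, hmap, Subgroup.card_map_of_injective hψ,
      ← hidxS, ← hcardK, ← S.card_mul_index, Nat.mul_div_left _ (Nat.pos_of_ne_zero S.index_ne_zero_of_finite)]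
  have : IsCyclic ↥ψ.range := isCyclic_of_surjective ψ.rangeRestrict ψ.rangeRestrict_surjective
  refine ⟨H, ?_, hcardH, ?_⟩
  · exact isCyclic_of_injective (j.subgroupComap ψ.range) (fun a b h =>
      Subtype.ext (hj (congrArg Subtype.val h)))
  -- a generator of the subgroup
  obtain ⟨fs, hfs⟩ := IsCyclic.exists_generator (α := ↥S)
  set f : Fin chevE7.rank → ZMod N := Subtype.val (Multiplicative.toAdd (fs : Multiplicative ↥K)) with hf
  have hfK : f ∈ K := (Multiplicative.toAdd (fs : Multiplicative ↥K)).2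
  have hfT := hKT f hfK
  have hordf : addOrderOf f * g = d := by
    rw [hf, AddSubgroup.addOrderOf_coe, ← orderOf_ofAdd_eq_addOrderOf, ofAdd_toAdd, Subgroup.orderOf_coe,
      orderOf_eq_card_of_forall_mem_zpowers hfs, ← hidxS, S.card_mul_index, hcardK]
  obtain ⟨hreg, hstab⟩ := weight_data hT hq2 hl hl12 hprim (Tori.mem_solutions.1 hfK) hg12 hordf
  obtain ⟨x, hxE⟩ : ψ (fs : Multiplicative ↥K) ∈ j.range := fs.2
  have hxH : x ∈ H := ⟨(fs : Multiplicative ↥K), hxE.symm⟩
  refine le_antisymm (fun y hy => ?_) (fun y hy => ?_)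
  · have hyx := congrArg j (Subgroup.mem_centralizer_iff.1 hy x hxH)
    rw [map_mul, map_mul, hxE] at hyx
    set yE := j y with hyE
    have hyG : gE * yE * gE⁻¹ ∈ chevE7.group E :=
      mul_mem (mul_mem hgE_mem (C7.glF_group_le ι ⟨_, y.2, rfl⟩)) (inv_mem hgE_mem)
    have hψf : ψ (fs : Multiplicative ↥K) = gE⁻¹ * Tori.tor C7 e f * gE := rfl
    have hcomm : gE * yE * gE⁻¹ * Tori.tor C7 e f = Tori.tor C7 e f * (gE * yE * gE⁻¹) := by
      rw [hψf] at hyx
      calc _ = gE * (yE * (gE⁻¹ * Tori.tor C7 e f * gE)) * gE⁻¹ := by group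
        _ = gE * ((gE⁻¹ * Tori.tor C7 e f * gE) * yE) * gE⁻¹ := by rw [hyx]
        _ = _ := by group
    obtain ⟨b, L', hbT, hyb, hb⟩ := Tori.mono_of_conj C7 e hfT hfT hreg hreg hyG hcomm
    have hL' : C7.wperm L' = 1 := inv_eq_one.1 (hstab _ (inv_mem (Tori.wperm_mem_wgrp C7 L')) fun r => by
      rw [← Tori.rval_vecMul C7 (inv_mem (Tori.wperm_mem_wgrp C7 L')), ← hb])
    obtain ⟨c, hcT, hc⟩ := Tori.exists_tor C7 e (C7.nw_mem_diag (F := E) hL')
    rw [← hc, ← Tori.tor_add] at hyb
    have hback : gE⁻¹ * Tori.tor C7 e (b + c) * gE = yE := by rw [← hyb]; group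
    refine ⟨Multiplicative.ofAdd ⟨b + c, (hfixed _ (hbT.add hcT)).2 ?_⟩, hback⟩
    rw [hback]
    exact hsι _
  · rw [Subgroup.mem_centralizer_iff]
    intro z hz
    obtain ⟨a, ha⟩ := hy
    obtain ⟨b, hb⟩ := hz
    refine hj ?_
    rw [map_mul, map_mul, ← ha, ← hb, ← map_mul, ← map_mul, mul_comm b a]

end H34.E7Cox
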