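import Cfsg.Agent.H52.RankOne
import Cfsg.Agent.H54.ChevBaseChange
import Cfsg.Agent.H54.ChevGroup

/-!
Three commuting rank one subgroups cyclically permuted by a twisting element: the twist can be multiplied by a
reflection in one of them.
-/

set_option autoImplicit false
set_option linter.unusedSectionVars false

open Cfsg.Lie
open scoped MatrixGroups

namespace H34.RankOne

variable {K : Type*} [Field K]

/-- Upper transvection. -/
def uu (t : K) : Matrix.SpecialLinearGroup (Fin 2) K := ⟨!![1, t; 0, 1], by simp [Matrix.det_fin_two]⟩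

/-- Lower transvection. -/
def ll (t : K) : Matrix.SpecialLinearGroup (Fin 2) K := ⟨!![1, 0; t, 1], by simp [Matrix.det_fin_two]⟩

/-- The antidiagonal element. -/
def ww : Matrix.SpecialLinearGroup (Fin 2) K := ⟨!![0, 1; -1, 0], by simp [Matrix.det_fin_two]⟩

theorem ww_eq : (ww : Matrix.SpecialLinearGroup (Fin 2) K) = uu 1 * ll (-1) * uu 1 := by
  apply Subtype.ext
  show !![0, (1 : K); -1, 0] = !![1, (1 : K); 0, 1] * !![1, 0; (-1 : K), 1] * !![1, (1 : K); 0, 1]
  ext i j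
  fin_cases i <;> fin_cases j <;> simp

theorem decomp_cases (S : Matrix.SpecialLinearGroup (Fin 2) K) :
    ∃ a b c : K, S = uu a * ll b * uu c ∨ S * ll 1 = uu a * ll b * uu c := by
  have key : ∀ S : Matrix.SpecialLinearGroup (Fin 2) K, S.1 1 0 ≠ 0 →
      S = uu ((S.1 0 0 - 1) / S.1 1 0) * ll (S.1 1 0) * uu ((S.1 1 1 - 1) / S.1 1 0) := by
    intro S h
    have hd := S.2
    rw [Matrix.det_fin_two] at hd
    apply Subtype.ext
    show S.1 = !![1, _; 0, 1] * !![1, 0; _, 1] * !![1, _; 0, 1]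
    ext i j
    fin_cases i <;> fin_cases j <;> simp <;> field_simp
    · ring
    · linear_combination -hd
    · ring
  by_cases h : S.1 1 0 = 0
  · refine ⟨_, _, _, Or.inr (key _ ?_)⟩
    have hd := S.2
    rw [Matrix.det_fin_two, h, mul_zero, sub_zero] at hd
    show (S.1 * !![1, 0; 1, 1] : Matrix (Fin 2) (Fin 2) K) 1 0 ≠ 0
    simp [Matrix.mul_apply, Fin.sum_univ_two, h]
    exact right_ne_zero_of_mul_eq_one hd
  · exact ⟨_, _, _, Or.inl (key _ h)⟩

theorem hom_eq {G : Type*} [Group G] {φ ψ : Matrix.SpecialLinearGroup (Fin 2) K →* G}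
    (hu : ∀ t, φ (uu t) = ψ (uu t)) (hl : ∀ t, φ (ll t) = ψ (ll t)) : φ = ψ := by
  refine MonoidHom.ext fun S => ?_
  obtain ⟨a, b, c, h | h⟩ := decomp_cases S
  · rw [h]; simp only [map_mul, hu, hl]
  · rw [eq_mul_inv_of_mul_eq h]; simp only [map_mul, map_inv, hu, hl]

/-- Scaling of the upper entry by a unit and of the lower one by its inverse. -/
def scale (c : Kˣ) : Matrix.SpecialLinearGroup (Fin 2) K →* Matrix.SpecialLinearGroup (Fin 2) K where
  toFun S := ⟨!![S.1 0 0, (c : K) * S.1 0 1; (c : K)⁻¹ * S.1 1 0, S.1 1 1], by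
    have hd := S.2
    rw [Matrix.det_fin_two] at hd
    simp only [Matrix.det_fin_two_of]
    rw [show (c : K) * S.1 0 1 * ((c : K)⁻¹ * S.1 1 0) = ((c : K) * (c : K)⁻¹) * (S.1 0 1 * S.1 1 0) by ring,
      mul_inv_cancel₀ c.ne_zero, one_mul, hd]⟩
  map_one' := by
    apply Subtype.ext
    ext i j
    fin_cases i <;> fin_cases j <;> simp
  map_mul' S T := by
    apply Subtype.ext
    show _ = !![_, _; _, _] * !![_, _; _, _]
    ext i j
    have hc := mul_inv_cancel₀ c.ne_zero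
    fin_cases i <;> fin_cases j <;> simp [Matrix.mul_apply, Fin.sum_univ_two] <;> field_simp <;> ring

theorem scale_val (c : Kˣ) (S : Matrix.SpecialLinearGroup (Fin 2) K) :
    (scale c S).1 = !![S.1 0 0, (c : K) * S.1 0 1; (c : K)⁻¹ * S.1 1 0, S.1 1 1] := rfl

theorem scale_uu (c : Kˣ) (t : K) : scale c (uu t) = uu ((c : K) * t) := by
  apply Subtype.ext
  rw [scale_val]
  simp [uu]

theorem scale_ll (c : Kˣ) (t : K) : scale c (ll t) = ll ((c : K)⁻¹ * t) := by
  apply Subtype.ext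
  rw [scale_val]
  simp [ll]

variable {D : ChevalleyDatum} (C : H54.Ctx D)

include C in
/-- The homomorphism of a root. -/
theorem exists_root_hom (r : Fin D.nroots) : ∃ φ : Matrix.SpecialLinearGroup (Fin 2) K →* GL D.Idx K,
    (∀ t, φ (uu t) = H52.rt D r.val t) ∧ (∀ t, φ (ll t) = H52.rt D (D.neg r.val) t) := by
  obtain ⟨φ, -, hφ⟩ := (C.hC.rankOneRel (F := K) r.isLt).exists_hom
  exact ⟨φ, fun t => (hφ _ t).1 rfl, fun t => (hφ _ t).2 rfl⟩

include C in
/-- Words act on a pair of opposite root groups with one sign. -/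
theorem nw_conj_pair (heps : ∀ r : Fin D.nroots, ∀ i : Fin D.rank,
      C.T.eps i.val r.val * C.T.eps i.val (D.neg r.val) = 1) (L : List (Fin D.rank)) (r : Fin D.nroots) :
    ∃ e : ℤ, (e = 1 ∨ e = -1) ∧ ∀ t : K,
      H54.Ctx.nw D K L * H52.rt D r.val t * (H54.Ctx.nw D K L)⁻¹ = H52.rt D (C.wperm L r).val ((e : K) * t) ∧
      H54.Ctx.nw D K L * H52.rt D (D.neg r.val) t * (H54.Ctx.nw D K L)⁻¹ =
        H52.rt D (D.neg (C.wperm L r).val) ((e : K) * t) := by
  induction L with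
  | nil => exact ⟨1, Or.inl rfl, fun t => by simp [H54.Ctx.nw_nil, H54.Ctx.wperm_nil]⟩
  | cons i L ih =>
    obtain ⟨e, he, h⟩ := ih
    set s := C.wperm L r
    have hlt := C.hC.neg_lt s.isLt
    have hee : C.T.eps i.val (D.neg s.val) = C.T.eps i.val s.val := by
      have h1 := heps s i
      rcases H52.Checked.eps_eq_or (T := C.T) i.val s.val with a | a <;> rw [a] at h1 ⊢ <;> omega
    refine ⟨C.T.eps i.val s.val * e, ?_, fun t => ?_⟩
    · rcases H52.Checked.eps_eq_or (T := C.T) i.val s.val with h1 | h1 <;>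
        rcases he with h2 | h2 <;> simp [h1, h2]
    · have hgen : ∀ (a : ℕ) (_ : a < D.nroots) (u : K),
          H53.nGL D (D.simple i.val) (1 : K) * H52.rt D a u * (H53.nGL D (D.simple i.val) (1 : K))⁻¹ =
            H52.rt D (D.reflectRoot i.val a) ((C.T.eps i.val a : K) * u) := by
        intro a ha u
        rw [mul_inv_eq_iff_eq_mul]
        apply Units.ext
        simp only [Units.val_mul, C.hC.coe_rt, H53.coe_nGL C.hC]
        exact C.hC.sig_mul_x i.isLt ha _
      rw [H54.Ctx.nw_cons, H54.Ctx.wperm_cons, Equiv.Perm.mul_apply, C.sigma_val]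
      constructor
      · rw [show H53.nGL D (D.simple i.val) (1 : K) * H54.Ctx.nw D K L * H52.rt D r.val t *
            (H53.nGL D (D.simple i.val) (1 : K) * H54.Ctx.nw D K L)⁻¹ = H53.nGL D (D.simple i.val) (1 : K) *
            (H54.Ctx.nw D K L * H52.rt D r.val t * (H54.Ctx.nw D K L)⁻¹) *
            (H53.nGL D (D.simple i.val) (1 : K))⁻¹ by group, (h t).1, hgen _ s.isLt, Int.cast_mul, mul_assoc]
      · rw [show H53.nGL D (D.simple i.val) (1 : K) * H54.Ctx.nw D K L * H52.rt D (D.neg r.val) t *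
            (H53.nGL D (D.simple i.val) (1 : K) * H54.Ctx.nw D K L)⁻¹ = H53.nGL D (D.simple i.val) (1 : K) *
            (H54.Ctx.nw D K L * H52.rt D (D.neg r.val) t * (H54.Ctx.nw D K L)⁻¹) *
            (H53.nGL D (D.simple i.val) (1 : K))⁻¹ by group, (h t).2, hgen _ hlt, hee,
          C.hC.reflect_neg i.isLt s.isLt, Int.cast_mul, mul_assoc]

/-- Entrywise application of an automorphism. -/
def mapS (σ : K ≃+* K) : Matrix.SpecialLinearGroup (Fin 2) K →* Matrix.SpecialLinearGroup (Fin 2) K :=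
  Matrix.SpecialLinearGroup.map σ.toRingHom

theorem mapS_val (σ : K ≃+* K) (S : Matrix.SpecialLinearGroup (Fin 2) K) : (mapS σ S).1 = S.1.map σ := rfl

theorem mapS_scale (σ : K ≃+* K) (c : Kˣ) (S : Matrix.SpecialLinearGroup (Fin 2) K) :
    mapS σ (scale c S) = scale (Units.map σ.toRingHom.toMonoidHom c) (mapS σ S) := by
  apply Subtype.ext
  rw [scale_val]
  show (scale c S).1.map σ.toRingHom = _
  rw [scale_val]
  ext i j
  fin_cases i <;> fin_cases j <;> simp [mapS]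

theorem scale_scale (c c' : Kˣ) (S : Matrix.SpecialLinearGroup (Fin 2) K) :
    scale c (scale c' S) = scale (c * c') S := by
  apply Subtype.ext
  rw [scale_val, scale_val, scale_val]
  ext i j
  fin_cases i <;> fin_cases j <;> simp <;> ring

theorem mapS_mapS_symm (σ : K ≃+* K) (S : Matrix.SpecialLinearGroup (Fin 2) K) :
    mapS σ (mapS σ.symm S) = S := by
  apply Subtype.ext
  ext i j
  simp [mapS]

include C in
/-- The twist by the reflection. -/
theorem exists_reflect_twist (σ : K ≃+* K) (b : Fin 3 → Fin D.nroots)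
    (hcomm : ∀ i j, i ≠ j → ∀ t u : K, Commute (H52.rt D (b i).val t) (H52.rt D (b j).val u) ∧
      Commute (H52.rt D (b i).val t) (H52.rt D (D.neg (b j).val) u) ∧
      Commute (H52.rt D (D.neg (b i).val) t) (H52.rt D (D.neg (b j).val) u))
    (n : GL D.Idx K) (c : Fin 3 → Kˣ)
    (hn : ∀ i : Fin 3, ∀ t : K, n * H52.rt D (b i).val t * n⁻¹ = H52.rt D (b (i + 1)).val ((c i : K) * t) ∧
      n * H52.rt D (D.neg (b i).val) t * n⁻¹ = H52.rt D (D.neg (b (i + 1)).val) ((c i : K)⁻¹ * t))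
    {A : Matrix.SpecialLinearGroup (Fin 2) K}
    (hA : mapS σ (mapS σ (mapS σ A)) = ww * scale (c 2 * Units.map σ.symm.toRingHom.toMonoidHom (c 1 *
      Units.map σ.symm.toRingHom.toMonoidHom (c 0))) A) :
    ∃ h ∈ D.group K, H54.glF D σ.toRingHom h * n * h⁻¹ =
      H52.nElt D (b 0).val (1 : K) * n := by
  classical
  choose ψ hu hl using fun i => exists_root_hom (K := K) C (b i)
  have hmem : ∀ i S, ψ i S ∈ D.group K := by
    intro i S
    obtain ⟨x, y, z, h | h⟩ := decomp_cases S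
    · rw [h, map_mul, map_mul, hu, hu, hl]
      exact mul_mem (mul_mem (C.rt_mem_group _ _) (C.rt_mem_group _ _)) (C.rt_mem_group _ _)
    · rw [eq_mul_inv_of_mul_eq h, map_mul, map_inv, map_mul, map_mul, hu, hu, hl, hl]
      exact mul_mem (mul_mem (mul_mem (C.rt_mem_group _ _) (C.rt_mem_group _ _)) (C.rt_mem_group _ _))
        (inv_mem (C.rt_mem_group _ _))
  have hσ : ∀ i S, H54.glF D σ.toRingHom (ψ i S) = ψ i (mapS σ S) := by
    intro i S
    refine DFunLike.congr_fun (hom_eq (φ := (H54.glF D σ.toRingHom).comp (ψ i))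
      (ψ := (ψ i).comp (mapS σ)) (fun t => ?_) fun t => ?_) S
    · rw [MonoidHom.comp_apply, MonoidHom.comp_apply, hu, C.glF_rt,
        show mapS σ (uu t) = uu (σ t) by
          apply Subtype.ext; rw [mapS_val]; ext i j; fin_cases i <;> fin_cases j <;> simp [uu],
        hu]
      rfl
    · rw [MonoidHom.comp_apply, MonoidHom.comp_apply, hl, C.glF_rt,
        show mapS σ (ll t) = ll (σ t) by
          apply Subtype.ext; rw [mapS_val]; ext i j; fin_cases i <;> fin_cases j <;> simp [ll],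
        hl]
      rfl
  have hconj : ∀ i S, n * ψ i S * n⁻¹ = ψ (i + 1) (scale (c i) S) := by
    intro i S
    refine DFunLike.congr_fun (hom_eq (φ := (MulAut.conj n).toMonoidHom.comp (ψ i))
      (ψ := (ψ (i + 1)).comp (scale (c i))) (fun t => ?_) fun t => ?_) S
    · simp only [MonoidHom.comp_apply, MulEquiv.coe_toMonoidHom, MulAut.conj_apply, hu, (hn i t).1]
      rw [scale_uu, hu]
    · simp only [MonoidHom.comp_apply, MulEquiv.coe_toMonoidHom, MulAut.conj_apply, hl, (hn i t).2]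
      rw [scale_ll, hl]
  have hc1 : ∀ i j, i ≠ j → ∀ S (t : K), Commute (ψ i S) (H52.rt D (b j).val t) ∧
      Commute (ψ i S) (H52.rt D (D.neg (b j).val) t) := by
    intro i j hij S t
    have key : ∀ x : GL D.Idx K, (∀ t, Commute (H52.rt D (b i).val t) x) →
        (∀ t, Commute (H52.rt D (D.neg (b i).val) t) x) → Commute (ψ i S) x := by
      intro x h1 h2
      obtain ⟨p, q, r, h | h⟩ := decomp_cases S
      · rw [h, map_mul, map_mul, hu, hu, hl]
        exact ((h1 _).mul_left (h2 _)).mul_left (h1 _)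
      · rw [eq_mul_inv_of_mul_eq h, map_mul, map_inv, map_mul, map_mul, hu, hu, hl, hl]
        exact (((h1 _).mul_left (h2 _)).mul_left (h1 _)).mul_left (h2 _).inv_left
    exact ⟨key _ (fun u => (hcomm i j hij u t).1) (fun u => ((hcomm j i hij.symm t u).2.1).symm),
      key _ (fun u => (hcomm i j hij u t).2.1) (fun u => (hcomm i j hij u t).2.2)⟩
  have hc : ∀ i j, i ≠ j → ∀ S T, Commute (ψ i S) (ψ j T) := by
    intro i j hij S T
    obtain ⟨p, q, r, h | h⟩ := decomp_cases T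
    · rw [h, map_mul, map_mul, hu, hu, hl]
      exact ((hc1 i j hij S _).1.mul_right (hc1 i j hij S _).2).mul_right (hc1 i j hij S _).1
    · rw [eq_mul_inv_of_mul_eq h, map_mul, map_inv, map_mul, map_mul, hu, hu, hl, hl]
      exact (((hc1 i j hij S _).1.mul_right (hc1 i j hij S _).2).mul_right (hc1 i j hij S _).1).mul_right
        (hc1 i j hij S _).2.inv_right
  -- the element
  set S0 := mapS σ (mapS σ A)
  set S1 := mapS σ.symm (scale (c 0) S0)
  set S2 := mapS σ.symm (scale (c 1) S1)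
  have e1 : mapS σ S1 = scale (c 0) S0 := mapS_mapS_symm σ _
  have e2 : mapS σ S2 = scale (c 1) S1 := mapS_mapS_symm σ _
  have e0 : mapS σ S0 = ww * scale (c 2) S2 := by
    rw [hA]
    congr 1
    simp only [S2, S1, S0]
    rw [mapS_scale, mapS_scale, mapS_scale, scale_scale, scale_scale]
    have hs : ∀ T : Matrix.SpecialLinearGroup (Fin 2) K, mapS σ.symm (mapS σ T) = T := fun T => by
      simpa using mapS_mapS_symm σ.symm T
    rw [hs, hs, map_mul, mul_assoc]
  refine ⟨ψ 0 S0 * ψ 1 S1 * ψ 2 S2, mul_mem (mul_mem (hmem _ _) (hmem _ _)) (hmem _ _), ?_⟩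
  have hd0 : n * ψ 0 S0 * n⁻¹ = ψ 1 (scale (c 0) S0) := hconj 0 S0
  have hd1 : n * ψ 1 S1 * n⁻¹ = ψ 2 (scale (c 1) S1) := hconj 1 S1
  have hd2 : n * ψ 2 S2 * n⁻¹ = ψ 0 (scale (c 2) S2) := hconj 2 S2
  set P1 := ψ 1 (scale (c 0) S0) with hP1
  set P2 := ψ 2 (scale (c 1) S1) with hP2
  set P0 := ψ 0 (scale (c 2) S2) with hP0
  rw [map_mul, map_mul, hσ, hσ, hσ, e1, e2, e0, map_mul, ← hP0, ← hP1, ← hP2]
  have hW : H52.nElt D (b 0).val (1 : K) = ψ 0 ww := by
    rw [H52.Checked.nElt_eq, ww_eq, map_mul, map_mul, hu, hl, inv_one]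
  rw [hW]
  have h01 : Commute P0 P1 := hc 0 1 (by decide) _ _
  have h02 : Commute P0 P2 := hc 0 2 (by decide) _ _
  calc ψ 0 ww * P0 * P1 * P2 * n * (ψ 0 S0 * ψ 1 S1 * ψ 2 S2)⁻¹
      = ψ 0 ww * P0 * P1 * P2 *
          (n * ψ 0 S0 * n⁻¹ * (n * ψ 1 S1 * n⁻¹) * (n * ψ 2 S2 * n⁻¹))⁻¹ * n := by group
    _ = ψ 0 ww * (P0 * (P1 * P2)) * (P1 * P2 * P0)⁻¹ * n := by rw [hd0, hd1, hd2]; group
    _ = ψ 0 ww * n := by rw [(h01.mul_right h02).eq, mul_assoc (ψ 0 ww), mul_inv_cancel, mul_one]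

/-- The matrix for the twist. -/
theorem exists_twist_matrix (σ : K ≃+* K) {Q : ℕ} (hσ : ∀ x : K, σ (σ (σ x)) = x ^ Q) (C : Kˣ)
    (hα : ∃ x : Kˣ, (x : K) ^ (Q * Q - 1) = -(((C : K) ^ Q)⁻¹))
    (hβ : ∃ x : Kˣ, (x : K) ^ (Q * Q - 1) = -(C : K))
    (hμ : ∃ μ : Kˣ, μ ^ (Q * Q - 1) = 1 ∧ μ ^ (Q - 1) ≠ 1) (hQ : 1 < Q) :
    ∃ A : Matrix.SpecialLinearGroup (Fin 2) K, mapS σ (mapS σ (mapS σ A)) = ww * scale C A := by
  set F3 : K →+* K := (σ.toRingHom.comp (σ.toRingHom.comp σ.toRingHom)) with hF3def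
  have hF : ∀ x, F3 x = x ^ Q := hσ
  have hC0 : (C : K) ≠ 0 := C.ne_zero
  have hQ2 : ∀ x : K, (x ^ Q) ^ Q = x ^ (Q * Q - 1) * x := fun x => by
    rw [← pow_mul, ← pow_succ, Nat.sub_add_cancel (Nat.one_le_iff_ne_zero.2 (Nat.mul_ne_zero (by omega) (by omega)))]
  obtain ⟨α, hα⟩ := hα
  obtain ⟨β₀, hβ₀⟩ := hβ
  obtain ⟨μ, hμ1, hμ2⟩ := hμ
  -- the determinant
  let det : K → K → K := fun a b => a * b ^ Q - (C : K) * b * a ^ Q
  obtain ⟨β, hβ, hdet⟩ : ∃ β : Kˣ, (β : K) ^ (Q * Q - 1) = -(C : K) ∧ det α β ≠ 0 := by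
    by_cases hz : det α β₀ = 0
    · refine ⟨β₀ * μ, ?_, fun h2 => ?_⟩
      · rw [Units.val_mul, mul_pow, hβ₀, ← Units.val_pow_eq_pow_val μ, hμ1, Units.val_one, mul_one]
      · simp only [det, Units.val_mul, mul_pow] at h2 hz
        have hsplit : ((μ : K) ^ Q - (μ : K)) * ((α : K) * (β₀ : K) ^ Q) = 0 := by
          linear_combination h2 - (μ : K) * hz
        rcases mul_eq_zero.1 hsplit with h3 | h3
        · refine hμ2 (Units.ext ?_)
          rw [Units.val_pow_eq_pow_val, Units.val_one]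
          refine mul_right_cancel₀ μ.ne_zero ?_
          rw [← pow_succ, Nat.sub_add_cancel hQ.le, one_mul]
          exact sub_eq_zero.1 h3
        · exact mul_ne_zero α.ne_zero (pow_ne_zero _ β₀.ne_zero) h3
    · exact ⟨β₀, hβ₀, hz⟩
  set d := det α β with hd
  have hαQ : ((α : K) ^ Q) ^ Q = -(((C : K) ^ Q)⁻¹) * α := by rw [hQ2, hα]
  have hβQ : ((β : K) ^ Q) ^ Q = -(C : K) * β := by rw [hQ2, hβ]
  have hdQ : d ^ Q = d := by
    rw [hd, ← hF (det α β)]
    simp only [det, map_sub, map_mul, map_pow]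
    simp only [hF, hαQ, hβQ]
    field_simp
    ring
  have haQ : (((α : K) / d) ^ Q) ^ Q = -(((C : K) ^ Q)⁻¹) * ((α : K) / d) := by
    rw [div_pow, hdQ, div_pow, hdQ, hαQ]
    ring
  refine ⟨⟨!![(α : K) / d, (β : K); (C : K) * ((α : K) / d) ^ Q, (β : K) ^ Q], ?_⟩, ?_⟩
  · rw [Matrix.det_fin_two_of, div_pow, hdQ]
    field_simp
    rw [hd]
    ring
  · apply Subtype.ext
    show (((!![(α : K) / d, (β : K); (C : K) * ((α : K) / d) ^ Q, (β : K) ^ Q]).map σ).map σ).map σ =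
      !![0, 1; -1, 0] * !![_, _; _, _]
    rw [Matrix.map_map, Matrix.map_map]
    ext i j
    fin_cases i <;> fin_cases j <;> simp [Matrix.mul_apply, Fin.sum_univ_two, Function.comp_def, hσ, mul_pow, haQ,
      hβQ]

end H34.RankOne
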