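import Cfsg.Agent.H34.TorusLift
import Cfsg.Agent.H53.StEmb

/-!
A root embedding carries monomial twisting elements of the smaller group to monomial twisting elements of the
larger one.
-/

set_option autoImplicit false
set_option linter.unusedSectionVars false

open Cfsg.Lie
open scoped MatrixGroups

namespace H34.St

variable {D E' : ChevalleyDatum} (C : H54.Ctx D) (C' : H54.Ctx E') {K : Type*} [Field K]

/-- The lift of a word in the fundamental reflections. -/
noncomputable def nSt (D : ChevalleyDatum) (K : Type*) [Field K] (L : List (Fin D.rank)) : D.SteinbergGroup K :=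
  (L.map fun i => D.stGen K (D.simple i.val) 1 * D.stGen K (D.neg (D.simple i.val)) (-(1 : K)⁻¹) *
    D.stGen K (D.simple i.val) 1).prod

include C in
theorem theta_nSt (θ : D.SteinbergGroup K →* GL D.Idx K)
    (hθ : ∀ r < D.nroots, ∀ t, θ (D.stGen K r t) = H52.rt D r t) (L : List (Fin D.rank)) :
    θ (nSt D K L) = H54.Ctx.nw D K L := by
  rw [nSt, H54.Ctx.nw, map_list_prod, List.map_map]
  congr 1
  refine List.map_congr_left fun i _ => ?_
  have hp := C.hC.simple_lt i.isLt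
  simp [H53.nGL, hθ _ hp, hθ _ (C.hC.neg_lt hp)]

variable {Ls : List ℕ} (hL : H53.EmbOK D E' Ls) (hr : D.rank ≤ E'.rank)
  (hs : ∀ i : Fin D.rank, H53.embIdx Ls (D.simple i.val) = E'.simple i.val)

/-- The extension of a torus parameter by ones. -/
def extT (hr : D.rank ≤ E'.rank) (c : Fin D.rank → Kˣ) : Fin E'.rank → Kˣ :=
  fun j => if h : j.val < D.rank then c ⟨j.val, h⟩ else 1

include C C' hL hs in
theorem emb_nSt (Φ : D.SteinbergGroup K →* GL E'.Idx K)
    (hΦ : ∀ r < D.nroots, ∀ t, Φ (D.stGen K r t) = H52.rt E' (H53.embIdx Ls r) t) (L : List (Fin D.rank)) :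
    Φ (nSt D K L) = H54.Ctx.nw E' K (L.map (Fin.castLE hr)) := by
  rw [nSt, H54.Ctx.nw, map_list_prod, List.map_map, List.map_map]
  congr 1
  refine List.map_congr_left fun i _ => ?_
  have hp := C.hC.simple_lt i.isLt
  have hn : E'.neg (E'.simple i.val) = H53.embIdx Ls (D.neg (D.simple i.val)) := by
    rw [← hs i]; exact hL.neg ⟨_, hp⟩
  simp [H53.nGL, hΦ _ hp, hΦ _ (C.hC.neg_lt hp), hn, hs i]

include C' hL hs in
theorem emb_stTorus (hP : H53.HasPairs D) (Φ : D.SteinbergGroup K →* GL E'.Idx K)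
    (hΦ : ∀ r < D.nroots, ∀ t, Φ (D.stGen K r t) = H52.rt E' (H53.embIdx Ls r) t) (c : Fin D.rank → Kˣ) :
    Φ (H53.stTorus C.hC C.W hP c) = H52.torus E' (extT hr c) := by
  let ext : (Fin D.rank → Kˣ) →* (Fin E'.rank → Kˣ) :=
    MonoidHom.mk' (extT hr) fun a b => by
      funext j
      simp only [extT, Pi.mul_apply]
      by_cases h : j.val < D.rank <;> simp [h]
  refine DFunLike.congr_fun (MonoidHom.pi_ext (M := fun _ : Fin D.rank => Kˣ)
    (f := Φ.comp (H53.stTorus C.hC C.W hP)) (g := (H52.torus E').comp ext) fun i t => ?_) c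
  have hp := C.hC.simple_lt i.isLt
  have hn : E'.neg (H53.embIdx Ls (D.simple i.val)) = H53.embIdx Ls (D.neg (D.simple i.val)) :=
    hL.neg ⟨_, hp⟩
  rw [MonoidHom.comp_apply, MonoidHom.comp_apply, H53.stTorus_single, H53.stH1_apply,
    H53.hom_stHEl C.hC C.W Φ, hΦ _ hp, hΦ _ hp, hΦ _ (C.hC.neg_lt hp), hΦ _ (C.hC.neg_lt hp), ← hn,
    ← H52.Checked.nElt_eq, ← H52.Checked.nElt_eq, ← H52.Checked.hElt_eq,
    C'.hC.hElt_eq_torus (H53.embIdx_lt C.hC C'.hC hL hp)]
  congr 1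
  funext j
  rw [hL.coroot ⟨_, hp⟩ j]
  show _ = if h : j.val < D.rank then Pi.mulSingle (M := fun _ : Fin D.rank => Kˣ) i t ⟨j.val, h⟩ else 1
  by_cases h : j.val < D.rank
  · rw [dif_pos h, if_pos h, C.hC.crt_simple i.isLt h]
    by_cases hji : j.val = i.val
    · rw [if_pos hji, show (⟨j.val, h⟩ : Fin D.rank) = i from Fin.ext hji, Pi.mulSingle_eq_same, zpow_one]
    · rw [if_neg hji, Pi.mulSingle_eq_of_ne (fun e => hji (congrArg Fin.val e)), zpow_zero]
  · rw [dif_neg h, if_neg h, zpow_zero]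

include C C' hL hs in
/-- Transfer of a monomial twisting element. -/
theorem exists_twist_emb (hP : H53.HasPairs D) (σ : K →+* K) {g : GL D.Idx K} (hg : g ∈ D.group K)
    {c : Fin D.rank → Kˣ} {L : List (Fin D.rank)}
    (h : H54.glF D σ g * g⁻¹ = H52.torus D c * H54.Ctx.nw D K L) :
    ∃ g' ∈ E'.group K, ∃ c' : Fin E'.rank → Kˣ,
      H54.glF E' σ g' * g'⁻¹ = H52.torus E' c' * H54.Ctx.nw E' K (L.map (Fin.castLE hr)) := by
  obtain ⟨θ, hθ⟩ := H53.exists_stHom (F := K) C.hC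
  obtain ⟨Φ, hΦ⟩ := H53.exists_embHom C.hC C'.hC hL (F := K)
  have hS := H53.stSys_rel θ hθ
  obtain ⟨gh, hgh⟩ := H53.ChevSys.thetaG_surjective C.hC C.W C.hok hS hP ⟨g, hg⟩
  have hgh' : θ gh = g := congrArg Subtype.val hgh
  set nh := stMap σ gh * gh⁻¹ with hnh
  have hθn : θ nh = H54.glF D σ g * g⁻¹ := by
    rw [hnh, map_mul, map_inv, theta_stMap C σ θ hθ θ hθ, hgh']
  clear_value nh
  set z := nh * (H53.stTorus C.hC C.W hP c * nSt D K L)⁻¹ with hzdef
  have hz : θ z = 1 := by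
    rw [hzdef, map_mul θ nh, map_inv, map_mul, hθn, H53.theta_stTorus C.hC C.W hP θ hθ, theta_nSt C θ hθ, h,
      mul_inv_cancel]
  obtain ⟨c0, hc0⟩ := H53.H_le_range C.hC C.W hP (H53.ChevSys.ker_le_H C.hC C.W C.hok hS hP hz)
  have hnh' : nh = H53.stTorus C.hC C.W hP (c0 * c) * nSt D K L := by
    rw [map_mul, hc0, hzdef]; group
  have hmap : ∀ x, Φ (stMap σ x) = H54.glF E' σ (Φ x) := by
    intro x
    have he : Φ.comp (stMap σ) = (H54.glF E' σ).comp Φ := by
      refine PresentedGroup.ext fun p => ?_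
      have hp : (PresentedGroup.of p : D.SteinbergGroup K) = D.stGen K p.1.val p.2 := by
        rw [ChevalleyDatum.stGen, ChevalleyDatum.stX, dif_pos p.1.isLt]; rfl
      rw [MonoidHom.comp_apply, MonoidHom.comp_apply, hp, stMap_stGen, hΦ _ p.1.isLt, hΦ _ p.1.isLt,
        C'.glF_rt]
    exact DFunLike.congr_fun he x
  have hmem : ∀ x, Φ x ∈ E'.group K := by
    intro x
    have : (⊤ : Subgroup (D.SteinbergGroup K)) ≤ (E'.group K).comap Φ := by
      rw [← hS.gen, Subgroup.closure_le]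
      rintro y ⟨r, t, rfl⟩
      rw [SetLike.mem_coe, Subgroup.mem_comap]
      show Φ (D.stGen K r.val t) ∈ _
      rw [hΦ _ r.isLt]
      exact C'.rt_mem_group _ _
    exact this (Subgroup.mem_top x)
  refine ⟨Φ gh, hmem _, extT hr (c0 * c), ?_⟩
  rw [← hmap, ← map_inv, ← map_mul, ← hnh, hnh', map_mul, emb_stTorus C C' hL hr hs hP Φ hΦ,
    emb_nSt C C' hL hr hs Φ hΦ]

end H34.St
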