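import Cfsg.Agent.H34.E6Frame
import Cfsg.Agent.H34.StEmbedWord
import Cfsg.Agent.H34.RankOne
import Cfsg.Agent.H34.E7Spec

/-!
An element of the group of type E7 over an extension field twisting Frobenius to a monomial element whose Weyl
component is the twisted element.
-/

set_option autoImplicit false
set_option linter.unusedSectionVars false

open Cfsg.Lie
open scoped MatrixGroups
open Matrix Polynomial

attribute [local irreducible] Cfsg.Lie.chevE6 Cfsg.Lie.chevE7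

namespace H34.E7Cox

open E6Cox (C6)
open Tori (bform cov cmat lmat uval rval InT)

variable {K : Type*} [Field K]

/-- Roots of last coefficient one orthogonal to each other give commuting root groups, also with signs. -/
theorem commute_of_orth {r s : Fin chevE7.nroots} (hr : cov C7 r last = 1) (hs : cov C7 s last = 1)
    (h : bform (cov C7 r) (cov C7 s) = 0) (t u : K) :
    Commute (H52.rt chevE7 r.val t) (H52.rt chevE7 s.val u) ∧
      Commute (H52.rt chevE7 r.val t) (H52.rt chevE7 (chevE7.neg s.val) u) ∧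
      Commute (H52.rt chevE7 (chevE7.neg r.val) t) (H52.rt chevE7 (chevE7.neg s.val) u) := by
  have hok := orthOK_all _ (mem_of_last hr) _ (mem_of_last hs)
  have hb : bForm r.val s.val = 0 := by rw [← bform_list]; exact h
  rw [bForm] at hb
  simp only [orthOK, hb, bne_self_eq_false, Bool.false_or, Bool.and_eq_true, List.isEmpty_iff] at hok
  obtain ⟨⟨⟨e1, e2⟩, -⟩, e4⟩ := hok
  have key : ∀ a b : ℕ, a < chevE7.nroots → b < chevE7.nroots → b ≠ a → b ≠ chevE7.neg a →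
      chevE7.commTerms a b = [] → Commute (H52.rt chevE7 a t) (H52.rt chevE7 b u) := by
    intro a b ha hb h1 h2 h3
    have hc := C7.hC.comm_rt ha hb h1 h2 t u
    have hw : chevE7.commWord K a b t u = [] := by
      rw [Cfsg.Lie.ChevalleyDatum.commWord, h3]; rfl
    rw [hw, show H52.wordRt chevE7 ([] : List (ℕ × K)) = 1 by simp [H52.wordRt], mul_one] at hc
    exact hc.symm
  have hne : r.val ≠ s.val := fun e => by
    have := bform_self r
    rw [← Fin.ext e] at h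
    omega
  have hco : ∀ a : Fin chevE7.nroots, cov C7 a last = 1 → H52.tablesE7.co (chevE7.neg a.val) last.val = -1 :=
    fun a ha => (C7.hC.co_neg a.isLt last.isLt).trans (congrArg (- ·) ha)
  have hns : chevE7.neg s.val ≠ r.val := fun e => by
    have h1 := hco s hs
    rw [e, show H52.tablesE7.co r.val last.val = 1 from hr] at h1
    omega
  have hnr : s.val ≠ chevE7.neg r.val := fun e => by
    have h1 := hco r hr
    rw [← e, show H52.tablesE7.co s.val last.val = 1 from hs] at h1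
    omega
  have hnn : chevE7.neg s.val ≠ chevE7.neg r.val := fun e => hne (by
    rw [← C7.hC.neg_neg r.isLt, ← e, C7.hC.neg_neg s.isLt])
  refine ⟨key _ _ r.isLt s.isLt hne.symm hnr e1, key _ _ r.isLt (C7.hC.neg_lt s.isLt) hns hnn e2,
    key _ _ (C7.hC.neg_lt r.isLt) (C7.hC.neg_lt s.isLt) hnn ?_ e4⟩
  rw [C7.hC.neg_neg r.isLt]
  exact hns

/-- A monomial element acts on a pair of opposite root groups through a unit and its inverse. -/
theorem exists_conj_coeff (c : Fin chevE7.rank → Kˣ) (L : List (Fin chevE7.rank)) (r : Fin chevE7.nroots) :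
    ∃ (e : ℤ) (χ : Kˣ), (e = 1 ∨ e = -1) ∧
      (χ = ∏ i : Fin chevE7.rank, c i ^ chevE7.cartan i.val (C7.wperm L r).val) ∧
      ∀ t : K, H52.torus chevE7 c * H54.Ctx.nw chevE7 K L * H52.rt chevE7 r.val t *
          (H52.torus chevE7 c * H54.Ctx.nw chevE7 K L)⁻¹ =
            H52.rt chevE7 (C7.wperm L r).val (((χ : K) * (e : K)) * t) ∧
        H52.torus chevE7 c * H54.Ctx.nw chevE7 K L * H52.rt chevE7 (chevE7.neg r.val) t *
          (H52.torus chevE7 c * H54.Ctx.nw chevE7 K L)⁻¹ =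
            H52.rt chevE7 (chevE7.neg (C7.wperm L r).val) (((χ : K) * (e : K))⁻¹ * t) := by
  obtain ⟨e, he, h⟩ := RankOne.nw_conj_pair (K := K) C7
    (fun r i => eps_neg r.val (lt_of_lt_of_eq r.isLt nroots_E7) i.val (lt_of_lt_of_eq i.isLt rank_seven)) L r
  set w := C7.wperm L r
  refine ⟨e, _, he, rfl, fun t => ⟨?_, ?_⟩⟩
  · rw [show H52.torus chevE7 c * H54.Ctx.nw chevE7 K L * H52.rt chevE7 r.val t *
      (H52.torus chevE7 c * H54.Ctx.nw chevE7 K L)⁻¹ = H52.torus chevE7 c *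
      (H54.Ctx.nw chevE7 K L * H52.rt chevE7 r.val t * (H54.Ctx.nw chevE7 K L)⁻¹) *
      (H52.torus chevE7 c)⁻¹ by group, (h t).1, C7.hC.torus_conj_rt c w.isLt, mul_assoc]
  · rw [show H52.torus chevE7 c * H54.Ctx.nw chevE7 K L * H52.rt chevE7 (chevE7.neg r.val) t *
      (H52.torus chevE7 c * H54.Ctx.nw chevE7 K L)⁻¹ = H52.torus chevE7 c *
      (H54.Ctx.nw chevE7 K L * H52.rt chevE7 (chevE7.neg r.val) t * (H54.Ctx.nw chevE7 K L)⁻¹) *
      (H52.torus chevE7 c)⁻¹ by group, (h t).2, C7.hC.torus_conj_rt c (C7.hC.neg_lt w.isLt),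
      (C7.hC.isChar_torus c).map_neg w.val w.isLt]
    congr 1
    rcases he with rfl | rfl <;> simp

/-- A root of a unit of a finite field. -/
theorem exists_root {N : ℕ} [NeZero N] (e : Multiplicative (ZMod N) ≃* Kˣ) {d : ℕ} (hd : d ∣ N) {y : Kˣ}
    (hy : y ^ (N / d) = 1) : ∃ x : Kˣ, x ^ d = y := by
  obtain ⟨a, rfl⟩ : ∃ a : ZMod N, uval e a = y :=
    ⟨Multiplicative.toAdd (e.symm y), by simp [uval]⟩
  rw [← Tori.uval_natCast_mul, ← Tori.uval_zero e] at hy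
  have h0 := Tori.uval_injective e hy
  rw [← ZMod.natCast_rightInverse a, ← Nat.cast_mul, ZMod.natCast_eq_zero_iff] at h0
  have hpos : 0 < N / d := Nat.div_pos (Nat.le_of_dvd (NeZero.pos N) hd)
    (Nat.pos_of_ne_zero fun e0 => NeZero.ne N (zero_dvd_iff.1 (e0 ▸ hd)))
  obtain ⟨b, hb⟩ : d ∣ a.val := by
    refine Nat.dvd_of_mul_dvd_mul_left hpos ?_
    rwa [Nat.div_mul_cancel hd]
  refine ⟨uval e (b : ZMod N), ?_⟩
  rw [← Tori.uval_natCast_mul, ← Nat.cast_mul, ← hb]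
  exact congrArg (uval e) (ZMod.natCast_rightInverse a)

/-- The reflection element acts on the diagonal subgroup through its matrix. -/
theorem nElt_conj_tor {N : ℕ} (e : Multiplicative (ZMod N) ≃* Kˣ) (β : Fin chevE7.nroots)
    (f : Fin chevE7.rank → ZMod N) :
    H52.nElt chevE7 β.val (1 : K) * Tori.tor C7 e f * (H52.nElt chevE7 β.val (1 : K))⁻¹ =
      Tori.tor C7 e (f ᵥ* Tori.toZ N (refl β)) := by
  set a := rval C7 f β with ha
  set χ : Kˣ := uval e a with hχ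
  set β' : Fin chevE7.nroots := ⟨chevE7.neg β.val, C7.hC.neg_lt β.isLt⟩
  have hβ' : rval C7 f β' = -a := by
    rw [ha, rval, rval, ← dotProduct_neg]
    congr 1
    funext j
    rw [Pi.neg_apply, ← Int.cast_neg]
    exact congrArg (Int.cast : ℤ → ZMod N) (C7.hC.co_neg β.isLt j.isLt)
  have hchi : uval e (-a) = χ⁻¹ := eq_inv_of_mul_eq_one_left (by
    rw [hχ, ← Tori.uval_add, neg_add_cancel, Tori.uval_zero])
  set n1 := H52.nElt chevE7 β.val (1 : K) with hn1
  have h1 : Tori.tor C7 e f * n1 * (Tori.tor C7 e f)⁻¹ = H52.nElt chevE7 β.val (χ : K) := by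
    rw [hn1, H52.Checked.nElt_eq, H52.Checked.nElt_eq,
      show ∀ x y z T : GL chevE7.Idx K, T * (x * y * z) * T⁻¹ = T * x * T⁻¹ * (T * y * T⁻¹) * (T * z * T⁻¹) by
        intros; group,
      Tori.tor_conj_rt C7 e f β, show chevE7.neg β.val = β'.val from rfl, Tori.tor_conj_rt C7 e f β', hβ',
      hchi, ← ha, ← hχ]
    simp
  have h2 : H52.nElt chevE7 β.val (χ : K) * n1⁻¹ =
      Tori.tor C7 e ((a • fun j => (cov C7 β j : ZMod N)) ᵥ* Tori.toZ N (cmat chevE7)) := by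
    rw [hn1, C7.hC.nElt_inv β.isLt, ← H52.Checked.hElt_eq, C7.hC.hElt_eq_torus β.isLt, ← Tori.torus_eq_tor]
    congr 1
    funext i
    have hcrt : H52.crt chevE7 β.val i.val = cov C7 β i :=
      crt_eq_co β.val (lt_of_lt_of_eq β.isLt nroots_E7) i.val (lt_of_lt_of_eq i.isLt rank_seven)
    rw [hχ, hcrt, uval, ← map_zpow, ← ofAdd_zsmul, zsmul_eq_mul, mul_comm]
    rfl
  set g' := (a • fun j => (cov C7 β j : ZMod N)) ᵥ* Tori.toZ N (cmat chevE7) with hg'
  have hf : f ᵥ* Tori.toZ N (refl β) = f + -g' := by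
    rw [refl, Tori.toZ, Matrix.map_sub _ (map_sub _), Matrix.map_one _ (map_zero _) (map_one _), Matrix.vecMul_sub,
      Matrix.vecMul_one, ← sub_eq_add_neg]
    congr 1
    rw [hg', Matrix.smul_vecMul]
    funext j
    simp only [Matrix.vecMul, dotProduct, Matrix.map_apply, Matrix.vecMulVec_apply, Int.coe_castRingHom,
      Pi.smul_apply, smul_eq_mul, Int.cast_mul, Int.cast_sum, ha, rval, Finset.sum_mul, Tori.toZ]
    refine Finset.sum_congr rfl fun i _ => ?_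
    ring
  have h3 : n1 * (Tori.tor C7 e f)⁻¹ * n1⁻¹ = (Tori.tor C7 e f)⁻¹ * Tori.tor C7 e g' := by
    rw [← h2, ← h1]; group
  have hneg : ∀ g : Fin chevE7.rank → ZMod N, (Tori.tor C7 e g)⁻¹ = Tori.tor C7 e (-g) := fun g => by
    rw [inv_eq_iff_mul_eq_one, ← Tori.tor_add, add_neg_cancel, Tori.tor_zero]
  have h4 := congrArg Inv.inv h3
  rw [show (n1 * (Tori.tor C7 e f)⁻¹ * n1⁻¹)⁻¹ = n1 * Tori.tor C7 e f * n1⁻¹ by group, _root_.mul_inv_rev, inv_inv,
    hneg g', ← Tori.tor_add] at h4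
  rw [h4, hf, add_comm]

theorem inT_refl {N : ℕ} {f : Fin chevE7.rank → ZMod N} (hf : InT f) (π : Equiv.Perm (Fin chevE7.nroots))
    (hπ : π ∈ Tori.wgrp C7) : InT (f ᵥ* Tori.toZ N (lmat C7 π)) := by
  obtain ⟨g, rfl⟩ := hf
  refine ⟨g ᵥ* Tori.toZ N (Tori.dmat C7 π), ?_⟩
  rw [Matrix.vecMul_vecMul, Matrix.vecMul_vecMul, Tori.toZ, Tori.toZ, Tori.toZ, ← Matrix.map_mul, ← Matrix.map_mul,
    Tori.dmat_mul_cmat C7 hsym7 hπ]

/-- The monomial element times the reflection acts on the diagonal subgroup through the twisted matrix. -/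
theorem conj_tor {N : ℕ} (e : Multiplicative (ZMod N) ≃* Kˣ) (W : List (Fin chevE6.rank))
    (β : Fin chevE7.nroots) (L : List (Fin chevE7.rank)) (hL : (C7.wperm L)⁻¹ = C7.wperm (up W))
    (c : Fin chevE7.rank → Kˣ) {f : Fin chevE7.rank → ZMod N} (hf : InT f) :
    (H52.nElt chevE7 β.val (1 : K) * (H52.torus chevE7 c * H54.Ctx.nw chevE7 K L)) * Tori.tor C7 e f *
      (H52.nElt chevE7 β.val (1 : K) * (H52.torus chevE7 c * H54.Ctx.nw chevE7 K L))⁻¹ =
        Tori.tor C7 e (f ᵥ* Tori.toZ N (twm W β)) := by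
  obtain ⟨a, ha⟩ : ∃ a, Tori.tor C7 e a = H52.torus chevE7 c :=
    ⟨(fun i => Multiplicative.toAdd (e.symm (c i))) ᵥ* Tori.toZ N (cmat chevE7), by
      rw [← Tori.torus_eq_tor C7 e]; congr 1; funext i; simp [uval]⟩
  rw [show H52.nElt chevE7 β.val (1 : K) * (H52.torus chevE7 c * H54.Ctx.nw chevE7 K L) * Tori.tor C7 e f *
      (H52.nElt chevE7 β.val (1 : K) * (H52.torus chevE7 c * H54.Ctx.nw chevE7 K L))⁻¹ =
      H52.nElt chevE7 β.val (1 : K) * (H52.torus chevE7 c * (H54.Ctx.nw chevE7 K L * Tori.tor C7 e f *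
        (H54.Ctx.nw chevE7 K L)⁻¹) * (H52.torus chevE7 c)⁻¹) * (H52.nElt chevE7 β.val (1 : K))⁻¹ by group,
    Tori.nw_conj_tor C7 e L hf, hL, ← ha]
  set f' := f ᵥ* Tori.toZ N (lmat C7 (C7.wperm (up W)))
  rw [← Tori.tor_add, add_comm, Tori.tor_add, mul_inv_cancel_right, nElt_conj_tor]
  congr 1
  rw [Matrix.vecMul_vecMul, twm, Tori.toZ, Tori.toZ, Tori.toZ, Matrix.map_mul]

/-- The twisting element. -/
theorem exists_twisting {F E1 E : Type*} [Field F] [Fintype F] [Field E1] [Fintype E1] [Field E]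
    (hQ1 : Fintype.card E1 = Fintype.card F ^ 36) (ι1 : F →+* E1) (σ1 : E1 ≃+* E1)
    (hσ1 : ∀ x, σ1 x = x ^ Fintype.card F) (hσι1 : σ1.toRingHom.comp ι1 = ι1) (j1 : E1 →+* E)
    (σ : E ≃+* E) (hσ : ∀ x, σ x = x ^ Fintype.card F) {N : ℕ} [NeZero N]
    (hN : N + 1 = Fintype.card F ^ (36 * (Fintype.card F ^ 6 - 1))) (e : Multiplicative (ZMod N) ≃* Eˣ) :
    ∃ gE ∈ chevE7.group E, ∃ (W : List (Fin chevE6.rank)) (β : Fin chevE7.nroots), TData W β ∧
      ∀ f : Fin chevE7.rank → ZMod N, InT f →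
        (H54.glF chevE7 σ.toRingHom gE * gE⁻¹) * Tori.tor C7 e f * (H54.glF chevE7 σ.toRingHom gE * gE⁻¹)⁻¹ =
          Tori.tor C7 e (f ᵥ* Tori.toZ N (twm W β)) := by
  classical
  set q := Fintype.card F with hqdef
  have hq2 : 1 < q := Fintype.one_lt_card
  obtain ⟨ℓ, hl, hl12, hprim⟩ := E6Cox.exists_ell q hq2
  set N1 := Nat.card E1ˣ with hN1
  have : NeZero N1 := ⟨Nat.card_pos.ne'⟩
  let e1 : Multiplicative (ZMod N1) ≃* E1ˣ := zmodCyclicMulEquiv inferInstance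
  obtain ⟨g6, hg6, a, f₀, L, haT, hn6, hf0, hlf, heig⟩ :=
    E6Cox.exists_frame (m := 36) ⟨3, rfl⟩ (by norm_num) hQ1 ι1 σ1 hσ1 hσι1 e1 hl hl12 hprim
  obtain ⟨c6, hc6⟩ : ∃ c6 : Fin chevE6.rank → E1ˣ,
      H54.glF chevE6 σ1.toRingHom g6 * g6⁻¹ = H52.torus chevE6 c6 * H54.Ctx.nw chevE6 E1 L := by
    have hmem : Tori.tor C6 e1 a ∈ chevE6.diagonalSubgroup E1 := Tori.tor_mem C6 e1 haT
    rw [C6.hC.diagonalSubgroup_eq] at hmem
    obtain ⟨c, hc⟩ := hmem
    exact ⟨c, by rw [hn6, hc]⟩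
  obtain ⟨g7, hg7, c', hn7⟩ := St.exists_twist_emb C6 C7 e6InE7_ok six_le simple_emb H53.pairsE6
    σ1.toRingHom hg6 hc6
  set L7 : List (Fin chevE7.rank) := L.map (Fin.castLE six_le) with hL7
  set W := L.reverse with hW
  have hW6 : C6.wperm W = (C6.wperm L)⁻¹ := by rw [hW, C6.wperm_reverse]
  have hL7W : (C7.wperm L7)⁻¹ = C7.wperm (up W) := by
    rw [← C7.wperm_reverse, hL7, ← List.map_reverse]; rfl
  rw [← hW6] at heig
  obtain ⟨β, hb1, hb2, hb3, hb4, hb5, hb6, hb7⟩ := exists_beta hl hprim hf0 hlf heig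
  obtain ⟨hpol, h12, h3, -⟩ := E6Cox.eigen_cert hl hprim (Tori.wperm_mem_wgrp C6 W) hf0 hlf heig
  have hT : TData W β :=
    { last_one := hb1, cyc := hb2, o12 := hb3, o13 := hb4, o23 := hb5, zero := hb7, wzero := hb6
      pol6 := hpol, h12 := h12
      hx := by
        obtain ⟨v, hv⟩ : ∃ v : Fin chevE6.rank → ℤ,
            aeval (lmat C6 (C6.wperm W)) (cyclotomic 3 ℤ) *ᵥ v ≠ 0 := by
          by_contra hall
          push Not at hall
          exact E6Cox.ne_zero_aeval_three h3 (Matrix.ext_iff_mulVec.2 fun z => by rw [hall, Matrix.zero_mulVec])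
        exact ⟨_, hv, by rw [Matrix.mulVec_mulVec, ← map_mul, ← E6Cox.pol, hpol, Matrix.zero_mulVec]⟩ }
  set b := broot W β with hbdef
  -- the data over the large field
  set cE : Fin chevE7.rank → Eˣ := fun i => Units.map j1.toMonoidHom (c' i) with hcE
  set n7 := H52.torus chevE7 cE * H54.Ctx.nw chevE7 E L7 with hn7def
  set gj := H54.glF chevE7 j1 g7 with hgj
  set s := H54.glF chevE7 σ.toRingHom with hs
  have hsj : ∀ x, s (H54.glF chevE7 j1 x) = H54.glF chevE7 j1 (H54.glF chevE7 σ1.toRingHom x) := fun x => by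
    rw [hs, H54.glF_comp, H54.glF_comp]
    congr 2
    refine RingHom.ext fun y => ?_
    simp [hσ, hσ1, map_pow]
  have hgjn : s gj * gj⁻¹ = n7 := by
    rw [hgj, hsj, ← map_inv, ← map_mul, hn7, map_mul, H54.Ctx.glF_torus, C7.glF_nw]
  -- the coefficients
  have hρ : ∀ i : Fin 3, C7.wperm L7 (b i) = b (i + 1) := by
    intro i
    rw [show C7.wperm L7 = (C7.wperm (up W))⁻¹ by rw [← hL7W, inv_inv]]
    fin_cases i
    · rfl
    · rfl
    · exact hT.cyc
  choose es χ hes hχ hconj using fun i => exists_conj_coeff cE L7 (b i)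
  let c : Fin 3 → Eˣ := fun i => χ i * (if es i = 1 then 1 else -1)
  have hc : ∀ i, (c i : E) = (χ i : E) * (es i : E) := fun i => by
    rcases hes i with h | h <;> simp [c, h]
  set Q1 := q ^ 36 - 1 with hQ1def
  have hQ1pos : 0 < Q1 := by
    have := Nat.one_lt_pow (show 36 ≠ 0 by norm_num) hq2
    omega
  have hrange : ∀ x ∈ (Units.map j1.toMonoidHom).range, x ^ Q1 = 1 := by
    rintro _ ⟨y, rfl⟩
    rw [← map_pow, show Q1 = Fintype.card E1ˣ by rw [Fintype.card_units, hQ1], pow_card_eq_one, map_one]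
  have hneg1 : (-1 : Eˣ) ∈ (Units.map j1.toMonoidHom).range := ⟨-1, Units.ext (by simp)⟩
  have hcQ : ∀ i, c i ^ Q1 = 1 := by
    intro i
    refine hrange _ (mul_mem ?_ ?_)
    · rw [hχ i]
      exact prod_mem fun j _ => zpow_mem (show cE j ∈ (Units.map j1.toMonoidHom).range from ⟨c' j, rfl⟩) _
    · split
      exacts [one_mem _, hneg1]
  set C := c 2 * Units.map σ.symm.toRingHom.toMonoidHom (c 1 *
    Units.map σ.symm.toRingHom.toMonoidHom (c 0)) with hCdef
  have hC : C ^ Q1 = 1 := by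
    rw [hCdef]
    simp only [mul_pow, ← map_pow, hcQ, map_one, mul_one]
  -- the divisibility
  set k := q ^ 6 - 1 with hk
  have hk0 : 0 < k := by
    have := Nat.one_lt_pow (show 6 ≠ 0 by norm_num) hq2
    omega
  have hkN : Q1 * k ∣ N := by
    have hk36 : ((q ^ 36 : ℕ) : ZMod k) = 1 := by
      have h6 : ((q ^ 6 : ℕ) : ZMod k) = 1 := by
        rw [show q ^ 6 = k + 1 by omega, Nat.cast_add, ZMod.natCast_self, zero_add, Nat.cast_one]
      rw [show q ^ 36 = (q ^ 6) ^ 6 by rw [← pow_mul], Nat.cast_pow, h6, one_pow]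
    obtain ⟨t, ht⟩ : k ∣ ∑ i ∈ Finset.range k, (q ^ 36) ^ i := by
      rw [← ZMod.natCast_eq_zero_iff, Tori.geom_prod_cast hk36, ZMod.natCast_self]
    have hg := geom_sum_mul_of_one_le (show 1 ≤ q ^ 36 from Nat.one_le_pow _ _ (by omega)) k
    rw [← pow_mul, ← hN, ht, Nat.add_sub_cancel] at hg
    exact ⟨t, by rw [← hg]; ring⟩
  have hkdvd : k ∣ N := (dvd_mul_left k Q1).trans hkN
  have hQdiv : Q1 ∣ N / k := Nat.dvd_div_of_mul_dvd (by rwa [mul_comm])
  have hroot : ∀ y : Eˣ, y ^ Q1 = 1 → ∃ x : Eˣ, x ^ k = y := fun y hy => by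
    obtain ⟨t, ht⟩ := hQdiv
    exact exists_root e hkdvd (by rw [ht, pow_mul, hy, one_pow])
  have hQQ : q ^ 3 * q ^ 3 - 1 = k := by rw [hk, ← pow_add]
  have hnegQ : (-1 : Eˣ) ^ Q1 = 1 := hrange _ hneg1
  have hα : ∃ x : Eˣ, (x : E) ^ (q ^ 3 * q ^ 3 - 1) = -(((C : E) ^ q ^ 3)⁻¹) := by
    obtain ⟨x, hx⟩ := hroot (-1 * (C ^ q ^ 3)⁻¹) (by
      rw [mul_pow, hnegQ, inv_pow, ← pow_mul, mul_comm (q ^ 3), pow_mul, hC, one_pow, inv_one, mul_one])
    refine ⟨x, ?_⟩
    rw [hQQ, ← Units.val_pow_eq_pow_val, hx]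
    simp
  have hβ' : ∃ x : Eˣ, (x : E) ^ (q ^ 3 * q ^ 3 - 1) = -(C : E) := by
    obtain ⟨x, hx⟩ := hroot (-1 * C) (by rw [mul_pow, hnegQ, hC, mul_one])
    refine ⟨x, ?_⟩
    rw [hQQ, ← Units.val_pow_eq_pow_val, hx]
    simp
  have hq3 : 1 < q ^ 3 := Nat.one_lt_pow (by norm_num) hq2
  have hμ : ∃ μ : Eˣ, μ ^ (q ^ 3 * q ^ 3 - 1) = 1 ∧ μ ^ (q ^ 3 - 1) ≠ 1 := by
    rw [hQQ]
    obtain ⟨t, ht⟩ := hkdvd
    refine ⟨uval e (t : ZMod N), ?_, ?_⟩
    · rw [← Tori.uval_natCast_mul, ← Nat.cast_mul, ← ht, ZMod.natCast_self, Tori.uval_zero]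
    · rw [← Tori.uval_natCast_mul, ← Nat.cast_mul, ← Tori.uval_zero e, Ne, (Tori.uval_injective e).eq_iff,
        ZMod.natCast_eq_zero_iff]
      intro hd
      have ht0 : 0 < t := Nat.pos_of_ne_zero fun e0 => NeZero.ne N (by rw [ht, e0, mul_zero])
      have hle := Nat.le_of_dvd (Nat.mul_pos (by omega) ht0) hd
      rw [ht] at hle
      have := Nat.le_of_mul_le_mul_right hle ht0
      have : q ^ 3 - 1 < k := by
        rw [← hQQ]
        have := Nat.mul_lt_mul_of_pos_right hq3 (show 0 < q ^ 3 by omega)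
        omega
      omega
  have hσ3 : ∀ x : E, σ (σ (σ x)) = x ^ (q ^ 3) := fun x => by
    rw [hσ, hσ, hσ, ← pow_mul, ← pow_mul]
    congr 1
    ring
  obtain ⟨A, hA⟩ := RankOne.exists_twist_matrix σ hσ3 C hα hβ' hμ hq3
  have hlast : ∀ i, cov C7 (b i) last = 1 := by
    have hp : ∀ r, cov C7 r last = 1 → cov C7 ((C7.wperm (up W))⁻¹ r) last = 1 := fun r hr => by
      rw [← hr]
      conv_rhs => rw [← Equiv.apply_symm_apply (C7.wperm (up W)) r]
      exact (co_last_perm W _).symm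
    intro i
    fin_cases i
    exacts [hb1, hp _ hb1, hp _ (hp _ hb1)]
  obtain ⟨h, hh, hhn⟩ := RankOne.exists_reflect_twist C7 σ b
    (fun i j hij t u => commute_of_orth (hlast i) (hlast j)
      (by rw [hbdef, bform_broot hT, if_neg hij]) t u)
    n7 c (fun i t => by
      obtain ⟨h1, h2⟩ := hconj i t
      rw [hρ, ← hc] at h1 h2
      exact ⟨h1, h2⟩) hA
  refine ⟨h * gj, mul_mem hh (C7.glF_group_le j1 ⟨_, hg7, rfl⟩), W, β, hT, fun f hf => ?_⟩
  have htw : s (h * gj) * (h * gj)⁻¹ = H52.nElt chevE7 β.val (1 : E) * n7 := by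
    have : s (h * gj) * (h * gj)⁻¹ = s h * (s gj * gj⁻¹) * h⁻¹ := by rw [map_mul]; group
    rw [this, hgjn, hs, hhn]
    rfl
  rw [htw, hn7def]
  exact conj_tor e W β L7 hL7W cE hf

end H34.E7Cox
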