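import Mathlib
import Cfsg.Agent.H87.AbelianEssential
import Cfsg.Agent.H6.Commutator
import Cfsg.Agent.H76.Basic
import Cfsg.Agent.H67.Q8Tools
import Cfsg.Agent.H79.CubeExtraspecial
import Cfsg.Prelude.Def_Transfer

/-!
Groups of order `p⁴` whose automorphism group can act as that of an essential subgroup.
-/

set_option autoImplicit false

namespace H34

open Cfsg
open scoped commutatorElement

universe u

variable {H : Type u} [Group H] [Finite H] {p : ℕ} [Fact p.Prime]

theorem card_sup_zpowers (K : Subgroup H) [K.Normal] {x : H} (hx : x ∉ K) (hxp : x ^ p ∈ K) :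
    Nat.card ↥(K ⊔ Subgroup.zpowers x) = p * Nat.card K := by
  set N := K ⊔ Subgroup.zpowers x with hN
  set φ := (QuotientGroup.mk' K).comp N.subtype with hφ
  have hker : φ.ker = K.subgroupOf N := by
    ext y; simp [hφ, Subgroup.mem_subgroupOf]
  have hrange : φ.range = Subgroup.zpowers (QuotientGroup.mk' K x) := by
    rw [hφ, MonoidHom.range_comp, Subgroup.range_subtype, hN, Subgroup.map_sup,
      QuotientGroup.map_mk'_self, bot_sup_eq, MonoidHom.map_zpowers]
  have hne : QuotientGroup.mk' K x ≠ 1 := fun h => hx ((QuotientGroup.eq_one_iff x).1 h)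
  have hord : orderOf (QuotientGroup.mk' K x) = p :=
    orderOf_eq_prime (by rw [← map_pow]; exact (QuotientGroup.eq_one_iff _).2 hxp) hne
  have h1 := Subgroup.card_mul_index φ.ker
  rw [Subgroup.index_ker, hrange, Nat.card_zpowers, hord, hker,
    Nat.card_congr (Subgroup.subgroupOfEquivOfLe (le_sup_left : K ≤ N)).toEquiv] at h1
  rw [← h1, mul_comm]

theorem card_comap_mk (N : Subgroup H) [N.Normal] (L : Subgroup (H ⧸ N)) :
    Nat.card ↥(L.comap (QuotientGroup.mk' N)) = Nat.card N * Nat.card L := by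
  have h1 := Subgroup.card_mul_index (L.comap (QuotientGroup.mk' N))
  rw [Subgroup.index_comap_of_surjective _ (QuotientGroup.mk'_surjective N),
    ← Subgroup.card_mul_index N, show N.index = Nat.card L * L.index from
      (Subgroup.index_eq_card N).trans (Subgroup.card_mul_index L).symm,
    ← mul_assoc] at h1
  exact Nat.eq_of_mul_eq_mul_right (Nat.pos_of_ne_zero L.index_ne_zero_of_finite) h1

/-- A subgroup of `p`-power order with strictly larger subgroup. -/
theorem eq_of_card_sq {K L : Subgroup H} (hKL : K ≤ L) (hne : ¬ L ≤ K)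
    (hK : Nat.card K = p) (hL : Nat.card L = p ^ 2) {M : Subgroup H} (hKM : K ≤ M) (hML : M ≤ L)
    (hMK : ¬ M ≤ K) : M = L := by
  have hp : p.Prime := Fact.out
  obtain ⟨j, hj, hMc⟩ := (Nat.dvd_prime_pow hp).1 (hL ▸ Subgroup.card_dvd_of_le hML)
  refine Subgroup.eq_of_le_of_card_ge hML ?_
  by_contra hcon
  rw [hL, hMc] at hcon
  have hj1 : j ≤ 1 := by
    by_contra h
    exact hcon (Nat.pow_le_pow_right hp.pos (by omega))
  refine hMK (Subgroup.eq_of_le_of_card_ge hKM ?_).ge
  rw [hK, hMc]
  exact (Nat.pow_le_pow_right hp.pos hj1).trans (pow_one p).le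

/-- An invariant series with all factors of order `p`. -/
theorem derivedFixes_of_series (hH : IsPGroup p H) (hcard : Nat.card H = p ^ 4)
    (A : Subgroup (MulAut H)) (R1 R2 R3 : Subgroup H) [R1.Normal] [R2.Normal] [R3.Normal]
    (h1 : ∀ α ∈ A, ∀ r ∈ R1, α r ∈ R1) (h2 : ∀ α ∈ A, ∀ r ∈ R2, α r ∈ R2)
    (h3 : ∀ α ∈ A, ∀ r ∈ R3, α r ∈ R3) (h12 : R1 ≤ R2) (h23 : R2 ≤ R3)
    (c1 : Nat.card R1 = p) (c2 : Nat.card R2 = p ^ 2) (c3 : Nat.card R3 = p ^ 3) :
    H87.DerivedFixes p A ⊤ := by
  have d0 : H87.DerivedFixes p A (⊥ : Subgroup H) := H87.derivedFixes_bot A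
  have d1 := H87.derivedFixes_step_card hH A (R := ⊥) (R' := R1)
    (fun α _ r hr => by rw [Subgroup.mem_bot.1 hr, map_one]; exact Subgroup.one_mem _) h1 bot_le
    (by rw [c1, Subgroup.card_bot, mul_one]) d0
  have d2 := H87.derivedFixes_step_card hH A (R := R1) (R' := R2) h1 h2 h12
    (by rw [c1, c2, sq]) d1
  have d3 := H87.derivedFixes_step_card hH A (R := R2) (R' := R3) h2 h3 h23
    (by rw [c2, c3]; ring) d2
  exact H87.derivedFixes_step_card hH A (R := R3) (R' := ⊤) h3 (fun α _ r _ => Subgroup.mem_top _)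
    le_top (by rw [c3, Subgroup.card_top, hcard]; ring) d3

theorem apply_mem_center (α : MulAut H) {z : H} (hz : z ∈ Subgroup.center H) :
    α z ∈ Subgroup.center H := by
  rw [Subgroup.mem_center_iff] at hz ⊢
  intro g
  obtain ⟨h, rfl⟩ := α.surjective g
  rw [← map_mul, ← map_mul, hz h]

theorem commutator_mul_of_central {a x y : H} (h : ⁅a, y⁆ ∈ Subgroup.center H) :
    ⁅a, x * y⁆ = ⁅a, x⁆ * ⁅a, y⁆ := by
  have e : ⁅a, x * y⁆ = ⁅a, x⁆ * (x * ⁅a, y⁆ * x⁻¹) := by
    simp only [commutatorElement_def]; group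
  rw [e, Subgroup.mem_center_iff.1 h x, mul_inv_cancel_right]

/-- `x ↦ ⁅a, x⁆` when all these commutators are central. -/
def commHom (a : H) (h : ∀ x : H, ⁅a, x⁆ ∈ Subgroup.center H) : H →* ↥(Subgroup.center H) :=
  MonoidHom.mk' (fun x => ⟨⁅a, x⁆, h x⟩) fun x y => Subtype.ext (commutator_mul_of_central (h y))

@[simp]
theorem commHom_apply (a : H) (h : ∀ x : H, ⁅a, x⁆ ∈ Subgroup.center H) (x : H) :
    (commHom a h x : H) = ⁅a, x⁆ := rfl

theorem card_ker_commHom (hcard : Nat.card H = p ^ 4) (hZ : Nat.card (Subgroup.center H) = p)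
    (a : H) (h : ∀ x : H, ⁅a, x⁆ ∈ Subgroup.center H) (ha : a ∉ Subgroup.center H) :
    Nat.card (commHom a h).ker = p ^ 3 := by
  have hp : p.Prime := Fact.out
  have hr : Nat.card (commHom a h).range = p := by
    rcases (Nat.dvd_prime hp).1 (hZ ▸ Subgroup.card_subgroup_dvd_card (commHom a h).range)
      with h1 | h1
    · refine absurd (Subgroup.mem_center_iff.2 fun x => ?_) ha
      have hbot := Subgroup.eq_bot_of_card_eq _ h1
      have : commHom a h x ∈ (⊥ : Subgroup _) := hbot ▸ ⟨x, rfl⟩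
      have h2 : ⁅a, x⁆ = 1 := by
        rw [← commHom_apply a h x, Subgroup.mem_bot.1 this, Subgroup.coe_one]
      exact (commutatorElement_eq_one_iff_mul_comm.1 h2).symm
    · exact h1
  have h1 := Subgroup.card_mul_index (commHom a h).ker
  rw [Subgroup.index_ker, hr, hcard] at h1
  exact Nat.eq_of_mul_eq_mul_right hp.pos (h1.trans (by ring))

/-- Centre of order `p`: an invariant series exists. -/
theorem derivedFixes_center_prime (hH : IsPGroup p H) (hcard : Nat.card H = p ^ 4)
    (A : Subgroup (MulAut H)) (hZ : Nat.card (Subgroup.center H) = p) :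
    H87.DerivedFixes p A ⊤ := by
  have hp : p.Prime := Fact.out
  have hQcard : Nat.card (H ⧸ Subgroup.center H) = p ^ 3 := by
    have h1 := Subgroup.card_mul_index (Subgroup.center H)
    rw [hZ, hcard, Subgroup.index_eq_card] at h1
    exact Nat.eq_of_mul_eq_mul_left hp.pos (h1.trans (by ring))
  have hcomm_mem : ∀ {x y : H}, (x : H ⧸ Subgroup.center H) * y = y * x →
      ⁅x, y⁆ ∈ Subgroup.center H := fun {x y} h => by
    rw [← QuotientGroup.eq_one_iff]
    show QuotientGroup.mk' (Subgroup.center H) ⁅x, y⁆ = 1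
    rw [map_commutatorElement]
    exact commutatorElement_eq_one_iff_mul_comm.2 h
  by_cases hab : ∀ x y : H ⧸ Subgroup.center H, x * y = y * x
  · exfalso
    have hcen : ∀ x y : H, ⁅x, y⁆ ∈ Subgroup.center H := fun x y => hcomm_mem (hab _ _)
    obtain ⟨a, ha⟩ : ∃ a, a ∉ Subgroup.center H := by
      by_contra h
      push Not at h
      have htop : Subgroup.center H = ⊤ := eq_top_iff.2 fun x _ => h x
      rw [htop, Subgroup.card_top, hcard] at hZ
      have := Nat.pow_right_injective hp.two_le (hZ.trans (pow_one p).symm)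
      omega
    set fa := commHom a (hcen a)
    obtain ⟨b, hb⟩ : ∃ b : H, ⁅a, b⁆ ≠ 1 := by
      by_contra h
      push Not at h
      exact ha (Subgroup.mem_center_iff.2 fun x =>
        (commutatorElement_eq_one_iff_mul_comm.1 (h x : ⁅a, x⁆ = (1 : H))).symm)
    have hbZ : b ∉ Subgroup.center H := fun h =>
      hb (commutatorElement_eq_one_iff_mul_comm.2 (Subgroup.mem_center_iff.1 h a))
    set fb := commHom b (hcen b)
    set f := fa.prod fb
    have hgen : ∀ z : ↥(Subgroup.center H), (z : H) ∈ Subgroup.zpowers ⁅a, b⁆ := by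
      intro z
      have : Subgroup.zpowers ⁅a, b⁆ = Subgroup.center H := by
        refine Subgroup.eq_of_le_of_card_ge (Subgroup.zpowers_le.2 (hcen a b)) ?_
        rw [Nat.card_zpowers, hZ]
        rcases (Nat.dvd_prime hp).1 (hZ ▸ Subgroup.orderOf_dvd_natCard _ (hcen a b)) with h | h
        · exact absurd (orderOf_eq_one_iff.1 h) hb
        · exact h.ge
      rw [this]; exact z.2
    have hfaa : fa a = 1 := Subtype.ext (by
      show ⁅a, a⁆ = (1 : H)
      exact commutatorElement_eq_one_iff_mul_comm.2 rfl)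
    have hfbb : fb b = 1 := Subtype.ext (by
      show ⁅b, b⁆ = (1 : H)
      exact commutatorElement_eq_one_iff_mul_comm.2 rfl)
    have hpre : ∀ (z1 z2 : ↥(Subgroup.center H)) (i j : ℤ), ⁅a, b⁆ ^ i = (z1 : H) →
        ⁅a, b⁆ ^ j = (z2 : H) → f (b ^ i * a ^ (-j)) = (z1, z2) := by
      intro z1 z2 i j hi hj
      refine Prod.ext ?_ ?_
      · show fa (b ^ i * a ^ (-j)) = z1
        rw [map_mul, map_zpow, map_zpow, hfaa, one_zpow, mul_one]
        exact Subtype.ext ((Subgroup.coe_zpow _ _ _).trans hi)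
      · show fb (b ^ i * a ^ (-j)) = z2
        rw [map_mul, map_zpow, map_zpow, hfbb, one_zpow, one_mul]
        refine Subtype.ext ((Subgroup.coe_zpow _ _ _).trans ?_)
        show ⁅b, a⁆ ^ (-j) = (z2 : H)
        rw [← commutatorElement_inv, inv_zpow, ← zpow_neg, neg_neg, hj]
    have hsurj : Function.Surjective f := by
      rintro ⟨z1, z2⟩
      obtain ⟨i, hi⟩ := Subgroup.mem_zpowers_iff.1 (hgen z1)
      obtain ⟨j, hj⟩ := Subgroup.mem_zpowers_iff.1 (hgen z2)
      exact ⟨b ^ i * a ^ (-j), hpre _ _ i j hi hj⟩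
    have hD : Nat.card f.ker = p ^ 2 := by
      have h1 := Subgroup.card_mul_index f.ker
      rw [Subgroup.index_ker, MonoidHom.range_eq_top.2 hsurj, Subgroup.card_top, Nat.card_prod,
        hZ, hcard] at h1
      exact Nat.eq_of_mul_eq_mul_right (Nat.mul_pos hp.pos hp.pos) (h1.trans (by ring))
    obtain ⟨w, hw, hwZ⟩ : ∃ w ∈ f.ker, w ∉ Subgroup.center H := by
      by_contra h
      push Not at h
      have := Subgroup.card_dvd_of_le (show f.ker ≤ Subgroup.center H from h)
      rw [hD, hZ] at this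
      have h2 := Nat.le_of_dvd hp.pos this
      nlinarith [hp.two_le]
    have hDc : ∀ d ∈ f.ker, d * w = w * d := fun d hd => by
      have hc := IsPGroup.commutative_of_card_eq_prime_sq hD
      have := hc (⟨d, hd⟩ : f.ker) ⟨w, hw⟩
      exact congrArg Subtype.val this
    have hfw := MonoidHom.mem_ker.1 hw
    simp only [f, MonoidHom.prod_apply, Prod.mk_eq_one] at hfw
    have hwa : a * w = w * a := commutatorElement_eq_one_iff_mul_comm.1
      (by simpa [fa] using congrArg Subtype.val hfw.1)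
    have hwb : b * w = w * b := commutatorElement_eq_one_iff_mul_comm.1
      (by simpa [fb] using congrArg Subtype.val hfw.2)
    refine hwZ (Subgroup.mem_center_iff.2 fun x => ?_)
    set W := Subgroup.centralizer ({w} : Set H) with hW
    have hmem : ∀ {y : H}, y * w = w * y → y ∈ W := fun h =>
      Subgroup.mem_centralizer_singleton_iff.2 h
    obtain ⟨i, hi⟩ := Subgroup.mem_zpowers_iff.1 (hgen (fa x))
    obtain ⟨j, hj⟩ := Subgroup.mem_zpowers_iff.1 (hgen (fb x))
    have hd : (b ^ i * a ^ (-j))⁻¹ * x ∈ f.ker := by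
      rw [MonoidHom.mem_ker, map_mul, map_inv, inv_mul_eq_one, hpre _ _ i j hi hj]
      rfl
    have : x ∈ W := by
      rw [show x = (b ^ i * a ^ (-j)) * ((b ^ i * a ^ (-j))⁻¹ * x) by group]
      exact W.mul_mem (W.mul_mem (W.zpow_mem (hmem hwb) _) (W.zpow_mem (hmem hwa) _))
        (hmem (hDc _ hd))
    exact Subgroup.mem_centralizer_singleton_iff.1 this
  · push Not at hab
    obtain ⟨x, y, hxy⟩ := hab
    have hZQ := (H79.extraspecial_of_card_cube hQcard hxy).2
    set Z := Subgroup.center H with hZdef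
    set U := (Subgroup.center (H ⧸ Z)).comap (QuotientGroup.mk' Z) with hUdef
    have hUcard : Nat.card U = p ^ 2 := by rw [hUdef, card_comap_mk, hZ, hZQ, sq]
    have hUn : U.Normal := Subgroup.Normal.comap inferInstance _
    have hZU : Z ≤ U := fun z hz => by
      rw [hUdef, Subgroup.mem_comap, QuotientGroup.mk'_apply, (QuotientGroup.eq_one_iff z).2 hz]
      exact Subgroup.one_mem _
    have hUmem : ∀ {u : H}, u ∈ U ↔ ∀ h : H, ⁅u, h⁆ ∈ Z := by
      intro u
      constructor
      · intro hu h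
        exact hcomm_mem (Subgroup.mem_center_iff.1 (Subgroup.mem_comap.1 hu) (h : H ⧸ Z)).symm
      · intro hu
        refine Subgroup.mem_comap.2 (Subgroup.mem_center_iff.2 fun g => ?_)
        obtain ⟨h, rfl⟩ := QuotientGroup.mk'_surjective Z g
        have := (QuotientGroup.eq_one_iff (N := Z) _).2 (hu h)
        rw [← QuotientGroup.mk'_apply, map_commutatorElement,
          commutatorElement_eq_one_iff_mul_comm] at this
        exact this.symm
    have hUinv : ∀ (α : MulAut H), ∀ u ∈ U, α u ∈ U := by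
      intro α u hu
      rw [hUmem] at hu ⊢
      intro h
      obtain ⟨h', rfl⟩ := α.surjective h
      rw [← map_commutatorElement]
      exact apply_mem_center α (hu h')
    obtain ⟨u, huU, huZ⟩ : ∃ u ∈ U, u ∉ Z := by
      by_contra h
      push Not at h
      have := Subgroup.card_dvd_of_le (show U ≤ Z from h)
      rw [hUcard, hZ] at this
      have h2 := Nat.le_of_dvd hp.pos this
      nlinarith [hp.two_le]
    set C := Subgroup.centralizer (U : Set H) with hCdef
    have hUsup : Z ⊔ Subgroup.zpowers u = U :=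
      eq_of_card_sq hZU (fun h => huZ (h huU)) hZ hUcard le_sup_left
        (sup_le hZU (Subgroup.zpowers_le.2 huU))
        (fun h => huZ (h (Subgroup.mem_sup_right (Subgroup.mem_zpowers u))))
    have hC : C = (commHom u (hUmem.1 huU)).ker := by
      ext x
      rw [MonoidHom.mem_ker, Subtype.ext_iff, commHom_apply, Subgroup.coe_one,
        commutatorElement_eq_one_iff_mul_comm, hCdef, Subgroup.mem_centralizer_iff]
      constructor
      · intro h; exact h u huU
      · intro h v hv
        have hle : U ≤ Subgroup.centralizer ({x} : Set H) := hUsup ▸ sup_le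
          (fun z hz => Subgroup.mem_centralizer_singleton_iff.2
            (Subgroup.mem_center_iff.1 hz x).symm)
          (Subgroup.zpowers_le.2 (Subgroup.mem_centralizer_singleton_iff.2 h))
        exact Subgroup.mem_centralizer_singleton_iff.1 (hle hv)
    have hUC : U ≤ C := fun v hv => Subgroup.mem_centralizer_iff.2 fun w hw => by
      have hc := IsPGroup.commutative_of_card_eq_prime_sq hUcard
      exact congrArg Subtype.val (hc (⟨w, hw⟩ : U) ⟨v, hv⟩)
    haveI := hUn
    haveI : C.Normal := hC ▸ MonoidHom.normal_ker _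
    refine derivedFixes_of_series hH hcard A Z U C (fun α _ r hr => apply_mem_center α hr)
      (fun α _ r hr => hUinv α r hr) (fun α _ r hr => ?_) hZU hUC hZ hUcard
      (hC ▸ card_ker_commHom hcard hZ u (hUmem.1 huU) huZ)
    rw [hCdef, Subgroup.mem_centralizer_iff] at hr ⊢
    intro v hv
    obtain ⟨w, rfl⟩ := α.surjective v
    have hw : w ∈ U := by
      have := hUinv α⁻¹ _ hv
      rwa [show α⁻¹ (α w) = w from MulAut.inv_apply_self H α w] at this
    rw [← map_mul, ← map_mul, hr w hw]

/-- The data of the case of a centre of order `p²`. -/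
theorem center_sq_cases (hH : IsPGroup p H) (hcard : Nat.card H = p ^ 4)
    (A : Subgroup (MulAut H)) (hA : ¬ H87.DerivedFixes p A ⊤)
    (hnc : ∃ a b : H, a * b ≠ b * a) (hZ : Nat.card (Subgroup.center H) = p ^ 2) :
    (∀ x : H, x ^ p ^ 2 = 1) ∧
    (IsCyclic (Subgroup.center H) ∨
      ∃ (a b : H) (M : Subgroup H) (z : H), a * b ≠ b * a ∧ a ∈ M ∧ b ∈ M ∧
        M = Subgroup.closure {a, b} ∧ Nat.card M = p ^ 3 ∧
        Nonempty (H ≃* ↥M × Multiplicative (ZMod p)) ∧ z ∈ Subgroup.center H ∧
        ((Odd p ∧ ∀ x : H, x ^ p = 1) ∨ (p = 2 ∧ H67.Q8Pair a b))) := by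
  have hp : p.Prime := Fact.out
  obtain ⟨a, b, hab⟩ := hnc
  set Z := Subgroup.center H with hZdef
  have hZidx : Nat.card (H ⧸ Z) = p ^ 2 := by
    have h1 := Subgroup.card_mul_index Z
    rw [hZ, hcard, Subgroup.index_eq_card] at h1
    exact Nat.eq_of_mul_eq_mul_left (pow_pos hp.pos 2) (h1.trans (by ring))
  have hQc := IsPGroup.commutative_of_card_eq_prime_sq hZidx
  have hpowZ : ∀ x : H, x ^ p ∈ Z := by
    intro x
    rw [← QuotientGroup.eq_one_iff, QuotientGroup.mk_pow]
    obtain ⟨j, hj, he⟩ := (Nat.dvd_prime_pow hp).1 (hZidx ▸ orderOf_dvd_natCard (x : H ⧸ Z))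
    by_contra hne
    have hj2 : j = 2 := by
      by_contra h
      refine hne (orderOf_dvd_iff_pow_eq_one.1 (he ▸ ?_))
      exact (pow_dvd_pow p (by omega : j ≤ 1)).trans (pow_one p).dvd
    have : IsCyclic (H ⧸ Z) := isCyclic_of_orderOf_eq_card (x : H ⧸ Z) (by rw [he, hj2, hZidx])
    exact hab (H79.commute_of_cyclic_center_quotient this a b)
  have hcen : ∀ x y : H, ⁅x, y⁆ ∈ Z := fun x y => by
    rw [← QuotientGroup.eq_one_iff, ← QuotientGroup.mk'_apply, map_commutatorElement,
      commutatorElement_eq_one_iff_mul_comm]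
    exact hQc _ _
  set c := ⁅a, b⁆ with hc
  have hc1 : c ≠ 1 := fun h => hab (commutatorElement_eq_one_iff_mul_comm.1 h)
  have hcp : c ^ p = 1 := by
    have h1 : (commHom a (hcen a) (b ^ p) : H) = 1 :=
      commutatorElement_eq_one_iff_mul_comm.2 (Subgroup.mem_center_iff.1 (hpowZ b) a)
    rwa [map_pow, Subgroup.coe_pow, commHom_apply] at h1
  set C0 := Subgroup.zpowers c with hC0
  have hC0Z : C0 ≤ Z := Subgroup.zpowers_le.2 (hcen a b)
  have hC0card : Nat.card C0 = p := by rw [hC0, Nat.card_zpowers, orderOf_eq_prime hcp hc1]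
  haveI : C0.Normal := ⟨fun x hx g => by
    rw [Subgroup.mem_center_iff.1 (hC0Z hx) g, mul_inv_cancel_right]; exact hx⟩
  -- `Z`, `a`, `b` generate
  have haZ : a ∉ Z := fun h => hab (Subgroup.mem_center_iff.1 h b).symm
  have hbZ : b ∉ Z := fun h => hab (Subgroup.mem_center_iff.1 h a)
  set Za := Z ⊔ Subgroup.zpowers a with hZa
  have hZacard : Nat.card Za = p ^ 3 := by
    rw [hZa, card_sup_zpowers (p := p) Z haZ (hpowZ a), hZ]; ring
  have hsup_normal : ∀ {L : Subgroup H}, Z ≤ L → L.Normal := fun {L} hL => ⟨fun x hx g => by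
    rw [show g * x * g⁻¹ = ⁅g, x⁆ * x by simp [commutatorElement_def]]
    exact L.mul_mem (hL (hcen g x)) hx⟩
  haveI := hsup_normal (le_sup_left : Z ≤ Za)
  have hbZa : b ∉ Za := by
    intro h
    have : Za ≤ Subgroup.centralizer ({a} : Set H) := sup_le
      (fun z hz => Subgroup.mem_centralizer_singleton_iff.2 (Subgroup.mem_center_iff.1 hz a).symm)
      (Subgroup.zpowers_le.2 (Subgroup.mem_centralizer_singleton_iff.2 rfl))
    exact hab (Subgroup.mem_centralizer_singleton_iff.1 (this h)).symm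
  have htop : Za ⊔ Subgroup.zpowers b = ⊤ := Subgroup.eq_top_of_card_eq _ (by
    rw [card_sup_zpowers (p := p) Za hbZa (Subgroup.mem_sup_left (hpowZ b)), hZacard, hcard]
    ring)
  have hgen : ∀ L : Subgroup H, Z ≤ L → a ∈ L → b ∈ L → L = ⊤ := fun L h1 h2 h3 =>
    eq_top_iff.2 (htop ▸ sup_le (sup_le h1 (Subgroup.zpowers_le.2 h2)) (Subgroup.zpowers_le.2 h3))
  -- the quotient by `C0` is commutative
  let π := QuotientGroup.mk' C0
  have hπab : π a * π b = π b * π a := by
    rw [← commutatorElement_eq_one_iff_mul_comm, ← map_commutatorElement]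
    exact (QuotientGroup.eq_one_iff _).2 (Subgroup.mem_zpowers c)
  have hπcomm : ∀ x y : H, π x * π y = π y * π x := by
    intro x y
    have key : ∀ v : H, π v * π a = π a * π v → π v * π b = π b * π v → ∀ y, π y * π v = π v * π y := by
      intro v h1 h2 y
      have := hgen ((Subgroup.centralizer ({π v} : Set (H ⧸ C0))).comap π)
        (fun z hz => Subgroup.mem_comap.2 (Subgroup.mem_centralizer_singleton_iff.2 (by
          rw [← map_mul, ← map_mul, (Subgroup.mem_center_iff.1 hz v).symm])))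
        (Subgroup.mem_comap.2 (Subgroup.mem_centralizer_singleton_iff.2 h1.symm))
        (Subgroup.mem_comap.2 (Subgroup.mem_centralizer_singleton_iff.2 h2.symm))
      exact Subgroup.mem_centralizer_singleton_iff.1 (Subgroup.mem_comap.1 (this ▸ Subgroup.mem_top y))
    exact (key y (key a rfl hπab y) (key b hπab.symm rfl y) x)
  have hcomm0 : ∀ x y : H, ⁅x, y⁆ ∈ C0 := fun x y => by
    rw [← QuotientGroup.eq_one_iff]
    show π ⁅x, y⁆ = 1
    rw [map_commutatorElement]
    exact commutatorElement_eq_one_iff_mul_comm.2 (hπcomm x y)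
  have hC0inv : ∀ α : MulAut H, ∀ r ∈ C0, α r ∈ C0 := by
    intro α r hr
    obtain ⟨i, rfl⟩ := Subgroup.mem_zpowers_iff.1 hr
    rw [map_zpow]
    exact C0.zpow_mem (by rw [hc, map_commutatorElement]; exact hcomm0 _ _) i
  have hC0exp : ∀ r ∈ C0, r ^ p = 1 := fun r hr =>
    orderOf_dvd_iff_pow_eq_one.1 (hC0card ▸ Subgroup.orderOf_dvd_natCard C0 hr)
  -- exclusion of a `p`-th power map with kernel of index `p`
  have hexcl : ∀ K : Subgroup H, Z ≤ K → Nat.card K = p ^ 3 →
      (∀ α : MulAut H, ∀ r ∈ K, α r ∈ K) → False := by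
    intro K hZK hKc hKinv
    haveI := hsup_normal hZK
    exact hA (derivedFixes_of_series hH hcard A C0 Z K (fun α _ r hr => hC0inv α r hr)
      (fun α _ r hr => apply_mem_center α hr) (fun α _ r hr => hKinv α r hr) hC0Z hZK hC0card hZ hKc)
  have hmapZ : Nat.card (Z.map π) ∣ p := by
    have hk : (π.comp Z.subtype).range = Z.map π := by
      rw [MonoidHom.range_comp, Subgroup.range_subtype]
    have h1 := Subgroup.card_mul_index (π.comp Z.subtype).ker
    have hker : (π.comp Z.subtype).ker = C0.subgroupOf Z := by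
      ext y; simp [π, Subgroup.mem_subgroupOf]
    rw [Subgroup.index_ker, hk, hker, Nat.card_congr (Subgroup.subgroupOfEquivOfLe hC0Z).toEquiv,
      hC0card, hZ, sq] at h1
    exact (Nat.eq_of_mul_eq_mul_left hp.pos h1).dvd
  have hpow0 : ∀ x : H, x ^ p ∈ C0 := by
    by_contra hcon
    push Not at hcon
    obtain ⟨x0, hx0⟩ := hcon
    let g : H →* H ⧸ C0 := MonoidHom.mk' (fun x => π x ^ p) fun x y => by
      show π (x * y) ^ p = π x ^ p * π y ^ p
      rw [map_mul, Commute.mul_pow (hπcomm x y)]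
    have hgr : Nat.card g.range = p := by
      have hle : g.range ≤ Z.map π := by
        rintro _ ⟨x, rfl⟩
        exact ⟨x ^ p, hpowZ x, map_pow π x p⟩
      rcases (Nat.dvd_prime hp).1 ((Subgroup.card_dvd_of_le hle).trans hmapZ) with h | h
      · refine absurd ?_ hx0
        have hb := Subgroup.eq_bot_of_card_eq _ h
        have : g x0 ∈ (⊥ : Subgroup _) := hb ▸ ⟨x0, rfl⟩
        rw [← QuotientGroup.eq_one_iff]
        show π (x0 ^ p) = 1
        rw [map_pow]; exact Subgroup.mem_bot.1 this
      · exact h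
    refine hexcl g.ker (fun z hz => ?_) ?_ (fun α r hr => ?_)
    · show π z ^ p = 1
      exact orderOf_dvd_iff_pow_eq_one.1
        ((Subgroup.orderOf_dvd_natCard _ (Subgroup.mem_map_of_mem π hz)).trans hmapZ)
    · have h1 := Subgroup.card_mul_index g.ker
      rw [Subgroup.index_ker, hgr, hcard] at h1
      exact Nat.eq_of_mul_eq_mul_right hp.pos (h1.trans (by ring))
    · have hr' : r ^ p ∈ C0 := by
        rw [← QuotientGroup.eq_one_iff]; show π (r ^ p) = 1
        rw [map_pow]; exact hr
      show π (α r) ^ p = 1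
      rw [← map_pow, ← map_pow α]
      exact (QuotientGroup.eq_one_iff _).2 (hC0inv α _ hr')
  refine ⟨fun x => by rw [sq, pow_mul]; exact hC0exp _ (hpow0 x), ?_⟩
  by_cases hcyc : IsCyclic Z
  · exact Or.inl hcyc
  right
  have hZexp : ∀ z ∈ Z, z ^ p = 1 := by
    intro z hz
    obtain ⟨j, hj, he⟩ := (Nat.dvd_prime_pow hp).1 (hZ ▸ orderOf_dvd_natCard (⟨z, hz⟩ : Z))
    have hj1 : j ≤ 1 := by
      by_contra h
      exact hcyc (isCyclic_of_orderOf_eq_card (⟨z, hz⟩ : Z) (by
        rw [he, hZ, show j = 2 by omega]))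
    refine orderOf_dvd_iff_pow_eq_one.1 ?_
    rw [← Subgroup.orderOf_mk z hz, he]
    exact (pow_dvd_pow p hj1).trans (pow_one p).dvd
  -- the generators
  obtain ⟨hkind⟩ : Nonempty ((PLift (Odd p ∧ ∀ x : H, x ^ p = 1)) ⊕
      PLift (p = 2 ∧ ∀ x : H, x ∉ Z → x ^ 2 = c)) := by
    rcases hp.eq_two_or_odd' with h2 | hodd
    · subst h2
      refine ⟨Sum.inr ⟨rfl, ?_⟩⟩
      have hC2 : ∀ r ∈ C0, r = 1 ∨ r = c := by
        intro r hr
        obtain ⟨i, rfl⟩ := Subgroup.mem_zpowers_iff.1 hr
        rcases Int.even_or_odd i with ⟨k, rfl⟩ | ⟨k, rfl⟩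
        · exact Or.inl (by rw [← two_mul, zpow_mul, zpow_two, ← sq, hcp, one_zpow])
        · exact Or.inr (by rw [zpow_add, zpow_one, zpow_mul, zpow_two, ← sq, hcp, one_zpow,
            one_mul])
      have hsq : ∀ x : H, x ^ 2 = 1 ∨ x ^ 2 = c := fun x => hC2 _ (hpow0 x)
      have hsqz : ∀ (x : H) {z : H}, z ∈ Z → (x * z) ^ 2 = x ^ 2 := fun x z hz => by
        rw [Commute.mul_pow (Subgroup.mem_center_iff.1 hz x), hZexp z hz, mul_one]
      by_contra hcon
      push Not at hcon
      obtain ⟨g, hgZ, hg⟩ := hcon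
      have hg1 : g ^ 2 = 1 := (hsq g).resolve_right hg
      obtain ⟨h, hh⟩ : ∃ h : H, h ^ 2 ≠ 1 := by
        by_contra hall
        push Not at hall
        haveI : Nontrivial H := ⟨⟨a, 1, fun e => hab (by rw [e, one_mul, mul_one])⟩⟩
        exact hab (mul_comm_of_exponent_two (Monoid.exponent_eq_prime_iff Nat.prime_two |>.2
          fun x hx => orderOf_eq_prime (hall x) hx) a b)
      have hhZ : h ∉ Z := fun hz => hh (hZexp h hz)
      set K := Z ⊔ Subgroup.zpowers h with hK
      have hKcard : Nat.card K = 2 ^ 3 := by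
        rw [hK, card_sup_zpowers (p := 2) Z hhZ (hpowZ h), hZ]; norm_num
      have hKmem : ∀ x ∈ K, x ∈ Z ∨ h⁻¹ * x ∈ Z := by
        intro x hx
        rw [hK, Subgroup.mem_sup_of_normal_left] at hx
        obtain ⟨z, hz, w, hw, rfl⟩ := hx
        obtain ⟨i, rfl⟩ := Subgroup.mem_zpowers_iff.1 hw
        rcases Int.even_or_odd i with ⟨k, rfl⟩ | ⟨k, rfl⟩
        · left
          rw [← two_mul, zpow_mul, zpow_two, ← sq]
          exact Z.mul_mem hz (Z.zpow_mem (hpowZ h) k)
        · right
          rw [zpow_add, zpow_one, zpow_mul, zpow_two, ← sq,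
            show h⁻¹ * (z * ((h ^ 2) ^ k * h)) = z * (h ^ 2) ^ k from ?_]
          · exact Z.mul_mem hz (Z.zpow_mem (hpowZ h) k)
          · have := Subgroup.mem_center_iff.1 (Z.mul_mem hz (Z.zpow_mem (hpowZ h) k)) h
            rw [← mul_assoc z, ← this, inv_mul_cancel_left]
      have hsqK : ∀ x ∈ K, x ∉ Z → x ^ 2 = c := by
        intro x hx hxZ
        rw [show x = h * (h⁻¹ * x) by group, hsqz h ((hKmem x hx).resolve_left hxZ)]
        exact (hsq h).resolve_left hh
      haveI := hsup_normal (le_sup_left : Z ≤ K)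
      refine hexcl K le_sup_left hKcard fun α r hr => ?_
      have hαh : α h ∈ K := by
        by_contra hk
        set k := α h with hkdef
        have hk2 : k ^ 2 = c := (hsq k).resolve_left fun e => hh (α.injective (by
          rw [map_pow, map_one]; exact e))
        have hKk : K ⊔ Subgroup.zpowers k = ⊤ := Subgroup.eq_top_of_card_eq _ (by
          rw [card_sup_zpowers (p := 2) K hk (Subgroup.mem_sup_left (hpowZ k)), hKcard, hcard]
          norm_num)
        have hhk : ⁅k, h⁆ = c := by
          refine (hC2 _ (hcomm0 k h)).resolve_left fun e => ?_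
          refine hhZ (Subgroup.mem_center_iff.2 fun v => ?_)
          have : (⊤ : Subgroup H) ≤ Subgroup.centralizer ({h} : Set H) := hKk ▸ sup_le
            (sup_le (fun z hz => Subgroup.mem_centralizer_singleton_iff.2
              (Subgroup.mem_center_iff.1 hz h).symm)
              (Subgroup.zpowers_le.2 (Subgroup.mem_centralizer_singleton_iff.2 rfl)))
            (Subgroup.zpowers_le.2 (Subgroup.mem_centralizer_singleton_iff.2
              (commutatorElement_eq_one_iff_mul_comm.1 e)))
          exact Subgroup.mem_centralizer_singleton_iff.1 (this (Subgroup.mem_top v))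
        -- `g` lies in `K` or in `k K`
        obtain ⟨u, hu, w, hw, hgw⟩ := Subgroup.mem_sup_of_normal_left.1
          (hKk ▸ Subgroup.mem_top g : g ∈ K ⊔ Subgroup.zpowers k)
        obtain ⟨i, rfl⟩ := Subgroup.mem_zpowers_iff.1 hw
        have hgK : g ∉ K := fun hgK => hc1 ((hsqK g hgK hgZ).symm.trans hg1)
        have hkg : k⁻¹ * g ∈ K := by
          rcases Int.even_or_odd i with ⟨j, rfl⟩ | ⟨j, rfl⟩
          · refine absurd (hgw ▸ K.mul_mem hu ?_) hgK
            rw [← two_mul, zpow_mul, zpow_two, ← sq]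
            exact K.zpow_mem (Subgroup.mem_sup_left (hpowZ k)) j
          · rw [← hgw, zpow_add, zpow_one, zpow_mul, zpow_two, ← sq,
              show k⁻¹ * (u * ((k ^ 2) ^ j * k)) = k⁻¹ * (u * (k ^ 2) ^ j) * k by group]
            simpa using ‹K.Normal›.conj_mem _
              (K.mul_mem hu (K.zpow_mem (Subgroup.mem_sup_left (hpowZ k)) j)) k⁻¹
        rcases hKmem _ hkg with hz | hz
        · rw [show g = k * (k⁻¹ * g) by group, hsqz k hz] at hg1
          exact hc1 (hk2.symm.trans hg1)
        · rw [show g = k * h * (h⁻¹ * (k⁻¹ * g)) by group, hsqz _ hz] at hg1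
          have e : (k * h) ^ 2 = k ^ 2 * h ^ 2 * ⁅k, h⁆ := by
            have hcz : ⁅h, k⁆ ∈ Z := hcen h k
            have h0 : ⁅k, h⁆ = ⁅h, k⁆ := by
              rw [← commutatorElement_inv h k]
              exact inv_eq_of_mul_eq_one_right (by rw [← sq]; exact hC0exp _ (hcomm0 h k))
            rw [h0]
            calc (k * h) ^ 2 = k * (h * k) * h := by rw [sq]; group
              _ = k * (⁅h, k⁆ * (k * h)) * h := by rw [commutatorElement_def]; group
              _ = ⁅h, k⁆ * k * (k * h) * h := by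
                  rw [← mul_assoc k, Subgroup.mem_center_iff.1 hcz k]
              _ = ⁅h, k⁆ * (k ^ 2 * h ^ 2) := by rw [sq, sq]; group
              _ = k ^ 2 * h ^ 2 * ⁅h, k⁆ := (Subgroup.mem_center_iff.1 hcz _).symm
          rw [e, hk2, (hsq h).resolve_left hh, hhk, ← sq, hcp, one_mul] at hg1
          exact hc1 hg1
      have hle : K ≤ K.comap α.toMonoidHom := sup_le
        (fun z hz => Subgroup.mem_comap.2 (Subgroup.mem_sup_left (apply_mem_center α hz)))
        (Subgroup.zpowers_le.2 hαh)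
      exact hle hr
    · refine ⟨Sum.inl ⟨hodd, ?_⟩⟩
      have hp2 : p ≠ 2 := fun h => absurd (h ▸ hodd) (by decide)
      have hmul : ∀ x y : H, (x * y) ^ p = x ^ p * y ^ p := fun x y =>
        H6.mul_pow_prime_of_commute_commutator hp hp2
          (Subgroup.mem_center_iff.1 (hcen y x) x).symm (Subgroup.mem_center_iff.1 (hcen y x) y).symm
          (hC0exp _ (hcomm0 y x))
      let g : H →* H := MonoidHom.mk' (fun x => x ^ p) hmul
      by_contra hcon
      push Not at hcon
      obtain ⟨x0, hx0⟩ := hcon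
      have hle : g.range ≤ C0 := by rintro _ ⟨x, rfl⟩; exact hpow0 x
      refine hexcl g.ker (fun z hz => hZexp z hz) ?_ (fun α r hr => ?_)
      · have hgr : Nat.card g.range = p := by
          rcases (Nat.dvd_prime hp).1 (hC0card ▸ Subgroup.card_dvd_of_le hle) with h | h
          · have hb := Subgroup.eq_bot_of_card_eq _ h
            have : g x0 ∈ (⊥ : Subgroup _) := hb ▸ ⟨x0, rfl⟩
            exact absurd (Subgroup.mem_bot.1 this) hx0
          · exact h
        have h1 := Subgroup.card_mul_index g.ker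
        rw [Subgroup.index_ker, hgr, hcard] at h1
        exact Nat.eq_of_mul_eq_mul_right hp.pos (h1.trans (by ring))
      · show (α r) ^ p = 1
        rw [← map_pow, show r ^ p = 1 from hr, map_one]
  set M0 := C0 ⊔ Subgroup.zpowers a with hM0
  have hCn : ∀ {L : Subgroup H}, C0 ≤ L → L.Normal := fun {L} hL => ⟨fun x hx g => by
    rw [show g * x * g⁻¹ = ⁅g, x⁆ * x by simp [commutatorElement_def]]
    exact L.mul_mem (hL (hcomm0 g x)) hx⟩
  set M := Subgroup.closure ({a, b} : Set H) with hM
  have haM : a ∈ M := Subgroup.subset_closure (by simp)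
  have hbM : b ∈ M := Subgroup.subset_closure (by simp)
  have hcM : c ∈ M := by
    rw [hc, commutatorElement_def]
    exact M.mul_mem (M.mul_mem (M.mul_mem haM hbM) (M.inv_mem haM)) (M.inv_mem hbM)
  have hMeq : M = M0 ⊔ Subgroup.zpowers b := by
    refine le_antisymm ((Subgroup.closure_le _).2 ?_)
      (sup_le (sup_le (Subgroup.zpowers_le.2 hcM) (Subgroup.zpowers_le.2 haM))
        (Subgroup.zpowers_le.2 hbM))
    rintro x (rfl | rfl)
    · exact Subgroup.mem_sup_left (Subgroup.mem_sup_right (Subgroup.mem_zpowers _))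
    · exact Subgroup.mem_sup_right (Subgroup.mem_zpowers _)
  haveI := hCn (le_sup_left : C0 ≤ M0)
  have hbM0 : b ∉ M0 := fun h => hbZa (sup_le_sup_right hC0Z _ h)
  have hMcard : Nat.card M = p ^ 3 := by
    rw [hMeq, card_sup_zpowers (p := p) M0 hbM0 (Subgroup.mem_sup_left (hpow0 b)),
      card_sup_zpowers (p := p) C0 (fun h => haZ (hC0Z h)) (hpow0 a), hC0card]
    ring
  obtain ⟨z, hzZ, hzM⟩ : ∃ z ∈ Z, z ∉ M := by
    by_contra h
    push Not at h
    rw [hgen M h haM hbM, Subgroup.card_top, hcard] at hMcard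
    exact absurd (Nat.pow_right_injective hp.two_le hMcard) (by norm_num)
  have hzord : orderOf z = p :=
    orderOf_eq_prime (hZexp z hzZ) (fun h => hzM (h ▸ M.one_mem))
  have hiso : Nonempty (H ≃* ↥M × Multiplicative (ZMod p)) := by
    let φ : ↥M × ↥(Subgroup.zpowers z) →* H := M.subtype.noncommCoprod (Subgroup.zpowers z).subtype
      fun m n => Subgroup.mem_center_iff.1 (Subgroup.zpowers_le.2 hzZ n.2) m
    have hbij : Function.Bijective φ := by
      refine (Nat.bijective_iff_injective_and_card φ).2 ⟨?_, ?_⟩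
      · rw [injective_iff_map_eq_one]
        rintro ⟨m, n⟩ hmn
        change (m : H) * (n : H) = 1 at hmn
        have hn : (n : H) ∈ M := by
          have : (n : H) = (m : H)⁻¹ := eq_inv_of_mul_eq_one_right hmn
          rw [this]; exact M.inv_mem m.2
        have hn1 : (n : H) = 1 := by
          rcases (Nat.dvd_prime hp).1 (hzord ▸ Nat.card_zpowers z ▸
            Subgroup.card_dvd_of_le (Subgroup.zpowers_le.2 n.2 :
              Subgroup.zpowers (n : H) ≤ Subgroup.zpowers z)) with h | h
          · rw [Nat.card_zpowers] at h; exact orderOf_eq_one_iff.1 h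
          · exfalso
            have heq := Subgroup.eq_of_le_of_card_ge (Subgroup.zpowers_le.2 n.2 :
              Subgroup.zpowers (n : H) ≤ Subgroup.zpowers z) (by rw [h, Nat.card_zpowers, hzord])
            exact hzM ((Subgroup.zpowers_le.2 hn) (by rw [heq]; exact Subgroup.mem_zpowers z))
        have hm1 : (m : H) = 1 := by simpa [hn1] using hmn
        exact Prod.ext (Subtype.ext hm1) (Subtype.ext hn1)
      · rw [Nat.card_prod, hMcard, Nat.card_zpowers, hzord, hcard]; ring
    refine ⟨(MulEquiv.ofBijective φ hbij).symm.trans (MulEquiv.prodCongr (MulEquiv.refl _)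
      (mulEquivOfPrimeCardEq (p := p) ?_ ?_))⟩
    · rw [Nat.card_zpowers, hzord]
    · simp
  refine ⟨a, b, M, z, hab, haM, hbM, hM, hMcard, hiso, hzZ, ?_⟩
  rcases hkind with h | ⟨h2, hall⟩
  · exact Or.inl h.down
  · right
    subst h2
    refine ⟨rfl, ?_⟩
    have hasq : a * a = c := by rw [← sq]; exact hall a haZ
    have hbsq : b * b = c := by rw [← sq]; exact hall b hbZ
    have ha4 : orderOf a = 4 := by
      haveI := Fact.mk Nat.prime_two
      refine orderOf_eq_prime_pow (p := 2) (n := 1) ?_ ?_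
      · rw [pow_one, sq, hasq]; exact hc1
      · rw [show (2 : ℕ) ^ (1 + 1) = 2 * 2 from rfl, pow_mul, sq a, hasq, hcp]
    refine ⟨ha4, hbsq.trans hasq.symm, ?_, fun h => ?_⟩
    · have hba : ⁅b, a⁆ = c := by
        rw [← commutatorElement_inv]
        exact inv_eq_of_mul_eq_one_right (by rw [← sq, ← hc, hcp])
      calc b * a * b⁻¹ = ⁅b, a⁆ * a := by simp [commutatorElement_def]
        _ = a * a * a := by rw [hba, hasq]
        _ = a⁻¹ := eq_inv_of_mul_eq_one_left (by
            rw [show a * a * a * a = (a * a) * (a * a) by group, hasq, ← sq, hcp])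
    · obtain ⟨i, rfl⟩ := Subgroup.mem_zpowers_iff.1 h
      exact hab ((Commute.refl a).zpow_right i).eq

/-- An extraspecial group of order `p³` in `Type`, isomorphic to a given subgroup. -/
theorem exists_small_copy {M : Subgroup H} (hM : Nat.card M = p ^ 3) {a b : H} (ha : a ∈ M)
    (hb : b ∈ M) (hab : a * b ≠ b * a) (hexp : ∀ x : H, x ^ p = 1) :
    ∃ (E : Type) (_ : Group E) (_ : Finite E), IsExtraspecial p E ∧ Nat.card E = p ^ 3 ∧
      (∀ x : E, x ^ p = 1) ∧ Nonempty (↥M ≃* E) := by
  let f : Shrink.{0} ↥M ≃* ↥M := Shrink.mulEquiv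
  haveI : Finite (Shrink.{0} ↥M) := Finite.of_equiv _ (equivShrink.{0} ↥M)
  refine ⟨Shrink.{0} ↥M, inferInstance, inferInstance,
    ?_, by rw [← Nat.card_congr (equivShrink.{0} ↥M), hM],
    fun x => f.injective ?_, ⟨f.symm⟩⟩
  · refine H79.extraspecial_of_card_cube (a := f.symm ⟨a, ha⟩) (c := f.symm ⟨b, hb⟩)
      (by rw [← Nat.card_congr (equivShrink.{0} ↥M), hM]) fun h => hab ?_
    rw [← map_mul, ← map_mul] at h
    exact congrArg Subtype.val (f.symm.injective h)
  · rw [map_pow, map_one]
    exact Subtype.ext (hexp _)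

end H34
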