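import Cfsg.Agent.H34.IteratedCoresTable
import Cfsg.Agent.H66.BorelTitsChev
import Cfsg.Agent.H52.ParabolicNormalizer
import Cfsg.Agent.H52.SevenSupport
import Cfsg.Agent.H54.ChevParabolic
import Cfsg.Agent.H54.ChevCentral

/-!
The iterated cores of two conjugate maximal parabolic subgroups of `E₈(2)`.

`P` is the maximal parabolic subgroup of the branch node, whose fundamental root has coefficient 6
in the highest root, `n` the reflection in that root, and `Q m` the subgroup of the roots of grade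
at least `m`. The core in `P` of `Q m ⊓ n Q m n` is `Q (m + 1)`.
-/

set_option autoImplicit false
set_option maxRecDepth 100000

open Cfsg.Lie
open scoped MatrixGroups

namespace H34.IterCore

attribute [local irreducible] Cfsg.Lie.chevE8

/-! ### Roots -/

local notation "F₂" => ZMod 2

theorem hC : H52.Checked chevE8 H52.tablesE8 := H52.checkedE8

theorem hS : ∀ r < chevE8.nroots, ∀ j < chevE8.rank,
    (H52.crt chevE8 r j = 0 ↔ H52.tablesE8.co r j = 0) :=
  fun _ hr _ hj => H52.supportCheck_iff H52.supportE8 hr hj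

theorem mem8 : chevE8 ∈ [chevG2, chevB2, chevD4, chevF4, chevE6, chevE7, chevE8] := by simp

theorem exists_ctxE8 : ∃ C : H54.Ctx chevE8, C.T = H52.tablesE8 := by
  obtain ⟨W⟩ := H53.nonempty_weylFor mem8
  exact ⟨⟨H52.tablesE8, hC, W, H54.chainOK_of_mem _ mem8⟩, rfl⟩

theorem nr : chevE8.nroots = 240 := by decide +kernel

theorem rk : chevE8.rank = 8 := by decide +kernel

theorem half : chevE8.nroots / 2 = 120 := by rw [nr]

theorem lt240 {r : ℕ} (h : r < 240) : r < chevE8.nroots := by rw [nr]; exact h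

theorem lt8 {i : ℕ} (h : i < 8) : i < chevE8.rank := by rw [rk]; exact h

theorem reflect_lt {i r : ℕ} (hi : i < 8) (hr : r < 240) : chevE8.reflectRoot i r < 240 := by
  have := hC.reflect_lt (lt8 hi) (lt240 hr)
  rwa [nr] at this

theorem reflect_invol {i r : ℕ} (hi : i < 8) (hr : r < 240) :
    chevE8.reflectRoot i (chevE8.reflectRoot i r) = r := by
  have := reflect_invol_check
  simp only [List.all_eq_true, List.mem_range, beq_iff_eq] at this
  exact this i hi r hr

theorem pos_of_gr {r : ℕ} (h : 0 < gr r) : 120 ≤ r := by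
  have := hC.pos_of_co_pos (lt8 (i := 3) (by norm_num)) h
  rwa [nr] at this

theorem gr_nonneg {r : ℕ} (h : 120 ≤ r) (hr : r < 240) : 0 ≤ gr r :=
  hC.co_nonneg (by rw [nr]; exact h) (lt240 hr) (lt8 (by norm_num))

theorem gr_simple {j : ℕ} (hj : j < 8) : gr (chevE8.simple j) = if j = 3 then 1 else 0 := by
  rw [gr, hC.co_simple (lt8 hj) (lt8 (i := 3) (by norm_num))]
  rcases eq_or_ne j 3 with rfl | h
  · simp
  · rw [if_neg h, if_neg (Ne.symm h)]

theorem gr_reflect {i r : ℕ} (hi : i < 8) (hi3 : i ≠ 3) (hr : r < 240) :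
    gr (chevE8.reflectRoot i r) = gr r := by
  rw [gr, gr, hC.co_reflect (lt8 hi) (lt240 hr) (lt8 (i := 3) (by norm_num)), if_neg (Ne.symm hi3),
    sub_zero]

theorem gr_reflect_three {r : ℕ} (hr : r < 240) (h : 2 ≤ gr r) :
    gr r - 1 ≤ gr (chevE8.reflectRoot 3 r) := by
  have := gr_drop
  simp only [List.all_eq_true, List.mem_range, decide_eq_true_eq] at this
  exact this r hr h

theorem gr_comb {a b u : ℕ} {i j : ℕ}
    (h : ∀ k < chevE8.rank, H52.tablesE8.co u k =
      (i : ℤ) * H52.tablesE8.co a k + (j : ℤ) * H52.tablesE8.co b k) :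
    gr u = (i : ℤ) * gr a + (j : ℤ) * gr b :=
  h 3 (lt8 (by norm_num))

/-! ### Root elements over the field with two elements -/

theorem eps_one (i r : ℕ) : ((H52.tablesE8.eps i r : ℤ) : F₂) = 1 := by
  rcases H52.Checked.eps_eq_or (T := H52.tablesE8) i r with h | h <;> rw [h]
  · simp
  · simp [show (-1 : F₂) = 1 from by decide]

/-- The reflection elements. -/
noncomputable def refl (i : ℕ) : GL chevE8.Idx F₂ := H52.nElt chevE8 (chevE8.simple i) 1

theorem refl_eq {i : ℕ} (hi : i < 8) : refl i =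
    H52.rt chevE8 (chevE8.simple i) (1 : F₂) * H52.rt chevE8 (chevE8.neg (chevE8.simple i)) 1 *
      H52.rt chevE8 (chevE8.simple i) 1 := by
  have : (H52.nElt chevE8 (chevE8.simple i) (1 : F₂)) = H53.nGL chevE8 (chevE8.simple i) 1 := by
    apply Units.ext
    rw [hC.coe_nElt, H53.coe_nGL hC]
  rw [refl, this, H53.nGL, show (-(1 : F₂)⁻¹) = 1 by rw [inv_one]; decide]

theorem rt_sq (r : ℕ) (t : F₂) : H52.rt chevE8 r t * H52.rt chevE8 r t = 1 := by
  rw [hC.rt_mul, show t + t = 0 from by revert t; decide, hC.rt_zero]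

theorem refl_mul_self {i : ℕ} (hi : i < 8) : refl i * refl i = 1 := by
  rw [refl_eq hi]
  calc _ = H52.rt chevE8 (chevE8.simple i) (1 : F₂) * H52.rt chevE8 (chevE8.neg (chevE8.simple i)) 1 *
        (H52.rt chevE8 (chevE8.simple i) (1 : F₂) * H52.rt chevE8 (chevE8.simple i) 1) *
        H52.rt chevE8 (chevE8.neg (chevE8.simple i)) 1 * H52.rt chevE8 (chevE8.simple i) 1 := by
        group
    _ = H52.rt chevE8 (chevE8.simple i) (1 : F₂) *
        (H52.rt chevE8 (chevE8.neg (chevE8.simple i)) 1 *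
          H52.rt chevE8 (chevE8.neg (chevE8.simple i)) 1) * H52.rt chevE8 (chevE8.simple i) 1 := by
        rw [rt_sq]; group
    _ = 1 := by rw [rt_sq, mul_one, rt_sq]

theorem refl_inv {i : ℕ} (hi : i < 8) : (refl i)⁻¹ = refl i :=
  inv_eq_of_mul_eq_one_right (refl_mul_self hi)

theorem refl_conj_rt {i r : ℕ} (hi : i < 8) (hr : r < 240) (t : F₂) :
    refl i * H52.rt chevE8 r t * refl i = H52.rt chevE8 (chevE8.reflectRoot i r) t := by
  have := hC.sig_conj_rt (F := F₂) (lt8 hi) (lt240 hr) t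
  rw [eps_one, one_mul, show H52.nElt chevE8 (chevE8.simple i) (1 : F₂) = refl i from rfl,
    refl_inv hi] at this
  exact this

theorem refl_mem_group {i : ℕ} (hi : i < 8) : refl i ∈ chevE8.group F₂ := by
  rw [refl_eq hi]
  exact mul_mem (mul_mem (hC.rt_mem_group _ _) (hC.rt_mem_group _ _)) (hC.rt_mem_group _ _)

theorem refl_map_genBy {i : ℕ} (hi : i < 8) {S S' : ℕ → Prop} (hlt : ∀ r, S r → r < 240)
    (hmap : ∀ r, S r → S' (chevE8.reflectRoot i r)) {g : GL chevE8.Idx F₂}
    (hg : g ∈ H52.genBy chevE8 F₂ S) : refl i * g * refl i ∈ H52.genBy chevE8 F₂ S' := by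
  induction hg using Subgroup.closure_induction with
  | mem x hx =>
    obtain ⟨r, t, hr, rfl⟩ := hx
    rw [refl_conj_rt hi (hlt r hr)]
    exact H52.rt_mem_genBy (hmap r hr) t
  | one => rw [mul_one, refl_mul_self hi]; exact one_mem _
  | mul x y _ _ hx hy =>
    have := mul_mem hx hy
    rwa [show refl i * x * refl i * (refl i * y * refl i) =
      refl i * x * (refl i * refl i) * y * refl i by group, refl_mul_self hi, mul_one,
      show refl i * x * y * refl i = refl i * (x * y) * refl i by group] at this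
  | inv x _ hx =>
    have := inv_mem hx
    rwa [mul_inv_rev, mul_inv_rev, refl_inv hi, ← mul_assoc] at this

theorem diag_eq_one {h : GL chevE8.Idx F₂} (hh : h ∈ chevE8.diagonalSubgroup F₂) : h = 1 := by
  rw [hC.diagonalSubgroup_eq] at hh
  obtain ⟨c, rfl⟩ := hh
  rw [show c = 1 from funext fun i => Units.ext ?_, map_one]
  have key : ∀ a : F₂, a ≠ 0 → a = 1 := by decide
  exact key _ (c i).ne_zero

theorem diag_eq_bot : chevE8.diagonalSubgroup F₂ = ⊥ :=
  (Subgroup.eq_bot_iff_forall _).2 fun _ h => diag_eq_one h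

theorem borel_eq : chevE8.borelSubgroup F₂ = chevE8.posUnipotent F₂ := by
  rw [ChevalleyDatum.borelSubgroup, diag_eq_bot, sup_bot_eq]

/-- The roots of grade at least `m`. -/
def GeSet (m : ℕ) (r : ℕ) : Prop := r < 240 ∧ (m : ℤ) ≤ gr r

/-- The roots of grade at least `m`, one root removed. -/
def OffSet (m β : ℕ) (r : ℕ) : Prop := GeSet m r ∧ r ≠ β

/-- The subgroup of the roots of grade at least `m`. -/
noncomputable def Q (m : ℕ) : Subgroup (GL chevE8.Idx F₂) := H52.genBy chevE8 F₂ (GeSet m)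

/-- The same, one root removed. -/
noncomputable def R (m β : ℕ) : Subgroup (GL chevE8.Idx F₂) := H52.genBy chevE8 F₂ (OffSet m β)

/-- The maximal parabolic subgroup of the branch node. -/
noncomputable def P : Subgroup (GL chevE8.Idx F₂) := chevE8.parabolicSubgroup F₂ {j | j ≠ 3}

theorem geSet_pos {m r : ℕ} (hm : 1 ≤ m) (h : GeSet m r) : 120 ≤ r := by
  refine pos_of_gr ?_
  have := h.2
  omega

theorem geSet_closed {m : ℕ} (hm : 1 ≤ m) :
    H66.BT.ClosedPos chevE8 H52.tablesE8 (GeSet m) := by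
  refine ⟨fun r hr => ⟨by rw [nr]; exact geSet_pos hm hr, lt240 hr.1⟩, ?_⟩
  intro r s u hr hs hu i j hi hj hco
  refine ⟨by rwa [nr] at hu, ?_⟩
  rw [gr_comb hco]
  have h1 := hr.2
  have h2 := hs.2
  have h3 : (1 : ℤ) ≤ i := by exact_mod_cast hi
  have h4 : (1 : ℤ) ≤ j := by exact_mod_cast hj
  nlinarith

theorem offSet_closed {m β : ℕ} (hm : 1 ≤ m) (hβ : gr β = m) :
    H66.BT.ClosedPos chevE8 H52.tablesE8 (OffSet m β) := by
  refine ⟨fun r hr => (geSet_closed hm).pos r hr.1, ?_⟩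
  intro r s u hr hs hu i j hi hj hco
  refine ⟨(geSet_closed hm).add r s u hr.1 hs.1 hu i j hi hj hco, fun he => ?_⟩
  have h := gr_comb hco
  rw [he, hβ] at h
  have h1 := hr.1.2
  have h2 := hs.1.2
  have h3 : (1 : ℤ) ≤ i := by exact_mod_cast hi
  have h4 : (1 : ℤ) ≤ j := by exact_mod_cast hj
  nlinarith

theorem upProd_single {γ : ℕ} (hγ : γ < 240) (a : F₂) : ∀ d k, 240 - k = d → k ≤ 240 →
    H52.upProd chevE8 k (fun r => if r = γ then a else 0) =
      if k ≤ γ then H52.rt chevE8 γ a else 1 := by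
  intro d
  induction d with
  | zero =>
    intro k hk hk'
    have : k = 240 := by omega
    subst this
    rw [if_neg (by omega)]
    simp [H52.upProd, H52.wordRt, nr]
  | succ d ih =>
    intro k hk hk'
    rw [H52.Checked.upProd_step (lt240 (by omega)), ih (k + 1) (by omega) (by omega)]
    rcases eq_or_ne k γ with rfl | hne
    · rw [if_pos rfl, if_neg (by omega), if_pos le_rfl, mul_one]
    · rw [if_neg hne, hC.rt_zero, one_mul]
      by_cases h : k ≤ γ
      · rw [if_pos h, if_pos (by omega)]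
      · rw [if_neg h, if_neg (by omega)]

theorem rt_mem_genBy_imp {S : ℕ → Prop} (hS' : H66.BT.ClosedPos chevE8 H52.tablesE8 S) {γ : ℕ}
    (hγ0 : 120 ≤ γ) (hγ : γ < 240) {a : F₂} (ha : a ≠ 0)
    (h : H52.rt chevE8 γ a ∈ H52.genBy chevE8 F₂ S) : S γ := by
  by_contra hn
  obtain ⟨t, ht, he⟩ := H66.BT.exists_upProd_supp hC hS' _ (chevE8.nroots / 2) rfl le_rfl _
    (H52.genBy_mono (fun r hr => ⟨hr, (hS'.pos r hr).1⟩) h)
  have hs := upProd_single hγ a _ (chevE8.nroots / 2) rfl (by rw [nr]; norm_num)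
  rw [if_pos (by rw [nr]; exact hγ0)] at hs
  rw [← hs] at he
  have := hC.upProd_injective le_rfl he γ (by rw [nr]; exact hγ0) (lt240 hγ)
  simp only [if_true] at this
  exact ha (this.trans (ht γ hn))

theorem Q_le_pos {m : ℕ} (hm : 1 ≤ m) : Q m ≤ chevE8.posUnipotent F₂ := by
  refine (Subgroup.closure_le _).2 ?_
  rintro g ⟨r, t, hr, rfl⟩
  exact hC.rt_mem_pos (by rw [nr]; exact geSet_pos hm hr) (lt240 hr.1) t

theorem Q_mono {m m' : ℕ} (h : m ≤ m') : Q m' ≤ Q m :=
  H52.genBy_mono fun r hr => ⟨hr.1, le_trans (by exact_mod_cast h) hr.2⟩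

theorem R_le_Q (m β : ℕ) : R m β ≤ Q m := H52.genBy_mono fun _ hr => hr.1

theorem Q_succ_le_R {m β : ℕ} (hβ : gr β = m) : Q (m + 1) ≤ R m β := by
  refine H52.genBy_mono fun r hr => ⟨⟨hr.1, ?_⟩, ?_⟩
  · have := hr.2; push_cast at this; omega
  · rintro rfl
    have := hr.2; push_cast at this; omega

theorem pos_le_P : chevE8.posUnipotent F₂ ≤ P := by
  intro g hg
  exact Subgroup.mem_sup_left (borel_eq ▸ hg)

theorem refl_mem_P {i : ℕ} (hi : i < 8) (hi3 : i ≠ 3) : refl i ∈ P :=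
  Subgroup.mem_sup_right (Subgroup.subset_closure ⟨i, hi3, lt8 hi, hC.coe_nElt _ _⟩)

theorem P_le_group : P ≤ chevE8.group F₂ := by
  refine sup_le hC.borel_le_group ((Subgroup.closure_le _).2 ?_)
  rintro g ⟨j, -, hj, hg⟩
  have : g = refl j := Units.ext (by rw [hg, refl, hC.coe_nElt])
  subst this
  exact refl_mem_group (by rwa [rk] at hj)

theorem P_induction {p : GL chevE8.Idx F₂ → Prop} (hpos : ∀ r t, 120 ≤ r → r < 240 →
    p (H52.rt chevE8 r t)) (hrefl : ∀ i, i < 8 → i ≠ 3 → p (refl i)) :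
    ∀ {S : Subgroup (GL chevE8.Idx F₂)}, (∀ g, p g → g ∈ S) → P ≤ S := by
  intro S hS'
  refine sup_le ?_ ((Subgroup.closure_le _).2 ?_)
  · rw [borel_eq, hC.posUnipotent_eq, H52.upper, Subgroup.closure_le]
    rintro g ⟨r, t, h1, h2, rfl⟩
    rw [nr] at h1 h2
    exact hS' _ (hpos r t h1 h2)
  · rintro g ⟨j, hj3, hj, hg⟩
    have : g = refl j := Units.ext (by rw [hg, refl, hC.coe_nElt])
    subst this
    exact hS' _ (hrefl j (by rwa [rk] at hj) hj3)

theorem P_le_normalizer_Q {m : ℕ} (hm : 1 ≤ m) :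
    P ≤ Subgroup.normalizer (Q m : Set (GL chevE8.Idx F₂)) := by
  refine P_induction (p := fun g => g ∈ Subgroup.normalizer (Q m : Set (GL chevE8.Idx F₂)))
    ?_ ?_ fun _ h => h
  · intro r t h1 h2
    refine hC.rt_mem_normalizer_genBy (lt240 h2) (fun s hs => lt240 hs.1) ?_ ?_ t
    · intro h
      have h3 := geSet_pos hm h
      rw [hC.neg_eq (lt240 h2), nr] at h3
      omega
    · intro s u hs hu i j hi hj hco
      refine ⟨by rwa [nr] at hu, ?_⟩
      rw [gr_comb hco]
      have h3 := gr_nonneg h1 h2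
      have h4 := hs.2
      have h5 : (1 : ℤ) ≤ j := by exact_mod_cast hj
      have h6 : (0 : ℤ) ≤ i := by positivity
      nlinarith
  · intro i hi hi3
    have key : ∀ g ∈ Q m, refl i * g * refl i ∈ Q m := fun g hg =>
      refl_map_genBy hi (fun r hr => hr.1)
        (fun r hr => ⟨reflect_lt hi hr.1, by rw [gr_reflect hi hi3 hr.1]; exact hr.2⟩) hg
    rw [Subgroup.mem_normalizer_iff]
    intro g
    rw [refl_inv hi]
    refine ⟨key g, fun h => ?_⟩
    have := key _ h
    rwa [show refl i * (refl i * g * refl i) * refl i = (refl i * refl i) * g * (refl i * refl i)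
      by group, refl_mul_self hi, one_mul, mul_one] at this

theorem conj_mem_Q {m : ℕ} (hm : 1 ≤ m) {p x : GL chevE8.Idx F₂} (hp : p ∈ P) (hx : x ∈ Q m) :
    p * x * p⁻¹ ∈ Q m :=
  (Subgroup.mem_normalizer_iff.1 (P_le_normalizer_Q hm hp) x).1 hx

theorem Q_le_P {m : ℕ} (hm : 1 ≤ m) : Q m ≤ P := (Q_le_pos hm).trans pos_le_P

/-- An element of `Q m` is a root element of the removed root times an element of `R m β`. -/
theorem split_Q {m β : ℕ} (hm : 1 ≤ m) (hβ : gr β = m) (hβ2 : β < 240) {x : GL chevE8.Idx F₂}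
    (hx : x ∈ Q m) : ∃ a : F₂, ∃ y ∈ R m β, x = H52.rt chevE8 β a * y := by
  have hconj : ∀ (b : F₂), ∀ y ∈ R m β,
      (H52.rt chevE8 β b)⁻¹ * y * H52.rt chevE8 β b ∈ R m β := by
    intro b y hy
    have := hC.rt_conj_genBy (lt240 hβ2) (P := OffSet m β) (fun s hs => lt240 hs.1.1) ?_ ?_ (-b) hy
    · rw [← hC.rt_inv, inv_inv] at this
      exact this
    · intro h
      have h1 := geSet_pos hm h.1
      rw [hC.neg_eq (lt240 hβ2), nr] at h1
      have h2 : 120 ≤ β := pos_of_gr (by omega)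
      omega
    · intro s u hs hu i j hi hj hco
      have h := gr_comb hco
      rw [hβ] at h
      have h2 := hs.1.2
      have h3 : (1 : ℤ) ≤ i := by exact_mod_cast hi
      have h4 : (1 : ℤ) ≤ j := by exact_mod_cast hj
      have h5 : (m : ℤ) < gr u := by rw [h]; nlinarith
      refine ⟨⟨by rwa [nr] at hu, h5.le⟩, fun he => ?_⟩
      rw [he, hβ] at h5
      exact lt_irrefl _ h5
  induction hx using Subgroup.closure_induction with
  | mem x hx =>
    obtain ⟨r, t, hr, rfl⟩ := hx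
    by_cases hrβ : r = β
    · subst hrβ; exact ⟨t, 1, one_mem _, (mul_one _).symm⟩
    · exact ⟨0, _, H52.rt_mem_genBy (P := OffSet m β) ⟨hr, hrβ⟩ t, by rw [hC.rt_zero, one_mul]⟩
  | one => exact ⟨0, 1, one_mem _, by rw [hC.rt_zero, one_mul]⟩
  | mul x y _ _ hx hy =>
    obtain ⟨a, x', hx', rfl⟩ := hx
    obtain ⟨b, y', hy', rfl⟩ := hy
    refine ⟨a + b, ((H52.rt chevE8 β b)⁻¹ * x' * H52.rt chevE8 β b) * y',
      mul_mem (hconj b x' hx') hy', ?_⟩
    rw [← hC.rt_mul]; group
  | inv x _ hx =>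
    obtain ⟨a, x', hx', rfl⟩ := hx
    refine ⟨-a, (H52.rt chevE8 β (-a))⁻¹ * x'⁻¹ * H52.rt chevE8 β (-a),
      hconj (-a) _ (inv_mem hx'), ?_⟩
    rw [← hC.rt_inv]; group

theorem neg_simple_not_pos :
    H52.rt chevE8 (chevE8.neg 130) (1 : F₂) ∉ chevE8.posUnipotent F₂ := by
  intro h
  have h0 := bad_one_check
  simp only [Bool.and_eq_true, beq_iff_eq, decide_eq_true_eq] at h0
  have hlt := h0.2
  have h2 : H52.rt chevE8 (chevE8.neg 130) (1 : F₂) ∈
      chevE8.borelSubgroup F₂ ⊓ chevE8.negUnipotent F₂ :=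
    ⟨borel_eq.symm ▸ h, hC.rt_mem_neg (by rw [nr]; exact hlt) _⟩
  rw [hC.borel_inf_neg, Subgroup.mem_bot, ← hC.rt_zero (chevE8.neg 130)] at h2
  exact one_ne_zero (hC.rt_injective (by rw [nr]; omega) h2)

theorem simple_three : chevE8.simple 3 = 130 ∧ gr 130 = 1 ∧
    chevE8.reflectRoot 3 130 = chevE8.neg 130 ∧ chevE8.neg 130 < 120 := by
  have h0 := bad_one_check
  simp only [Bool.and_eq_true, beq_iff_eq, decide_eq_true_eq] at h0
  exact ⟨h0.1.1.1.symm, h0.1.1.2, h0.1.2, h0.2⟩

/-- The reflection at the branch node is outside `P`. -/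
theorem refl_three_not_mem : refl 3 ∉ P := by
  intro h
  obtain ⟨-, hg, hr, -⟩ := simple_three
  have h1 := conj_mem_Q (le_refl 1) h
    (H52.rt_mem_genBy (P := GeSet 1) (r := 130) ⟨by norm_num, by rw [hg]; norm_num⟩ (1 : F₂))
  rw [refl_inv (by norm_num), refl_conj_rt (by norm_num) (by norm_num), hr] at h1
  exact neg_simple_not_pos (Q_le_pos le_rfl h1)

theorem neg_simple_not_mem_P : H52.rt chevE8 (chevE8.neg 130) (1 : F₂) ∉ P := by
  intro h
  refine refl_three_not_mem ?_
  obtain ⟨hs, -, -, -⟩ := simple_three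
  have hx : H52.rt chevE8 130 (1 : F₂) ∈ P :=
    pos_le_P (hC.rt_mem_pos (by rw [nr]; norm_num) (lt240 (by norm_num)) _)
  rw [refl_eq (by norm_num), hs]
  exact mul_mem (mul_mem hx h) hx

/-- The reflection carries a subgroup with one branch root removed into `U`. -/
theorem refl_R_one_pos {y : GL chevE8.Idx F₂} (hy : y ∈ R 1 130) :
    refl 3 * y * refl 3 ∈ chevE8.posUnipotent F₂ := by
  have h := refl_map_genBy (i := 3) (by norm_num) (S := OffSet 1 130)
    (S' := fun r => 120 ≤ r ∧ r < 240) (fun r hr => hr.1.1)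
    (fun r hr => ⟨?_, reflect_lt (by norm_num) hr.1.1⟩) hy
  · refine (Subgroup.closure_le _).2 ?_ h
    rintro g ⟨r, t, hr, rfl⟩
    exact hC.rt_mem_pos (by rw [nr]; exact hr.1) (lt240 hr.2) t
  · have := reflect_three_pos
    simp only [List.all_eq_true, List.mem_range, decide_eq_true_eq] at this
    exact this r hr.1.1 (geSet_pos le_rfl hr.1) hr.2

theorem F2_cases (a : F₂) : a = 0 ∨ a = 1 := by revert a; decide

/-- The level-one functional at the branch root. -/
theorem level_one {x : GL chevE8.Idx F₂} (hx : x ∈ Q 1) (hn : refl 3 * x * refl 3 ∈ P) :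
    x ∈ R 1 130 := by
  obtain ⟨-, hg, hr, -⟩ := simple_three
  obtain ⟨a, y, hy, rfl⟩ := split_Q le_rfl (β := 130) hg (by norm_num) hx
  rcases F2_cases a with rfl | rfl
  · rwa [hC.rt_zero, one_mul]
  exfalso
  refine neg_simple_not_mem_P ?_
  have h1 := mul_mem hn (inv_mem (pos_le_P (refl_R_one_pos hy)))
  rwa [mul_inv_rev, mul_inv_rev, refl_inv (by norm_num),
    show refl 3 * (H52.rt chevE8 130 (1 : F₂) * y) * refl 3 * (refl 3 * (y⁻¹ * refl 3)) =
      refl 3 * H52.rt chevE8 130 1 * y * (refl 3 * refl 3) * y⁻¹ * refl 3 by group,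
    refl_mul_self (by norm_num), mul_one, mul_inv_cancel_right, refl_conj_rt (by norm_num)
      (by norm_num), hr] at h1

/-- The higher functionals at the bad roots. -/
theorem level_high {m : ℕ} (hm : 2 ≤ m) (hm6 : m ≤ 6) {x : GL chevE8.Idx F₂} (hx : x ∈ Q m)
    (hn : refl 3 * x * refl 3 ∈ Q m) : x ∈ R m (badRoot m) := by
  have h0 := bad_check
  simp only [List.all_eq_true, Bool.and_eq_true, beq_iff_eq, decide_eq_true_eq,
    List.mem_range'_1] at h0
  obtain ⟨⟨hlt, hg⟩, hd⟩ := h0 m ⟨hm, by omega⟩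
  set β := badRoot m
  set γ := chevE8.reflectRoot 3 β with hγ
  obtain ⟨a, y, hy, rfl⟩ := split_Q (by omega) hg hlt hx
  by_cases ha : a = 0
  · rwa [ha, hC.rt_zero, one_mul]
  exfalso
  have hγlt : γ < 240 := reflect_lt (by norm_num) hlt
  have hdm : gr γ = ((m - 1 : ℕ) : ℤ) := by rw [hd]; omega
  have hm1 : 1 ≤ m - 1 := by omega
  have hyR : refl 3 * y * refl 3 ∈ R (m - 1) γ := by
    refine refl_map_genBy (i := 3) (by norm_num) (fun r hr => hr.1.1) (fun r hr => ?_) hy
    refine ⟨⟨reflect_lt (by norm_num) hr.1.1, ?_⟩, fun he => hr.2 ?_⟩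
    · have h1 := hr.1.2
      have h2 := gr_reflect_three hr.1.1 (by omega)
      omega
    · have := congrArg (chevE8.reflectRoot 3) he
      rwa [reflect_invol (by norm_num) hr.1.1, hγ, reflect_invol (by norm_num) hlt] at this
  have hQR : Q m ≤ R (m - 1) γ := by
    have := Q_succ_le_R (β := γ) hdm
    rwa [Nat.sub_add_cancel (by omega : 1 ≤ m)] at this
  have h1 := mul_mem (hQR hn) (inv_mem hyR)
  rw [mul_inv_rev, mul_inv_rev, refl_inv (by norm_num),
    show refl 3 * (H52.rt chevE8 β a * y) * refl 3 * (refl 3 * (y⁻¹ * refl 3)) =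
      refl 3 * H52.rt chevE8 β a * y * (refl 3 * refl 3) * y⁻¹ * refl 3 by group,
    refl_mul_self (by norm_num), mul_one, mul_inv_cancel_right,
    refl_conj_rt (by norm_num) hlt] at h1
  have hpos : 120 ≤ γ := pos_of_gr (by omega)
  exact (rt_mem_genBy_imp (offSet_closed hm1 hdm) hpos hγlt ha h1).2 rfl

/-- A `P`-invariant set avoiding one root of grade `m` avoids the whole orbit. -/
theorem orbit_avoid {m : ℕ} (K : Set (GL chevE8.Idx F₂))
    (hK : ∀ p ∈ P, ∀ x ∈ K, p * x * p⁻¹ ∈ K) : ∀ (k : ℕ) (L : List ℕ),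
    (∀ r ∈ L, r < 240 ∧ ∀ x ∈ K, x ∈ R m r) → ∀ r ∈ orbitList k L, r < 240 ∧ ∀ x ∈ K, x ∈ R m r := by
  intro k
  induction k with
  | zero => exact fun L h => h
  | succ k ih =>
    intro L h
    refine ih _ fun r hr => ?_
    simp only [orbitStep, List.mem_eraseDups, List.mem_append, List.mem_flatMap,
      List.mem_map] at hr
    rcases hr with hr | ⟨r', hr', i, hi, rfl⟩
    · exact h r hr
    obtain ⟨hlt, hav⟩ := h r' hr'
    have hi8 : i < 8 ∧ i ≠ 3 := by
      revert hi; simp only [leviNodes, List.mem_cons, List.not_mem_nil, or_false]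
      omega
    refine ⟨reflect_lt hi8.1 hlt, fun x hx => ?_⟩
    have hx' := hK _ (refl_mem_P hi8.1 hi8.2) x hx
    rw [refl_inv hi8.1] at hx'
    have h1 : refl i * (refl i * x * refl i) * refl i ∈ R m (chevE8.reflectRoot i r') := by
      refine refl_map_genBy hi8.1 (fun s hs => hs.1.1) (fun s hs => ?_) (hav _ hx')
      refine ⟨⟨reflect_lt hi8.1 hs.1.1, ?_⟩, fun he => hs.2 ?_⟩
      · rw [gr_reflect hi8.1 hi8.2 hs.1.1]; exact hs.1.2
      · have := congrArg (chevE8.reflectRoot i) he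
        rwa [reflect_invol hi8.1 hs.1.1, reflect_invol hi8.1 hlt] at this
    rwa [show refl i * (refl i * x * refl i) * refl i = (refl i * refl i) * x * (refl i * refl i)
      by group, refl_mul_self hi8.1, one_mul, mul_one] at h1

/-- Avoiding all roots of grade `m` gives the next term. -/
theorem mem_Q_succ {m : ℕ} (hm : 1 ≤ m) {x : GL chevE8.Idx F₂} (hx : x ∈ Q m)
    (h : ∀ r < 240, gr r = m → x ∈ R m r) : x ∈ Q (m + 1) := by
  obtain ⟨t, ht, he⟩ := H66.BT.exists_upProd_supp hC (geSet_closed hm) _ (chevE8.nroots / 2) rfl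
    le_rfl x (H52.genBy_mono (fun r hr => ⟨hr, by rw [nr]; exact geSet_pos hm hr⟩) hx)
  rw [he]
  refine H52.Checked.wordRt_mem _ _ fun p hp => ?_
  obtain ⟨r, hr, rfl⟩ := List.mem_map.1 hp
  rw [List.mem_range'_1, nr] at hr
  by_cases h0 : t r = 0
  · rw [h0, hC.rt_zero]; exact one_mem _
  have hge : GeSet m r := by_contra fun hn => h0 (ht r hn)
  refine H52.rt_mem_genBy ⟨hge.1, ?_⟩ _
  by_contra hlt
  have hgr : gr r = m := by have := hge.2; push_cast at hlt; omega
  obtain ⟨t', ht', he'⟩ := H66.BT.exists_upProd_supp hC (offSet_closed hm hgr) _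
    (chevE8.nroots / 2) rfl le_rfl x (H52.genBy_mono
      (fun s hs => ⟨hs, by rw [nr]; exact geSet_pos hm hs.1⟩) (h r hge.1 hgr))
  apply h0
  rw [hC.upProd_injective le_rfl (he.symm.trans he') r (by rw [nr]; exact hr.1) (lt240 hge.1)]
  exact ht' r fun hoff => hoff.2 rfl

/-- The cores beyond the first. -/
theorem core_Q {m : ℕ} (hm : 1 ≤ m) {x : GL chevE8.Idx F₂}
    (hx : ∀ p ∈ P, p * x * p⁻¹ ∈ Q m)
    (hn : ∀ p ∈ P, refl 3 * (p * x * p⁻¹) * refl 3 ∈ (if m = 1 then P else Q m)) :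
    x ∈ Q (m + 1) := by
  have hxm : x ∈ Q m := by simpa using hx 1 (one_mem _)
  by_cases hm6 : 6 < m
  · refine mem_Q_succ hm hxm fun r hr hgr => ?_
    have := gr_le_six
    simp only [List.all_eq_true, List.mem_range, decide_eq_true_eq] at this
    have := this r hr
    omega
  set K : Set (GL chevE8.Idx F₂) := {y | ∃ p ∈ P, y = p * x * p⁻¹} with hK'
  have hK : ∀ p ∈ P, ∀ y ∈ K, p * y * p⁻¹ ∈ K := by
    rintro p hp y ⟨q, hq, rfl⟩
    exact ⟨p * q, mul_mem hp hq, by group⟩
  have hbad : badRoot m < 240 ∧ gr (badRoot m) = m ∧ ∀ y ∈ K, y ∈ R m (badRoot m) := by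
    rcases hm.eq_or_lt with rfl | hm2
    · obtain ⟨-, hg, -, -⟩ := simple_three
      refine ⟨by norm_num [badRoot], by simp [badRoot, hg], ?_⟩
      rintro y ⟨p, hp, rfl⟩
      have := hn p hp
      rw [if_pos rfl] at this
      exact level_one (hx p hp) this
    · have h0 := bad_check
      simp only [List.all_eq_true, Bool.and_eq_true, beq_iff_eq, decide_eq_true_eq,
        List.mem_range'_1] at h0
      obtain ⟨⟨hlt, hg⟩, -⟩ := h0 m ⟨hm2, by omega⟩
      refine ⟨hlt, hg, ?_⟩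
      rintro y ⟨p, hp, rfl⟩
      have := hn p hp
      rw [if_neg (by omega)] at this
      exact level_high hm2 (by omega) (hx p hp) this
  refine mem_Q_succ hm hxm fun r hr hgr => ?_
  have hall := orbit_check
  simp only [List.all_eq_true, List.mem_range, List.mem_range'_1, Bool.or_eq_true, bne_iff_ne,
    List.contains_iff_mem] at hall
  rcases hall m ⟨hm, by omega⟩ r hr with h | h
  · exact absurd hgr h
  refine ((orbit_avoid (m := m) K hK 20 [badRoot m] ?_) r h).2 x ⟨1, one_mem _, by group⟩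
  intro s hs
  rw [List.mem_singleton.1 hs]
  exact ⟨hbad.1, hbad.2.2⟩

/-! ### The first core -/

/-- `P`-conjugates lie in `P ⊓ n P n`. -/
def InK (x : GL chevE8.Idx F₂) : Prop :=
  ∀ p ∈ P, p * x * p⁻¹ ∈ P ∧ refl 3 * (p * x * p⁻¹) * refl 3 ∈ P

theorem InK.conj {x : GL chevE8.Idx F₂} (h : InK x) {q : GL chevE8.Idx F₂} (hq : q ∈ P) :
    InK (q * x * q⁻¹) := fun p hp => by
  rw [show p * (q * x * q⁻¹) * p⁻¹ = p * q * x * (p * q)⁻¹ by group]
  exact h _ (mul_mem hp hq)

theorem InK.mem {x : GL chevE8.Idx F₂} (h : InK x) : x ∈ P := by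
  simpa using (h 1 (one_mem _)).1

theorem InK.mul_inv {x y : GL chevE8.Idx F₂} (h : InK x) (h' : InK y) : InK (x * y⁻¹) := fun p hp => by
  obtain ⟨a, b⟩ := h p hp
  obtain ⟨c, d⟩ := h' p hp
  refine ⟨?_, ?_⟩
  · rw [show p * (x * y⁻¹) * p⁻¹ = (p * x * p⁻¹) * (p * y * p⁻¹)⁻¹ by group]
    exact mul_mem a (inv_mem c)
  · have := mul_mem b (inv_mem d)
    rwa [show refl 3 * (p * x * p⁻¹) * refl 3 * (refl 3 * (p * y * p⁻¹) * refl 3)⁻¹ =
      refl 3 * (p * (x * y⁻¹) * p⁻¹) * (refl 3)⁻¹ by group, refl_inv (by norm_num)] at this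

theorem InK.comm_mem {x q : GL chevE8.Idx F₂} (h : InK x) (hq : q ∈ Q 1) :
    x * q * x⁻¹ * q⁻¹ ∈ Q 2 := by
  set c := x * q * x⁻¹ * q⁻¹
  have hc : InK c := by
    have := h.mul_inv (h.conj (Q_le_P le_rfl hq))
    rwa [show x * (q * x * q⁻¹)⁻¹ = c by simp only [c]; group] at this
  have hcQ : c ∈ Q 1 := mul_mem (conj_mem_Q le_rfl h.mem hq) (inv_mem hq)
  refine core_Q le_rfl (fun p hp => conj_mem_Q le_rfl hp hcQ) fun p hp => ?_
  rw [if_pos rfl]
  exact (hc p hp).2

theorem eq_of_co_eq {r s : ℕ} (hr : r < 240) (hs : s < 240)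
    (h : ∀ k < chevE8.rank, H52.tablesE8.co r k = H52.tablesE8.co s k) : r = s := by
  have e := H52.Checked.keyOf_congr chevE8.rank _ _ h
  rcases lt_trichotomy r s with hlt | heq | hlt
  · have := (hC.key_lt_iff (lt240 hr) (lt240 hs)).2 hlt; omega
  · exact heq
  · have := (hC.key_lt_iff (lt240 hs) (lt240 hr)).2 hlt; omega

theorem wperm_eq_one (C : H54.Ctx chevE8) (hCT : C.T = H52.tablesE8) (L : List (Fin chevE8.rank))
    (hfix : ∀ r : Fin chevE8.nroots, gr r.val = 1 → C.wperm L r = r) : C.wperm L = 1 := by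
  set π := C.wperm L
  have co_eq : ∀ {a b : Fin chevE8.nroots},
      (∀ k < chevE8.rank, C.T.co a.val k = C.T.co b.val k) → a = b := fun {a b} h => Fin.ext
    (eq_of_co_eq (by simpa [nr] using a.isLt) (by simpa [nr] using b.isLt) (by rwa [hCT] at h))
  have hsimple : ∀ i (hi : i < chevE8.rank), π ⟨chevE8.simple i, hC.simple_lt hi⟩ =
      ⟨chevE8.simple i, hC.simple_lt hi⟩ := by
    intro i hi
    rcases eq_or_ne i 3 with rfl | hne
    · refine hfix _ ?_
      show gr (chevE8.simple 3) = 1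
      rw [simple_three.1, simple_three.2.1]
    · have hj : i ∈ leviNodes := by
        have : i < 8 := by rwa [rk] at hi
        simp only [leviNodes, List.mem_cons, List.not_mem_nil, or_false]; omega
      have := span_check
      simp only [List.all_eq_true, List.any_eq_true, Bool.and_eq_true, beq_iff_eq,
        List.mem_range] at this
      obtain ⟨b, hb, hgb, c, hc, hgc, hco⟩ := this i hj
      set b' : Fin chevE8.nroots := ⟨b, lt240 hb⟩
      set c' : Fin chevE8.nroots := ⟨c, lt240 hc⟩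
      set s' : Fin chevE8.nroots := ⟨chevE8.simple i, hC.simple_lt hi⟩
      have h1 : ∀ k < chevE8.rank, C.T.co c'.val k = C.T.co b'.val k + 1 * C.T.co s'.val k := by
        intro k hk
        rw [hCT, one_mul]
        exact hco k (by rwa [rk] at hk)
      have h2 := C.wperm_linear L c' b' s' 1 h1
      rw [hfix b' hgb, hfix c' hgc] at h2
      refine co_eq fun k hk => ?_
      have := h1 k hk
      have := h2 k hk
      linarith
  have hpos : ∀ n, ∀ r : Fin chevE8.nroots, r.val = n → 120 ≤ r.val → π r = r := by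
    intro n
    induction n using Nat.strong_induction_on with
    | _ n ih =>
      intro r hrn h120
      by_cases hex : ∃ i, i < chevE8.rank ∧ r.val = chevE8.simple i
      · obtain ⟨i, hi, he⟩ := hex
        have : r = ⟨chevE8.simple i, hC.simple_lt hi⟩ := Fin.ext he
        rw [this]; exact hsimple i hi
      · push Not at hex
        obtain ⟨i, hi, h1, h2⟩ := hC.descend (by rw [half]; exact h120) r.isLt hex
        set r' : Fin chevE8.nroots := ⟨chevE8.reflectRoot i r.val, hC.reflect_lt hi r.isLt⟩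
        have hr' : π r' = r' := ih _ (hrn ▸ h2) r' rfl (by rw [half] at h1; exact h1)
        set s' : Fin chevE8.nroots := ⟨chevE8.simple i, hC.simple_lt hi⟩
        have h3 : ∀ k < chevE8.rank, C.T.co r.val k =
            C.T.co r'.val k + chevE8.cartan i r.val * C.T.co s'.val k := by
          intro k hk
          rw [hCT, show r'.val = chevE8.reflectRoot i r.val from rfl,
            hC.co_reflect hi r.isLt hk, show s'.val = chevE8.simple i from rfl,
            hC.co_simple hi hk]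
          split_ifs <;> ring
        have h4 := C.wperm_linear L r r' s' _ h3
        rw [hr', hsimple i hi] at h4
        exact co_eq fun k hk => (h4 k hk).trans (h3 k hk).symm
  ext1 r
  rw [Equiv.Perm.one_apply]
  by_cases hr : 120 ≤ r.val
  · exact hpos _ r rfl hr
  · set s : Fin chevE8.nroots := ⟨chevE8.neg r.val, hC.neg_lt r.isLt⟩
    have hs : π s = s := hpos _ s rfl (by
      show 120 ≤ chevE8.neg r.val
      rw [hC.neg_eq r.isLt]
      have := nr
      omega)
    have h5 : ∀ k < chevE8.rank, C.T.co r.val k = C.T.co s.val k + 2 * C.T.co r.val k := by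
      intro k hk
      rw [hCT, show s.val = chevE8.neg r.val from rfl, hC.co_neg r.isLt hk]; ring
    have h6 := C.wperm_linear L r s r 2 h5
    rw [hs] at h6
    exact co_eq fun k hk => by have := h5 k hk; have := h6 k hk; linarith

theorem InK.mem_pos {x : GL chevE8.Idx F₂} (h : InK x) : x ∈ chevE8.posUnipotent F₂ := by
  obtain ⟨C, hCT⟩ := exists_ctxE8
  have hS' : ∀ r < chevE8.nroots, ∀ j < chevE8.rank,
      (H52.crt chevE8 r j = 0 ↔ C.T.co r j = 0) := by rw [hCT]; exact hS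
  obtain ⟨u, hu, d, hd, L, v, hv, rfl⟩ := C.exists_nf (P_le_group h.mem)
  have hvU := C.uinv_le _ hv
  obtain rfl := diag_eq_one hd
  set w := H54.Ctx.nw chevE8 F₂ L with hw
  have hb : v * u ∈ chevE8.posUnipotent F₂ := mul_mem hvU hu
  have h' : InK (v * u * w) := by
    have := h.conj (pos_le_P hvU)
    rwa [mul_one, show v * (u * w * v) * v⁻¹ = v * u * w by group] at this
  set b := v * u
  have hwP : w ∈ P := by
    have := mul_mem (inv_mem (pos_le_P hb)) h'.mem
    rwa [inv_mul_cancel_left] at this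
  have hone : C.wperm L = 1 := by
    refine wperm_eq_one C hCT L fun r hr => ?_
    have hrlt : r.val < 240 := by simpa [nr] using r.isLt
    have hr1 : 120 ≤ r.val := pos_of_gr (by omega)
    obtain ⟨e, -, he⟩ := C.nw_conj_rt (F := F₂) L r 1
    rw [← hw, mul_one] at he
    set s := C.wperm L r
    have hslt : s.val < 240 := by simpa [nr] using s.isLt
    have hrQ : H52.rt chevE8 r.val (1 : F₂) ∈ Q 1 :=
      H52.rt_mem_genBy (P := GeSet 1) ⟨hrlt, by rw [hr]; norm_num⟩ _
    have hc := h'.comm_mem hrQ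
    set c := b * w * H52.rt chevE8 r.val (1 : F₂) * (b * w)⁻¹ * (H52.rt chevE8 r.val (1 : F₂))⁻¹
    have hrad : H54.Ctx.radRoot chevE8 {j | j ≠ 3} r.val := by
      rw [C.radRoot_iff hS']
      refine ⟨by rw [half]; exact hr1, r.isLt, 3, lt8 (by norm_num), by simp, ?_⟩
      rw [hCT]; show 0 < gr r.val; omega
    have hlead := C.conj_leading hS' hrad (1 : F₂) (inv_mem hb)
    have hleadR : b⁻¹ * H52.rt chevE8 r.val (1 : F₂) * b * (H52.rt chevE8 r.val (1 : F₂))⁻¹ ∈
        R 1 r.val := by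
      rw [inv_inv] at hlead
      refine H52.genBy_mono ?_ hlead
      rintro t ⟨ht, htr⟩
      obtain ⟨-, ht2, k, -, hkJ, hpos⟩ := (C.radRoot_iff hS' t).1 ht
      rw [nr] at ht2
      have hk : k = 3 := by simpa using hkJ
      subst hk
      rw [hCT] at hpos
      exact ⟨⟨ht2, by show (1 : ℤ) ≤ gr t; exact hpos⟩, Nat.ne_of_gt htr⟩
    have hmain : H52.rt chevE8 s.val (e : F₂) * (H52.rt chevE8 r.val (1 : F₂))⁻¹ ∈ R 1 r.val := by
      have h1 : b⁻¹ * c * b ∈ R 1 r.val := by
        refine Q_succ_le_R (by rw [hr]; norm_num) ?_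
        simpa using conj_mem_Q (by norm_num : 1 ≤ 2) (inv_mem (pos_le_P hb)) hc
      have h2 := mul_mem h1 hleadR
      rw [← he]
      convert h2 using 1
      simp only [c]; group
    have he1 : (e : F₂) ≠ 0 := by
      intro h0
      rw [h0, hC.rt_zero] at he
      have : H52.rt chevE8 r.val (1 : F₂) = H52.rt chevE8 r.val 0 := by
        rw [hC.rt_zero]; exact conj_eq_one_iff.1 he
      exact one_ne_zero (hC.rt_injective r.isLt this)
    have hsQ : H52.rt chevE8 s.val (e : F₂) ∈ Q 1 := by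
      rw [← he]; exact conj_mem_Q le_rfl hwP hrQ
    have hs120 : 120 ≤ s.val := by
      by_contra hn
      have h2 : H52.rt chevE8 s.val (e : F₂) ∈
          chevE8.borelSubgroup F₂ ⊓ chevE8.negUnipotent F₂ :=
        ⟨borel_eq.symm ▸ Q_le_pos le_rfl hsQ, hC.rt_mem_neg (by rw [half]; omega) _⟩
      rw [hC.borel_inf_neg, Subgroup.mem_bot, ← hC.rt_zero s.val] at h2
      exact he1 (hC.rt_injective s.isLt h2)
    have hs1 := rt_mem_genBy_imp (geSet_closed le_rfl) hs120 hslt he1 hsQ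
    by_contra hne
    have hsR : H52.rt chevE8 s.val (e : F₂) ∈ R 1 r.val :=
      H52.rt_mem_genBy (P := OffSet 1 r.val) ⟨hs1, fun h0 => hne (Fin.ext h0)⟩ _
    have h3 := mul_mem (inv_mem hmain) hsR
    rw [mul_inv_rev, inv_inv, inv_mul_cancel_right] at h3
    exact (rt_mem_genBy_imp (offSet_closed le_rfl (by rw [hr]; norm_num)) hr1 hrlt one_ne_zero
      h3).2 rfl
  have hw1 : w = 1 := by
    refine diag_eq_one ?_
    have hH : (C.nwG (F := F₂) L) ∈ (H53.grpSys C.W F₂).H := by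
      refine H53.RootGroupSys.mem_H_of_acts_one C.axioms C.sep (C.nwG_mem_N L) ?_
      rw [← hone]; exact C.nwG_acts L
    have := (H53.mem_diag_iff C.hC C.W _).2 hH
    rwa [C.coe_nwG] at this
  rw [hw1]
  exact mul_mem (mul_mem (mul_mem hu (one_mem _)) (one_mem _)) hvU

/-- The product of the reflections of a word. -/
noncomputable def wordElt (w : List ℕ) : GL chevE8.Idx F₂ := (w.map refl).prod

theorem wordElt_mem_P {w : List ℕ} (hw : ∀ i ∈ w, i < 8 ∧ i ≠ 3) : wordElt w ∈ P :=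
  list_prod_mem fun g hg => by
    obtain ⟨i, hi, rfl⟩ := List.mem_map.1 hg
    exact refl_mem_P (hw i hi).1 (hw i hi).2

theorem wordElt_conj_rt : ∀ {w : List ℕ}, (∀ i ∈ w, i < 8) → ∀ {r : ℕ}, r < 240 → ∀ t : F₂,
    wordAct w r < 240 ∧
      wordElt w * H52.rt chevE8 r t * (wordElt w)⁻¹ = H52.rt chevE8 (wordAct w r) t := by
  intro w
  induction w with
  | nil => intro _ r hr t; exact ⟨hr, by simp [wordElt, wordAct]⟩
  | cons i w ih =>
    intro hw r hr t
    obtain ⟨h1, h2⟩ := ih (fun j hj => hw j (List.mem_cons_of_mem _ hj)) hr t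
    have hi := hw i (List.mem_cons_self ..)
    refine ⟨reflect_lt hi h1, ?_⟩
    rw [wordElt, List.map_cons, List.prod_cons, ← wordElt, mul_inv_rev, refl_inv hi,
      show refl i * wordElt w * H52.rt chevE8 r t * ((wordElt w)⁻¹ * refl i) =
        refl i * (wordElt w * H52.rt chevE8 r t * (wordElt w)⁻¹) * refl i by group, h2,
      refl_conj_rt hi h1]
    rfl

theorem InK.mem_Q_one {x : GL chevE8.Idx F₂} (h : InK x) : x ∈ Q 1 := by
  set S₀ := H52.genBy chevE8 F₂ fun r => 120 ≤ r ∧ r < 240 ∧ gr r ≤ 0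
  have hU : chevE8.posUnipotent F₂ ≤ Q 1 ⊔ S₀ := by
    rw [hC.posUnipotent_eq, H52.upper, Subgroup.closure_le]
    rintro g ⟨r, t, h1, h2, rfl⟩
    rw [nr] at h1 h2
    by_cases hg : gr r ≤ 0
    · exact Subgroup.mem_sup_right (H52.rt_mem_genBy ⟨h1, h2, hg⟩ t)
    · exact Subgroup.mem_sup_left (H52.rt_mem_genBy ⟨h2, by push_cast; omega⟩ t)
  have hS0P : S₀ ≤ P := by
    refine ((Subgroup.closure_le _).2 ?_).trans pos_le_P
    rintro g ⟨r, t, ⟨h1, h2, -⟩, rfl⟩
    exact hC.rt_mem_pos (by rw [nr]; exact h1) (lt240 h2) t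
  have hnorm : S₀ ≤ Subgroup.normalizer (Q 1 : Set (GL chevE8.Idx F₂)) :=
    hS0P.trans (P_le_normalizer_Q le_rfl)
  have hx := hU h.mem_pos
  rw [← SetLike.mem_coe, Subgroup.coe_mul_of_right_le_normalizer_left _ _ hnorm] at hx
  obtain ⟨q, hq, l, hl, rfl⟩ := Set.mem_mul.1 hx
  have hw : ∀ i ∈ leviLong, i < 8 ∧ i ≠ 3 := by decide
  set w := wordElt leviLong
  have hwP := wordElt_mem_P hw
  have h1 : w * l * w⁻¹ ∈ chevE8.negUnipotent F₂ := by
    refine Subgroup.closure_induction (p := fun g _ => w * g * w⁻¹ ∈ chevE8.negUnipotent F₂)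
      ?_ ?_ ?_ ?_ hl
    · rintro g ⟨r, t, ⟨h1, h2, h3⟩, rfl⟩
      obtain ⟨hlt, he⟩ := wordElt_conj_rt (fun i hi => (hw i hi).1) h2 t
      rw [he]
      refine hC.rt_mem_neg ?_ _
      have := long_check
      simp only [List.all_eq_true, List.mem_range, decide_eq_true_eq] at this
      rw [nr]; exact this r h2 h1 h3
    · simp
    · intro a b _ _ ha hb
      have := mul_mem ha hb
      rwa [show w * a * w⁻¹ * (w * b * w⁻¹) = w * (a * b) * w⁻¹ by group] at this
    · intro a _ ha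
      have := inv_mem ha
      rwa [show (w * a * w⁻¹)⁻¹ = w * a⁻¹ * w⁻¹ by group] at this
  have h2 : w * l * w⁻¹ ∈ chevE8.borelSubgroup F₂ := by
    rw [borel_eq]
    have h3 := (h.conj hwP).mem_pos
    have h4 := Q_le_pos le_rfl (conj_mem_Q le_rfl hwP hq)
    have := mul_mem (inv_mem h4) h3
    rwa [show (w * q * w⁻¹)⁻¹ * (w * (q * l) * w⁻¹) = w * l * w⁻¹ by group] at this
  have h5 : w * l * w⁻¹ = 1 := by
    have := Subgroup.mem_inf.2 ⟨h2, h1⟩
    rwa [hC.borel_inf_neg, Subgroup.mem_bot] at this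
  rw [conj_eq_one_iff] at h5
  rw [h5, mul_one]
  exact hq

end H34.IterCore
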