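import Cfsg.Agent.H34.IteratedCores

/-!
Assembly of the example: maximality of `P`, and the two sequences of cores.
-/

set_option autoImplicit false

open Cfsg.Lie
open scoped MatrixGroups

namespace H34.IterCore

attribute [local irreducible] Cfsg.Lie.chevE8

local notation "F₂" => ZMod 2

/-- The terms of the first sequence, as matrix groups. -/
noncomputable def seqGL (i : ℕ) : Subgroup (GL chevE8.Idx F₂) := if i = 0 then P else Q (i + 1)

theorem seqGL_le_P (i : ℕ) : seqGL i ≤ P := by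
  rcases eq_or_ne i 0 with rfl | h
  · simp [seqGL]
  · rw [seqGL, if_neg h]; exact Q_le_P (by omega)

theorem refl_conj_Q {m : ℕ} (hm : 1 ≤ m) {x : GL chevE8.Idx F₂} (hx : x ∈ Q (m + 1)) :
    refl 3 * x * refl 3 ∈ Q m := by
  refine refl_map_genBy (by norm_num) (fun r hr => hr.1) (fun r hr => ?_) hx
  refine ⟨reflect_lt (by norm_num) hr.1, ?_⟩
  have h2 := hr.2
  push_cast at h2
  have := gr_reflect_three hr.1 (by omega)
  omega

theorem conj_mem_seqGL (i : ℕ) {p x : GL chevE8.Idx F₂} (hp : p ∈ P) (hx : x ∈ seqGL i) :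
    p * x * p⁻¹ ∈ seqGL i := by
  rcases eq_or_ne i 0 with rfl | h
  · simp only [seqGL, if_true] at hx ⊢
    exact mul_mem (mul_mem hp hx) (inv_mem hp)
  · rw [seqGL, if_neg h] at hx ⊢
    exact conj_mem_Q (by omega) hp hx

/-- The recursion of the cores. -/
theorem seqGL_succ_iff (i : ℕ) (x : GL chevE8.Idx F₂) :
    x ∈ seqGL (i + 1) ↔ x ∈ P ∧ ∀ p ∈ P,
      p * x * p⁻¹ ∈ seqGL i ∧ refl 3 * (p * x * p⁻¹) * refl 3 ∈ seqGL i := by
  rw [show seqGL (i + 1) = Q (i + 2) from by rw [seqGL, if_neg (by omega)]]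
  constructor
  · intro hx
    refine ⟨Q_le_P (by omega) hx, fun p hp => ?_⟩
    have hc : p * x * p⁻¹ ∈ Q (i + 2) := conj_mem_Q (by omega) hp hx
    rcases eq_or_ne i 0 with rfl | h
    · simp only [seqGL, if_true]
      exact ⟨Q_le_P (by norm_num) hc, Q_le_P (le_refl 1) (refl_conj_Q le_rfl hc)⟩
    · rw [seqGL, if_neg h]
      exact ⟨Q_mono (by omega) hc, refl_conj_Q (by omega) hc⟩
  · rintro ⟨-, hall⟩
    rcases eq_or_ne i 0 with rfl | h
    · simp only [seqGL, if_true] at hall
      have h1 : x ∈ Q 1 := InK.mem_Q_one hall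
      refine core_Q le_rfl (fun p hp => conj_mem_Q le_rfl hp h1) fun p hp => ?_
      rw [if_pos rfl]; exact (hall p hp).2
    · rw [seqGL, if_neg h] at hall
      refine core_Q (m := i + 1) (by omega) (fun p hp => (hall p hp).1) fun p hp => ?_
      rw [if_neg (by omega)]; exact (hall p hp).2

/-- The group `E₈(2)`. -/
abbrev Grp : Type := ↥(chevE8.group (ZMod 2))

/-- The first maximal subgroup. -/
noncomputable def maxOne : Subgroup Grp := P.subgroupOf (chevE8.group F₂)

/-- The conjugating element. -/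
noncomputable def conjElt : Grp := ⟨refl 3, refl_mem_group (by norm_num)⟩

theorem conjElt_inv : conjElt⁻¹ = conjElt := Subtype.ext (refl_inv (by norm_num))

/-- The second maximal subgroup. -/
noncomputable def maxTwo : Subgroup Grp := maxOne.map (MulAut.conj conjElt).toMonoidHom

/-- The first sequence. -/
noncomputable def seqA (i : ℕ) : Subgroup Grp := (seqGL i).subgroupOf (chevE8.group F₂)

/-- The second sequence. -/
noncomputable def seqB (i : ℕ) : Subgroup Grp := (seqA i).map (MulAut.conj conjElt).toMonoidHom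

theorem mem_map_conjElt {H : Subgroup Grp} {x : Grp} :
    x ∈ H.map (MulAut.conj conjElt).toMonoidHom ↔ conjElt * x * conjElt ∈ H := by
  constructor
  · rintro ⟨y, hy, rfl⟩
    have h2 : conjElt * conjElt = 1 := Subtype.ext (refl_mul_self (by norm_num))
    rw [MulEquiv.coe_toMonoidHom, MulAut.conj_apply, conjElt_inv,
      show conjElt * (conjElt * y * conjElt) * conjElt =
        (conjElt * conjElt) * y * (conjElt * conjElt) by group, h2, one_mul, mul_one]
    exact hy
  · intro h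
    refine ⟨_, h, ?_⟩
    have h2 : conjElt * conjElt = 1 := Subtype.ext (refl_mul_self (by norm_num))
    rw [MulEquiv.coe_toMonoidHom, MulAut.conj_apply, conjElt_inv,
      show conjElt * (conjElt * x * conjElt) * conjElt =
        (conjElt * conjElt) * x * (conjElt * conjElt) by group, h2, one_mul, mul_one]

theorem mem_core_in {G : Type*} [Group G] (M Y : Subgroup G) (x : G) :
    x ∈ ((Y.subgroupOf M).normalCore.map M.subtype) ↔
      x ∈ M ∧ ∀ p ∈ M, p * x * p⁻¹ ∈ Y := by
  constructor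
  · rintro ⟨⟨y, hy⟩, hc, rfl⟩
    exact ⟨hy, fun p hp => hc ⟨p, hp⟩⟩
  · rintro ⟨hx, h⟩
    exact ⟨⟨x, hx⟩, fun p => h p.1 p.2, rfl⟩

theorem seqA_succ (i : ℕ) :
    seqA (i + 1) = ((seqA i ⊓ seqB i).subgroupOf maxOne).normalCore.map maxOne.subtype := by
  ext x
  rw [mem_core_in]
  simp only [seqA, Subgroup.mem_subgroupOf, seqGL_succ_iff]
  constructor
  · rintro ⟨hx, h⟩
    refine ⟨hx, fun p hp => Subgroup.mem_inf.2 ⟨(h p.1 hp).1, mem_map_conjElt.2 ?_⟩⟩
    exact (h p.1 hp).2
  · rintro ⟨hx, h⟩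
    refine ⟨hx, fun p hp => ?_⟩
    obtain ⟨h1, h2⟩ := Subgroup.mem_inf.1 (h ⟨p, P_le_group hp⟩ hp)
    exact ⟨h1, mem_map_conjElt.1 h2⟩

theorem seqB_succ (i : ℕ) :
    seqB (i + 1) = ((seqA i ⊓ seqB i).subgroupOf maxTwo).normalCore.map maxTwo.subtype := by
  ext x
  rw [mem_core_in, seqB, mem_map_conjElt, seqA_succ, mem_core_in, maxTwo, mem_map_conjElt]
  have h2 : conjElt * conjElt = 1 := Subtype.ext (refl_mul_self (by norm_num))
  have flip : ∀ p : Grp, conjElt * (conjElt * p * conjElt) * conjElt = p := fun p => by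
    rw [show conjElt * (conjElt * p * conjElt) * conjElt =
      (conjElt * conjElt) * p * (conjElt * conjElt) by group, h2, one_mul, mul_one]
  have hconj : ∀ p y : Grp, conjElt * (p * y * p⁻¹) * conjElt =
      (conjElt * p * conjElt) * (conjElt * y * conjElt) * (conjElt * p * conjElt)⁻¹ := fun p y => by
    simp only [mul_inv_rev, conjElt_inv]
    rw [show conjElt * p * conjElt * (conjElt * y * conjElt) * (conjElt * (p⁻¹ * conjElt)) =
      conjElt * p * (conjElt * conjElt) * y * (conjElt * conjElt) * p⁻¹ * conjElt by group, h2]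
    group
  have hsym : ∀ y : Grp, conjElt * y * conjElt ∈ seqA i ⊓ seqB i → y ∈ seqA i ⊓ seqB i := by
    intro y hy
    obtain ⟨ha, hb⟩ := Subgroup.mem_inf.1 hy
    refine Subgroup.mem_inf.2 ⟨?_, mem_map_conjElt.2 ha⟩
    have := mem_map_conjElt.1 hb
    rwa [flip] at this
  constructor
  · rintro ⟨hx, h⟩
    refine ⟨hx, fun p hp => hsym _ ?_⟩
    rw [hconj]
    exact h _ (mem_map_conjElt.1 hp)
  · rintro ⟨hx, h⟩
    refine ⟨hx, fun p hp => hsym _ ?_⟩
    rw [hconj, flip]
    exact h _ (mem_map_conjElt.2 (by rw [flip]; exact hp))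

theorem maxOne_ne_maxTwo : maxOne ≠ maxTwo := by
  intro he
  refine neg_simple_not_mem_P ?_
  obtain ⟨-, -, hr, -⟩ := simple_three
  have hx : H52.rt chevE8 130 (1 : F₂) ∈ P :=
    pos_le_P (hC.rt_mem_pos (by rw [half]; norm_num) (lt240 (by norm_num)) _)
  have h1 : (⟨_, P_le_group hx⟩ : Grp) ∈ maxTwo := he ▸ (show _ ∈ maxOne from hx)
  have h2 := mem_map_conjElt.1 h1
  have h3 : refl 3 * H52.rt chevE8 130 (1 : F₂) * refl 3 ∈ P := h2
  rwa [refl_conj_rt (by norm_num) (by norm_num), hr] at h3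

theorem Q_seven : Q 7 = ⊥ := by
  rw [Q, H52.genBy, Subgroup.closure_eq_bot_iff]
  rintro g ⟨r, t, ⟨hr, hge⟩, rfl⟩
  have := gr_le_six
  simp only [List.all_eq_true, List.mem_range, decide_eq_true_eq] at this
  have := this r hr
  push_cast at hge
  omega

theorem seqA_six : seqA 6 = ⊥ := by
  rw [seqA, seqGL, if_neg (by norm_num), Q_seven, Subgroup.bot_subgroupOf]

theorem seqA_five : seqA 5 ≠ ⊥ := by
  intro h
  have h0 := bad_check
  simp only [List.all_eq_true, Bool.and_eq_true, beq_iff_eq, decide_eq_true_eq,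
    List.mem_range'_1] at h0
  obtain ⟨⟨hlt, hg⟩, -⟩ := h0 6 ⟨by norm_num, by norm_num⟩
  have hQ : H52.rt chevE8 (badRoot 6) (1 : F₂) ∈ Q 6 :=
    H52.rt_mem_genBy (P := GeSet 6) ⟨hlt, by rw [hg]⟩ _
  have hx : (⟨_, P_le_group (Q_le_P (by norm_num) hQ)⟩ : Grp) ∈ seqA 5 := by
    rw [seqA, Subgroup.mem_subgroupOf, seqGL, if_neg (by norm_num)]; exact hQ
  rw [h, Subgroup.mem_bot] at hx
  have h1 : H52.rt chevE8 (badRoot 6) (1 : F₂) = 1 := congrArg Subtype.val hx
  rw [← hC.rt_zero (badRoot 6)] at h1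
  exact one_ne_zero (hC.rt_injective (lt240 hlt) h1)

theorem maxOne_normalCore : maxOne.normalCore = ⊥ := by
  set N := maxOne.normalCore
  have hle : ∀ i, N ≤ seqA i := by
    intro i
    induction i with
    | zero => exact fun x hx => by simpa [seqA, seqGL, maxOne] using (Subgroup.normalCore_le _ hx : x ∈ maxOne)
    | succ i ih =>
      intro x hx
      rw [seqA_succ, mem_core_in]
      refine ⟨Subgroup.normalCore_le _ hx, fun p _ => Subgroup.mem_inf.2 ⟨ih ?_, mem_map_conjElt.2 (ih ?_)⟩⟩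
      · exact (Subgroup.normalCore_normal _).conj_mem _ hx p
      · have h := (Subgroup.normalCore_normal maxOne).conj_mem _
          ((Subgroup.normalCore_normal maxOne).conj_mem _ hx p) conjElt
        rwa [conjElt_inv] at h
  exact eq_bot_iff.2 ((hle 6).trans seqA_six.le)

theorem maxOne_isCoatom : IsCoatom maxOne := by
  obtain ⟨W⟩ := H53.nonempty_weylFor mem8
  let K : H52.BNData chevE8 H52.tablesE8 := ⟨hC, H54.chainOK_of_mem _ mem8, W⟩
  refine ⟨fun h => refl_three_not_mem ?_, fun M hM => ?_⟩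
  · exact (show conjElt ∈ maxOne from h ▸ Subgroup.mem_top _)
  have hB : (K.pair F₂).B ≤ M := by
    rw [K.pair_B]
    exact le_trans (fun g hg => pos_le_P (borel_eq ▸ hg)) hM.le
  have hgen : ∀ g ∈ (K.pair F₂).S, ∃ i < 8, (g : GL chevE8.Idx F₂) = refl i := by
    intro g hg
    rw [K.pair_S] at hg
    obtain ⟨i, hi, he⟩ := hg
    exact ⟨i, by rwa [rk] at hi, Units.ext (by rw [he, refl, hC.coe_nElt])⟩
  have hMpar := H56.eq_parabolic_of_le (K.pair F₂) hB
  by_cases h3 : conjElt ∈ M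
  · rw [eq_top_iff, ← (K.pair F₂).sup_eq_top, sup_le_iff, ← (K.pair F₂).closure_sup, sup_le_iff]
    refine ⟨hB, (Subgroup.closure_le _).2 fun g hg => ?_, inf_le_left.trans hB⟩
    obtain ⟨i, hi, he⟩ := hgen g hg
    rcases eq_or_ne i 3 with rfl | hne
    · have : g = conjElt := Subtype.ext he
      exact this ▸ h3
    · refine hM.le ?_
      show (g : GL chevE8.Idx F₂) ∈ P
      rw [he]; exact refl_mem_P hi hne
  · exfalso
    apply hM.not_ge
    rw [hMpar]
    refine sup_le ?_ ((Subgroup.closure_le _).2 ?_)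
    · rw [K.pair_B]
      exact fun g hg => pos_le_P (borel_eq ▸ hg)
    · rintro g ⟨hgS, hgM⟩
      obtain ⟨i, hi, he⟩ := hgen g hgS
      show (g : GL chevE8.Idx F₂) ∈ P
      rw [he]
      refine refl_mem_P hi fun hi3 => h3 ?_
      have : g = conjElt := Subtype.ext (by rw [he, hi3]; rfl)
      rwa [← this]

end H34.IterCore
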