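import Cfsg.Agent.H52.SevenSupport

/-!
Kernel-checked facts on the grading of the roots of `E₈` at the branch node.

`P` is the maximal parabolic subgroup of the branch node, whose fundamental root has coefficient 6
in the highest root, `n` the reflection in that root, and `Q m` the subgroup of the roots of grade
at least `m`. The core in `P` of `Q m ⊓ n Q m n` is `Q (m + 1)`.
-/

set_option autoImplicit false
set_option maxRecDepth 100000

open Cfsg.Lie

namespace H34.IterCore

/-- The coefficient of a root at the branch node. -/
def gr (r : ℕ) : ℤ := H52.tablesE8.co r 3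

/-- The fundamental roots of the Levi subgroup. -/
def leviNodes : List ℕ := [0, 1, 2, 4, 5, 6, 7]

/-- A word in the Levi reflections. -/
def wordAct (w : List ℕ) (r : ℕ) : ℕ := w.foldr chevE8.reflectRoot r

/-- The longest word of the Levi reflections. -/
def leviLong : List ℕ := [0, 1, 2, 0, 4, 5, 4, 6, 5, 4, 7, 6, 5, 4]

/-- A root of grade `m` whose reflection has grade `m - 1`, for `2 ≤ m`. -/
def badRoot : ℕ → ℕ
  | 2 => 152 | 3 => 194 | 4 => 214 | 5 => 224 | 6 => 235 | _ => 130

/-- One step in the closure under the Levi reflections. -/
def orbitStep (L : List ℕ) : List ℕ :=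
  (L ++ L.flatMap fun r => leviNodes.map fun i => chevE8.reflectRoot i r).eraseDups

/-- Iterated closure. -/
def orbitList : ℕ → List ℕ → List ℕ
  | 0, L => L
  | k + 1, L => orbitList k (orbitStep L)

/-! ### Table checks -/

theorem gr_drop : (List.range 240).all (fun r =>
    decide (2 ≤ gr r → gr r - 1 ≤ gr (chevE8.reflectRoot 3 r))) = true := by decide +kernel

theorem reflect_three_pos : (List.range 240).all (fun r =>
    decide (120 ≤ r → r ≠ 130 → 120 ≤ chevE8.reflectRoot 3 r)) = true := by decide +kernel

theorem reflect_invol_check : (List.range 8).all (fun i => (List.range 240).all fun r =>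
    chevE8.reflectRoot i (chevE8.reflectRoot i r) == r) = true := by decide +kernel

theorem bad_check : (List.range' 2 5).all (fun m =>
    decide (badRoot m < 240) && (gr (badRoot m) == (m : ℤ)) &&
      (gr (chevE8.reflectRoot 3 (badRoot m)) == (m : ℤ) - 1)) = true := by decide +kernel

theorem bad_one_check : (badRoot 1 == chevE8.simple 3) && (gr (badRoot 1) == 1) &&
    (chevE8.reflectRoot 3 130 == chevE8.neg 130) && decide (chevE8.neg 130 < 120) = true := by
  decide +kernel

theorem gr_le_six : (List.range 240).all (fun r => decide (gr r ≤ 6)) = true := by decide +kernel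

theorem orbit_check : (List.range' 1 6).all (fun m => (List.range 240).all fun r =>
    (gr r != (m : ℤ)) || (orbitList 20 [badRoot m]).contains r) = true := by decide +kernel

theorem long_check : (List.range 240).all (fun r =>
    decide (120 ≤ r → gr r ≤ 0 → wordAct leviLong r < 120)) = true := by decide +kernel

theorem span_check : leviNodes.all (fun j => (List.range 240).any fun b => (gr b == 1) &&
    (List.range 240).any fun c => (gr c == 1) && (List.range 8).all fun k =>
      H52.tablesE8.co c k == H52.tablesE8.co b k + H52.tablesE8.co (chevE8.simple j) k) = true := by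
  decide +kernel

end H34.IterCore
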