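import Mathlib
import Cfsg.Agent.H34.Index
import Cfsg.Agent.H2.FrobeniusKernel

set_option autoImplicit false

/-!
Finite groups in which the centralizer of every non-central element is maximal are solvable.
-/

namespace H34.MaxC

open Pointwise

/-- Reciprocal squares over a finite set of integers `≥ 2` sum to less than one. -/
theorem sum_inv_sq_lt (s : Finset ℕ) (hs : ∀ n ∈ s, 2 ≤ n) :
    ∑ n ∈ s, (1 : ℚ) / (n : ℚ) ^ 2 ≤ 3 / 4 := by
  obtain ⟨N, hN2, hN⟩ : ∃ N : ℕ, 2 ≤ N ∧ s ⊆ Finset.Icc 2 N :=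
    ⟨s.sup id + 2, by omega, fun n hn => Finset.mem_Icc.2
      ⟨hs n hn, le_trans (Finset.le_sup (f := id) hn) (by omega)⟩⟩
  have key : ∀ M : ℕ, 2 ≤ M → ∑ n ∈ Finset.Icc 2 M, (1 : ℚ) / (n : ℚ) ^ 2 ≤ 3 / 4 - 1 / M := by
    intro M hM
    induction M, hM using Nat.le_induction with
    | base => norm_num
    | succ M hM ih =>
      rw [Finset.sum_Icc_succ_top (by omega)]
      have hM' : (2 : ℚ) ≤ M := by exact_mod_cast hM
      push_cast
      have h : (1 : ℚ) / ((M : ℚ) + 1) ^ 2 ≤ 1 / M - 1 / ((M : ℚ) + 1) := by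
        rw [div_sub_div _ _ (by positivity) (by positivity)]
        rw [div_le_div_iff₀ (by positivity) (by positivity)]
        nlinarith
      linarith
  refine (Finset.sum_le_sum_of_subset_of_nonneg hN fun _ _ _ => by positivity).trans
    ((key N hN2).trans ?_)
  have : (0 : ℚ) ≤ 1 / N := by positivity
  linarith

variable {G : Type*} [Group G]

/-- The centralizer of an element. -/
abbrev cC (x : G) : Subgroup G := Subgroup.centralizer ({x} : Set G)

theorem mem_cC {x y : G} : y ∈ cC x ↔ y * x = x * y := Subgroup.mem_centralizer_singleton_iff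

theorem self_mem (x : G) : x ∈ cC x := mem_cC.2 rfl

theorem cC_le_pow (x : G) (n : ℕ) : cC x ≤ cC (x ^ n) :=
  fun _ hy => mem_cC.2 ((show Commute _ x from mem_cC.1 hy).pow_right n)

variable (hmax : ∀ x : G, x ≠ 1 → IsCoatom (cC x))
include hmax

theorem cC_eq_of_le {x y : G} (hx : x ≠ 1) (hy : y ≠ 1) (h : cC x ≤ cC y) : cC x = cC y :=
  h.lt_or_eq.elim (fun hlt => absurd ((hmax x hx).2 _ hlt) (hmax y hy).1) id

variable [Finite G]

/-- A `p'`-element of the centralizer of an element of order `p` is central in it. -/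
theorem coprime_central {z u : G} {p : ℕ} (hp : p.Prime) (hz : orderOf z = p) (hu : u ∈ cC z)
    (hcop : (orderOf u).Coprime p) : cC z ≤ cC u := by
  have hz1 : z ≠ 1 := by
    intro h; rw [h, orderOf_one] at hz; exact hp.one_lt.ne hz
  have hc : Commute z u := (mem_cC.1 hu).symm
  -- both factors are powers of the product
  obtain ⟨a, ha⟩ := exists_pow_eq_self_of_coprime (x := z) (n := orderOf u) (by rw [hz]; exact hcop)
  obtain ⟨b, hb⟩ := exists_pow_eq_self_of_coprime (x := u) (n := p) hcop.symm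
  have h1 : ((z * u) ^ orderOf u) ^ a = z := by
    rw [hc.mul_pow, pow_orderOf_eq_one, mul_one, ha]
  have h2 : ((z * u) ^ p) ^ b = u := by
    rw [hc.mul_pow, ← hz, pow_orderOf_eq_one, one_mul, hz, hb]
  have hw : z * u ≠ 1 := fun h => hz1 (by rw [← h1, h, one_pow, one_pow])
  have e : cC (z * u) = cC z := by
    refine cC_eq_of_le hmax hw hz1 ?_
    conv_rhs => rw [← h1, ← pow_mul]
    exact cC_le_pow _ _
  conv_rhs => rw [← h2, ← pow_mul]
  rw [← e]
  exact cC_le_pow _ _

/-- Every centralizer is abelian or a `p`-group. -/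
theorem comm_or_pgroup {x : G} (hx : x ≠ 1) :
    (∀ a ∈ cC x, ∀ b ∈ cC x, a * b = b * a) ∨ ∃ p : ℕ, p.Prime ∧ IsPGroup p ↥(cC x) := by
  obtain ⟨p, hp, hpx⟩ := Nat.exists_prime_and_dvd (n := orderOf x) (by simpa using hx)
  set z := x ^ (orderOf x / p) with hzdef
  have hz : orderOf z = p := orderOf_pow_orderOf_div (orderOf_pos x).ne' hpx
  have hz1 : z ≠ 1 := by intro h; rw [h, orderOf_one] at hz; exact hp.one_lt.ne hz
  have e : cC x = cC z := cC_eq_of_le hmax hx hz1 (cC_le_pow _ _)
  rw [e]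
  by_cases hall : ∀ u ∈ cC z, (orderOf u).Coprime p → u = 1
  · refine Or.inr ⟨p, hp, fun g => ⟨(orderOf (g : G)).factorization p, Subtype.ext ?_⟩⟩
    have hne : orderOf (g : G) ≠ 0 := (orderOf_pos _).ne'
    push_cast
    refine hall _ (pow_mem g.2 _) ?_
    rw [orderOf_pow_of_dvd (pow_ne_zero _ hp.ne_zero) (Nat.ordProj_dvd _ p)]
    exact (Nat.coprime_ordCompl hp hne).symm
  · push Not at hall
    obtain ⟨u, hu, hucop, hu1⟩ := hall
    obtain ⟨q, hq, hqu⟩ := Nat.exists_prime_and_dvd (n := orderOf u) (by simpa using hu1)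
    set v := u ^ (orderOf u / q) with hvdef
    have hv : orderOf v = q := orderOf_pow_orderOf_div (orderOf_pos u).ne' hqu
    have hv1 : v ≠ 1 := by intro h; rw [h, orderOf_one] at hv; exact hq.one_lt.ne hv
    have hqp : q ≠ p := fun h => hp.one_lt.ne' (Nat.eq_one_of_dvd_coprimes hucop (h ▸ hqu) dvd_rfl)
    have hzu := coprime_central hmax hp hz hu hucop
    have ev : cC z = cC v := cC_eq_of_le hmax hz1 hv1 (hzu.trans (cC_le_pow _ _))
    refine Or.inl fun a ha b hb => ?_
    -- `b` is central in `cC z`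
    have hne : orderOf b ≠ 0 := (orderOf_pos b).ne'
    set m := p ^ (orderOf b).factorization p
    set n := orderOf b / m
    have hcop1 : (orderOf (b ^ m)).Coprime p := by
      rw [orderOf_pow_of_dvd (pow_ne_zero _ hp.ne_zero) (Nat.ordProj_dvd _ p)]
      exact (Nat.coprime_ordCompl hp hne).symm
    have hcop2 : (orderOf (b ^ n)).Coprime q := by
      have hd : orderOf (b ^ n) ∣ m := by
        refine orderOf_dvd_of_pow_eq_one ?_
        rw [← pow_mul, Nat.div_mul_cancel (Nat.ordProj_dvd _ p), pow_orderOf_eq_one]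
      exact Nat.Coprime.coprime_dvd_left hd
        (Nat.Coprime.pow_left _ ((Nat.coprime_primes hp hq).2 hqp.symm))
    have c1 : Commute a (b ^ m) :=
      mem_cC.1 (coprime_central hmax hp hz (pow_mem hb m) hcop1 ha)
    have c2 : Commute a (b ^ n) :=
      mem_cC.1 (coprime_central hmax hq hv (pow_mem (ev ▸ hb) n) hcop2 (ev ▸ ha))
    have hg : Nat.gcd m n = 1 := Nat.Coprime.pow_left _ (Nat.coprime_ordCompl hp hne)
    have hb' : b = (b ^ m) ^ Nat.gcdA m n * (b ^ n) ^ Nat.gcdB m n := by
      rw [← zpow_natCast b m, ← zpow_natCast b n, ← zpow_mul, ← zpow_mul, ← zpow_add,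
        ← Nat.gcd_eq_gcd_ab, hg, Nat.cast_one, zpow_one]
    rw [hb']
    exact ((c1.zpow_right _).mul_right (c2.zpow_right _)).eq

variable (hab : ∀ A : Subgroup G, A.Normal → (∀ a ∈ A, ∀ b ∈ A, a * b = b * a) → A = ⊥)
include hab

omit [Finite G] in
theorem normalizer_eq {x : G} (hx : x ≠ 1) : Subgroup.normalizer (cC x : Set G) = cC x := by
  rcases (Subgroup.le_normalizer (H := cC x)).lt_or_eq with h | h
  · exfalso
    have hn : (cC x).Normal := Subgroup.normalizer_eq_top_iff.1 ((hmax x hx).2 _ h)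
    have hA := hab (cC x ⊓ Subgroup.centralizer (cC x : Set G)) inferInstance
      (fun a ha b hb => Subgroup.mem_centralizer_iff.1 hb.2 a ha.1)
    have : x ∈ cC x ⊓ Subgroup.centralizer (cC x : Set G) :=
      ⟨self_mem x, Subgroup.mem_centralizer_iff.2 fun y hy => mem_cC.1 hy⟩
    rw [hA] at this
    exact hx this
  · exact h.symm

/-- An abelian centralizer is a Frobenius complement, which is impossible. -/
theorem not_comm {x : G} (hx : x ≠ 1) : ¬ ∀ a ∈ cC x, ∀ b ∈ cC x, a * b = b * a := by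
  intro hcomm
  set A := cC x
  have hself : ∀ a ∈ A, a ≠ 1 → cC a = A := fun a ha h1 =>
    (cC_eq_of_le hmax hx h1 fun b hb => mem_cC.2 (hcomm b hb a ha)).symm
  have hF : Cfsg.IsFrobeniusComplement A := by
    refine ⟨fun h => hx ?_, (hmax x hx).1, fun g hg => ?_⟩
    · rw [← Subgroup.mem_bot, ← h]; exact self_mem x
    rw [eq_bot_iff]
    intro y hy
    obtain ⟨hyA, hyg⟩ := Subgroup.mem_inf.1 hy
    rw [H2.mem_conj_smul] at hyg
    rw [Subgroup.mem_bot]
    by_contra hy1
    refine hg ?_
    show g ∈ cC x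
    rw [← normalizer_eq hmax hab hx, ← inv_mem_iff, Subgroup.mem_normalizer_iff]
    have hy1' : g⁻¹ * y * g ≠ 1 := fun h => hy1 (by
      have := congrArg (fun t => g * t * g⁻¹) h
      simpa [mul_assoc] using this)
    intro b
    show b ∈ A ↔ g⁻¹ * b * g⁻¹⁻¹ ∈ A
    rw [← hself _ hyg hy1', inv_inv]
    conv_lhs => rw [show cC (g⁻¹ * y * g) = cC y from (hself _ hyg hy1').trans (hself y hyA hy1).symm]
    rw [mem_cC, mem_cC]
    constructor
    · intro e
      calc g⁻¹ * b * g * (g⁻¹ * y * g) = g⁻¹ * (b * y) * g := by group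
        _ = g⁻¹ * y * g * (g⁻¹ * b * g) := by rw [e]; group
    · intro e
      calc b * y = g * (g⁻¹ * b * g * (g⁻¹ * y * g)) * g⁻¹ := by group
        _ = y * b := by rw [e]; group
  obtain ⟨N, hN, hNn, hc⟩ := H2.exists_kernel hF
  have hNtop : N ≠ ⊤ := fun h => by
    have := H2.complement_inf hc (show x ∈ N by rw [h]; trivial) (self_mem x)
    exact hx this
  have hNbot : N ≠ ⊥ := fun h => (hmax x hx).1 (by
    rw [Subgroup.eq_top_iff']
    intro g
    obtain ⟨k, hk, a, ha, rfl⟩ := H2.complement_decomp hc g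
    rw [h, Subgroup.mem_bot] at hk
    rw [hk, one_mul]; exact ha)
  -- centralizers of kernel elements lie in the kernel
  have hle : ∀ k ∈ N, k ≠ 1 → cC k ≤ N := by
    intro k hk hk1 c hc'
    by_contra hcN
    have hcK : c ∉ Cfsg.frobeniusKernel A := fun h => hcN (by rw [← SetLike.mem_coe, hN]; exact h)
    simp only [Cfsg.frobeniusKernel, Set.mem_ofPred_eq, not_or, not_forall, not_not] at hcK
    obtain ⟨hc1, g, hg⟩ := hcK
    obtain ⟨a, ha, rfl⟩ : ∃ a ∈ A, g * a * g⁻¹ = c :=
      ⟨g⁻¹ * c * g, H2.mem_conj_smul.1 hg, by group⟩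
    have ha1 : a ≠ 1 := fun h => hc1 (by rw [h]; group)
    have hka : g⁻¹ * k * g ∈ cC a := by
      rw [mem_cC]
      calc g⁻¹ * k * g * a = g⁻¹ * (k * (g * a * g⁻¹)) * g := by group
        _ = a * (g⁻¹ * k * g) := by rw [← mem_cC.1 hc']; group
    rw [hself a ha ha1] at hka
    have := H2.complement_inf hc (by simpa using hNn.conj_mem k hk g⁻¹) hka
    exact hk1 (by
      have := congrArg (fun t => g * t * g⁻¹) this
      simpa [mul_assoc] using this)
  refine hNbot (hab N hNn fun a ha b hb => ?_)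
  by_cases hb1 : b = 1
  · rw [hb1, mul_one, one_mul]
  · rcases (hle b hb hb1).lt_or_eq with h | h
    · exact absurd ((hmax b hb1).2 _ h) hNtop
    · exact mem_cC.1 (h.symm ▸ ha)

/-- The set of non-identity elements whose centralizer is a `p`-group. -/
theorem card_class_le (p : ℕ) (hp : p.Prime) :
    (({x : G | x ≠ 1 ∧ IsPGroup p ↥(cC x)}.ncard : ℚ)) ≤ (Nat.card G : ℚ) * (1 / (p : ℚ) ^ 2) := by
  classical
  haveI := Fact.mk hp
  set T := {x : G | x ≠ 1 ∧ IsPGroup p ↥(cC x)} with hT
  rcases T.eq_empty_or_nonempty with h | ⟨x₀, hx₀, hP₀⟩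
  · rw [h, Set.ncard_empty]; positivity
  -- the centralizers in `T` are Sylow subgroups
  have hsyl : ∀ x ∈ T, ∃ S : Sylow p G, (S : Subgroup G) = cC x := by
    intro x ⟨hx, hP⟩
    obtain ⟨S, hS⟩ := hP.exists_le_sylow
    refine ⟨S, ?_⟩
    by_contra hne
    have hlt : cC x < (S : Subgroup G) := lt_of_le_of_ne hS (Ne.symm hne)
    haveI := S.2.isNilpotent
    have h1 : (cC x).subgroupOf (S : Subgroup G) < ⊤ := by
      rw [lt_top_iff_ne_top, ne_eq, Subgroup.subgroupOf_eq_top]
      exact fun h => hlt.not_ge h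
    obtain ⟨s, hs, hs'⟩ := SetLike.exists_of_lt (Group.normalizerCondition_of_isNilpotent _ h1)
    refine hs' ?_
    rw [Subgroup.mem_subgroupOf, ← normalizer_eq hmax hab hx, Subgroup.mem_normalizer_iff]
    intro y
    rw [Subgroup.mem_normalizer_iff] at hs
    constructor
    · intro hy
      exact (hs ⟨y, hS hy⟩).1 hy
    · intro hy
      have hyS : y ∈ (S : Subgroup G) := by
        have := mul_mem (mul_mem (inv_mem s.2) (hS hy)) s.2
        simpa [mul_assoc] using this
      exact (hs ⟨y, hyS⟩).2 hy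
  obtain ⟨S₀, hS₀⟩ := hsyl x₀ ⟨hx₀, hP₀⟩
  set C := cC x₀ with hC
  set Z := Subgroup.center ↥C with hZ
  -- the bound `|Z| p² ≤ |C|`
  have hcard : Nat.card Z * p ^ 2 ≤ Nat.card ↥C := by
    have hncomm : ¬ ∀ a b : ↥C, a * b = b * a := fun h =>
      not_comm hmax hab hx₀ fun a ha b hb => congrArg Subtype.val (h ⟨a, ha⟩ ⟨b, hb⟩)
    obtain ⟨k, hk⟩ := IsPGroup.iff_card.1 (hP₀.to_quotient Z)
    have hnc : ¬ IsCyclic (↥C ⧸ Z) := fun h => hncomm fun a b =>
      commutative_of_cyclic_center_quotient (QuotientGroup.mk' Z)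
        (by rw [QuotientGroup.ker_mk']) a b
    have hk2 : 2 ≤ k := by
      by_contra hk2
      interval_cases k
      · rw [pow_zero] at hk
        haveI := (Nat.card_eq_one_iff_unique.1 hk).1
        exact hnc inferInstance
      · rw [pow_one] at hk
        exact hnc (isCyclic_of_prime_card (p := p) hk)
    rw [Subgroup.card_eq_card_quotient_mul_card_subgroup Z, mul_comm (Nat.card Z), hk]
    exact Nat.mul_le_mul_right _ (Nat.pow_le_pow_right hp.pos hk2)
  let f : (G ⧸ C) × ↥Z → G := fun y => y.1.out * ((y.2 : ↥C) : G) * y.1.out⁻¹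
  have hsub : T ⊆ Set.range f := by
    intro x hxT
    obtain ⟨S, hS⟩ := hsyl x hxT
    obtain ⟨g, hg⟩ := MulAction.exists_smul_eq G S₀ S
    obtain ⟨s, hs⟩ := QuotientGroup.mk_out_eq_mul C g
    have hgC : ∀ b : G, b ∈ C → g * b * g⁻¹ ∈ cC x := by
      intro b hb
      rw [← hS, ← hg]
      exact Subgroup.mem_map_of_mem (MulAut.conj g).toMonoidHom (show b ∈ (S₀ : Subgroup G) from hS₀ ▸ hb)
    have hout : ∀ b : G, b ∈ C →
        (g : G ⧸ C).out * b * (g : G ⧸ C).out⁻¹ ∈ cC x := by
      intro b hb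
      rw [hs]
      have := hgC (s * b * (s : G)⁻¹) (mul_mem (mul_mem s.2 hb) (inv_mem s.2))
      simpa [mul_assoc] using this
    set o := (g : G ⧸ C).out
    have hmem : o⁻¹ * x * o ∈ C := by
      have hx' : x ∈ (S : Subgroup G) := hS ▸ self_mem x
      rw [← hg] at hx'
      obtain ⟨b, hb, rfl⟩ := hx'
      have hb' : b ∈ C := hS₀ ▸ hb
      rw [show o = g * (s : G) from hs]
      have := mul_mem (mul_mem (inv_mem s.2) hb') s.2
      simpa [mul_assoc] using this
    have hcen : (⟨_, hmem⟩ : ↥C) ∈ Z := Subgroup.mem_center_iff.2 fun b => Subtype.ext (by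
      have h := mem_cC.1 (hout b b.2)
      push_cast
      calc (b : G) * (o⁻¹ * x * o) = o⁻¹ * (o * b * o⁻¹ * x) * o := by group
        _ = o⁻¹ * x * o * b := by rw [h]; group)
    exact ⟨((g : G ⧸ C), ⟨_, hcen⟩), show o * (o⁻¹ * x * o) * o⁻¹ = x by group⟩
  have h1 : T.ncard ≤ Nat.card (G ⧸ C) * Nat.card Z := by
    calc T.ncard ≤ (Set.range f).ncard := Set.ncard_le_ncard hsub (Set.toFinite _)
      _ ≤ Nat.card ((G ⧸ C) × ↥Z) := by
        rw [← Set.image_univ, ← Set.ncard_univ]; exact Set.ncard_image_le (Set.toFinite _)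
      _ = _ := Nat.card_prod _ _
  have h2 : T.ncard * p ^ 2 ≤ Nat.card G := by
    calc T.ncard * p ^ 2 ≤ Nat.card (G ⧸ C) * Nat.card Z * p ^ 2 := Nat.mul_le_mul_right _ h1
      _ ≤ Nat.card (G ⧸ C) * Nat.card ↥C := by
        rw [mul_assoc]; exact Nat.mul_le_mul_left _ hcard
      _ = Nat.card G := (Subgroup.card_eq_card_quotient_mul_card_subgroup C).symm
  have hp0 : (0 : ℚ) < (p : ℚ) ^ 2 := by
    have := hp.pos; positivity
  rw [mul_one_div, le_div_iff₀ hp0]
  exact_mod_cast h2

theorem absurd_of_nontrivial [Nontrivial G] : False := by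
  classical
  haveI := Fintype.ofFinite G
  let P := (Nat.card G).primeFactors
  let T : ℕ → Set G := fun p => {x : G | x ≠ 1 ∧ IsPGroup p ↥(cC x)}
  have hcov : (Finset.univ.erase (1 : G)) ⊆ P.biUnion (fun p => (T p).toFinset) := by
    intro x hx
    obtain ⟨hx, -⟩ := Finset.mem_erase.1 hx
    rcases comm_or_pgroup hmax hx with h | ⟨p, hp, hP⟩
    · exact absurd h (not_comm hmax hab hx)
    · refine Finset.mem_biUnion.2 ⟨p, ?_, by simpa [T] using ⟨hx, hP⟩⟩
      refine Nat.mem_primeFactors.2 ⟨hp, ?_, Nat.card_pos.ne'⟩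
      haveI := Fact.mk hp
      obtain ⟨k, hk⟩ := IsPGroup.iff_card.1 hP
      rcases k with _ | k
      · exfalso
        have h : (cC x) = ⊥ := Subgroup.card_eq_one.1 (by simpa using hk)
        exact hx (Subgroup.mem_bot.1 (h ▸ self_mem x))
      · exact dvd_trans ⟨p ^ k, by rw [hk]; ring⟩ (Subgroup.card_subgroup_dvd_card _)
  have h1 := (Finset.card_le_card hcov).trans Finset.card_biUnion_le
  rw [Finset.card_erase_of_mem (Finset.mem_univ _), Finset.card_univ, ← Nat.card_eq_fintype_card] at h1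
  have h2 : ((Nat.card G - 1 : ℕ) : ℚ) ≤ ∑ p ∈ P, (Nat.card G : ℚ) * (1 / (p : ℚ) ^ 2) := by
    refine (Nat.cast_le.2 h1).trans ?_
    push_cast
    refine Finset.sum_le_sum fun p hp => ?_
    rw [← Set.ncard_eq_toFinset_card']
    exact card_class_le hmax hab p (Nat.prime_of_mem_primeFactors hp)
  rw [← Finset.mul_sum] at h2
  have h3 := sum_inv_sq_lt P fun p hp => (Nat.prime_of_mem_primeFactors hp).two_le
  -- the group has at least eight elements
  have h8 : 5 ≤ Nat.card G := by
    obtain ⟨x, hx⟩ := exists_ne (1 : G)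
    rcases comm_or_pgroup hmax hx with h | ⟨p, hp, hP⟩
    · exact absurd h (not_comm hmax hab hx)
    · haveI := Fact.mk hp
      obtain ⟨k, hk⟩ := IsPGroup.iff_card.1 hP
      have hk3 : 3 ≤ k := by
        by_contra hk3
        refine not_comm hmax hab hx fun a ha b hb => ?_
        have h2 : ∀ u v : ↥(cC x), u * v = v * u := by
          interval_cases k
          · rw [pow_zero] at hk
            haveI := (Nat.card_eq_one_iff_unique.1 hk).1
            exact fun u v => Subsingleton.elim _ _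
          · rw [pow_one] at hk
            haveI := isCyclic_of_prime_card (p := p) hk
            exact fun u v => IsCyclic.commGroup.mul_comm u v
          · exact IsPGroup.commutative_of_card_eq_prime_sq hk
        exact congrArg Subtype.val (h2 ⟨a, ha⟩ ⟨b, hb⟩)
      calc 5 ≤ 2 ^ 3 := by norm_num
        _ ≤ p ^ k := (Nat.pow_le_pow_left hp.two_le 3).trans (Nat.pow_le_pow_right hp.pos hk3)
        _ = Nat.card ↥(cC x) := hk.symm
        _ ≤ Nat.card G := Subgroup.card_le_card_group _
  have h5 : (5 : ℚ) ≤ Nat.card G := by exact_mod_cast h8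
  rw [Nat.cast_sub (by omega)] at h2
  push_cast at h2
  nlinarith

omit hmax hab [Finite G] in
/-- The hypothesis passes to quotients and forces solvability. -/
theorem isSolvable.{u} (n : ℕ) : ∀ (G : Type u) [Group G] [Finite G], Nat.card G ≤ n →
    (∀ g : G, g ∉ Subgroup.center G → IsCoatom (cC g)) → Group.IsSolvable G := by
  induction n with
  | zero => intro G _ _ hn; exact absurd hn (by simp [Nat.card_pos.ne'])
  | succ n ih =>
    intro G _ _ hn h
    rcases subsingleton_or_nontrivial G with hs | hs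
    · infer_instance
    by_cases hA : ∃ A : Subgroup G, A.Normal ∧ (∀ a ∈ A, ∀ b ∈ A, a * b = b * a) ∧ A ≠ ⊥
    · obtain ⟨A, hAn, hAc, hA⟩ := hA
      haveI : Group.IsSolvable ↥A := by
        rw [isSolvable_def]
        refine ⟨1, ?_⟩
        rw [derivedSeries_one, Subgroup.eq_bot_iff_forall]
        intro y hy
        have hle : commutator ↥A ≤ ⊥ := by
          rw [commutator_def, Subgroup.commutator_le]
          intro a _ b _
          rw [Subgroup.mem_bot, commutatorElement_eq_one_iff_mul_comm]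
          exact Subtype.ext (hAc a a.2 b b.2)
        exact hle hy
      have hlt : Nat.card (G ⧸ A) < Nat.card G := by
        rw [Subgroup.card_eq_card_quotient_mul_card_subgroup A]
        exact lt_mul_of_one_lt_right Nat.card_pos (Subgroup.one_lt_card_iff_ne_bot A |>.2 hA)
      haveI : Group.IsSolvable (G ⧸ A) := by
        refine ih (G ⧸ A) (by omega) fun q hq => ?_
        obtain ⟨g, rfl⟩ := QuotientGroup.mk'_surjective A q
        have hgc : g ∉ Subgroup.center G := fun hg => hq (Subgroup.mem_center_iff.2 fun r => by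
          obtain ⟨r, rfl⟩ := QuotientGroup.mk'_surjective A r
          rw [← map_mul, ← map_mul, Subgroup.mem_center_iff.1 hg r])
        have hco := h g hgc
        have hsur := QuotientGroup.mk'_surjective A
        have hle : cC g ≤ (cC (QuotientGroup.mk' A g)).comap (QuotientGroup.mk' A) := fun y hy => by
          rw [Subgroup.mem_comap, mem_cC, ← map_mul, ← map_mul, mem_cC.1 hy]
        have hne : (cC (QuotientGroup.mk' A g)).comap (QuotientGroup.mk' A) ≠ ⊤ := fun ht => hq
          (Subgroup.mem_center_iff.2 fun r => by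
            obtain ⟨r, rfl⟩ := hsur r
            exact mem_cC.1 (Subgroup.mem_comap.1 (ht ▸ Subgroup.mem_top r)))
        have heq : (cC (QuotientGroup.mk' A g)).comap (QuotientGroup.mk' A) = cC g :=
          (hle.lt_or_eq.elim (fun hl => absurd (hco.2 _ hl) hne) id).symm
        refine ⟨fun ht => hne (by rw [ht, Subgroup.comap_top]), fun K hK => ?_⟩
        have := hco.2 _ (heq ▸ (Subgroup.comap_lt_comap_of_surjective hsur).2 hK)
        rw [← Subgroup.map_comap_eq_self_of_surjective hsur K, this,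
          Subgroup.map_top_of_surjective _ hsur]
      exact (Group.isSolvable_iff_subgroup_quotient A).2 ⟨inferInstance, inferInstance⟩
    · exfalso
      push Not at hA
      have hZ : Subgroup.center G = ⊥ := hA _ inferInstance fun a _ b hb =>
        Subgroup.mem_center_iff.1 hb a
      exact absurd_of_nontrivial (fun x hx => h x (by rwa [hZ, Subgroup.mem_bot])) hA

end H34.MaxC
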