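import Cfsg.Agent.H34.Blackburn
import Cfsg.Agent.H31.MaxClassCrit
import Cfsg.Agent.H85.Alperin
import Cfsg.Agent.H86.Sylow
import Cfsg.Agent.H87.Essential
import Cfsg.Agent.H11.MaxClass
import Cfsg.Prelude.Def_Solvable
import Cfsg.Prelude.Def_CaseTheorems
import Cfsg.Agent.S5076

/-!
A finite group with trivial `p'`-core, no proper normal subgroup of index prime to `p` and a Sylow
`p`-subgroup of maximal class either has an element whose centralizer has `p`-part `p²`, or is
quasisimple with centre of order at most `p`.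
-/

set_option autoImplicit false

open Subgroup
open scoped commutatorElement
open H30 (lcsT twoStep)

namespace H34

namespace Dichotomy

universe u

section Essential

variable {Ω : Type u} [Group Ω] {S : Subgroup Ω} [Finite S] {p : ℕ} [hp : Fact p.Prime]
  {F : Cfsg.FusionSystem S} {E : Subgroup Ω}

/-- An automorphism group of an essential subgroup of maximal class fixes no cyclic step above `γ₁`. -/
theorem not_invariant (hS : IsPGroup p S) (hE : F.IsEssential p E) {m : ℕ} (hm : H30.MaxCls E p m)
    (M : Subgroup E) (hL : lcsT E 1 ≤ M) (y : E) (hy : M ⊔ zpowers y = ⊤)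
    (hcard : Nat.card M = Nat.card (lcsT E 1) ∨ Nat.card M = p * Nat.card (lcsT E 1))
    (hinv : ∀ α ∈ F.autGroup E, ∀ r ∈ M, α r ∈ M) : False := by
  haveI := H87.essential_finite hE
  have hEp : IsPGroup p E := H87.essential_isPGroup hS hE
  set A := F.autGroup E
  have hchar : ∀ k, ∀ α ∈ A, ∀ r ∈ lcsT E k, (α : MulAut E) r ∈ lcsT E k := fun k α _ r hr =>
    H87.apply_mem_of_characteristic (inferInstance : (lcsT E k).Characteristic) α hr
  have hlcs : ∀ d k, m - 1 ≤ k + d → 1 ≤ k → H87.DerivedFixes p A (lcsT E k) := by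
    intro d
    induction d with
    | zero => intro k hk _; rw [hm.lcs_bot (by omega)]; exact H87.derivedFixes_bot A
    | succ d ih =>
      intro k hkd hk
      by_cases hkm : m - 1 ≤ k
      · exact ih k (by omega) hk
      refine H87.derivedFixes_step_card hEp A (hchar (k + 1)) (hchar k)
        (Subgroup.lowerCentralSeries_antitone _ (Nat.le_succ k)) ?_ (ih (k + 1) (by omega) (by omega))
      rw [hm.lcs_card hk (by omega), hm.lcs_card (by omega) (by omega), ← pow_succ',
        show m - 1 - (k + 1) + 1 = m - 1 - k by omega]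
  have h1 := hlcs m 1 (by omega) le_rfl
  have hMfix : H87.DerivedFixes p A M := by
    rcases hcard with hc | hc
    · rwa [← eq_of_le_of_card_ge hL hc.le]
    · exact H87.derivedFixes_step_card hEp A (hchar 1) hinv hL hc h1
  haveI : M.Normal := ⟨fun a ha b => by
    have hc : ⁅b, a⁆ ∈ M := hL (by
      rw [lcsT, Subgroup.top_lowerCentralSeries_one, _root_.commutator_def]
      exact commutator_mem_commutator (mem_top b) (mem_top a))
    rw [show b * a * b⁻¹ = ⁅b, a⁆ * a by rw [commutatorElement_def]; group]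
    exact mul_mem hc ha⟩
  exact H87.essential_not_derivedFixes hE
    (H87.derivedFixes_step hEp A hinv (fun α _ r _ => mem_top _) y hy.symm hMfix)

/-- The automorphism group of an essential subgroup of maximal class fixes no normal subgroup of index `p`. -/
theorem index_ne_prime (hS : IsPGroup p S) (hE : F.IsEssential p E) {m : ℕ} (hm : H30.MaxCls E p m)
    (M : Subgroup E) [M.Normal] (hinv : ∀ α ∈ F.autGroup E, ∀ r ∈ M, α r ∈ M) : M.index ≠ p := by
  intro hidx
  haveI := H87.essential_finite hE
  haveI : IsCyclic (E ⧸ M) := isCyclic_of_prime_card hidx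
  have hcomm : commutator E ≤ M := by
    rw [← QuotientGroup.ker_mk' M, ← Subgroup.map_eq_bot_iff, _root_.commutator_def, map_commutator,
      commutator_eq_bot_iff_le_centralizer]
    intro a _
    exact mem_centralizer_iff.2 fun b _ => IsCyclic.commutative.is_comm.comm b a
  have hL : lcsT E 1 ≤ M := by rwa [lcsT, Subgroup.top_lowerCentralSeries_one]
  obtain ⟨y, -, hy⟩ := SetLike.exists_of_lt (lt_top_iff_ne_top.2 (show M ≠ ⊤ from fun h => by
    rw [h, index_top] at hidx; exact hp.out.one_lt.ne hidx))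
  refine not_invariant hS hE hm M hL y ?_ ?_ hinv
  · refine eq_top_of_le_card _ ?_
    have h1 := H30.card_mul_le_of_lt hm.isPGroup (K := M) (L := M ⊔ zpowers y)
      (left_lt_sup.2 fun hh => hy (hh (mem_zpowers y)))
    rwa [← M.card_mul_index, hidx, mul_comm]
  · rcases (show m = 2 ∨ 3 ≤ m ∨ m < 2 by omega) with h2 | h3 | h4
    · refine Or.inr ?_
      have h1 := M.card_mul_index
      rw [hidx, hm.card, h2] at h1
      rw [hm.lcs_bot (by omega), card_bot, mul_one]
      exact Nat.eq_of_mul_eq_mul_right hp.out.pos (h1.trans (sq p))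
    · refine Or.inr ?_
      have h1 := M.card_mul_index
      rw [hidx, hm.card, show m = (m - 1 - 1) + 1 + 1 by omega, pow_succ, pow_succ'] at h1
      rw [hm.lcs_card le_rfl (by omega)]
      exact Nat.eq_of_mul_eq_mul_right hp.out.pos h1
    · exact absurd hm.two_le (by omega)

end Essential

variable {G : Type u} [Group G] [Finite G] {p n : ℕ} [hp : Fact p.Prime]

/-- `y` is an element of `P` avoiding the two-step centralizers. -/
def Good (P : Subgroup G) (n : ℕ) (y : G) : Prop := ∃ hy : y ∈ P, Avoid P n ⟨y, hy⟩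

theorem good_map (P : Subgroup G) (hm : H30.MaxCls P p n) (hn : 3 ≤ n) (α : MulAut P) {y : P}
    (hy : Good P n (y : G)) : Good P n ((α y : P) : G) := by
  obtain ⟨h, hy⟩ := hy
  refine ⟨(α y).2, avoid_of_cent hm hn ?_⟩
  rw [← cent_card_of_avoid hm hn hy]
  refine (Nat.card_congr ?_).symm
  refine α.toEquiv.subtypeEquiv fun z => ?_
  show z ∈ centralizer ({y} : Set P) ↔ α z ∈ centralizer ({α y} : Set P)
  rw [mem_centralizer_singleton_iff, mem_centralizer_singleton_iff, ← map_mul, ← map_mul,
    α.injective.eq_iff]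

omit [Finite G] hp in
theorem apply_autGroup {P R : Subgroup G} (hR : R ≤ P) {α : MulAut R}
    (hα : α ∈ (Cfsg.groupFusionSystem P).autGroup R) : ∃ g : G, ∀ x : R, (α x : G) = g * x * g⁻¹ := by
  obtain ⟨-, -, g, hg⟩ := (H85.mem_autGroup hR).1 hα
  exact ⟨g, hg⟩

/-- A property of elements of a Sylow subgroup respected by `Aut_G(P)` and void on essential subgroups
is respected by fusion. -/
theorem fusion_invariant (P : Sylow p G) (Q : G → Prop)
    (hP : ∀ α ∈ (Cfsg.groupFusionSystem (P : Subgroup G)).autGroup (P : Subgroup G), ∀ y : P,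
      Q y → Q ((α : MulAut (P : Subgroup G)) y : G))
    (hE : ∀ E, (Cfsg.groupFusionSystem (P : Subgroup G)).IsEssential p E → ∀ y ∈ E, ¬ Q y)
    {y g : G} (hy : y ∈ (P : Subgroup G)) (hg : g * y * g⁻¹ ∈ (P : Subgroup G)) (hQ : Q y) :
    Q (g * y * g⁻¹) := by
  set F := Cfsg.groupFusionSystem (P : Subgroup G)
  have hS : ∀ α ∈ F.autGroup (P : Subgroup G), ∀ z : P,
      (Q z ↔ Q ((α : MulAut (P : Subgroup G)) z : G)) := fun α hα z => ⟨hP α hα z, fun h => by
    have h2 := hP α⁻¹ (inv_mem hα) _ h
    rwa [MulAut.inv_apply, MulEquiv.symm_apply_apply] at h2⟩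
  let F₀ : Cfsg.FusionSystem (P : Subgroup G) :=
    { Hom := fun R => {φ | φ ∈ F.Hom R ∧ ∀ z : R, (Q z ↔ Q (φ z))}
      le_of_mem := fun h => F.le_of_mem h.1
      injective_of_mem := fun h => F.injective_of_mem h.1
      conj_mem := by
        intro R u hR hu
        refine ⟨F.conj_mem hR hu, fun z => ?_⟩
        have hm : MulAut.conj (⟨u, hu⟩ : P) ∈ F.autGroup (P : Subgroup G) :=
          subset_closure (F.conj_mem le_rfl hu)
        exact hS _ hm ⟨z, hR z.2⟩
      comp_mem := by
        intro R R' φ ψ hφ hψ h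
        exact ⟨F.comp_mem hφ.1 hψ.1 h, fun z => (hφ.2 z).trans (hψ.2 ⟨φ z, h z⟩)⟩
      inv_mem := by
        intro R φ hφ
        obtain ⟨ψ, hψ, hψi⟩ := F.inv_mem hφ.1
        refine ⟨ψ, ⟨hψ, ?_⟩, hψi⟩
        rintro ⟨_, z, rfl⟩
        rw [hψi z]
        exact (hφ.2 z).symm }
  have hle : F ≤ F₀ := by
    refine H85.le_of_essential P.isPGroup' (H85.isSaturated_groupFusionSystem P) F₀ ?_
    intro R hR α hα
    have hRP : R ≤ (P : Subgroup G) := by
      rcases hR with rfl | hR
      exacts [le_rfl, hR.1.1]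
    refine subset_closure ⟨(H85.mem_autGroup hRP).1 hα, fun z => ?_⟩
    rcases hR with rfl | hR
    · exact hS α hα z
    · exact iff_of_false (hE R hR _ z.2) (hE R hR _ ((α z : R)).2)
  have hφ : Cfsg.conjHom (zpowers y) g ∈ F.Hom (zpowers y) := by
    refine ⟨zpowers_le.2 hy, fun z => ?_, g, fun z => rfl⟩
    obtain ⟨k, hk⟩ := mem_zpowers_iff.1 z.2
    show g * (z : G) * g⁻¹ ∈ (P : Subgroup G)
    rw [← hk, ← conj_zpow]
    exact zpow_mem hg k
  exact ((hle _ hφ).2 ⟨y, mem_zpowers y⟩).1 hQ

theorem factorization_card (P : Sylow p G) (hm : H30.MaxCls (P : Subgroup G) p n) :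
    (Nat.card G).factorization p = n := by
  have h := P.card_eq_multiplicity.symm.trans hm.card
  exact Nat.pow_right_injective hp.out.two_le h

/-- If all conjugates in `P` of a good element are good, its centralizer has `p`-part `p²`. -/
theorem factorization_two (P : Sylow p G) (hm : H30.MaxCls (P : Subgroup G) p n) (hn : 3 ≤ n) {x : G}
    (hx : Good (P : Subgroup G) n x)
    (hconj : ∀ g, g * x * g⁻¹ ∈ (P : Subgroup G) → Good (P : Subgroup G) n (g * x * g⁻¹)) :
    (Nat.card (centralizer ({x} : Set G))).factorization p = 2 := by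
  obtain ⟨hxP, hxA⟩ := hx
  set C := centralizer ({x} : Set G)
  obtain ⟨Q⟩ := (Sylow.nonempty : Nonempty (Sylow p C))
  set R := (Q : Subgroup C).map C.subtype
  have hxC : x ∈ C := mem_centralizer_singleton_iff.2 rfl
  have hxQ : (⟨x, hxC⟩ : C) ∈ (Q : Subgroup C) := by
    have hz : zpowers (⟨x, hxC⟩ : C) ≤ center C := zpowers_le.2
      (mem_center_iff.2 fun c => Subtype.ext (mem_centralizer_singleton_iff.1 c.2))
    haveI : (zpowers (⟨x, hxC⟩ : C)).Normal := ⟨fun a ha b => by
      rw [mem_center_iff.1 (hz ha) b, mul_inv_cancel_right]; exact ha⟩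
    have hzp : IsPGroup p (zpowers (⟨x, hxC⟩ : C)) := by
      refine ((P.isPGroup'.to_le (zpowers_le.2 hxP)).comap_of_injective C.subtype C.subtype_injective).to_le ?_
      exact zpowers_le.2 (mem_comap.2 (mem_zpowers x))
    exact (Q.3 (hzp.to_sup_of_normal_left Q.2) le_sup_right).le (mem_sup_left (mem_zpowers _))
  obtain ⟨g, hg⟩ := H86.exists_conj_le_sylow P (Q.2.map C.subtype)
  have hy : g * x * g⁻¹ ∈ (P : Subgroup G) := hg x ⟨_, hxQ, rfl⟩
  obtain ⟨hy', hyA⟩ := hconj g hy
  set D := centralizer ({(⟨g * x * g⁻¹, hy'⟩ : P)} : Set P)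
  have hle : Nat.card R ≤ p ^ 2 := by
    rw [← cent_card_of_avoid hm hn hyA]
    refine Nat.card_le_card_of_injective (fun r : R => (⟨⟨g * r * g⁻¹, hg r r.2⟩, ?_⟩ : D))
      fun a b hab => ?_
    · obtain ⟨c, -, hc⟩ := r.2
      refine mem_centralizer_singleton_iff.2 (Subtype.ext ?_)
      have hrx : (r : G) * x = x * r := by rw [← hc]; exact mem_centralizer_singleton_iff.1 c.2
      show g * (r : G) * g⁻¹ * (g * x * g⁻¹) = g * x * g⁻¹ * (g * (r : G) * g⁻¹)
      calc g * (r : G) * g⁻¹ * (g * x * g⁻¹) = g * ((r : G) * x) * g⁻¹ := by group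
        _ = g * x * g⁻¹ * (g * (r : G) * g⁻¹) := by rw [hrx]; group
    · exact Subtype.ext (mul_left_cancel (mul_right_cancel
        (congrArg Subtype.val (congrArg Subtype.val hab))))
  have hRc : Nat.card R = p ^ (Nat.card C).factorization p :=
    (Subgroup.card_map_of_injective C.subtype_injective).trans Q.card_eq_multiplicity
  have hge : p ^ 2 ∣ Nat.card C := by
    rw [← cent_card_of_avoid hm hn hxA]
    rw [← Subgroup.card_map_of_injective (P : Subgroup G).subtype_injective]
    refine Subgroup.card_dvd_of_le ?_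
    rintro _ ⟨c, hc, rfl⟩
    exact mem_centralizer_singleton_iff.2 (congrArg Subtype.val (mem_centralizer_singleton_iff.1 hc) :)
  rw [hRc, Nat.pow_le_pow_iff_right hp.out.one_lt] at hle
  exact le_antisymm hle ((hp.out.pow_dvd_iff_le_factorization Nat.card_pos.ne').1 hge)

/-- The data on an essential subgroup through a good element. -/
theorem essential_maxClass (P : Sylow p G) (hm : H30.MaxCls (P : Subgroup G) p n) (hn : 3 ≤ n)
    {E : Subgroup G} (hE : (Cfsg.groupFusionSystem (P : Subgroup G)).IsEssential p E) {x : G}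
    (hxE : x ∈ E) (hx : Good (P : Subgroup G) n x) :
    ∃ m, H30.MaxCls E p m ∧ m ≤ 3 := by
  obtain ⟨hxP, hxA⟩ := hx
  have hEP : E ≤ (P : Subgroup G) := hE.1.1
  set x' : E := ⟨x, hxE⟩
  obtain ⟨m, hmc⟩ := IsPGroup.iff_card.1 (P.isPGroup'.to_le hEP)
  -- `C_P(x) ≤ E`
  set C := centralizer ({(⟨x, hxP⟩ : P)} : Set P)
  have hCsup : lcsT (P : Subgroup G) (n - 2) ⊔ zpowers ⟨x, hxP⟩ = C := by
    refine eq_of_le_of_card_ge (sup_le (hm.lcs_pred_le_center.trans (center_le_centralizer _))
      (zpowers_le.2 (mem_centralizer_singleton_iff.2 rfl))) ?_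
    have hlt : lcsT (P : Subgroup G) (n - 2) < lcsT (P : Subgroup G) (n - 2) ⊔ zpowers ⟨x, hxP⟩ :=
      left_lt_sup.2 fun hh => notMem_of_avoid hm hn hxA
        (Subgroup.lowerCentralSeries_antitone _ (by omega) (hh (mem_zpowers _)))
    have h1 := H30.card_mul_le_of_lt hm.isPGroup hlt
    rwa [hm.lcs_card (by omega) (by omega), show n - 1 - (n - 2) = 1 by omega, pow_one, ← sq,
      ← cent_card_of_avoid hm hn hxA] at h1
  have hCE : C ≤ E.subgroupOf P := by
    rw [← hCsup]
    refine sup_le (fun z hz => mem_subgroupOf.2 (H87.essential_centric hE z.2 fun e he => ?_))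
      (zpowers_le.2 (mem_subgroupOf.2 hxE))
    exact congrArg Subtype.val (mem_center_iff.1 (hm.lcs_pred_le_center hz) ⟨e, hEP he⟩)
  have hCE' : Nat.card (centralizer ({x'} : Set E)) = p ^ 2 := by
    rw [← cent_card_of_avoid hm hn hxA]
    refine Nat.card_congr (Equiv.ofBijective
      (fun z => (⟨⟨((z : E) : G), hEP (z : E).2⟩, mem_centralizer_singleton_iff.2
        (Subtype.ext (congrArg Subtype.val (mem_centralizer_singleton_iff.1 z.2) :))⟩ : C)) ⟨?_, ?_⟩)
    · exact fun a b hab => Subtype.ext (Subtype.ext (congrArg (fun t : C => ((t : P) : G)) hab :))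
    · intro c
      exact ⟨⟨⟨((c : P) : G), mem_subgroupOf.1 (hCE c.2)⟩, mem_centralizer_singleton_iff.2
        (Subtype.ext (congrArg Subtype.val (mem_centralizer_singleton_iff.1 c.2) :))⟩, rfl⟩
  set A := centralizer ({x'} : Set E)
  have hAA : centralizer (A : Set E) ≤ A := fun z hz =>
    mem_centralizer_singleton_iff.2
      (mem_centralizer_iff.1 hz x' (mem_centralizer_singleton_iff.2 rfl)).symm
  have hm2 : 2 ≤ m := (Nat.pow_le_pow_iff_right hp.out.one_lt).1
    (hCE' ▸ hmc ▸ Subgroup.card_le_card_group A)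
  have hcls := H31.nilpotencyClass_of_self_centralizing_sq (m - 2) (X := E)
    (by rw [hmc, Nat.sub_add_cancel hm2]) A hCE' hAA
  have hmE : H30.MaxCls E p m := ⟨hmc, by omega, hm2⟩
  refine ⟨m, hmE, ?_⟩
  by_contra hm3
  have hx'A := avoid_of_cent hmE (by omega) hCE'
  set M := twoStep E 1
  have htop : M ⊔ zpowers x' = ⊤ := eq_top_iff.2 fun z _ => by
    obtain ⟨k, hk⟩ := exists_mul_mem_twoStep hmE le_rfl (by omega) (hx'A 1 (by omega)) z
    rw [show z = z * x' ^ k * (x' ^ k)⁻¹ by group]
    exact mul_mem (mem_sup_left hk) (inv_mem (mem_sup_right (zpow_mem (mem_zpowers _) k)))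
  refine not_invariant P.isPGroup' hE hmE M (lcs_one_le_twoStep 1) x' htop ?_ ?_
  · obtain ⟨k, hk⟩ := IsPGroup.iff_card.1 (hmE.isPGroup.to_subgroup M)
    have h1 := H30.card_mul_le_of_lt hmE.isPGroup (lt_top_iff_ne_top.2 (hmE.twoStep_ne_top (i := 1) (by omega)))
    have h2 := Subgroup.card_le_of_le (lcs_one_le_twoStep (G := E) 1)
    rw [hk, card_top, hmE.card, ← pow_succ', Nat.pow_le_pow_iff_right hp.out.one_lt] at h1
    rw [hk, hmE.lcs_card le_rfl (by omega), Nat.pow_le_pow_iff_right hp.out.one_lt] at h2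
    rw [hk, hmE.lcs_card le_rfl (by omega), ← pow_succ']
    rcases (show k = m - 1 - 1 ∨ k = m - 1 - 1 + 1 by omega) with h | h <;> simp [h]
  · intro α _ r hr
    refine H30.mem_twoStep.2 fun y hy => ?_
    have h1 := H87.apply_mem_of_characteristic (inferInstance : (lcsT E 1).Characteristic) α⁻¹ hy
    have h2 := H87.apply_mem_of_characteristic (inferInstance : (lcsT E (1 + 2)).Characteristic) α
      (H30.mem_twoStep.1 hr _ h1)
    rwa [map_commutatorElement, MulAut.inv_apply, MulEquiv.apply_symm_apply] at h2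

/-- The restriction of a normal subgroup to a subgroup of `P` is respected by automorphisms of the system. -/
theorem subgroupOf_invariant {P E : Subgroup G} (hEP : E ≤ P) (N : Subgroup G) [N.Normal] :
    ∀ α ∈ (Cfsg.groupFusionSystem P).autGroup E, ∀ r ∈ N.subgroupOf E, (α : MulAut E) r ∈ N.subgroupOf E := by
  intro α hα r hr
  obtain ⟨g, hg⟩ := apply_autGroup hEP hα
  rw [mem_subgroupOf] at hr ⊢
  rw [hg]
  exact (inferInstance : N.Normal).conj_mem _ hr g

/-- An element outside a normal subgroup `N` with `|P : N ∩ P| ≤ p` lies in no essential subgroup of maximal class. -/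
theorem index_subgroupOf_le {P E : Subgroup G} (hEP : E ≤ P) (N : Subgroup G) [N.Normal]
    (hN : (N.subgroupOf P).index ≤ p) (hne : ¬ E ≤ N) (hE : IsPGroup p E) :
    (N.subgroupOf E).index = p := by
  have h1 : (N.subgroupOf E).index ≤ p := by
    refine le_trans ?_ hN
    refine Nat.card_le_card_of_injective
      (QuotientGroup.map (N.subgroupOf E) (N.subgroupOf P) (inclusion hEP) (fun z hz => hz)) ?_
    refine (injective_iff_map_eq_one _).2 fun z hz => ?_
    obtain ⟨z, rfl⟩ := QuotientGroup.mk'_surjective _ z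
    exact (QuotientGroup.eq_one_iff _).2 ((QuotientGroup.eq_one_iff _).1 hz : inclusion hEP z ∈ N.subgroupOf P)
  obtain ⟨k, hk⟩ := hE.index (N.subgroupOf E)
  rcases k with _ | _ | k
  · rw [pow_zero, index_eq_one, subgroupOf_eq_top] at hk
    exact absurd hk hne
  · rw [hk, zero_add, pow_one]
  · exfalso
    rw [hk] at h1
    have := (Nat.pow_le_pow_iff_right hp.out.one_lt).1 (h1.trans (pow_one p).ge)
    omega

/-- A normal subgroup whose trace on `P` is `Z(P)`-sized is central of order `p`. -/
theorem central_of_small (P : Sylow p G) (hm : H30.MaxCls (P : Subgroup G) p n) (hn : 3 ≤ n)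
    (hcore : Cfsg.pPrimeCore p G = ⊥)
    (hres : ∀ N : Subgroup G, N.Normal → (N.index).Coprime p → N = ⊤) (N : Subgroup G) [N.Normal]
    (hT : N.subgroupOf (P : Subgroup G) = lcsT (P : Subgroup G) (n - 2)) :
    N ≤ center G ∧ Nat.card N = p := by
  classical
  obtain ⟨R, hR⟩ := H86.exists_sylow_inf_normal P N
  set Z := (lcsT (P : Subgroup G) (n - 2)).map (P : Subgroup G).subtype with hZ
  have hZeq : (P : Subgroup G) ⊓ N = Z := by
    rw [hZ, ← hT, subgroupOf_map_subtype, inf_comm]
  have hZc : Nat.card Z = p := by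
    rw [hZ, Subgroup.card_map_of_injective (P : Subgroup G).subtype_injective,
      hm.lcs_card (by omega) (by omega), show n - 1 - (n - 2) = 1 by omega, pow_one]
  have hPC : (P : Subgroup G) ≤ centralizer (Z : Set G) := by
    intro u hu
    rw [mem_centralizer_iff]
    rintro _ ⟨z, hz, rfl⟩
    exact congrArg Subtype.val (mem_center_iff.1 (hm.lcs_pred_le_center hz) ⟨u, hu⟩).symm
  have hPZ : (P : Subgroup G) ≤ normalizer (Z : Set G) := hPC.trans (centralizer_le_normalizer _)
  -- elements of `N` normalising `Z` centralise it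
  have hkey : ∀ w ∈ N, w ∈ normalizer (Z : Set G) → w ∈ centralizer (Z : Set G) := by
    intro w hwN hwZ
    set C := N ⊓ centralizer (Z : Set G)
    set Y := (P : Subgroup G) ⊔ C
    have hPnC : (P : Subgroup G) ≤ normalizer (C : Set G) := by
      intro u hu
      rw [Subgroup.mem_normalizer_iff]
      intro c
      show c ∈ N ∧ c ∈ centralizer (Z : Set G) ↔ u * c * u⁻¹ ∈ N ∧ u * c * u⁻¹ ∈ centralizer (Z : Set G)
      refine and_congr ⟨fun h => (inferInstance : N.Normal).conj_mem _ h u, fun h => ?_⟩
        ⟨fun h => mul_mem (mul_mem (hPC hu) h) (inv_mem (hPC hu)), fun h => ?_⟩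
      · have := (inferInstance : N.Normal).conj_mem _ h u⁻¹
        rwa [show u⁻¹ * (u * c * u⁻¹) * u⁻¹⁻¹ = c by group] at this
      · have := mul_mem (mul_mem (inv_mem (hPC hu)) h) (hPC hu)
        rwa [show u⁻¹ * (u * c * u⁻¹) * u = c by group] at this
    have hYC : Y ≤ centralizer (Z : Set G) := sup_le hPC inf_le_right
    have hcz : ∀ {w : G}, w ∈ normalizer (Z : Set G) → ∀ c ∈ centralizer (Z : Set G),
        w * c * w⁻¹ ∈ centralizer (Z : Set G) := by
      intro w hw c hc
      rw [mem_centralizer_iff]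
      intro z hz
      have hz' : w⁻¹ * z * w ∈ Z := by
        rw [Subgroup.mem_normalizer_iff''] at hw
        exact (hw z).1 hz
      have h1 := mem_centralizer_iff.1 hc _ hz'
      calc z * (w * c * w⁻¹) = w * (w⁻¹ * z * w * c) * w⁻¹ := by group
        _ = w * c * w⁻¹ * z := by rw [h1]; group
    have hwu : ∀ u ∈ (P : Subgroup G), w * u * w⁻¹ ∈ Y := by
      intro u hu
      rw [show w * u * w⁻¹ = u * (u⁻¹ * (w * u * w⁻¹)) by group]
      refine mul_mem (mem_sup_left hu) (mem_sup_right (Subgroup.mem_inf.2 ⟨?_, mul_mem (inv_mem (hPC hu)) (hcz hwZ u (hPC hu))⟩))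
      rw [show u⁻¹ * (w * u * w⁻¹) = u⁻¹ * w * u⁻¹⁻¹ * w⁻¹ by group]
      exact mul_mem ((inferInstance : N.Normal).conj_mem _ hwN _) (inv_mem hwN)
    set W := (P : Subgroup G).map (MulAut.conj w).toMonoidHom
    obtain ⟨y, hyY, hy⟩ := H86.exists_conj_le_sylow_of_le P (K := Y) (X := W) le_sup_left
      (by rintro _ ⟨u, hu, rfl⟩; exact hwu u hu) (P.isPGroup'.map _)
    have hyY' : y ∈ ((Y : Subgroup G) : Set G) := hyY
    rw [Subgroup.coe_mul_of_left_le_normalizer_right _ _ hPnC] at hyY'
    obtain ⟨v, hv, c, hc, rfl⟩ := hyY'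
    set v' := c * w
    have hv'N : v' ∈ N := mul_mem hc.1 hwN
    have hv'P : ∀ a ∈ (P : Subgroup G), v' * a * v'⁻¹ ∈ (P : Subgroup G) := by
      intro a ha
      have h1 := hy _ ⟨a, ha, rfl⟩
      have h2 := mul_mem (mul_mem ((P : Subgroup G).inv_mem hv) h1) hv
      simpa [v', mul_assoc, MulAut.conj_apply] using h2
    let ρ : (P : Subgroup G) →* (P : Subgroup G) :=
      { toFun := fun a => ⟨v' * a * v'⁻¹, hv'P a a.2⟩
        map_one' := Subtype.ext (by simp)
        map_mul' := fun a b => Subtype.ext (by simp [mul_assoc]) }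
    have hcen : ∀ a, a⁻¹ * ρ a ∈ center (P : Subgroup G) := by
      intro a
      refine hm.lcs_pred_le_center (hT ▸ mem_subgroupOf.2 ?_)
      show (a : G)⁻¹ * (v' * a * v'⁻¹) ∈ N
      rw [show (a : G)⁻¹ * (v' * a * v'⁻¹) = (a : G)⁻¹ * v' * (a : G)⁻¹⁻¹ * v'⁻¹ by group]
      exact mul_mem ((inferInstance : N.Normal).conj_mem _ hv'N _) (inv_mem hv'N)
    have hfix : commutator (P : Subgroup G) ≤ ρ.eqLocus (MonoidHom.id _) := by
      rw [_root_.commutator_def, Subgroup.commutator_le]
      intro a _ b _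
      show ρ ⁅a, b⁆ = ⁅a, b⁆
      have ha := mem_center_iff.1 (hcen a)
      have hb := mem_center_iff.1 (hcen b)
      rw [map_commutatorElement, show ρ a = a * (a⁻¹ * ρ a) by group, show ρ b = b * (b⁻¹ * ρ b) by group]
      set za := a⁻¹ * ρ a
      set zb := b⁻¹ * ρ b
      simp only [commutatorElement_def]
      calc a * za * (b * zb) * (a * za)⁻¹ * (b * zb)⁻¹
          = a * (za * (b * zb)) * za⁻¹ * a⁻¹ * zb⁻¹ * b⁻¹ := by group
        _ = a * b * (zb * a⁻¹) * zb⁻¹ * b⁻¹ := by rw [← ha (b * zb)]; group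
        _ = a * b * a⁻¹ * b⁻¹ := by rw [← hb a⁻¹]; group
    have hv'Z : v' ∈ centralizer (Z : Set G) := by
      rw [mem_centralizer_iff]
      rintro _ ⟨z, hz, rfl⟩
      have hz' : z ∈ commutator (P : Subgroup G) := by
        rw [← Subgroup.top_lowerCentralSeries_one]
        exact Subgroup.lowerCentralSeries_antitone _ (show 1 ≤ n - 2 by omega) hz
      have h1 : v' * (z : G) * v'⁻¹ = z := congrArg Subtype.val (hfix hz' : ρ z = z)
      show (z : G) * v' = v' * z
      conv_lhs => rw [← h1, inv_mul_cancel_right]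
    rw [show w = c⁻¹ * v' by simp [v']]
    exact mul_mem (inv_mem hc.2) hv'Z
  -- Burnside
  have hmapR : (R : Subgroup N).map N.subtype = Z := by
    rw [hR, subgroupOf_map_subtype, hZeq]
  have hN : normalizer ((R : Subgroup N) : Set N) ≤ centralizer ((R : Subgroup N) : Set N) := by
    intro w hw
    have hwZ : (w : G) ∈ normalizer (Z : Set G) := by
      rw [← hmapR]
      exact Subgroup.le_normalizer_map N.subtype ⟨w, hw, rfl⟩
    have h1 := hkey w w.2 hwZ
    exact mem_centralizer_iff.2 fun r hr =>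
      Subtype.ext (mem_centralizer_iff.1 h1 _ (hmapR ▸ mem_map_of_mem N.subtype hr))
  have hcompl := MonoidHom.ker_transferSylow_isComplement' R hN
  set K := (MonoidHom.transferSylow R hN).ker
  have hKc : (Nat.card K).Coprime p := by
    have h1 : (R : Subgroup N).index = Nat.card K := hcompl.symm.symm.index_eq_card
    rw [← h1]
    exact (hp.out.coprime_iff_not_dvd.2 R.not_dvd_index).symm
  have hKbot : K.map N.subtype = ⊥ := by
    refine le_bot_iff.1 (hcore ▸ le_sSup ⟨⟨?_⟩, ?_⟩)
    · rintro _ ⟨k, hk, rfl⟩ g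
      have hmem : g * (k : G) * g⁻¹ ∈ N := (inferInstance : N.Normal).conj_mem _ k.2 g
      refine ⟨⟨_, hmem⟩, ?_, rfl⟩
      -- its order divides `|K|` and the index of `K` is a power of `p`
      set t : N := ⟨_, hmem⟩
      refine (QuotientGroup.eq_one_iff (N := K) t).1 ?_
      have hto : orderOf t ∣ Nat.card K := by
        rw [← Subgroup.orderOf_coe t, show (t : G) = (MulAut.conj g) (k : G) from rfl,
          MulEquiv.orderOf_eq, Subgroup.orderOf_coe, ← Subgroup.orderOf_mk k hk]
        exact orderOf_dvd_natCard _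
      have hq : Nat.card (N ⧸ K) = p := by
        show K.index = p
        rw [hcompl.symm.index_eq_card, hR]
        rw [show Nat.card ((P : Subgroup G).subgroupOf N) = Nat.card (R : Subgroup N) by rw [hR],
          ← Subgroup.card_map_of_injective N.subtype_injective, hmapR, hZc]
      have h2 : orderOf (t : N ⧸ K) ∣ Nat.gcd (Nat.card K) p := Nat.dvd_gcd
        ((orderOf_map_dvd (QuotientGroup.mk' K) t).trans hto) ((orderOf_dvd_natCard (t : N ⧸ K)).trans (dvd_of_eq hq))
      rwa [Nat.Coprime.gcd_eq_one hKc, Nat.dvd_one, orderOf_eq_one_iff] at h2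
    · rwa [Subgroup.card_map_of_injective N.subtype_injective]
  have hNZ : N = Z := by
    have hK : K = ⊥ := (map_eq_bot_iff_of_injective _ N.subtype_injective).1 hKbot
    rw [hK, isComplement'_bot_left] at hcompl
    rw [← hmapR, hcompl, ← MonoidHom.range_eq_map, range_subtype]
  refine ⟨?_, hNZ ▸ hZc⟩
  haveI : (centralizer (N : Set G)).Normal := inferInstance
  have htop : centralizer (N : Set G) = ⊤ := by
    refine hres _ inferInstance ((hp.out.coprime_iff_not_dvd.2 fun hd => P.not_dvd_index ?_).symm)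
    exact hd.trans (Subgroup.index_dvd_of_le (hNZ ▸ hPC))
  exact fun z hz => mem_center_iff.2 fun g =>
    (mem_centralizer_iff.1 (htop.ge (mem_top g)) z hz).symm

/-- Without an element of small centralizer, the group is quasisimple. -/
theorem quasisimple (P : Sylow p G) (hm : H30.MaxCls (P : Subgroup G) p n) (hn : 3 ≤ n)
    (hcore : Cfsg.pPrimeCore p G = ⊥)
    (hres : ∀ N : Subgroup G, N.Normal → (N.index).Coprime p → N = ⊤)
    (hno : ∀ x ∈ (P : Subgroup G), (Nat.card (centralizer ({x} : Set G))).factorization p ≠ 2) :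
    Cfsg.IsQuasisimple G ∧ Nat.card (center G) ≤ p := by
  classical
  set F := Cfsg.groupFusionSystem (P : Subgroup G)
  have hgood : ∀ x, Good (P : Subgroup G) n x → ¬ ∀ g, g * x * g⁻¹ ∈ (P : Subgroup G) →
      Good (P : Subgroup G) n (g * x * g⁻¹) := fun x hx h => hno x hx.1 (factorization_two P hm hn hx h)
  -- a good element in an essential subgroup
  obtain ⟨E, hE, x, hxE, hx⟩ : ∃ E, F.IsEssential p E ∧ ∃ x ∈ E, Good (P : Subgroup G) n x := by
    by_contra! hnone
    obtain ⟨s, hs⟩ := exists_avoid n hm hn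
    exact hgood s ⟨s.2, hs⟩ fun g hg => fusion_invariant P (Good (P : Subgroup G) n)
      (fun α _ y hy => good_map _ hm hn α hy) hnone s.2 hg ⟨s.2, hs⟩
  obtain ⟨m, hmE, hm3⟩ := essential_maxClass P hm hn hE hxE hx
  have hEP : E ≤ (P : Subgroup G) := hE.1.1
  obtain ⟨hxP, hxA⟩ := hx
  have hEp : IsPGroup p E := P.isPGroup'.to_le hEP
  -- normal subgroups
  have hcases : ∀ N : Subgroup G, N.Normal → N = ⊥ ∨ N = ⊤ ∨ (N ≤ center G ∧ Nat.card N = p) := by
    intro N hN
    set T := N.subgroupOf (P : Subgroup G)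
    obtain ⟨r, hr⟩ := hm.isPGroup.index T
    by_cases hr1 : r ≤ 1
    · have hxN : x ∈ N := by
        by_contra hxN
        refine index_ne_prime P.isPGroup' hE hmE (N.subgroupOf E) (subgroupOf_invariant hEP N) ?_
        exact index_subgroupOf_le hEP N (hr ▸ (Nat.pow_le_pow_right hp.out.pos hr1).trans (pow_one p).le)
          (fun h => hxN (h hxE)) hEp
      rcases (show r = 0 ∨ r = 1 by omega) with rfl | rfl
      · refine Or.inr (Or.inl (hres N hN ((hp.out.coprime_iff_not_dvd.2 fun hd => P.not_dvd_index ?_).symm)))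
        exact hd.trans (Subgroup.index_dvd_of_le (subgroupOf_eq_top.1 (index_eq_one.1 (by rw [hr, pow_zero]))))
      · exfalso
        have hTne : T ≠ ⊤ := fun h => by
          rw [h, index_top, pow_one] at hr
          exact hp.out.one_lt.ne hr
        obtain ⟨s, hs, hsT⟩ := exists_avoid_notMem hm hn hxA hTne (mem_subgroupOf.2 hxN : (⟨x, hxP⟩ : P) ∈ T)
        have hsN : (s : G) ∉ N := fun h => hsT (mem_subgroupOf.2 h)
        refine hgood s ⟨s.2, hs⟩ fun g hg => ?_
        refine (fusion_invariant P (fun y => Good (P : Subgroup G) n y ∧ y ∉ N) ?_ ?_ s.2 hg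
          ⟨⟨s.2, hs⟩, hsN⟩).1
        · intro α hα y hy
          refine ⟨good_map _ hm hn α hy.1, fun h => hy.2 ?_⟩
          have h1 := subgroupOf_invariant le_rfl N α⁻¹ (inv_mem hα) _ (mem_subgroupOf.2 h)
          rwa [MulAut.inv_apply, MulEquiv.symm_apply_apply] at h1
        · rintro R hR y hyR ⟨hyG, hyN⟩
          obtain ⟨k, hkR, -⟩ := essential_maxClass P hm hn hR hyR hyG
          refine index_ne_prime P.isPGroup' hR hkR (N.subgroupOf R) (subgroupOf_invariant hR.1.1 N) ?_
          exact index_subgroupOf_le hR.1.1 N (by rw [hr, pow_one]) (fun h => hyN (h hyR))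
            (P.isPGroup'.to_le hR.1.1)
    have hrn : r ≤ n := (Nat.pow_dvd_pow_iff_le_right hp.out.one_lt).1 (hr ▸ hm.card ▸ T.index_dvd_card)
    have hTeq : T = lcsT (P : Subgroup G) (r - 1) :=
      H11.maxClass_normal_eq hm.card hm.cls (by omega) T (by omega) hr
    have hxN : x ∉ N := fun h => notMem_of_avoid hm hn hxA
      (Subgroup.lowerCentralSeries_antitone _ (show 1 ≤ r - 1 by omega)
        (hTeq ▸ mem_subgroupOf.2 h : (⟨x, hxP⟩ : P) ∈ lcsT (P : Subgroup G) (r - 1)))
    rcases (show r = n ∨ r + 1 = n ∨ r + 2 ≤ n by omega) with h | h | h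
    · left
      rw [hm.lcs_bot (by omega)] at hTeq
      have hdisj : Disjoint N (P : Subgroup G) := subgroupOf_eq_bot.1 hTeq
      refine le_bot_iff.1 (hcore ▸ le_sSup ⟨hN, ?_⟩)
      obtain ⟨R, hR⟩ := H86.exists_sylow_inf_normal P N
      refine (hp.out.coprime_iff_not_dvd.2 fun hd => R.not_dvd_index ?_).symm
      rw [hR, subgroupOf_eq_bot.2 hdisj.symm, index_bot]
      exact hd
    · exact Or.inr (Or.inr (central_of_small P hm hn hcore hres N (by rw [← show r - 1 = n - 2 by omega]; exact hTeq)))
    · exfalso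
      set L := (lcsT (P : Subgroup G) 1).comap (inclusion hEP) with hL
      have hlcsE : ∀ w ∈ L, inclusion hEP w ∈ lcsT (P : Subgroup G) (n - 3) := by
        intro w hw
        have hcE : ⁅(⟨x, hxE⟩ : E), w⁆ ∈ center E := by
          have h1 : lcsT E 1 ≤ center E := by
            by_cases hm2 : m = 2
            · rw [hmE.lcs_bot (by omega)]; exact bot_le
            · have := hmE.lcs_pred_le_center
              rwa [show m - 2 = 1 by have := hmE.two_le; omega] at this
          refine h1 ?_
          rw [lcsT, Subgroup.top_lowerCentralSeries_one, _root_.commutator_def]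
          exact commutator_mem_commutator (mem_top _) (mem_top _)
        set w' := inclusion hEP w
        have hc : ⁅w', (⟨x, hxP⟩ : P)⁆ ∈ lcsT (P : Subgroup G) (n - 2) := by
          refine hm.mem_of_commute (a := 1) le_rfl (fun i _ hi => hxA i hi)
            (Subgroup.lowerCentralSeries_antitone _ (show 1 ≤ 1 + 1 by omega) (commutator_mem_lcs_succ hw _)) ?_
          have h2 := (mem_center_iff.1 (inv_mem hcE) ⟨x, hxE⟩).symm
          rw [commutatorElement_inv] at h2
          exact congrArg (inclusion hEP) h2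
        by_contra hwn
        have key : ∀ d j, j + d = n - 3 → 1 ≤ j → w' ∈ lcsT (P : Subgroup G) j → False := by
          intro d
          induction d with
          | zero => intro j hj _ hwj; exact hwn (by rwa [show n - 3 = j by omega])
          | succ d ih =>
            intro j hj hj1 hwj
            by_cases hwj' : w' ∈ lcsT (P : Subgroup G) (j + 1)
            · exact ih (j + 1) (by omega) (by omega) hwj'
            · exact hxA j (by omega) (twoStep_of_commute hm hj1 (by omega) hwj hwj'
                (Subgroup.lowerCentralSeries_antitone _ (by omega) hc))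
        exact key (n - 4) 1 (by omega) le_rfl hw
      have hLN : L ≤ N.subgroupOf E := fun w hw => by
        have h1 : inclusion hEP w ∈ T := by
          rw [hTeq]; exact Subgroup.lowerCentralSeries_antitone _ (by omega) (hlcsE w hw)
        exact h1
      haveI : L.Normal := (inferInstance : (lcsT (P : Subgroup G) 1).Normal).comap _
      have hLi : L.index ≤ p := by
        have hlt : E.subgroupOf (P : Subgroup G) ⊔ lcsT (P : Subgroup G) 1 ≠ ⊤ := by
          intro htop
          haveI := hm.isPGroup.isNilpotent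
          have hEtop : E.subgroupOf (P : Subgroup G) = ⊤ := by
            refine frattini_nongenerating (eq_top_iff.2 (htop ▸ sup_le_sup le_rfl ?_))
            rw [lcsT, Subgroup.top_lowerCentralSeries_one]
            exact H31.commutator_le_frattini hm.isPGroup
          have h1 : Nat.card E = p ^ n := by
            rw [← hm.card, le_antisymm hEP (subgroupOf_eq_top.1 hEtop)]
          have := Nat.pow_right_injective hp.out.two_le (hmE.card.symm.trans h1)
          omega
        have h2 := relIndex_mul_index (le_sup_right : lcsT (P : Subgroup G) 1 ≤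
          E.subgroupOf (P : Subgroup G) ⊔ lcsT (P : Subgroup G) 1)
        rw [Subgroup.relIndex_sup_right, hm.lcs_index le_rfl (by omega)] at h2
        have h3 : p ≤ (E.subgroupOf (P : Subgroup G) ⊔ lcsT (P : Subgroup G) 1).index := by
          obtain ⟨e, he⟩ := hm.isPGroup.index (E.subgroupOf (P : Subgroup G) ⊔ lcsT (P : Subgroup G) 1)
          rw [he]
          refine Nat.le_self_pow (fun h0 => hlt (index_eq_one.1 ?_)) p
          rw [he, h0, pow_zero]
        have h4 : L.index = (lcsT (P : Subgroup G) 1).relIndex (E.subgroupOf (P : Subgroup G)) := by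
          have hr : (inclusion hEP).range = E.subgroupOf (P : Subgroup G) := inclusion_range hEP
          rw [hL, index_comap, hr]
        rw [h4]
        refine Nat.le_of_mul_le_mul_right ?_ hp.out.pos
        rw [← sq, ← h2]
        exact Nat.mul_le_mul_left _ h3
      refine index_ne_prime P.isPGroup' hE hmE (N.subgroupOf E) (subgroupOf_invariant hEP N) ?_
      obtain ⟨k, hk⟩ := hEp.index (N.subgroupOf E)
      have hle : (N.subgroupOf E).index ≤ p :=
        (Nat.le_of_dvd (Nat.pos_of_ne_zero index_ne_zero_of_finite) (index_dvd_of_le hLN)).trans hLi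
      rcases k with _ | _ | k
      · rw [pow_zero, index_eq_one, subgroupOf_eq_top] at hk
        exact absurd (hk hxE) hxN
      · rw [hk, zero_add, pow_one]
      · rw [hk] at hle
        have := (Nat.pow_le_pow_iff_right hp.out.one_lt).1 (hle.trans (pow_one p).ge)
        omega
  -- conclusion
  have hPab : ¬ commutator G ≤ center G ∨ commutator G = ⊤ := by
    left
    intro hle
    haveI : Group.IsNilpotent (G ⧸ center G) := by
      haveI : IsMulCommutative (G ⧸ center G) :=
        ⟨⟨fun a b => by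
          obtain ⟨a, rfl⟩ := QuotientGroup.mk'_surjective _ a
          obtain ⟨b, rfl⟩ := QuotientGroup.mk'_surjective _ b
          rw [← commutatorElement_eq_one_iff_mul_comm, ← map_commutatorElement]
          exact (QuotientGroup.eq_one_iff _).2 (hle (commutator_mem_commutator (mem_top a) (mem_top b)))⟩⟩
      refine Subgroup.nilpotent_iff_lowerCentralSeries.2 ⟨1, ?_⟩
      rw [Subgroup.top_lowerCentralSeries_one, _root_.commutator_def, Subgroup.commutator_self_eq_bot_iff]
      infer_instance
    haveI : Group.IsNilpotent G := Group.of_quotient_center_nilpotent inferInstance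
    have hPn : ((P : Subgroup G)).Normal := inferInstance
    have hPtop : (P : Subgroup G) = ⊤ := by
      rcases hcases _ hPn with h | h | ⟨-, h⟩
      · exfalso
        have h2 := hm.card
        rw [h, card_bot] at h2
        exact (Nat.one_lt_pow (by omega) hp.out.one_lt).ne h2
      · exact h
      · exfalso
        have := Nat.pow_right_injective hp.out.two_le ((h.symm.trans hm.card).symm.trans (pow_one p).symm)
        omega
    refine hgood x ⟨hxP, hxA⟩ fun g hg => ?_
    have hgP : g ∈ (P : Subgroup G) := hPtop ▸ mem_top g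
    exact good_map _ hm hn (MulAut.conj (⟨g, hgP⟩ : P)) (y := ⟨x, hxP⟩) ⟨hxP, hxA⟩
  have hperf : commutator G = ⊤ := by
    rcases hcases (commutator G) inferInstance with h | h | ⟨h, -⟩
    · rcases hPab with h' | h'
      · exact absurd (h ▸ bot_le) h'
      · exact h'
    · exact h
    · rcases hPab with h' | h'
      · exact absurd h h'
      · exact h'
  have hcne : center G ≠ ⊤ := fun h => by
    rcases hPab with h' | h'
    · exact h' (h ▸ le_top)
    · rw [(commutator_eq_bot_iff_center_eq_top G).2 h] at h'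
      have h2 := hm.card
      have h3 : Subsingleton G := Subgroup.subsingleton_iff.1 (subsingleton_of_bot_eq_top h')
      rw [Nat.card_unique] at h2
      exact (Nat.one_lt_pow (by omega) hp.out.one_lt).ne h2
  have hZcard : Nat.card (center G) ≤ p := by
    rcases hcases (center G) inferInstance with h | h | ⟨-, h⟩
    · rw [h, card_bot]; exact hp.out.one_le
    · exact absurd h hcne
    · exact h.le
  refine ⟨⟨⟨hperf⟩, ?_⟩, hZcard⟩
  haveI : Nontrivial (G ⧸ center G) := QuotientGroup.nontrivial_iff.2 hcne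
  refine ⟨fun H hH => ?_⟩
  have hge : center G ≤ H.comap (QuotientGroup.mk' (center G)) := QuotientGroup.le_comap_mk' _ H
  have hmc := Subgroup.map_comap_eq_self_of_surjective (QuotientGroup.mk'_surjective (center G)) H
  rcases hcases (H.comap (QuotientGroup.mk' (center G))) inferInstance with h | h | ⟨h, -⟩
  · left; rw [← hmc, h, Subgroup.map_bot]
  · right; rw [← hmc, h, Subgroup.map_top_of_surjective _ (QuotientGroup.mk'_surjective _)]
  · left; rw [← hmc, le_antisymm h hge, QuotientGroup.map_mk'_self]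

end Dichotomy

end H34
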