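import Mathlib
import Cfsg.Agent.H10.PSolvable
import Cfsg.Agent.H1.Cores
import Cfsg.Agent.H1.SchurZassenhausConj

set_option autoImplicit false

/-!
`p`-solvable groups all of whose maximal subgroups are `p`-nilpotent or of prime index
have `p`-length at most two.
-/

namespace H34.PLenTwo

open Pointwise

universe u

/-- All prime divisors of `n` lie in `π`. -/
def Num (π : Set ℕ) (n : ℕ) : Prop := ∀ q : ℕ, q.Prime → q ∣ n → q ∈ π

theorem num_one (π : Set ℕ) : Num π 1 := fun _ hq h => absurd (Nat.dvd_one.1 h) hq.ne_one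

theorem Num.of_dvd {π : Set ℕ} {m n : ℕ} (h : Num π n) (hd : m ∣ n) : Num π m :=
  fun q hq hqm => h q hq (hqm.trans hd)

theorem Num.mul {π : Set ℕ} {m n : ℕ} (h : Num π m) (h' : Num π n) : Num π (m * n) :=
  fun q hq hd => (hq.dvd_mul.1 hd).elim (h q hq) (h' q hq)

theorem num_pow {p : ℕ} (hp : p.Prime) (k : ℕ) : Num {p} (p ^ k) :=
  fun _ hq hd => (Nat.prime_dvd_prime_iff_eq hq hp).1 (hq.dvd_of_dvd_pow hd)

theorem Num.exists_pow {p n : ℕ} (h : Num {p} n) (hn : n ≠ 0) : ∃ k, n = p ^ k :=
  ⟨_, Nat.eq_prime_pow_of_unique_prime_dvd hn fun {d} hd hdn => h d hd hdn⟩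

theorem Num.not_dvd {p n : ℕ} (hp : p.Prime) (h : Num {p}ᶜ n) : ¬ p ∣ n :=
  fun hd => h p hp hd rfl

theorem num_of_not_dvd {p n : ℕ} (h : ¬ p ∣ n) : Num {p}ᶜ n :=
  fun q _ hd he => h ((Set.mem_singleton_iff.1 he) ▸ hd)

/-- A normal series above `N` with the alternating index conditions. -/
def ChainOver (p : ℕ) (t : Set ℕ) {G : Type u} [Group G] (N : Subgroup G) : Prop :=
  ∃ A B C D : Subgroup G, A.Normal ∧ B.Normal ∧ C.Normal ∧ D.Normal ∧ N ≤ A ∧ A ≤ B ∧ B ≤ C ∧ C ≤ D ∧
    Num {p}ᶜ (N.relIndex A) ∧ Num {p} (A.relIndex B) ∧ Num {p}ᶜ (B.relIndex C) ∧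
    Num {p} (C.relIndex D) ∧ Num t D.index

variable {p : ℕ} {t : Set ℕ}

theorem num_relIndex_inf {π : Set ℕ} {G : Type u} [Group G] {A₁ A₂ B₁ B₂ : Subgroup G}
    [A₁.Normal] [A₂.Normal]
    (h₁ : Num π (A₁.relIndex B₁)) (h₂ : Num π (A₂.relIndex B₂)) :
    Num π ((A₁ ⊓ A₂).relIndex (B₁ ⊓ B₂)) := by
  have key : ∀ (A B K : Subgroup G), A.Normal → K ≤ B → A.relIndex K ∣ A.relIndex B := by
    intro A B K hA hK
    have h := Subgroup.relIndex_dvd_index_of_normal (A.subgroupOf B) (K.subgroupOf B)
    rwa [Subgroup.relIndex_subgroupOf hK] at h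
  have e : (A₁ ⊓ A₂).relIndex (B₁ ⊓ B₂) =
      A₂.relIndex (B₁ ⊓ B₂) * A₁.relIndex (A₂ ⊓ (B₁ ⊓ B₂)) := by
    rw [← Subgroup.inf_relIndex_right A₂ (B₁ ⊓ B₂), ← Subgroup.inf_relIndex_right A₁ (A₂ ⊓ (B₁ ⊓ B₂)),
      ← Subgroup.inf_relIndex_right (A₁ ⊓ A₂) (B₁ ⊓ B₂), mul_comm, inf_assoc,
      Subgroup.relIndex_mul_relIndex _ _ _ inf_le_right inf_le_right]
  rw [e]
  exact (h₂.of_dvd (key _ _ _ ‹_› inf_le_right)).mul
    (h₁.of_dvd (key _ _ _ ‹_› (inf_le_right.trans inf_le_left)))

theorem ChainOver.inf {G : Type u} [Group G] {N₁ N₂ : Subgroup G} [N₁.Normal] [N₂.Normal]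
    (h₁ : ChainOver p t N₁) (h₂ : ChainOver p t N₂) : ChainOver p t (N₁ ⊓ N₂) := by
  obtain ⟨A, B, C, D, hA, hB, hC, hD, a1, a2, a3, a4, x1, x2, x3, x4, x5⟩ := h₁
  obtain ⟨A', B', C', D', hA', hB', hC', hD', b1, b2, b3, b4, y1, y2, y3, y4, y5⟩ := h₂
  refine ⟨A ⊓ A', B ⊓ B', C ⊓ C', D ⊓ D', inferInstance, inferInstance, inferInstance, inferInstance,
    inf_le_inf a1 b1, inf_le_inf a2 b2, inf_le_inf a3 b3, inf_le_inf a4 b4,
    num_relIndex_inf x1 y1, num_relIndex_inf x2 y2, num_relIndex_inf x3 y3, num_relIndex_inf x4 y4, ?_⟩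
  rw [← Subgroup.relIndex_top_right] at x5 y5 ⊢
  simpa using num_relIndex_inf x5 y5

theorem ChainOver.of_quotient {G : Type u} [Group G] (N : Subgroup G) [N.Normal]
    (h : ChainOver p t (⊥ : Subgroup (G ⧸ N))) : ChainOver p t N := by
  obtain ⟨A, B, C, D, hA, hB, hC, hD, -, a2, a3, a4, x1, x2, x3, x4, x5⟩ := h
  set f := QuotientGroup.mk' N
  have hf : Function.Surjective f := QuotientGroup.mk'_surjective N
  have e : ∀ U V : Subgroup (G ⧸ N), (U.comap f).relIndex (V.comap f) = U.relIndex V := fun U V => by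
    rw [Subgroup.relIndex_comap, Subgroup.map_comap_eq_self_of_surjective hf]
  have e0 : (⊥ : Subgroup (G ⧸ N)).comap f = N := by
    rw [MonoidHom.comap_bot, QuotientGroup.ker_mk']
  refine ⟨A.comap f, B.comap f, C.comap f, D.comap f, inferInstance, inferInstance, inferInstance,
    inferInstance, ?_, Subgroup.comap_mono a2, Subgroup.comap_mono a3, Subgroup.comap_mono a4,
    ?_, by rwa [e], by rwa [e], by rwa [e], ?_⟩
  · exact e0.ge.trans (Subgroup.comap_mono bot_le)
  · conv => arg 2; arg 1; rw [← e0]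
    rwa [e]
  · rwa [Subgroup.index_comap_of_surjective _ hf]

/-- The hypothesis on maximal subgroups. -/
def Hyp (p : ℕ) (G : Type u) [Group G] : Prop :=
  ∀ M : Subgroup G, IsCoatom M →
    (∃ K : Subgroup ↥M, K.Normal ∧ ¬ p ∣ Nat.card K ∧ ∃ k : ℕ, K.index = p ^ k) ∨ (M.index).Prime

theorem Hyp.quotient (hp : p.Prime) {G : Type u} [Group G] (h : Hyp p G) (N : Subgroup G)
    [N.Normal] : Hyp p (G ⧸ N) := by
  intro M' hM'
  set f := QuotientGroup.mk' N
  have hf : Function.Surjective f := QuotientGroup.mk'_surjective N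
  have hM : IsCoatom (M'.comap f) := by
    refine ⟨fun h => hM'.1 ?_, fun K hK => ?_⟩
    · rw [← Subgroup.map_comap_eq_self_of_surjective hf M', h, Subgroup.map_top_of_surjective f hf]
    · have hker : f.ker ≤ K := (MonoidHom.comap_bot f).ge.trans ((Subgroup.comap_mono bot_le).trans hK.le)
      have hKeq : (K.map f).comap f = K := Subgroup.comap_map_eq_self hker
      have hlt : M' < K.map f := by
        rw [← Subgroup.comap_lt_comap_of_surjective hf, hKeq]; exact hK
      rw [← hKeq, hM'.2 _ hlt, Subgroup.comap_top]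
  rcases h _ hM with ⟨K, hK, hKp, k, hk⟩ | hprime
  · left
    let r : ↥(M'.comap f) →* ↥M' := f.subgroupComap M'
    have hr : Function.Surjective r := fun y => by
      obtain ⟨x, hx⟩ := hf y
      exact ⟨⟨x, show f x ∈ M' by rw [hx]; exact y.2⟩, Subtype.ext hx⟩
    refine ⟨K.map r, hK.map r hr, fun hd => hKp (hd.trans (K.card_map_dvd r)), ?_⟩
    obtain ⟨j, -, hj⟩ := (Nat.dvd_prime_pow hp).1 (hk ▸ K.index_map_dvd hr)
    exact ⟨j, hj⟩
  · right
    rwa [Subgroup.index_comap_of_surjective _ hf] at hprime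

theorem exists_chain [Fact p.Prime] (ht : ∀ q : ℕ, q.Prime → q ∣ p - 1 → q ∈ t) (n : ℕ) :
    ∀ (G : Type u) [Group G] [Finite G], Nat.card G ≤ n → Cfsg.IsPSolvable p G → Hyp p G →
      ChainOver p t (⊥ : Subgroup G) := by
  induction n with
  | zero => intro G _ _ hn; exact absurd hn (by simp [Nat.card_pos.ne'])
  | succ n ih =>
    intro G _ _ hn hps hyp
    have hp : p.Prime := Fact.out
    rcases subsingleton_or_nontrivial G with hs | hs
    · refine ⟨⊥, ⊥, ⊥, ⊥, inferInstance, inferInstance, inferInstance, inferInstance, le_rfl, le_rfl,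
        le_rfl, le_rfl, ?_, ?_, ?_, ?_, ?_⟩
      all_goals first
        | (rw [Subgroup.relIndex_self]; exact num_one _)
        | (rw [Subgroup.index_bot, Nat.card_unique]; exact num_one _)
    have hstep : ∀ (R : Subgroup G) [R.Normal], R ≠ ⊥ → ChainOver p t R := by
      intro R _ hR
      refine ChainOver.of_quotient R (ih _ ?_ (H10.isPSolvable_quotient hps R) (hyp.quotient hp R))
      have h1 := (Subgroup.one_lt_card_iff_ne_bot R).2 hR
      have h2 := Subgroup.card_eq_card_quotient_mul_card_subgroup R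
      have h3 : 0 < Nat.card (G ⧸ R) := Nat.card_pos
      nlinarith
    by_cases hO' : Cfsg.pPrimeCore p G = ⊥
    swap
    · haveI := H1.pPrimeCore_normal' p G
      obtain ⟨A, B, C, D, hA, hB, hC, hD, a1, a2, a3, a4, x1, x2, x3, x4, x5⟩ := hstep _ hO'
      refine ⟨A, B, C, D, hA, hB, hC, hD, bot_le, a2, a3, a4, ?_, x2, x3, x4, x5⟩
      rw [← Subgroup.relIndex_mul_relIndex ⊥ _ _ bot_le a1, Subgroup.relIndex_bot_left]
      exact (num_of_not_dvd (hp.coprime_iff_not_dvd.1 (H1.card_pPrimeCore_coprime p G).symm)).mul x1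
    have hO : Cfsg.pCore p G ≠ ⊥ := (H10.pCore_or_pPrimeCore_ne_bot hps).resolve_right (not_not.2 hO')
    haveI := H1.pCore_normal' p G
    obtain ⟨N, hNS, hNmax⟩ := (Set.toFinite {N : Subgroup G | N.Normal ∧ N ≠ ⊥ ∧ N ≤ Cfsg.pCore p G}).exists_minimal
      ⟨_, inferInstance, hO, le_rfl⟩
    obtain ⟨hNn, hN, hNO⟩ := hNS
    haveI := hNn
    have hNp : IsPGroup p ↥N := (H1.isPGroup_pCore p G).to_le hNO
    by_cases huniq : ∀ R : Subgroup G, R.Normal → R ≠ ⊥ → N ≤ R
    swap
    · push Not at huniq
      obtain ⟨R, hRn, hR, hNR⟩ := huniq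
      haveI := hRn
      have hNR' : N ⊓ R = ⊥ := by
        by_contra h
        exact hNR ((hNmax ⟨inferInstance, h, inf_le_left.trans hNO⟩ inf_le_left).trans inf_le_right)
      exact hNR' ▸ (hstep N hN).inf (hstep R hR)
    -- `N` is abelian
    have hNab : ∀ a ∈ N, ∀ b ∈ N, a * b = b * a := by
      haveI := hNp.isNilpotent
      have hlt : ⁅N, N⁆ < N := by
        haveI : Nontrivial ↥N := (Subgroup.nontrivial_iff_ne_bot N).2 hN
        haveI : Group.IsSolvable ↥N := inferInstance
        refine lt_of_le_of_ne (Subgroup.commutator_le_self N) fun h => ?_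
        have h1 := Group.IsSolvable.commutator_lt_top_of_nontrivial (G := ↥N)
        refine h1.ne (Subgroup.map_injective N.subtype_injective ?_)
        rw [Subgroup.map_subtype_commutator, h, ← MonoidHom.range_eq_map, Subgroup.range_subtype]
      have h0 : ⁅N, N⁆ = ⊥ := by
        by_contra h
        exact hlt.not_ge (hNmax ⟨inferInstance, h, hlt.le.trans hNO⟩ hlt.le)
      intro a ha b hb
      have := Subgroup.commutator_mem_commutator ha hb
      rw [h0, Subgroup.mem_bot] at this
      exact commutatorElement_eq_one_iff_mul_comm.1 this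
    haveI hNsol : Group.IsSolvable ↥N := Group.isSolvable_of_comm fun a b => Subtype.ext (hNab a a.2 b b.2)
    obtain ⟨A, B, C, D, hA, hB, hC, hD, a1, a2, a3, a4, x1, x2, x3, x4, x5⟩ := hstep N hN
    have hNnum : Num {p} (Nat.card N) := by
      obtain ⟨k, hk⟩ := IsPGroup.iff_card.1 hNp
      rw [hk]; exact num_pow hp k
    by_cases hΦ : N ≤ frattini G
    · -- then the bottom factor is trivial
      haveI := hA
      have hNA : A = N := by
        obtain ⟨H, hH⟩ := Subgroup.exists_right_complement'_of_coprime (N := N.subgroupOf A) (by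
          rw [Nat.card_congr (Subgroup.subgroupOfEquivOfLe a1).toEquiv]
          obtain ⟨k, hk⟩ := IsPGroup.iff_card.1 hNp
          rw [hk]
          exact ((hp.coprime_iff_not_dvd.2 (x1.not_dvd hp)).pow_left k))
        set H' := H.map A.subtype with hH'
        have hHA : H' ≤ A := Subgroup.map_subtype_le _
        have hcardH : ¬ p ∣ Nat.card H' := by
          rw [hH', Nat.card_congr (H.equivMapOfInjective _ A.subtype_injective).symm.toEquiv,
            ← hH.symm.index_eq_card]
          exact x1.not_dvd hp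
        have hcop : (Nat.card N).Coprime (Nat.card H') := by
          obtain ⟨k, hk⟩ := IsPGroup.iff_card.1 hNp
          rw [hk]; exact (hp.coprime_iff_not_dvd.2 hcardH).pow_left k
        have hAH : A ≤ N ⊔ H' := fun a ha => by
          obtain ⟨⟨⟨x, hx⟩, ⟨h, hh⟩⟩, he⟩ := hH.2 ⟨a, ha⟩
          have he' : (x : G) * h = a := congrArg Subtype.val he
          rw [← he']
          exact Subgroup.mul_mem_sup hx ⟨h, hh, rfl⟩
        have htop : Subgroup.normalizer (H' : Set G) ⊔ frattini G = ⊤ := by
          rw [eq_top_iff]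
          intro g _
          obtain ⟨d, hd, hde⟩ := H1.exists_conj_eq_of_coprime (D := N) (H := H')
            (K := MulAut.conj g • H') (by rw [Subgroup.normalizer_eq_top_iff.2 hNn]; exact le_top) hcop
            (Or.inl hNsol)
            (fun y hy => hAH (by
              obtain ⟨h, hh, rfl⟩ := hy
              exact hA.conj_mem h (hHA hh) g))
            (Nat.card_congr (Subgroup.equivSMul (MulAut.conj g) H').toEquiv).symm
          have hmem : d⁻¹ * g ∈ Subgroup.normalizer (H' : Set G) := by
            rw [Subgroup.mem_normalizer_iff_map_conj_eq]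
            show MulAut.conj (d⁻¹ * g) • H' = H'
            rw [map_mul, mul_smul, ← hde, map_inv, inv_smul_smul]
          have := mul_mem ((le_sup_right : _ ≤ Subgroup.normalizer (H' : Set G) ⊔ frattini G) (hΦ hd))
            ((le_sup_left : _ ≤ Subgroup.normalizer (H' : Set G) ⊔ frattini G) hmem)
          simpa using this
        haveI : H'.Normal := Subgroup.normalizer_eq_top_iff.1 (frattini_nongenerating htop)
        have hH0 : H' = ⊥ := le_bot_iff.1 <| hO' ▸ H1.le_pPrimeCore
          (hp.coprime_iff_not_dvd.2 hcardH).symm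
        refine le_antisymm (hAH.trans ?_) a1
        rw [hH0, sup_bot_eq]
      subst hNA
      refine ⟨⊥, B, C, D, inferInstance, hB, hC, hD, le_rfl, bot_le, a3, a4, ?_, ?_, x3, x4, x5⟩
      · rw [Subgroup.relIndex_self]; exact num_one _
      · rw [← Subgroup.relIndex_mul_relIndex ⊥ _ _ bot_le a2, Subgroup.relIndex_bot_left]
        exact hNnum.mul x2
    -- a maximal subgroup complementing `N`
    obtain ⟨M, hM, hNM⟩ : ∃ M : Subgroup G, IsCoatom M ∧ ¬ N ≤ M := by
      by_contra h
      push Not at h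
      exact hΦ (by simpa [frattini, Order.radical] using h)
    have hMN : M ⊔ N = ⊤ := hM.2 _ (lt_of_le_of_ne le_sup_left fun e => hNM (e ▸ le_sup_right))
    have hnorm : ∀ X : Subgroup G, M ≤ Subgroup.normalizer (X : Set G) →
        N ≤ Subgroup.normalizer (X : Set G) → X.Normal := fun X h1 h2 => by
      rw [← Subgroup.normalizer_eq_top_iff, eq_top_iff, ← hMN]
      exact sup_le h1 h2
    have hinfM : ∀ X : Subgroup G, [X.Normal] → N ≤ Subgroup.centralizer (X : Set G) → M ⊓ X = ⊥ := by
      intro X _ hNX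
      by_contra h
      haveI : (M ⊓ X).Normal := by
        refine hnorm _ (fun m hm => ?_)
          ((hNX.trans (Subgroup.centralizer_le (by simp))).trans (Subgroup.centralizer_le_normalizer _))
        rw [Subgroup.mem_normalizer_iff]
        intro y
        rw [Subgroup.mem_inf, Subgroup.mem_inf, ← Subgroup.mem_normalizer_iff.1 (Subgroup.le_normalizer hm) y,
          ← Subgroup.mem_normalizer_iff.1 (show m ∈ Subgroup.normalizer (X : Set G) by
            rw [Subgroup.normalizer_eq_top_iff.2 ‹X.Normal›]; trivial) y]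
      exact hNM ((huniq _ inferInstance h).trans inf_le_left)
    have hMNbot : M ⊓ N = ⊥ := hinfM N fun a ha =>
      Subgroup.mem_centralizer_iff.2 fun b hb => hNab b hb a ha
    have hcompl : Subgroup.IsComplement' M N :=
      Subgroup.isComplement'_of_disjoint_and_mul_eq_univ (disjoint_iff.2 hMNbot) (by
        rw [← Subgroup.mul_normal, hMN]; rfl)
    rcases hyp M hM with ⟨K, hK, hKp, k, hk⟩ | hprime
    · set K' := K.map M.subtype with hK'
      have hK'N : (K' ⊔ N).Normal := by
        refine hnorm _ ?_ (le_sup_right.trans Subgroup.le_normalizer)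
        intro m hm
        rw [Subgroup.mem_normalizer_iff_map_conj_eq, Subgroup.map_sup]
        congr 1
        · rw [← Subgroup.mem_normalizer_iff_map_conj_eq, Subgroup.mem_normalizer_iff]
          intro y
          constructor
          · rintro ⟨x, hx, rfl⟩
            exact ⟨⟨m, hm⟩ * x * ⟨m, hm⟩⁻¹, hK.conj_mem x hx _, rfl⟩
          · rintro ⟨x, hx, he⟩
            have he' : (x : G) = m * y * m⁻¹ := he
            refine ⟨⟨m, hm⟩⁻¹ * x * ⟨m, hm⟩, by simpa using hK.conj_mem x hx ⟨m, hm⟩⁻¹, ?_⟩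
            simp [he', mul_assoc]
        · rw [← Subgroup.mem_normalizer_iff_map_conj_eq, Subgroup.normalizer_eq_top_iff.2 hNn]; trivial
      refine ⟨⊥, N, K' ⊔ N, ⊤, inferInstance, hNn, hK'N, inferInstance, le_rfl, bot_le, le_sup_right,
        le_top, ?_, ?_, ?_, ?_, ?_⟩
      · rw [Subgroup.relIndex_self]; exact num_one _
      · rw [Subgroup.relIndex_bot_left]; exact hNnum
      · rw [Subgroup.relIndex_sup_right]
        refine num_of_not_dvd fun hd => hKp (hd.trans ((Subgroup.relIndex_dvd_of_le_left K' bot_le).trans ?_))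
        rw [Subgroup.relIndex_bot_left, hK', Nat.card_congr (K.equivMapOfInjective _ M.subtype_injective).symm.toEquiv]
      · rw [Subgroup.relIndex_top_right]
        refine Num.of_dvd (num_pow hp k) ?_
        have h1 : (K'.index) = K.index * Nat.card N := by
          rw [hK', Subgroup.index_map_subtype, hcompl.symm.index_eq_card]
        have h2 := Subgroup.relIndex_mul_index (le_sup_left : K' ≤ K' ⊔ N)
        have h3 : K'.relIndex (K' ⊔ N) = Nat.card N := by
          have hd : K' ⊓ N = ⊥ :=
            le_bot_iff.1 (hMNbot ▸ inf_le_inf_right N (Subgroup.map_subtype_le K))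
          have e1 := Subgroup.relIndex_mul_relIndex ⊥ K' (K' ⊔ N) bot_le le_sup_left
          have e2 := Subgroup.relIndex_mul_relIndex ⊥ N (K' ⊔ N) bot_le le_sup_right
          rw [Subgroup.relIndex_sup_right, ← Subgroup.inf_relIndex_right N K', inf_comm, hd,
            Subgroup.relIndex_bot_left, Subgroup.relIndex_bot_left] at e2
          rw [Subgroup.relIndex_bot_left, ← e2, mul_comm (Nat.card N)] at e1
          exact Nat.eq_of_mul_eq_mul_left Nat.card_pos e1
        rw [h3, h1, mul_comm (K.index)] at h2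
        rw [Nat.eq_of_mul_eq_mul_left Nat.card_pos h2, hk]
      · rw [Subgroup.index_top]; exact num_one _
    · -- `N` has order `p`
      rw [hcompl.symm.index_eq_card] at hprime
      have hcardN : Nat.card N = p := by
        obtain ⟨j, hj⟩ := IsPGroup.iff_card.1 hNp
        rw [hj] at hprime ⊢
        rw [(hprime.eq_one_of_pow (n := j)), pow_one]
      set f : G →* MulAut ↥N := MulAut.conjNormal
      have hker : f.ker = N := by
        have hkerC : f.ker = Subgroup.centralizer (N : Set G) := by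
          ext g
          rw [MonoidHom.mem_ker, Subgroup.mem_centralizer_iff]
          constructor
          · intro h x hx
            have h1 : g * x * g⁻¹ = x := by
              have := congrArg Subtype.val (DFunLike.congr_fun h ⟨x, hx⟩)
              simpa [f, MulAut.conjNormal_apply] using this
            calc x * g = g * x * g⁻¹ * g := by rw [h1]
              _ = g * x := by group
          · intro h
            ext x
            show g * (x : G) * g⁻¹ = x
            rw [← h x x.2]; group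
        have hC := hinfM f.ker (by rw [hkerC, Subgroup.le_centralizer_iff])
        have hle : N ≤ f.ker := by
          rw [hkerC]; exact fun a ha => Subgroup.mem_centralizer_iff.2 fun b hb => hNab b hb a ha
        refine le_antisymm (fun g hg => ?_) hle
        obtain ⟨⟨⟨m, hm⟩, ⟨x, hx⟩⟩, rfl⟩ := hcompl.2 g
        have : m ∈ M ⊓ f.ker := ⟨hm, by simpa using mul_mem hg (inv_mem (hle hx))⟩
        rw [hC, Subgroup.mem_bot] at this
        simpa [this] using hx
      refine ⟨⊥, N, N, N, inferInstance, hNn, hNn, hNn, le_rfl, bot_le, le_rfl, le_rfl, ?_, ?_, ?_, ?_, ?_⟩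
      · rw [Subgroup.relIndex_self]; exact num_one _
      · rw [Subgroup.relIndex_bot_left]; exact hNnum
      · rw [Subgroup.relIndex_self]; exact num_one _
      · rw [Subgroup.relIndex_self]; exact num_one _
      · refine Num.of_dvd (n := p - 1) ht ?_
        haveI : IsCyclic ↥N := isCyclic_of_prime_card (p := p) hcardN
        calc N.index = f.ker.index := by rw [hker]
          _ = Nat.card f.range := Subgroup.index_ker f
          _ ∣ Nat.card (MulAut ↥N) := Subgroup.card_subgroup_dvd_card _
          _ = p - 1 := by rw [IsCyclic.card_mulAut, hcardN, Nat.totient_prime hp]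

end H34.PLenTwo
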