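import Cfsg.Prelude.Def_PLocal
import Cfsg.Agent.H88.Normal

/-!
For a saturated fusion system over a p-group of class at most `n(p-1)+1` the subgroup generated by
the `p^n`-th powers of the central elements is normal in the system; exponent of a nilpotent group
from the exponent of its centre.
-/

set_option autoImplicit false

open Cfsg Cfsg.FusionSystem
open scoped commutatorElement

namespace H34

/-- If `(1+x)^p = 1` and `x^(n(p-1)+1) = 0` then `p^n x = 0`. -/
theorem prime_pow_mul_eq_zero {R : Type*} [Ring R] {p : ℕ} (hp : p.Prime) {x : R}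
    (h1 : (1 + x) ^ p = 1) {n : ℕ} (h : x ^ (n * (p - 1) + 1) = 0) : (p : R) ^ n * x = 0 := by
  obtain ⟨r, hr⟩ := exists_add_pow_prime_eq hp (1 : Polynomial ℤ) Polynomial.X
  rw [one_pow, mul_one] at hr
  have hr0 : r.coeff 0 = 1 := by
    have hc := congrArg (fun q => Polynomial.coeff q 1) hr
    have e1 : (Polynomial.X ^ p : Polynomial ℤ).coeff 1 = 0 := by
      rw [Polynomial.coeff_X_pow, if_neg hp.one_lt.ne]
    simp only [Polynomial.coeff_one_add_X_pow, Polynomial.coeff_add, e1, Nat.choose_one_right,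
      Polynomial.coeff_one, one_ne_zero, if_false, zero_add] at hc
    rw [mul_assoc, ← Polynomial.C_eq_natCast, Polynomial.coeff_C_mul, Polynomial.coeff_X_mul] at hc
    exact mul_left_cancel₀ (Nat.cast_ne_zero.2 hp.ne_zero) (hc.symm.trans (mul_one _).symm)
  set u := Polynomial.aeval x r with hu
  have hxu : x * u = u * x := by
    have h2 := congrArg (Polynomial.aeval x) (mul_comm Polynomial.X r)
    simpa using h2
  have hkey : x ^ p = -((p : R) * (x * u)) := by
    have h2 := congrArg (Polynomial.aeval x) hr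
    simp only [map_add, map_mul, map_pow, map_one, map_natCast, Polynomial.aeval_X, ← hu] at h2
    rw [h1, mul_assoc, add_assoc, left_eq_add] at h2
    exact eq_neg_of_add_eq_zero_left h2
  have hunit : IsUnit u := by
    have h2 : IsNilpotent (u - 1) := by
      obtain ⟨q, hq⟩ := Polynomial.X_dvd_iff.2 (show (r - 1).coeff 0 = 0 by simp [hr0])
      have h3 := congrArg (Polynomial.aeval x) hq
      rw [map_sub, map_one, map_mul, Polynomial.aeval_X, ← hu] at h3
      rw [h3]
      refine Commute.isNilpotent_mul_right ?_ ⟨_, h⟩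
      have h4 := congrArg (Polynomial.aeval x) (mul_comm Polynomial.X q)
      simpa [Commute, SemiconjBy] using h4
    simpa using h2.isUnit_one_add
  obtain ⟨m, hm⟩ : ∃ m, p = m + 1 := ⟨p - 1, by have := hp.pos; omega⟩
  have hstep : ∀ k, x ^ (k * (p - 1) + 1) = (p : R) ^ k * (x * (-u) ^ k) := by
    intro k
    induction k with
    | zero => simp
    | succ k ih =>
      have e : (k + 1) * (p - 1) + 1 = (k * (p - 1) + 1) + (p - 1) := by ring
      have hxc : Commute ((-u) ^ k) (x ^ (p - 1)) :=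
        ((show Commute (-u) x from (show Commute u x from hxu.symm).neg_left).pow_left k).pow_right _
      calc x ^ ((k + 1) * (p - 1) + 1) = (p : R) ^ k * (x * ((-u) ^ k * x ^ (p - 1))) := by
            rw [e, pow_add, ih, mul_assoc, mul_assoc]
        _ = (p : R) ^ k * (x ^ p * (-u) ^ k) := by
            rw [hxc.eq, ← mul_assoc x, ← pow_succ', Nat.sub_add_cancel hp.one_le]
        _ = (p : R) ^ (k + 1) * (x * (-u) ^ (k + 1)) := by
            rw [hkey, show -((p : R) * (x * u)) = (p : R) * (x * (-u)) by rw [mul_neg, mul_neg],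
              mul_assoc, mul_assoc, ← pow_succ', ← mul_assoc ((p : R) ^ k), ← pow_succ]
  rw [hstep n, ← mul_assoc] at h
  exact (hunit.neg.pow n).mul_left_eq_zero.1 h

section exponent

variable {G : Type*} [Group G]

theorem commutator_pow_central {x y : G} (hc : ⁅x, y⁆ ∈ Subgroup.center G) (k : ℕ) :
    ⁅x ^ k, y⁆ = ⁅x, y⁆ ^ k := by
  induction k with
  | zero => simp [commutatorElement_def]
  | succ k ih =>
    have h1 := Subgroup.mem_center_iff.1 hc
    calc ⁅x ^ (k + 1), y⁆ = x ^ k * ⁅x, y⁆ * (y * (x ^ k)⁻¹ * y⁻¹) := by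
          rw [pow_succ, commutatorElement_def, commutatorElement_def]; group
      _ = ⁅x, y⁆ * ⁅x ^ k, y⁆ := by
          rw [h1, commutatorElement_def (x ^ k)]; simp only [mul_assoc]
      _ = ⁅x, y⁆ ^ (k + 1) := by rw [ih, pow_succ']

/-- The centre's exponent bounds the exponents of all upper central factors. -/
theorem pow_mem_upperCentralSeries {N : ℕ} (hZ : ∀ z ∈ Subgroup.center G, z ^ N = 1) :
    ∀ i : ℕ, ∀ x ∈ Subgroup.upperCentralSeries G (i + 1), x ^ N ∈ Subgroup.upperCentralSeries G i := by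
  intro i
  induction i with
  | zero =>
    intro x hx
    rw [Subgroup.upperCentralSeries_one] at hx
    rw [Subgroup.upperCentralSeries_zero, Subgroup.mem_bot]
    exact hZ x hx
  | succ i ih =>
    intro x hx
    rw [Subgroup.mem_upperCentralSeries_succ_iff] at hx ⊢
    intro y
    haveI : (Subgroup.upperCentralSeries G i).Normal := inferInstance
    set q := QuotientGroup.mk' (Subgroup.upperCentralSeries G i)
    have hc : ⁅q x, q y⁆ ∈ Subgroup.center (G ⧸ Subgroup.upperCentralSeries G i) := by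
      refine Subgroup.mem_center_iff.2 fun t => ?_
      obtain ⟨t, rfl⟩ := QuotientGroup.mk'_surjective _ t
      have h2 : ⁅q ⁅x, y⁆, q t⁆ = 1 := by
        rw [← map_commutatorElement]
        exact (QuotientGroup.eq_one_iff _).2 ((Subgroup.mem_upperCentralSeries_succ_iff.1 (hx y)) t)
      rw [← map_commutatorElement]
      exact (commutatorElement_eq_one_iff_mul_comm.1 h2).symm
    refine (QuotientGroup.eq_one_iff _).1 ?_
    show q ⁅x ^ N, y⁆ = 1
    rw [map_commutatorElement, map_pow, commutator_pow_central hc, ← map_commutatorElement, ← map_pow]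
    exact (QuotientGroup.eq_one_iff _).2 (ih _ (hx y))

theorem pow_pow_eq_one_of_class {N c : ℕ} (hZ : ∀ z ∈ Subgroup.center G, z ^ N = 1)
    (hc : Subgroup.upperCentralSeries G c = ⊤) (x : G) : x ^ N ^ c = 1 := by
  have : ∀ i, ∀ x ∈ Subgroup.upperCentralSeries G i, x ^ N ^ i = 1 := by
    intro i
    induction i with
    | zero => intro x hx; rw [Subgroup.upperCentralSeries_zero, Subgroup.mem_bot] at hx; simp [hx]
    | succ i ih =>
      intro x hx
      rw [pow_succ', pow_mul]
      exact ih _ (pow_mem_upperCentralSeries hZ i x hx)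
  exact this c x (hc ▸ Subgroup.mem_top x)

end exponent

section fusion

variable {Ω : Type*} [Group Ω] {S : Subgroup Ω} {p : ℕ}

/-- Commutators `[…[m, g], …, g]` climb down the lower central series. -/
theorem iterate_comm_mem {m g : Ω} (hm : m ∈ S) (hg : g ∈ S) :
    ∀ k, (fun y => g * y * g⁻¹ * y⁻¹)^[k] m ∈ Subgroup.lowerCentralSeries S k := by
  intro k
  induction k with
  | zero => exact hm
  | succ k ih =>
    rw [Function.iterate_succ_apply', Subgroup.lowerCentralSeries_succ, Subgroup.commutator_comm]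
    exact Subgroup.commutator_mem_commutator hg ih

/-- An element whose `p`-th power centralises an abelian group fixes its `p^n`-th powers. -/
theorem commute_pow_of_class [Fact p.Prime] {n : ℕ}
    (hcl : Subgroup.lowerCentralSeries S (n * (p - 1) + 1) = ⊥)
    {M : Subgroup Ω} (hMS : M ≤ S) (hMc : ∀ a ∈ M, ∀ b ∈ M, a * b = b * a) {g : Ω} (hg : g ∈ S)
    (hgM : ∀ a ∈ M, g * a * g⁻¹ ∈ M) (hgp : ∀ a ∈ M, g ^ p * a * (g ^ p)⁻¹ = a) {m : Ω} (hm : m ∈ M) :
    g * m ^ p ^ n * g⁻¹ = m ^ p ^ n := by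
  letI : CommGroup M := { (inferInstance : Group M) with
    mul_comm := fun a b => Subtype.ext (hMc a a.2 b b.2) }
  let θ : AddMonoid.End (Additive M) :=
    AddMonoidHom.mk' (fun a => Additive.ofMul (⟨g * (a.toMul : Ω) * g⁻¹, hgM _ a.toMul.2⟩ : M))
      fun a b => by
        refine congrArg Additive.ofMul (Subtype.ext ?_)
        show g * ((a.toMul : Ω) * (b.toMul : Ω)) * g⁻¹ = (g * _ * g⁻¹) * (g * _ * g⁻¹)
        group
  have hθ : ∀ (k : ℕ) (a : Additive M), (((θ ^ k) a).toMul : Ω) = g ^ k * (a.toMul : Ω) * (g ^ k)⁻¹ := by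
    intro k
    induction k with
    | zero => intro a; simp
    | succ k ih =>
      intro a
      rw [pow_succ' θ]
      show g * (((θ ^ k) a).toMul : Ω) * g⁻¹ = _
      rw [ih, pow_succ']; group
  have h1 : (1 + (θ - 1)) ^ p = 1 := by
    rw [add_sub_cancel]
    refine AddMonoidHom.ext fun a => Additive.toMul.injective (Subtype.ext ?_)
    show (((θ ^ p) a).toMul : Ω) = (a.toMul : Ω)
    rw [hθ]
    exact hgp _ a.toMul.2
  have h2 : (θ - 1) ^ (n * (p - 1) + 1) = 0 := by
    have hit : ∀ (k : ℕ) (a : Additive M),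
        ((((θ - 1) ^ k) a).toMul : Ω) = (fun y => g * y * g⁻¹ * y⁻¹)^[k] (a.toMul : Ω) := by
      intro k
      induction k with
      | zero => intro a; rfl
      | succ k ih =>
        intro a
        rw [Function.iterate_succ_apply', ← ih, pow_succ']
        show ((θ (((θ - 1) ^ k) a) - ((θ - 1) ^ k) a).toMul : Ω) = _
        rw [toMul_sub, div_eq_mul_inv]
        rfl
    refine AddMonoidHom.ext fun a => Additive.toMul.injective (Subtype.ext ?_)
    refine (hit _ a).trans ?_
    have := iterate_comm_mem (hMS a.toMul.2) hg (n * (p - 1) + 1)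
    rw [hcl, Subgroup.mem_bot] at this
    exact this
  have h3 := DFunLike.congr_fun (prime_pow_mul_eq_zero (Fact.out : p.Prime) h1 h2) (Additive.ofMul (⟨m, hm⟩ : M))
  have h4 : (p ^ n) • θ (Additive.ofMul (⟨m, hm⟩ : M)) = (p ^ n) • Additive.ofMul (⟨m, hm⟩ : M) := by
    rw [← sub_eq_zero, ← nsmul_sub]
    rw [← Nat.cast_pow, ← nsmul_eq_mul] at h3
    exact h3
  have h5 := congrArg (fun a : Additive M => (a.toMul : Ω)) h4
  simp only [toMul_nsmul, SubmonoidClass.coe_pow] at h5
  rw [← conj_pow]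
  exact h5

theorem powerClosure_centre_le {n : ℕ} : powerClosure p n (S ⊓ Subgroup.centralizer (S : Set Ω)) ≤
    S ⊓ Subgroup.centralizer (S : Set Ω) :=
  (Subgroup.closure_le _).2 fun y ⟨_, hx, hy⟩ => hy ▸ pow_mem hx _

/-- The `p^n`-th powers of the centre generate a normal subgroup of the system. -/
theorem isNormal_powerClosure_centre [Finite S] [Fact p.Prime] (hS : IsPGroup p S) {F : FusionSystem S}
    (hF : F.IsSaturated p) (n : ℕ) (hcl : Subgroup.lowerCentralSeries S (n * (p - 1) + 1) = ⊥) :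
    F.IsNormal (powerClosure p n (S ⊓ Subgroup.centralizer (S : Set Ω))) := by
  set W := powerClosure p n (S ⊓ Subgroup.centralizer (S : Set Ω)) with hW
  have hWS : W ≤ S := powerClosure_centre_le.trans inf_le_left
  haveI : Finite W := H85.finite_of_le hWS
  have hWN : normalizerIn S W = S := by
    refine inf_eq_left.2 fun g hg => H85.mem_normalizer_of_conj fun w hw => ?_
    have h1 := Subgroup.mem_centralizer_iff.1 (powerClosure_centre_le hw).2 g hg
    rw [h1, mul_inv_cancel_right]; exact hw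
  -- it suffices that automorphisms map `W` to itself
  have hin : ∀ R : Subgroup Ω, R ≤ S → W ≤ R → ∀ α ∈ F.autGroup R,
      (∀ x : R, (x : Ω) ∈ W → ((α x : R) : Ω) ∈ W) → α ∈ (H88.normalExtSystem F W hWS hWN).autGroup R := by
    intro R hR hWR α hα hmap
    have hα' := (H85.mem_autGroup hR).1 hα
    have hle : R ⊔ W ≤ R := sup_le le_rfl hWR
    have hψ := H85.restrict hα' hle
    refine (H85.mem_autGroup hR).2 ⟨hα', _, hψ, fun x => rfl, ?_⟩
    refine Subgroup.eq_of_le_of_card_ge ?_ (le_of_eq ?_)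
    · rintro _ ⟨⟨x, hx⟩, hxW, rfl⟩
      exact hmap ⟨x, hle hx⟩ hxW
    · rw [show H85.img _ W = (W.subgroupOf (R ⊔ W)).map _ from rfl,
        Subgroup.card_map_of_injective (F.injective_of_mem hψ),
        Nat.card_congr (Subgroup.subgroupOfEquivOfLe (le_sup_right : W ≤ R ⊔ W)).toEquiv]
  refine ⟨hWS, fun P φ hφ => ((?_ : F ≤ H88.normalExtSystem F W hWS hWN) P hφ).2⟩
  refine H88.le_of_step hS hF (fun α hα => hin S le_rfl hWS α hα fun x hx => ?_)
    fun R hR hRn hbig => ?_
  · -- automorphisms of `S`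
    have hZ : ∀ z : S, (z : Ω) ∈ Subgroup.centralizer (S : Set Ω) →
        ((α z : S) : Ω) ∈ Subgroup.centralizer (S : Set Ω) := by
      intro z hz
      refine Subgroup.mem_centralizer_iff.2 fun g hg => ?_
      obtain ⟨y, hy⟩ := α.surjective ⟨g, hg⟩
      have h1 : y * z = z * y := Subtype.ext (Subgroup.mem_centralizer_iff.1 hz y y.2)
      have h2 := congrArg (fun t : S => ((α t : S) : Ω)) h1
      simpa [map_mul, hy] using h2
    suffices h : W.subgroupOf S ≤ (W.subgroupOf S).comap α.toMonoidHom from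
      Subgroup.mem_subgroupOf.1 (Subgroup.mem_comap.1 (h (Subgroup.mem_subgroupOf.2 hx : x ∈ W.subgroupOf S)))
    have hW' : W.subgroupOf S = Subgroup.closure {y : S | ∃ z : S, (z : Ω) ∈ Subgroup.centralizer (S : Set Ω) ∧ y = z ^ p ^ n} := by
      refine Subgroup.map_injective S.subtype_injective ?_
      rw [Subgroup.map_subgroupOf_eq_of_le hWS, MonoidHom.map_closure, hW]
      refine congrArg Subgroup.closure (Set.ext fun y => ?_)
      constructor
      · rintro ⟨z, hz, rfl⟩
        exact ⟨⟨z, hz.1⟩ ^ p ^ n, ⟨⟨z, hz.1⟩, hz.2, rfl⟩, rfl⟩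
      · rintro ⟨_, ⟨z, hz, rfl⟩, rfl⟩
        exact ⟨z, ⟨z.2, hz⟩, rfl⟩
    rw [hW', Subgroup.closure_le]
    rintro _ ⟨z, hz, rfl⟩
    rw [SetLike.mem_coe, Subgroup.mem_comap, MulEquiv.coe_toMonoidHom, map_pow]
    exact Subgroup.subset_closure ⟨α z, hZ z hz, rfl⟩
  -- proper fully normalised subgroups
  haveI : Finite R := H85.finite_of_le hR.le
  haveI : Finite (MulAut R) := Finite.of_injective _ DFunLike.coe_injective
  set E := H88.normalExtSystem F W hWS hWN
  by_cases hCR : centralizerIn S R ≤ R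
  swap
  · -- maps extend past the centraliser
    intro α hα
    obtain ⟨g, hgC, hgR⟩ := SetLike.not_le_iff_exists.1 hCR
    have hα' := (H85.mem_autGroup hR.le).1 hα
    obtain ⟨ψ, hψ, hext⟩ := H85.receptive_extend (H85.receptive_of_fullyNormalized hS hF hRn) hα'
    set T := extender S R (R.subtype.comp α.toMonoidHom)
    have hRT : R ≤ T := H85.le_extender hR.le fun x => H85.map_mem hα' x
    have hgT : g ∈ T := by
      have hgc := Subgroup.mem_centralizer_iff.1 hgC.2
      refine H85.mem_extender.2 ⟨hgC.1, H85.mem_normalizer_of_conj fun x hx => ?_, 1, one_mem _, fun x hx => ?_⟩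
      · rw [← hgc x hx, mul_inv_cancel_right]; exact hx
      · have : (⟨g * (x : Ω) * g⁻¹, hx⟩ : R) = x := Subtype.ext (by
          show g * (x : Ω) * g⁻¹ = x
          rw [← hgc x x.2, mul_inv_cancel_right])
        rw [this, one_mul, inv_one, mul_one]
    haveI : Finite T := H85.finite_of_le (H85.source_le hψ)
    have hlt : R < T := lt_of_le_of_ne hRT fun h => hgR (h ▸ hgT)
    exact (H85.mem_autGroup hR.le).2
      (H85.of_extend (hbig T (H88.card_lt_card_of_lt_sub hlt) hψ) hRT fun x => hext x x.2 (hRT x.2))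
  -- `Z(S) ≤ R`
  have hZR : S ⊓ Subgroup.centralizer (S : Set Ω) ≤ R := fun z hz => hCR ⟨hz.1,
    Subgroup.mem_centralizer_iff.2 fun x hx => Subgroup.mem_centralizer_iff.1 hz.2 x (hR.le hx)⟩
  let K : Subgroup (F.autGroup R) :=
    { carrier := {α | ∀ z : R, z ∈ Subgroup.center R → (α : MulAut R) (z ^ p ^ n) = z ^ p ^ n}
      one_mem' := fun z _ => rfl
      mul_mem' := fun {a b} ha hb z hz => by
        show (a : MulAut R) ((b : MulAut R) (z ^ p ^ n)) = _
        rw [hb z hz, ha z hz]
      inv_mem' := fun {a} ha z hz => by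
        show (a : MulAut R)⁻¹ (z ^ p ^ n) = _
        conv_lhs => rw [← ha z hz]
        exact MulAut.inv_apply_self _ _ _ }
  haveI : K.Normal := ⟨fun a ha b z hz => by
    show (b : MulAut R) ((a : MulAut R) ((b : MulAut R)⁻¹ (z ^ p ^ n))) = _
    have hz' : (b : MulAut R)⁻¹ z ∈ Subgroup.center R := by
      refine Subgroup.mem_center_iff.2 fun t => ((b : MulAut R)).injective ?_
      rw [map_mul, map_mul, MulAut.apply_inv_self, Subgroup.mem_center_iff.1 hz]
    rw [map_pow ((b : MulAut R)⁻¹), ha _ hz', map_pow, MulAut.apply_inv_self]⟩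
  have hKE : ∀ α ∈ K, ((α : F.autGroup R) : MulAut R) ∈ E.autGroup R := by
    intro α hα
    refine hin R hR.le (powerClosure_centre_le.trans hZR) _ α.2 fun x hx => ?_
    suffices h : ∀ y ∈ W, ∀ hy : y ∈ R, (α : MulAut R) ⟨y, hy⟩ = ⟨y, hy⟩ by
      rw [h x hx x.2]; exact hx
    intro y hy
    induction hy using Subgroup.closure_induction with
    | mem y hy =>
      obtain ⟨z, hz, rfl⟩ := hy
      intro hy
      have hzc : (⟨z, hZR hz⟩ : R) ∈ Subgroup.center R := Subgroup.mem_center_iff.2 fun t =>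
        Subtype.ext (Subgroup.mem_centralizer_iff.1 hz.2 t (hR.le t.2))
      exact hα _ hzc
    | one => intro hy; exact map_one _
    | mul a b ha hb iha ihb =>
      intro hy
      have ha' := (powerClosure_centre_le.trans hZR) ha
      have hb' := (powerClosure_centre_le.trans hZR) hb
      rw [show (⟨a * b, hy⟩ : R) = ⟨a, ha'⟩ * ⟨b, hb'⟩ from rfl, map_mul, iha, ihb]
    | inv a _ iha =>
      intro hy
      have ha' : a ∈ R := inv_mem_iff.1 hy
      rw [show (⟨a⁻¹, hy⟩ : R) = (⟨a, ha'⟩ : R)⁻¹ from rfl, map_inv, iha]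
  -- an outer element of order `p` modulo `R`
  obtain ⟨g₀, hg₀, hg₀R⟩ := H88.exists_mem_normalizerIn_not_mem hS hR
  obtain ⟨k, hk⟩ : ∃ k, g₀ ^ p ^ k ∈ R := by
    obtain ⟨k, hk⟩ := hS ⟨g₀, hg₀.1⟩
    exact ⟨k, by rw [show g₀ ^ p ^ k = 1 from congrArg Subtype.val hk]; exact one_mem _⟩
  obtain ⟨g, hgN, hgR, hgp⟩ : ∃ g ∈ normalizerIn S R, g ∉ R ∧ g ^ p ∈ R := by
    induction k with
    | zero => exact absurd (by simpa using hk) hg₀R
    | succ k ih =>
      by_cases h : g₀ ^ p ^ k ∈ R
      · exact ih h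
      · exact ⟨_, pow_mem hg₀ _, h, by rwa [← pow_mul, ← pow_succ]⟩
  refine H88.autGroup_le_of_kernel hS hF hRn (fun T hT ψ hψ => ?_) K hKE hgN hgR
    ⟨⟨H85.conjAut S R ⟨g, hgN⟩, H85.autInducedBy_le_autGroup F hR.le ?_⟩, ?_, fun x => rfl⟩
  · haveI : Finite T := H85.finite_of_le (H85.source_le hψ)
    exact hbig T (H88.card_lt_card_of_lt_sub hT) hψ
  · rw [← H85.conjAut_range]
    exact ⟨_, rfl⟩
  · intro z hz
    refine Subtype.ext ?_
    show g * ((z ^ p ^ n : R) : Ω) * g⁻¹ = _
    rw [SubmonoidClass.coe_pow]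
    refine commute_pow_of_class hcl (M := (Subgroup.center R).map R.subtype)
      ((Subgroup.map_subtype_le _).trans hR.le) ?_ hgN.1 ?_ ?_ ⟨z, hz, rfl⟩
    · rintro _ ⟨a, ha, rfl⟩ _ ⟨b, -, rfl⟩
      exact (congrArg Subtype.val (Subgroup.mem_center_iff.1 ha b)).symm
    · rintro _ ⟨a, ha, rfl⟩
      have hn := Subgroup.mem_normalizer_iff.1 hgN.2
      refine ⟨⟨_, (hn a).1 a.2⟩, Subgroup.mem_center_iff.2 fun t => Subtype.ext ?_, rfl⟩
      have ht : g⁻¹ * (t : Ω) * g ∈ R := (hn _).2 (by
        rw [show g * (g⁻¹ * (t : Ω) * g) * g⁻¹ = (t : Ω) by group]; exact t.2)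
      have h1 := congrArg Subtype.val (Subgroup.mem_center_iff.1 ha ⟨_, ht⟩)
      show (t : Ω) * (g * (a : Ω) * g⁻¹) = (g * (a : Ω) * g⁻¹) * t
      calc (t : Ω) * (g * (a : Ω) * g⁻¹) = g * ((g⁻¹ * (t : Ω) * g) * (a : Ω)) * g⁻¹ := by group
        _ = g * ((a : Ω) * (g⁻¹ * (t : Ω) * g)) * g⁻¹ := by
          exact congrArg (fun v => g * v * g⁻¹) h1
        _ = _ := by group
    · rintro _ ⟨a, ha, rfl⟩
      have h1 := congrArg Subtype.val (Subgroup.mem_center_iff.1 ha ⟨g ^ p, hgp⟩)
      rw [mul_inv_eq_iff_eq_mul]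
      exact h1

end fusion

end H34
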