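import Mathlib.Data.Int.ModEq
import Mathlib.Tactic.Ring
import Mathlib.Tactic.LinearCombination
import Mathlib.Algebra.Group.Int.Even
import Mathlib.Tactic.Linarith
import Mathlib.RingTheory.Coprime.Lemmas
import Mathlib.Algebra.Ring.Int.Parity

/-!
Square roots of `1` modulo powers of `2` and powers of odd integers.
-/

set_option autoImplicit false

namespace H34.TwoLinear

theorem eight_dvd_sq_sub_one {k : ℤ} (hk : Odd k) : (8 : ℤ) ∣ k * k - 1 := by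
  obtain ⟨m, rfl⟩ := hk
  obtain ⟨l, hl⟩ := Int.even_mul_succ_self m
  exact ⟨l, by linear_combination 4 * hl⟩

theorem two_pow_dvd_pow_sub_one {k : ℤ} (hk : Odd k) :
    ∀ i : ℕ, (2 : ℤ) ^ (i + 1) ∣ k ^ (2 ^ i) - 1 := by
  intro i
  induction i with
  | zero =>
    obtain ⟨m, rfl⟩ := hk
    exact ⟨m, by ring⟩
  | succ i ih =>
    obtain ⟨l, hl⟩ := ih
    refine ⟨l * (2 ^ i * l + 1), ?_⟩
    rw [pow_succ 2 i, pow_mul, sq]
    have h1 : k ^ 2 ^ i = 2 ^ (i + 1) * l + 1 := by linear_combination hl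
    rw [h1]
    ring

/-- The four square roots of `1` modulo `2^e`. -/
theorem sq_one_cases {e : ℕ} {k : ℤ} (hk : Odd k) (h : (2 : ℤ) ^ e ∣ k * k - 1) :
    (2 : ℤ) ^ e ∣ k - 1 ∨ (2 : ℤ) ^ e ∣ k + 1 ∨
      (3 ≤ e ∧ ((2 : ℤ) ^ e ∣ k - (1 + 2 ^ (e - 1)) ∨ (2 : ℤ) ^ e ∣ k - (-1 + 2 ^ (e - 1)))) := by
  obtain ⟨m, rfl⟩ := hk
  rcases le_or_gt e 2 with he | he
  · rcases Int.even_or_odd m with ⟨j, rfl⟩ | ⟨j, rfl⟩
    · exact Or.inl ((pow_dvd_pow 2 he).trans ⟨j, by ring⟩)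
    · exact Or.inr (Or.inl ((pow_dvd_pow 2 he).trans ⟨j + 1, by ring⟩))
  obtain ⟨d, rfl⟩ : ∃ d, e = d + 3 := ⟨e - 3, by omega⟩
  rw [show d + 3 - 1 = d + 2 by omega]
  obtain ⟨l, hl⟩ := h
  have hl' : m * (m + 1) = 2 ^ (d + 1) * l := by
    have h4 : (4 : ℤ) * (m * (m + 1)) = 4 * (2 ^ (d + 1) * l) := by
      rw [show (2 : ℤ) ^ (d + 3) = 4 * 2 ^ (d + 1) by ring] at hl
      linear_combination hl
    linarith
  have hdvd : (2 : ℤ) ^ (d + 1) ∣ m ∨ (2 : ℤ) ^ (d + 1) ∣ m + 1 := by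
    rcases Int.even_or_odd m with hm | hm
    · refine Or.inl ?_
      have hco : IsCoprime ((2 : ℤ) ^ (d + 1)) (m + 1) := by
        obtain ⟨j, rfl⟩ := hm
        exact (show IsCoprime (2 : ℤ) (j + j + 1) from ⟨-j, 1, by ring⟩).pow_left
      exact hco.dvd_of_dvd_mul_right ⟨l, hl'⟩
    · refine Or.inr ?_
      have hco : IsCoprime ((2 : ℤ) ^ (d + 1)) m := by
        obtain ⟨j, rfl⟩ := hm
        exact (show IsCoprime (2 : ℤ) (2 * j + 1) from ⟨-j, 1, by ring⟩).pow_left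
      exact hco.dvd_of_dvd_mul_left ⟨l, hl'⟩
  rcases hdvd with ⟨r, rfl⟩ | ⟨r, hr⟩
  · rcases Int.even_or_odd r with ⟨s, rfl⟩ | ⟨s, rfl⟩
    · exact Or.inl ⟨s, by ring⟩
    · exact Or.inr (Or.inr ⟨by omega, Or.inl ⟨s, by ring⟩⟩)
  · obtain rfl : m = 2 ^ (d + 1) * r - 1 := by linarith
    rcases Int.even_or_odd r with ⟨s, rfl⟩ | ⟨s, rfl⟩
    · exact Or.inr (Or.inl ⟨s, by ring⟩)
    · exact Or.inr (Or.inr ⟨by omega, Or.inr ⟨s, by ring⟩⟩)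

/-- An odd number of multiplicative order above `2` modulo `2^e` has `1 + 2^(e-1)` as a power. -/
theorem exists_pow_of_not_sq_one {e : ℕ} {k : ℤ} (hk : Odd k) (h : ¬ (2 : ℤ) ^ e ∣ k * k - 1) :
    3 ≤ e ∧ ∃ i : ℕ, (2 : ℤ) ^ e ∣ k ^ i - (1 + 2 ^ (e - 1)) := by
  have he : 3 ≤ e := by
    by_contra hlt
    exact h ((pow_dvd_pow 2 (show e ≤ 3 by omega)).trans (eight_dvd_sq_sub_one hk))
  refine ⟨he, ?_⟩
  have hex : ∃ m, (2 : ℤ) ^ e ∣ k ^ (2 ^ (m + 1)) - 1 :=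
    ⟨e, (pow_dvd_pow 2 (show e ≤ e + 1 + 1 by omega)).trans (two_pow_dvd_pow_sub_one hk (e + 1))⟩
  classical
  have hm := Nat.find_spec hex
  set m := Nat.find hex with hmdef
  have hm0 : m ≠ 0 := fun h0 => by
    rw [h0] at hm
    exact h (by simpa [sq] using hm)
  obtain ⟨m', hm'⟩ : ∃ m', m = m' + 1 := ⟨m - 1, by omega⟩
  have hmin : ¬ (2 : ℤ) ^ e ∣ k ^ (2 ^ (m' + 1)) - 1 := Nat.find_min hex (by omega)
  rw [hm'] at hm
  set z := k ^ (2 ^ (m' + 1)) with hz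
  have hzz : z * z = k ^ (2 ^ (m' + 1 + 1)) := by rw [hz, ← pow_add, pow_succ 2 (m' + 1), mul_two]
  have hzodd : Odd z := hk.pow
  have h8 : (8 : ℤ) ∣ z - 1 := by
    have : z = k ^ (2 ^ m') * k ^ (2 ^ m') := by rw [hz, ← pow_add, pow_succ, mul_two]
    rw [this]
    exact eight_dvd_sq_sub_one hk.pow
  refine ⟨2 ^ (m' + 1), ?_⟩
  have h4e : (4 : ℤ) ∣ 2 ^ e := pow_dvd_pow 2 (show 2 ≤ e by omega)
  have h4c : (4 : ℤ) ∣ 2 ^ (e - 1) := pow_dvd_pow 2 (show 2 ≤ e - 1 by omega)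
  have h4z : (4 : ℤ) ∣ z - 1 := dvd_trans ⟨2, by norm_num⟩ h8
  rcases sq_one_cases (e := e) hzodd (hzz ▸ hm) with h1 | h1 | ⟨-, h1 | h1⟩
  · exact absurd h1 hmin
  · exfalso
    have := dvd_sub (h4e.trans h1) h4z
    ring_nf at this
    omega
  · exact h1
  · exfalso
    have := dvd_add (dvd_sub (h4e.trans h1) h4z) h4c
    ring_nf at this
    omega

end H34.TwoLinear
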