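import Mathlib
import Cfsg.Agent.H34.TwoLinearArith
import Cfsg.Agent.H6.Basic
import Cfsg.Agent.H30.Basic
import Cfsg.Agent.H2.UniqueSubgroup

/-!
A `2`-group of linear maps over a finite field of odd characteristic all of whose subgroups of index
at most `2` act irreducibly lives in dimension at most `2`.
-/

set_option autoImplicit false

open scoped Polynomial

namespace H34.TwoLinear

variable {K : Type*} [Field K] {W : Type*} [AddCommGroup W] [Module K W]
variable {T : Type*} [Group T] [Finite T]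

/-- Every subgroup of index at most `2` acts irreducibly. -/
def Strong (τ : T →* Module.End K W) : Prop :=
  ∀ S0 : Subgroup T, S0.index ≤ 2 → ∀ U : Submodule K W,
    (∀ s ∈ S0, ∀ u ∈ U, τ s u ∈ U) → U = ⊥ ∨ U = ⊤

variable {τ : T →* Module.End K W}

/-- An element of order `2` with centraliser of index at most `2` acts as `-1`. -/
theorem eq_neg_one (hirr : Strong τ) {y : T} (hy : y * y = 1) (h1 : τ y ≠ 1)
    (hidx : (Subgroup.centralizer ({y} : Set T)).index ≤ 2) : τ y = -1 := by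
  rcases hirr _ hidx (LinearMap.ker (τ y - 1)) (fun s hs u hu => by
    rw [LinearMap.mem_ker, LinearMap.sub_apply, Module.End.one_apply, sub_eq_zero] at hu ⊢
    rw [← Module.End.mul_apply, ← map_mul, ← Subgroup.mem_centralizer_singleton_iff.1 hs, map_mul,
      Module.End.mul_apply, hu]) with h | h
  · refine LinearMap.ext fun v => ?_
    have : τ y v + v ∈ LinearMap.ker (τ y - 1) := by
      rw [LinearMap.mem_ker, LinearMap.sub_apply, Module.End.one_apply, map_add,
        ← Module.End.mul_apply, ← map_mul, hy, map_one, Module.End.one_apply]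
      abel
    rw [h, Submodule.mem_bot] at this
    simpa using eq_neg_of_add_eq_zero_left this
  · exact absurd (LinearMap.ext fun v => by
      simpa [sub_eq_zero] using LinearMap.ext_iff.1 (LinearMap.ker_eq_top.1 h) v) h1

theorem index_le_two_of_conj {y y' : T} (h : ∀ t : T, t * y * t⁻¹ = y ∨ t * y * t⁻¹ = y') :
    (Subgroup.centralizer ({y} : Set T)).index ≤ 2 := by
  classical
  have h2 : Nat.card {w : T // w = y ∨ w = y'} ≤ 2 := by
    rw [show Nat.card {w : T // w = y ∨ w = y'} = ({y, y'} : Set T).ncard from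
      (Nat.card_congr (Equiv.refl _)).trans (Nat.card_coe_set_eq _)]
    exact (Set.ncard_insert_le _ _).trans (by simp)
  refine le_trans ?_ h2
  refine Nat.card_le_card_of_injective (fun c : T ⧸ Subgroup.centralizer ({y} : Set T) =>
    Quotient.liftOn' c (fun t : T => (⟨t * y * t⁻¹, h t⟩ : {w : T // w = y ∨ w = y'}))
      fun a b hab => ?_) ?_
  · rw [QuotientGroup.leftRel_apply, Subgroup.mem_centralizer_singleton_iff] at hab
    refine Subtype.ext ?_
    show a * y * a⁻¹ = b * y * b⁻¹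
    calc a * y * a⁻¹ = a * (y * (a⁻¹ * b)) * b⁻¹ := by group
      _ = a * ((a⁻¹ * b) * y) * b⁻¹ := by rw [hab]
      _ = b * y * b⁻¹ := by group
  · intro c c' hcc
    induction c using QuotientGroup.induction_on with
    | H a =>
      induction c' using QuotientGroup.induction_on with
      | H b =>
        have he : a * y * a⁻¹ = b * y * b⁻¹ := congrArg Subtype.val hcc
        refine QuotientGroup.eq.2 (Subgroup.mem_centralizer_singleton_iff.2 ?_)
        calc a⁻¹ * b * y = a⁻¹ * (b * y * b⁻¹) * b := by group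
          _ = a⁻¹ * (a * y * a⁻¹) * b := by rw [he]
          _ = y * (a⁻¹ * b) := by group

/-- A cyclic self-centralising normal subgroup of index at most `2`, inducing only inversion-like
automorphisms. -/
theorem exists_cyclic (hτ : Function.Injective τ) (hT : IsPGroup 2 T) (hirr : Strong τ) :
    ∃ (a : T) (e : ℕ), orderOf a = 2 ^ e ∧ (Subgroup.zpowers a).index ≤ 2 ∧
      ∀ t : T, t ∉ Subgroup.zpowers a → ∃ k : ℤ, t * a * t⁻¹ = a ^ k ∧
        ((2 : ℤ) ^ e ∣ k + 1 ∨ (3 ≤ e ∧ (2 : ℤ) ^ e ∣ k - (-1 + 2 ^ (e - 1)))) := by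
  haveI : Fact (Nat.Prime 2) := ⟨Nat.prime_two⟩
  obtain ⟨A, -, hAn, hAc, hmax⟩ :=
    H6.exists_maximal_normal_abelian (B := (⊥ : Subgroup T)) inferInstance inferInstance
  haveI := hAn
  have hCA := H6.centralizer_eq_of_maximal_normal_abelian hT hAc hmax
  have hinv : ∀ y z : T, y ≠ 1 → z ≠ 1 → y * y = 1 → z * z = 1 →
      (Subgroup.centralizer ({y} : Set T)).index ≤ 2 →
      (Subgroup.centralizer ({z} : Set T)).index ≤ 2 → y = z := by
    intro y z hy1 hz1 hyy hzz hyi hzi
    refine hτ ?_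
    rw [eq_neg_one hirr hyy (fun h => hy1 (hτ (h.trans (map_one τ).symm))) hyi,
      eq_neg_one hirr hzz (fun h => hz1 (hτ (h.trans (map_one τ).symm))) hzi]
  have hcent : ∀ z : T, z ∈ Subgroup.center T → (Subgroup.centralizer ({z} : Set T)).index ≤ 2 :=
    fun z hz => by
      rw [show Subgroup.centralizer ({z} : Set T) = ⊤ from eq_top_iff.2 fun g _ =>
        Subgroup.mem_centralizer_singleton_iff.2 (Subgroup.mem_center_iff.1 hz g), Subgroup.index_top]
      norm_num
  -- `A` is cyclic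
  have hcyc : IsCyclic A := by
    letI : CommGroup A := { (inferInstance : Group A) with mul_comm := fun a b => hAc.is_comm.comm a b }
    refine H2.isCyclic_of_pow_ker_le (p := 2) (hT.to_subgroup A) ?_
    by_contra hlt
    set Ω : Subgroup T := ((powMonoidHom 2 : A →* A).ker).map A.subtype with hΩ
    have hΩmem : ∀ w, w ∈ Ω ↔ w ∈ A ∧ w * w = 1 := fun w => by
      rw [hΩ, Subgroup.mem_map]
      constructor
      · rintro ⟨⟨x, hx⟩, hx2, rfl⟩
        exact ⟨hx, by simpa [sq, Subtype.ext_iff] using hx2⟩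
      · rintro ⟨hw, hw2⟩
        exact ⟨⟨w, hw⟩, by simp [sq, Subtype.ext_iff, hw2], rfl⟩
    have hΩn : Ω.Normal := ⟨fun w hw t => by
      rw [hΩmem] at hw ⊢
      refine ⟨hAn.conj_mem w hw.1 t, ?_⟩
      calc t * w * t⁻¹ * (t * w * t⁻¹) = t * (w * w) * t⁻¹ := by group
        _ = 1 := by rw [hw.2]; group⟩
    have hΩcard : 2 < Nat.card Ω := by
      rw [hΩ, Subgroup.card_map_of_injective A.subtype_injective]
      omega
    have hΩne : Ω ≠ ⊥ := fun h => by rw [h, Subgroup.card_bot] at hΩcard; omega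
    obtain ⟨⟨z, hzΩ, hzc⟩, hz1'⟩ := (Subgroup.ne_bot_iff_exists_ne_one (H := Ω ⊓ Subgroup.center T)).1
      (H30.inf_center_ne_bot hT hΩn hΩne)
    have hz1 : z ≠ 1 := fun h => hz1' (Subtype.ext h)
    have hzz : z * z = 1 := ((hΩmem z).1 hzΩ).2
    set Z : Subgroup T := Subgroup.zpowers z
    haveI : Z.Normal := ⟨fun w hw t => by
      have hwc : w ∈ Subgroup.center T := Subgroup.zpowers_le.2 hzc hw
      rwa [(Subgroup.mem_center_iff.1 hwc t), mul_inv_cancel_right]⟩
    have hZ2 : ∀ w ∈ Z, w = 1 ∨ w = z := fun w hw => by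
      obtain ⟨i, rfl⟩ := Subgroup.mem_zpowers_iff.1 hw
      rcases Int.even_or_odd i with ⟨j, rfl⟩ | ⟨j, rfl⟩
      · left; rw [← two_mul, zpow_mul, zpow_two, hzz, one_zpow]
      · right; rw [zpow_add_one, zpow_mul, zpow_two, hzz, one_zpow, one_mul]
    have hnot : ¬ Ω ≤ Z := fun h => by
      have h1 := Subgroup.card_le_of_le h
      rw [Nat.card_zpowers, orderOf_eq_prime (by rwa [sq]) hz1] at h1
      omega
    haveI := hΩn
    have hbot : Ω.map (QuotientGroup.mk' Z) ≠ ⊥ := fun h => by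
      rw [Subgroup.map_eq_bot_iff, QuotientGroup.ker_mk'] at h
      exact hnot h
    obtain ⟨⟨_, ⟨⟨y, hyΩ, rfl⟩, hyc⟩⟩, hy1⟩ :=
      (Subgroup.ne_bot_iff_exists_ne_one (H := Ω.map (QuotientGroup.mk' Z) ⊓ Subgroup.center (T ⧸ Z))).1
        (H30.inf_center_ne_bot (hT.to_quotient Z)
          (hΩn.map _ (QuotientGroup.mk'_surjective Z)) hbot)
    have hyZ : y ∉ Z := fun h => hy1 (Subtype.ext ((QuotientGroup.eq_one_iff y).2 h))
    refine hyZ ((hinv y z (fun h => hyZ (h ▸ one_mem _)) hz1 ((hΩmem y).1 hyΩ).2 hzz ?_ (hcent z hzc))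
      ▸ Subgroup.mem_zpowers z)
    refine index_le_two_of_conj (y' := z * y) fun t => ?_
    have h1 : t * y * t⁻¹ * y⁻¹ ∈ Z := by
      rw [← QuotientGroup.eq_one_iff]
      have h2 := Subgroup.mem_center_iff.1 hyc (QuotientGroup.mk' Z t)
      simp only [QuotientGroup.mk'_apply] at h2
      simp [h2]
    rcases hZ2 _ h1 with h2 | h2
    · exact Or.inl (mul_inv_eq_one.1 h2)
    · exact Or.inr (mul_inv_eq_iff_eq_mul.1 h2)
  obtain ⟨⟨a, haA⟩, hgen⟩ := hcyc.exists_generator
  have hAa : Subgroup.zpowers a = A := by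
    refine le_antisymm (Subgroup.zpowers_le.2 haA) fun w hw => ?_
    obtain ⟨i, hi⟩ := Subgroup.mem_zpowers_iff.1 (hgen ⟨w, hw⟩)
    exact ⟨i, by simpa [Subtype.ext_iff] using hi⟩
  obtain ⟨e, he⟩ := (IsPGroup.iff_orderOf.1 hT) a
  have hk : ∀ t : T, ∃ k : ℤ, t * a * t⁻¹ = a ^ k := fun t => by
    obtain ⟨k, hk⟩ := Subgroup.mem_zpowers_iff.1 (hAa ▸ hAn.conj_mem a haA t :
      t * a * t⁻¹ ∈ Subgroup.zpowers a)
    exact ⟨k, hk.symm⟩
  have hzeq : ∀ i j : ℤ, a ^ i = a ^ j ↔ (2 : ℤ) ^ e ∣ i - j := fun i j => by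
    rw [zpow_eq_zpow_iff_modEq, Int.modEq_comm, Int.modEq_iff_dvd, he]
    push_cast
    rfl
  have hcomm : ∀ t : T, t * a * t⁻¹ = a → t ∈ A := fun t ht => by
    rw [← hCA]
    refine Subgroup.mem_centralizer_iff.2 fun w hw => ?_
    rw [SetLike.mem_coe, ← hAa] at hw
    obtain ⟨i, rfl⟩ := Subgroup.mem_zpowers_iff.1 hw
    exact ((show Commute t a from mul_inv_eq_iff_eq_mul.1 ht).zpow_right i).eq.symm
  have hconj : ∀ (t : T) (k : ℤ), t * a * t⁻¹ = a ^ k → ∀ i : ℤ, t * a ^ i * t⁻¹ = a ^ (k * i) :=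
    fun t k h i => by rw [← conj_zpow, h, zpow_mul]
  have hpow : ∀ (t : T) (k : ℤ), t * a * t⁻¹ = a ^ k → ∀ n : ℕ,
      t ^ n * a * (t ^ n)⁻¹ = a ^ (k ^ n) := fun t k h n => by
    induction n with
    | zero => simp
    | succ n ih =>
      rw [pow_succ' t n, mul_inv_rev, show t * t ^ n * a * ((t ^ n)⁻¹ * t⁻¹) =
        t * (t ^ n * a * (t ^ n)⁻¹) * t⁻¹ by group, ih, hconj t k h, pow_succ']
  have hodd : ∀ (t : T) (k : ℤ), t * a * t⁻¹ = a ^ k → e ≠ 0 → Odd k := by
    intro t k h he0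
    rw [← Int.not_even_iff_odd]
    rintro ⟨j, rfl⟩
    have h1 : (t * a * t⁻¹) ^ ((2 : ℤ) ^ (e - 1)) = 1 := by
      rw [h, ← zpow_mul, ← zpow_zero a, hzeq]
      refine ⟨j, ?_⟩
      rw [sub_zero, show e = e - 1 + 1 by omega, pow_succ, show e - 1 + 1 - 1 = e - 1 by omega]
      ring
    rw [conj_zpow, conj_eq_one_iff, ← zpow_zero a, hzeq, sub_zero,
      pow_dvd_pow_iff (by norm_num) (by decide)] at h1
    omega
  -- no element induces `1 + 2^(e-1)`
  have hbad : ∀ (w : T) (k : ℤ), 3 ≤ e → w * a * w⁻¹ = a ^ k →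
      ¬ (2 : ℤ) ^ e ∣ k - (1 + 2 ^ (e - 1)) := by
    intro w k he3 hwk hkc
    obtain ⟨d, rfl⟩ : ∃ d, e = d + 3 := ⟨e - 3, by omega⟩
    rw [show d + 3 - 1 = d + 2 by omega] at hkc
    set c : ℤ := 2 ^ (d + 2) with hc
    have hwk' : w * a * w⁻¹ = a ^ (1 + c) := hwk.trans ((hzeq _ _).2 hkc)
    have hwi := hconj w _ hwk'
    have hwA : w ∉ A := fun h => by
      rw [← hCA] at h
      have h1 := Subgroup.mem_centralizer_iff.1 h a haA
      rw [show w * a * w⁻¹ = a from mul_inv_eq_iff_eq_mul.2 h1.symm, eq_comm] at hwk'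
      have h2 : (2 : ℤ) ^ (d + 3) ∣ 1 + c - 1 := (hzeq _ _).1 (by rw [hwk', zpow_one])
      rw [add_sub_cancel_left, hc, pow_dvd_pow_iff (by norm_num) (by decide)] at h2
      omega
    have hw2 : w * w ∈ A := hcomm _ (by
      rw [mul_inv_rev, show w * w * a * (w⁻¹ * w⁻¹) = w * (w * a * w⁻¹) * w⁻¹ by group, hwk', hwi]
      conv_rhs => rw [← zpow_one a]
      rw [hzeq]
      exact ⟨1 + 2 ^ (d + 1), by rw [hc]; ring⟩)
    obtain ⟨i, hi⟩ := Subgroup.mem_zpowers_iff.1 (hAa ▸ hw2 : w * w ∈ Subgroup.zpowers a)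
    have hieven : Even i := by
      have h1 : a ^ ((1 + c) * i) = a ^ i := by rw [← hwi, hi]; group
      rw [hzeq, show (1 + c) * i - i = c * i by ring, hc, pow_succ (2 : ℤ) (d + 2)] at h1
      exact (even_iff_two_dvd.2 (Int.dvd_of_mul_dvd_mul_left (pow_ne_zero _ (by norm_num)) h1))
    obtain ⟨j, rfl⟩ := hieven
    set l : ℤ := -j * (1 - 2 ^ (d + 1)) with hl
    set y := a ^ l * w with hy
    have hyy : y * y = 1 := by
      rw [hy, show a ^ l * w * (a ^ l * w) = a ^ l * (w * a ^ l * w⁻¹) * (w * w) by group,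
        hwi, ← hi, ← zpow_add, ← zpow_add, ← zpow_zero a, hzeq]
      exact ⟨2 ^ d * j, by rw [hl, hc]; ring⟩
    have hyA : y ∉ A := fun h => hwA (by
      have : w = (a ^ l)⁻¹ * y := by rw [hy]; group
      rw [this]; exact A.mul_mem (A.inv_mem (A.zpow_mem haA _)) h)
    set z := a ^ c with hz
    have hzz : z * z = 1 := by
      rw [hz, ← zpow_add, ← zpow_zero a, hzeq]; exact ⟨1, by rw [hc]; ring⟩
    have hz1 : z ≠ 1 := fun h => by
      rw [hz, ← zpow_zero a, hzeq, sub_zero, hc, pow_dvd_pow_iff (by norm_num) (by decide)] at h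
      omega
    have hzcen : z ∈ Subgroup.center T := Subgroup.mem_center_iff.2 fun t => by
      obtain ⟨kt, hkt⟩ := hk t
      refine mul_inv_eq_iff_eq_mul.1 ?_
      obtain ⟨m, rfl⟩ := hodd t kt hkt (by omega)
      rw [hz, hconj t _ hkt, hzeq]
      exact ⟨m, by rw [hc]; ring⟩
    refine hyA ((hinv y z (fun h => hyA (h ▸ one_mem _)) hz1 hyy hzz ?_ (hcent z hzcen)) ▸
      A.zpow_mem haA _)
    refine index_le_two_of_conj (y' := z * y) fun t => ?_
    have hyc : ∀ i : ℤ, y * a ^ i * y⁻¹ = a ^ ((1 + c) * i) := fun i => by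
      rw [hy, show a ^ l * w * a ^ i * (a ^ l * w)⁻¹ = a ^ l * (w * a ^ i * w⁻¹) * (a ^ l)⁻¹ by group,
        hwi]
      group
    obtain ⟨kt', hkt'⟩ := hk t⁻¹
    rw [inv_inv] at hkt'
    obtain ⟨kt, hkt⟩ := hk t
    have hkk : a ^ (kt * kt') = a := by
      rw [← hconj t kt hkt, ← hkt']; group
    have hty : ∀ i : ℤ, t * y * t⁻¹ * a ^ i * (t * y * t⁻¹)⁻¹ = a ^ ((1 + c) * i) := fun i => by
      rw [show t * y * t⁻¹ * a ^ i * (t * y * t⁻¹)⁻¹ =
        t * (y * (t⁻¹ * a ^ i * t⁻¹⁻¹) * y⁻¹) * t⁻¹ by group, hconj t⁻¹ kt' (by rw [inv_inv]; exact hkt'),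
        hyc, hconj t kt hkt, show kt * ((1 + c) * (kt' * i)) = kt * kt' * ((1 + c) * i) by ring,
        zpow_mul, hkk]
    obtain ⟨m, hm⟩ := Subgroup.mem_zpowers_iff.1 (hAa ▸ hcomm (y⁻¹ * (t * y * t⁻¹)) (by
      have h1 := hty 1
      rw [← hyc 1] at h1
      simp only [zpow_one] at h1
      rw [show y⁻¹ * (t * y * t⁻¹) * a * (y⁻¹ * (t * y * t⁻¹))⁻¹ =
        y⁻¹ * (t * y * t⁻¹ * a * (t * y * t⁻¹)⁻¹) * y by group, h1]
      group) : y⁻¹ * (t * y * t⁻¹) ∈ Subgroup.zpowers a)
    have htyy : t * y * t⁻¹ = y * a ^ m := by rw [hm]; group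
    have hsq : (t * y * t⁻¹) * (t * y * t⁻¹) = 1 := by
      rw [show t * y * t⁻¹ * (t * y * t⁻¹) = t * (y * y) * t⁻¹ by group, hyy]; group
    rw [htyy, show y * a ^ m * (y * a ^ m) = (y * a ^ m * y⁻¹) * (y * y) * a ^ m by group, hyy,
      mul_one, hyc, ← zpow_add, ← zpow_zero a, hzeq, sub_zero,
      show (1 + c) * m + m = 2 * ((1 + 2 ^ (d + 1)) * m) by rw [hc]; ring,
      pow_succ' (2 : ℤ) (d + 2)] at hsq
    have hdm : (2 : ℤ) ^ (d + 2) ∣ m := by
      have hco : IsCoprime ((2 : ℤ) ^ (d + 2)) (1 + 2 ^ (d + 1)) :=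
        (show IsCoprime (2 : ℤ) (1 + 2 ^ (d + 1)) from ⟨-2 ^ d, 1, by ring⟩).pow_left
      exact hco.dvd_of_dvd_mul_left (Int.dvd_of_mul_dvd_mul_left (by norm_num) hsq)
    obtain ⟨r, rfl⟩ := hdm
    rcases Int.even_or_odd r with ⟨r', rfl⟩ | ⟨r', rfl⟩
    · left
      rw [htyy, show a ^ (2 ^ (d + 2) * (r' + r') : ℤ) = 1 from ?_, mul_one]
      rw [← zpow_zero a, hzeq]; exact ⟨r', by ring⟩
    · right
      rw [htyy, show a ^ (2 ^ (d + 2) * (2 * r' + 1) : ℤ) = z from ?_,
        Subgroup.mem_center_iff.1 hzcen]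
      rw [hz, hzeq]; exact ⟨r', by rw [hc]; ring⟩
  have hsq : ∀ (t : T) (k : ℤ), t * a * t⁻¹ = a ^ k → (2 : ℤ) ^ e ∣ k * k - 1 := by
    intro t k h
    rcases Nat.eq_zero_or_pos e with rfl | he0
    · simp
    by_contra hne
    obtain ⟨he3, i, hi⟩ := exists_pow_of_not_sq_one (hodd t k h (by omega)) hne
    exact hbad (t ^ i) _ he3 (hpow t k h i) hi
  have hform : ∀ t : T, t ∉ A → ∀ k : ℤ, t * a * t⁻¹ = a ^ k →
      (2 : ℤ) ^ e ∣ k + 1 ∨ (3 ≤ e ∧ (2 : ℤ) ^ e ∣ k - (-1 + 2 ^ (e - 1))) := by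
    intro t ht k hkk
    have he0 : e ≠ 0 := fun h0 => by
      subst h0
      rw [pow_zero, orderOf_eq_one_iff] at he
      exact ht (hcomm t (by rw [he]; group))
    rcases sq_one_cases (hodd t k hkk he0) (hsq t k hkk) with h1 | h1 | ⟨he3, h1 | h1⟩
    · exact absurd (hcomm t (hkk.trans (((hzeq k 1).2 h1).trans (zpow_one a)))) ht
    · exact Or.inl h1
    · exact absurd h1 (hbad t k he3 hkk)
    · exact Or.inr ⟨he3, h1⟩
  refine ⟨a, e, he, ?_, fun t ht => ?_⟩
  · rw [hAa]
    by_cases htop : A = ⊤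
    · rw [htop, Subgroup.index_top]; norm_num
    obtain ⟨t, -, ht⟩ := SetLike.exists_of_lt (lt_top_iff_ne_top.2 htop)
    refine le_of_eq (Subgroup.index_eq_two_iff.2 ⟨t, fun b => ?_⟩)
    by_cases hb : b ∈ A
    · exact Or.inr ⟨hb, fun h => ht (by simpa using A.mul_mem (A.inv_mem hb) h)⟩
    refine Or.inl ⟨?_, hb⟩
    obtain ⟨kt, hkt⟩ := hk t
    obtain ⟨kb, hkb⟩ := hk b
    by_contra hbt
    have hprod : b * t * a * (b * t)⁻¹ = a ^ (kb * kt) := by
      rw [show b * t * a * (b * t)⁻¹ = b * (t * a * t⁻¹) * b⁻¹ by group, hkt, hconj b kb hkb]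
    have hA' := hform _ hbt _ hprod
    have hbk := hform b hb kb hkb
    have htk := hform t ht kt hkt
    -- the product of two such residues is never of the same kind
    rcases Nat.lt_or_ge e 2 with he2 | he2
    · refine hb (hcomm b (hkb.trans (((hzeq kb 1).2 ?_).trans (zpow_one a))))
      rcases hbk with h | ⟨h, -⟩
      · have h2 : (2 : ℤ) ^ e ∣ 2 := (pow_dvd_pow 2 (show e ≤ 1 by omega)).trans (dvd_of_eq (pow_one 2))
        have := dvd_sub h h2
        rwa [show kb + 1 - 2 = kb - 1 by ring] at this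
      · omega
    have h4 : (4 : ℤ) ∣ 2 ^ e := pow_dvd_pow 2 he2
    have hres : ∀ x : ℤ, ((2 : ℤ) ^ e ∣ x + 1 ∨ (3 ≤ e ∧ (2 : ℤ) ^ e ∣ x - (-1 + 2 ^ (e - 1)))) →
        (4 : ℤ) ∣ x + 1 := by
      rintro x (h | ⟨he3, h⟩)
      · exact h4.trans h
      · have h4c : (4 : ℤ) ∣ 2 ^ (e - 1) := pow_dvd_pow 2 (show 2 ≤ e - 1 by omega)
        have := dvd_add (h4.trans h) h4c
        rwa [show x - (-1 + 2 ^ (e - 1)) + (2 : ℤ) ^ (e - 1) = x + 1 by ring] at this
    obtain ⟨u, hu⟩ := hres _ hbk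
    obtain ⟨v, hv⟩ := hres _ htk
    obtain ⟨r, hr⟩ := hres _ hA'
    obtain rfl : kb = 4 * u - 1 := by linarith
    obtain rfl : kt = 4 * v - 1 := by linarith
    ring_nf at hr
    omega
  · obtain ⟨k, hkk⟩ := hk t
    exact ⟨k, hkk, hform t (hAa ▸ ht) k hkk⟩

/-- An endomorphism without invariant subspaces has irreducible minimal polynomial. -/
theorem minpoly_irreducible [FiniteDimensional K W] [Nontrivial W] {b : Module.End K W}
    (hb : ∀ U : Submodule K W, (∀ u ∈ U, b u ∈ U) → U = ⊥ ∨ U = ⊤) : Irreducible (minpoly K b) := by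
  have hint : IsIntegral K b := Algebra.IsIntegral.isIntegral b
  refine ⟨minpoly.not_isUnit K b, fun g h hgh => ?_⟩
  have hcomm : ∀ u, b (Polynomial.aeval b g u) = Polynomial.aeval b g (b u) := fun u => by
    rw [← Module.End.mul_apply, ← Module.End.mul_apply]
    congr 1
    have h1 := congrArg (Polynomial.aeval b) (Polynomial.X_mul (p := g))
    rwa [map_mul, map_mul, Polynomial.aeval_X] at h1
  have hne : g ≠ 0 ∧ h ≠ 0 := by
    constructor <;> rintro rfl <;> exact minpoly.ne_zero hint (by simpa using hgh)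
  have hdeg : (minpoly K b).natDegree = g.natDegree + h.natDegree := by
    rw [hgh, Polynomial.natDegree_mul hne.1 hne.2]
  have hz : ∀ p : K[X], p ≠ 0 → Polynomial.aeval b p = 0 → (minpoly K b).natDegree ≤ p.natDegree :=
    fun p hp hp' => Polynomial.natDegree_le_of_dvd (minpoly.dvd K b hp') hp
  rcases hb (LinearMap.ker (Polynomial.aeval b g)) (fun u hu => by
    rw [LinearMap.mem_ker] at hu ⊢
    rw [← hcomm, hu, map_zero]) with hk | hk
  · left
    have h0 : Polynomial.aeval b h = 0 := LinearMap.ext fun u => by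
      have : Polynomial.aeval b h u ∈ LinearMap.ker (Polynomial.aeval b g) := by
        rw [LinearMap.mem_ker, ← Module.End.mul_apply, ← map_mul, ← hgh, minpoly.aeval]; rfl
      rw [hk, Submodule.mem_bot] at this
      simpa using this
    have := hz h hne.2 h0
    exact Polynomial.isUnit_iff_degree_eq_zero.2
      ((Polynomial.degree_eq_iff_natDegree_eq hne.1).2 (show g.natDegree = 0 by omega))
  · right
    have := hz g hne.1 (LinearMap.ker_eq_top.1 hk)
    exact Polynomial.isUnit_iff_degree_eq_zero.2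
      ((Polynomial.degree_eq_iff_natDegree_eq hne.2).2 (show h.natDegree = 0 by omega))

/-- The main bound: dimension at most `2`. -/
theorem finrank_le_two [Finite K] [FiniteDimensional K W] (hK : Odd (Nat.card K))
    (hτ : Function.Injective τ) (hT : IsPGroup 2 T) (hirr : Strong τ) :
    Module.finrank K W ≤ 2 := by
  classical
  rcases subsingleton_or_nontrivial W with hW | hW
  · rw [Module.finrank_zero_of_subsingleton]; omega
  obtain ⟨a, e, he, hidx, hform⟩ := exists_cyclic hτ hT hirr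
  haveI := Fintype.ofFinite K
  set q := Fintype.card K with hq
  have hqodd : Odd q := by rwa [Nat.card_eq_fintype_card] at hK
  set b := τ a with hb
  have hint : IsIntegral K b := Algebra.IsIntegral.isIntegral b
  have hbinv : ∀ U : Submodule K W, (∀ u ∈ U, b u ∈ U) → ∀ n : ℕ, ∀ u ∈ U, (b ^ n) u ∈ U := by
    intro U hU n
    induction n with
    | zero => simp
    | succ n ih => intro u hu; rw [pow_succ', Module.End.mul_apply]; exact hU _ (ih u hu)
  have hirrb : ∀ U : Submodule K W, (∀ u ∈ U, b u ∈ U) → U = ⊥ ∨ U = ⊤ := fun U hU =>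
    hirr _ hidx U fun s hs u hu => by
      obtain ⟨n, rfl⟩ := mem_powers_iff_mem_zpowers.2 hs
      simp only [map_pow]
      exact hbinv U hU n u hu
  haveI : Fact (Irreducible (minpoly K b)) := ⟨minpoly_irreducible hirrb⟩
  set E := AdjoinRoot (minpoly K b)
  let φ : E →ₐ[K] Module.End K W := Ideal.Quotient.liftₐ (Ideal.span {minpoly K b}) (Polynomial.aeval b)
    (fun x hx => by
      obtain ⟨r, rfl⟩ := Ideal.mem_span_singleton'.1 hx
      rw [map_mul, minpoly.aeval, mul_zero])
  have hφroot : φ (AdjoinRoot.root _) = b :=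
    (Ideal.Quotient.liftₐ_apply _ _ _ _).trans (Polynomial.aeval_X b)
  have hφinj : Function.Injective φ := φ.toRingHom.injective
  set α : E := AdjoinRoot.root (minpoly K b) with hα
  have hαord : orderOf α = 2 ^ e := by
    rw [← he, ← orderOf_injective (φ : E →* Module.End K W) hφinj, ← orderOf_injective τ hτ]
    exact congrArg orderOf hφroot
  haveI : FiniteDimensional K E := Module.Finite.of_basis (AdjoinRoot.powerBasis (minpoly.ne_zero hint)).basis
  haveI : Finite E := Module.finite_of_finite K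
  haveI := Fintype.ofFinite E
  -- the dimension of `W` is at most that of `E`
  obtain ⟨v, hv⟩ := exists_ne (0 : W)
  have hsurj : Function.Surjective fun x : E => φ x v := by
    rw [← Set.range_eq_univ]
    have hUb : ∀ u ∈ LinearMap.range ((LinearMap.applyₗ v).comp φ.toLinearMap),
        b u ∈ LinearMap.range ((LinearMap.applyₗ v).comp φ.toLinearMap) := by
      rintro u ⟨x, rfl⟩
      exact ⟨α * x, by show φ (α * x) v = b (φ x v); rw [map_mul, hφroot, Module.End.mul_apply]⟩
    rcases hirrb _ hUb with hU | hU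
    · exact absurd (by simpa using LinearMap.ext_iff.1 (LinearMap.range_eq_bot.1 hU) (1 : E)) hv
    · exact Set.eq_univ_of_forall fun u => LinearMap.range_eq_top.1 hU u
  have hle : Module.finrank K W ≤ Module.finrank K E :=
    LinearMap.finrank_le_finrank_of_surjective (f := (LinearMap.applyₗ v).comp φ.toLinearMap) hsurj
  -- `q ^ 2` fixes `α`
  have hzeq : ∀ i j : ℕ, α ^ i = α ^ j ↔ (2 : ℤ) ^ e ∣ (i : ℤ) - j := fun i j => by
    rw [IsOfFinOrder.pow_eq_pow_iff_modEq (orderOf_pos_iff.1 (by rw [hαord]; positivity)), hαord,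
      Nat.ModEq.comm, Nat.modEq_iff_dvd]
    push_cast
    rfl
  have hq2 : (2 : ℤ) ^ e ∣ (q : ℤ) * q - 1 := by
    by_cases htop : Subgroup.zpowers a = ⊤
    · -- `T` cyclic: the square of the generator is irreducible
      by_contra hne
      obtain ⟨he3, i, hi⟩ := exists_pow_of_not_sq_one (by exact_mod_cast hqodd) hne
      obtain ⟨d, rfl⟩ : ∃ d, e = d + 3 := ⟨e - 3, by omega⟩
      rw [show d + 3 - 1 = d + 2 by omega] at hi
      have hidx2 : (Subgroup.zpowers (a * a)).index ≤ 2 := by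
        have h1 := (Subgroup.zpowers (a * a)).card_mul_index
        have h2 : Nat.card T = 2 ^ (d + 3) := by
          rw [← Nat.card_congr Subgroup.topEquiv.toEquiv, ← htop, Nat.card_zpowers, he]
        rw [← sq] at h1 ⊢
        rw [Nat.card_zpowers, orderOf_pow' a two_ne_zero, he, h2,
          show Nat.gcd (2 ^ (d + 3)) 2 = 2 from Nat.gcd_eq_right (dvd_pow_self 2 (by omega)),
          pow_succ 2 (d + 2), Nat.mul_div_cancel _ two_pos] at h1
        exact (Nat.eq_of_mul_eq_mul_left (pow_pos two_pos _) h1).le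
      set U : Submodule K W :=
        LinearMap.range ((LinearMap.applyₗ v).comp (Polynomial.aeval (b * b)).toLinearMap) with hU
      have hUinv : ∀ u ∈ U, (b * b) u ∈ U := by
        rintro u ⟨p, rfl⟩
        exact ⟨Polynomial.X * p, by simp [Module.End.mul_apply]⟩
      have hUtop : U = ⊤ := by
        refine (hirr _ hidx2 U fun s hs u hu => ?_).resolve_left fun h => ?_
        · obtain ⟨n, rfl⟩ := mem_powers_iff_mem_zpowers.2 hs
          simp only [map_pow, map_mul, ← hb]
          clear hs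
          induction n with
          | zero => simpa using hu
          | succ n ih => rw [pow_succ', Module.End.mul_apply]; exact hUinv _ ih
        · have : v ∈ U := ⟨1, by simp⟩
          rw [h, Submodule.mem_bot] at this
          exact hv this
      obtain ⟨g, hg⟩ : b v ∈ U := hUtop ▸ Submodule.mem_top
      have hα2 : α = Polynomial.aeval (α * α) g := by
        refine hφinj ?_
        rw [hφroot, ← Polynomial.aeval_algHom_apply, map_mul, hφroot]
        refine LinearMap.ext fun u => ?_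
        obtain ⟨p, rfl⟩ : u ∈ U := hUtop ▸ Submodule.mem_top
        simp only [LinearMap.comp_apply, AlgHom.toLinearMap_apply, LinearMap.applyₗ_apply_apply]
        have hg' : Polynomial.aeval (b * b) g v = b v := by simpa using hg
        have c1 : Polynomial.aeval (b * b) p * b = b * Polynomial.aeval (b * b) p := by
          have h2 : Commute (b * b) b := (Commute.refl b).mul_left (Commute.refl b)
          exact (Commute.eq (by
            induction p using Polynomial.induction_on' with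
            | add p r hp hr => rw [map_add]; exact hp.add_left hr
            | monomial n c =>
              rw [Polynomial.aeval_monomial]
              exact (Algebra.commute_algebraMap_left c b).mul_left (h2.pow_left n)))
        rw [← Module.End.mul_apply, ← c1, Module.End.mul_apply, ← hg', ← Module.End.mul_apply,
          ← map_mul, mul_comm, map_mul, Module.End.mul_apply]
      let σ := FiniteField.frobeniusAlgHom K E ^ i
      have hσ : ∀ x : E, σ x = x ^ q ^ i := fun x => by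
        simp [σ, AlgHom.coe_pow, FiniteField.coe_frobeniusAlgHom, pow_iterate, hq]
      have h2 : σ (α * α) = α * α := by
        rw [hσ, ← sq, ← pow_mul, hzeq]
        obtain ⟨w, hw⟩ := hi
        push_cast
        exact ⟨2 * w + 1, by linear_combination 2 * hw⟩
      have h3 : σ α = α := by
        conv_lhs => rw [hα2]
        rw [← Polynomial.aeval_algHom_apply, h2]
        exact hα2.symm
      rw [hσ] at h3
      conv_rhs at h3 => rw [← pow_one α]
      rw [hzeq] at h3
      push_cast at h3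
      have h4 : (2 : ℤ) ^ (d + 3) ∣ 2 ^ (d + 2) := by
        have := dvd_sub h3 hi
        ring_nf at this ⊢
        exact this
      rw [pow_dvd_pow_iff (by norm_num) (by decide)] at h4
      omega
    · obtain ⟨t, -, ht⟩ := SetLike.exists_of_lt (lt_top_iff_ne_top.2 htop)
      obtain ⟨k, hk, hk'⟩ := hform t ht
      rcases Nat.lt_or_ge e 2 with he2 | he2
      · exact ((pow_dvd_pow 2 (show e ≤ 3 by omega)).trans (eight_dvd_sq_sub_one (by exact_mod_cast hqodd)))
      have h4 : (4 : ℤ) ∣ 2 ^ e := pow_dvd_pow 2 he2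
      have hk3 : (4 : ℤ) ∣ k + 1 := by
        rcases hk' with h | ⟨he3, h⟩
        · exact h4.trans h
        · have h4c : (4 : ℤ) ∣ 2 ^ (e - 1) := pow_dvd_pow 2 (show 2 ≤ e - 1 by omega)
          have := dvd_add (h4.trans h) h4c
          rwa [show k - (-1 + 2 ^ (e - 1)) + (2 : ℤ) ^ (e - 1) = k + 1 by ring] at this
      -- `k` as a natural number
      set kn : ℕ := (k % (2 : ℤ) ^ e).toNat with hkn
      have hknz : (kn : ℤ) = k % (2 : ℤ) ^ e := Int.toNat_of_nonneg (Int.emod_nonneg _ (by positivity))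
      have hkk : t * a * t⁻¹ = a ^ kn := by
        rw [hk, ← zpow_natCast, hknz, zpow_eq_zpow_iff_modEq, he]
        push_cast
        exact (Int.mod_modEq _ _).symm
      have hroot : Polynomial.aeval (α ^ kn) (minpoly K b) = 0 := by
        refine hφinj ?_
        rw [← Polynomial.aeval_algHom_apply, map_pow, hφroot, map_zero, hb, ← map_pow, ← hkk]
        have : ∀ p : K[X], Polynomial.aeval (τ (t * a * t⁻¹)) p =
            τ t * Polynomial.aeval (τ a) p * τ t⁻¹ := by
          intro p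
          induction p using Polynomial.induction_on' with
          | add p r hp hr => rw [map_add, map_add, hp, hr, mul_add, add_mul]
          | monomial n c =>
            rw [Polynomial.aeval_monomial, Polynomial.aeval_monomial, ← map_pow, ← map_pow,
              conj_pow, map_mul, map_mul, ← mul_assoc, ← mul_assoc, Algebra.commutes,
              mul_assoc (τ t) (algebraMap K _ c)]
        rw [this, minpoly.aeval, mul_zero, zero_mul]
      obtain ⟨σ, hσ⟩ : ∃ σ : E →ₐ[K] E, σ α = α ^ kn :=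
        ⟨AdjoinRoot.liftAlgHom (minpoly K b) (Algebra.ofId K E) (α ^ kn) hroot,
          AdjoinRoot.liftAlgHom_root _ _ _ _⟩
      obtain ⟨⟨j, _⟩, hj⟩ := (FiniteField.bijective_frobeniusAlgHom_pow K E).2 σ
      have h1 : α ^ q ^ j = α ^ kn := by
        have := congrArg (fun f : E →ₐ[K] E => f α) hj
        simpa [AlgHom.coe_pow, FiniteField.coe_frobeniusAlgHom, pow_iterate, hq, hσ] using this
      rw [hzeq] at h1
      push_cast at h1
      rw [hknz] at h1
      have hqj : (2 : ℤ) ^ e ∣ (q : ℤ) ^ j - k := by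
        have h2 : (2 : ℤ) ^ e ∣ k % 2 ^ e - k := (Int.mod_modEq k _).symm.dvd
        have := dvd_add h1 h2
        rwa [show (q : ℤ) ^ j - k % 2 ^ e + (k % 2 ^ e - k) = (q : ℤ) ^ j - k by ring] at this
      have hq8 := eight_dvd_sq_sub_one (k := (q : ℤ)) (by exact_mod_cast hqodd)
      have hjodd : Odd j := by
        rw [← Nat.not_even_iff_odd]
        rintro ⟨j', rfl⟩
        have h2 : (4 : ℤ) ∣ (q : ℤ) ^ (j' + j') - 1 := by
          refine dvd_trans ⟨2, by norm_num⟩ (hq8.trans ?_)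
          rw [← two_mul, pow_mul, ← sq]
          exact sub_one_dvd_pow_sub_one _ _
        have := dvd_sub (dvd_add (h4.trans hqj) hk3) h2
        ring_nf at this
        omega
      -- `q ^ (2 j) ≡ 1` with `j` odd
      have hkk1 : (2 : ℤ) ^ e ∣ k * k - 1 := by
        rcases hk' with h | ⟨he3, h⟩
        · exact h.trans ⟨k - 1, by ring⟩
        · obtain ⟨w, hw⟩ := h
          obtain ⟨d, rfl⟩ : ∃ d, e = d + 3 := ⟨e - 3, by omega⟩
          rw [show d + 3 - 1 = d + 2 by omega] at hw
          exact ⟨w * (-2 + 2 ^ (d + 3) + 2 ^ (d + 3) * w) - 1 + 2 ^ (d + 1),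
            by linear_combination (k + (-1 + 2 ^ (d + 2)) + 2 ^ (d + 3) * w) * hw⟩
      have e1 : (q : ZMod (2 ^ e)) ^ (2 * j) = 1 := by
        have h5 : ((2 ^ e : ℕ) : ℤ) ∣ (q : ℤ) ^ (2 * j) - 1 := by
          push_cast
          obtain ⟨w, hw⟩ := hqj
          obtain ⟨w', hw'⟩ := hkk1
          exact ⟨w * ((q : ℤ) ^ j + k) + w',
            by linear_combination ((q : ℤ) ^ j + k) * hw + hw'⟩
        have := (ZMod.intCast_zmod_eq_zero_iff_dvd _ _).2 h5
        push_cast at this
        exact sub_eq_zero.1 this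
      have e2 : (q : ZMod (2 ^ e)) ^ (2 ^ e) = 1 := by
        have h5 : ((2 ^ e : ℕ) : ℤ) ∣ (q : ℤ) ^ (2 ^ e) - 1 := by
          push_cast
          exact (pow_dvd_pow 2 (Nat.le_succ e)).trans
            (two_pow_dvd_pow_sub_one (by exact_mod_cast hqodd) e)
        have := (ZMod.intCast_zmod_eq_zero_iff_dvd _ _).2 h5
        push_cast at this
        exact sub_eq_zero.1 this
      have hgcd : Nat.gcd (2 * j) (2 ^ e) = 2 := by
        obtain ⟨e', rfl⟩ : ∃ e', e = e' + 1 := ⟨e - 1, by omega⟩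
        rw [pow_succ', Nat.gcd_mul_left, (Nat.coprime_two_right.2 hjodd).pow_right e', mul_one]
      have e3 := pow_gcd_eq_one.mpr ⟨e1, e2⟩
      rw [hgcd] at e3
      have h6 := (ZMod.intCast_zmod_eq_zero_iff_dvd ((q : ℤ) ^ 2 - 1) (2 ^ e)).1 (by push_cast; rw [e3, sub_self])
      push_cast at h6
      rwa [← sq]
  have hfrob : FiniteField.frobeniusAlgHom K E ^ 2 = 1 := by
    refine AdjoinRoot.algHom_ext ?_
    have h1 : ∀ x : E, (FiniteField.frobeniusAlgHom K E ^ 2) x = x ^ q ^ 2 := fun x => by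
      rw [pow_two, AlgHom.mul_apply, FiniteField.coe_frobeniusAlgHom]
      show (x ^ Fintype.card K) ^ Fintype.card K = _
      rw [← pow_mul, ← pow_two, ← hq]
    rw [AlgHom.one_apply, h1]
    show α ^ q ^ 2 = α
    conv_rhs => rw [← pow_one α]
    rw [hzeq]
    push_cast
    rwa [sq]
  have := Nat.le_of_dvd two_pos (FiniteField.orderOf_frobeniusAlgHom K E ▸ orderOf_dvd_of_pow_eq_one hfrob)
  omega

end H34.TwoLinear
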