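import Mathlib
import Cfsg.Agent.H34.TwoLinear
import Cfsg.Agent.H1.Wielandt
import Cfsg.Agent.H16.OddOrder
import Cfsg.Agent.H27.ClassBasic

/-!
A finite group of order prime to `q` acting faithfully on an abelian `q`-group with all orbits of
`p`-power size is solvable.
-/

set_option autoImplicit false

namespace H34.PrimeOrbits

universe u v

section Perfect

variable {H : Type u} [Group H] [Finite H] {q : ℕ} [hq : Fact q.Prime]
  {W : Type v} [AddCommGroup W] [Module (ZMod q) W] [Finite W]

/-- A subspace covered by two subspaces lies in one of them. -/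
theorem le_or_le_of_covered {U A B : Submodule (ZMod q) W} (h : ∀ u ∈ U, u ∈ A ∨ u ∈ B) :
    U ≤ A ∨ U ≤ B := by
  by_contra hno
  push Not at hno
  obtain ⟨⟨a, haU, ha⟩, ⟨b, hbU, hb⟩⟩ := hno.imp SetLike.not_le_iff_exists.1 SetLike.not_le_iff_exists.1
  have haB := (h a haU).resolve_left ha
  have hbA := (h b hbU).resolve_right hb
  rcases h _ (U.add_mem haU hbU) with h1 | h1
  · exact ha (by simpa using A.sub_mem h1 hbA)
  · exact hb (by simpa using B.sub_mem h1 haB)

/-- An endomorphism of determinant `1` in dimension at most `2` fixing a vector is unipotent. -/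
theorem sq_sub_one_eq_zero [FiniteDimensional (ZMod q) W] (hdim : Module.finrank (ZMod q) W ≤ 2)
    (f : Module.End (ZMod q) W) (hdet : LinearMap.det f = 1) {v : W} (hv : v ≠ 0) (hfv : f v = v) :
    (f - 1) * (f - 1) = 0 := by
  by_cases htop : Submodule.span (ZMod q) {v} = ⊤
  · have : f - 1 = 0 := by
      refine LinearMap.ext fun w => ?_
      obtain ⟨c, rfl⟩ := Submodule.mem_span_singleton.1 (htop ▸ Submodule.mem_top : w ∈ Submodule.span (ZMod q) {v})
      simp [hfv]
    rw [this, zero_mul]
  obtain ⟨w, -, hw⟩ := SetLike.exists_of_lt (lt_top_iff_ne_top.2 htop)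
  have hli : LinearIndependent (ZMod q) ![v, w] := by
    refine (LinearIndependent.pair_iff' hv).2 fun c hc => hw ?_
    rw [← hc]; exact Submodule.smul_mem _ _ (Submodule.mem_span_singleton_self v)
  have hcard : Fintype.card (Fin 2) = Module.finrank (ZMod q) W := by
    have := hli.fintype_card_le_finrank
    simp only [Fintype.card_fin] at this ⊢
    omega
  set b := basisOfLinearIndependentOfCardEqFinrank hli hcard with hb
  have hb0 : b 0 = v := by simp [hb]
  have hb1 : b 1 = w := by simp [hb]
  have h00 : LinearMap.toMatrix b b f 0 0 = 1 := by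
    rw [LinearMap.toMatrix_apply, hb0, hfv, ← hb0, b.repr_self, Finsupp.single_eq_same]
  have h10 : LinearMap.toMatrix b b f 1 0 = 0 := by
    rw [LinearMap.toMatrix_apply, hb0, hfv, ← hb0, b.repr_self, Finsupp.single_eq_of_ne (by decide)]
  have h11 : b.repr (f w) 1 = 1 := by
    have h1 := LinearMap.det_toMatrix b f
    rw [hdet, Matrix.det_fin_two, h00, h10] at h1
    simpa [LinearMap.toMatrix_apply, hb1] using h1
  have hfw : (f - 1) w = b.repr (f w) 0 • v := by
    have := b.sum_repr (f w)
    rw [Fin.sum_univ_two, hb0, hb1, h11, one_smul] at this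
    rw [LinearMap.sub_apply, Module.End.one_apply]
    exact sub_eq_of_eq_add this.symm
  refine b.ext fun i => ?_
  fin_cases i
  · simp [hb0, Module.End.mul_apply, hfv]
  · simp only [Fin.mk_one, hb1, Module.End.mul_apply, hfw, map_smul]
    simp [hfv]

/-- A perfect group has no nontrivial irreducible action of coprime order with all orbits of
`2`-power size. -/
theorem trivial_of_perfect (hq2 : q ≠ 2) (hperf : commutator H = ⊤) (hcop : ¬ q ∣ Nat.card H)
    (ρ : H →* Module.End (ZMod q) W)
    (hirr : ∀ U : Submodule (ZMod q) W, (∀ h : H, ∀ u ∈ U, ρ h u ∈ U) → U = ⊥ ∨ U = ⊤)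
    (horb : ∀ w : W, ∃ C : Subgroup H, (∀ h : H, h ∈ C ↔ ρ h w = w) ∧ ∃ a, C.index = 2 ^ a) :
    ∀ h : H, ρ h = 1 := by
  classical
  haveI : Fact (Nat.Prime 2) := ⟨Nat.prime_two⟩
  haveI : FiniteDimensional (ZMod q) W := Module.Finite.of_finite
  rcases subsingleton_or_nontrivial W with hW | hW
  · exact fun h => LinearMap.ext fun w => Subsingleton.elim _ _
  obtain ⟨S⟩ : Nonempty (Sylow 2 H) := inferInstance
  -- orbits of `H` are orbits of `S`
  have hS : ∀ (h : H) (w : W), ∃ s ∈ (S : Subgroup H), ρ h w = ρ s w := by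
    intro h w
    obtain ⟨C, hC, a, ha⟩ := horb w
    obtain ⟨c, hc, s, hs, hcs⟩ := H1.exists_mul_eq_of_coprime_index C (S : Subgroup H)
      (by rw [ha]; exact ((Nat.prime_two).coprime_iff_not_dvd.2 S.not_dvd_index).pow_left a) h⁻¹
    refine ⟨s⁻¹, inv_mem hs, ?_⟩
    rw [show h = s⁻¹ * c⁻¹ by rw [← inv_inv h, hcs, mul_inv_rev], map_mul, Module.End.mul_apply,
      (hC _).1 (inv_mem hc)]
  have hinj : ∀ h : H, Function.Injective (ρ h) := fun h x y hxy => by
    have := congrArg (ρ h⁻¹) hxy
    rwa [← Module.End.mul_apply, ← Module.End.mul_apply, ← map_mul, inv_mul_cancel, map_one] at this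
  have hmap : ∀ (g h : H) (U : Submodule (ZMod q) W),
      U.map (ρ (g * h)) = (U.map (ρ h)).map (ρ g) := fun g h U => by
    rw [← Submodule.map_comp, map_mul, Module.End.mul_eq_comp]
  have hdim : ∀ (h : H) (U : Submodule (ZMod q) W),
      Module.finrank (ZMod q) (U.map (ρ h)) = Module.finrank (ZMod q) U := fun h U =>
    (Submodule.equivMapOfInjective _ (hinj h) U).finrank_eq.symm
  have hfix : ∀ (h : H) (U : Submodule (ZMod q) W), (∀ u ∈ U, ρ h u ∈ U) → U.map (ρ h) = U :=
    fun h U hU => Submodule.eq_of_le_of_finrank_eq (Submodule.map_le_iff_le_comap.2 hU) (hdim h U)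
  -- `S` is irreducible
  have hSirr : ∀ U : Submodule (ZMod q) W, (∀ s ∈ (S : Subgroup H), ∀ u ∈ U, ρ s u ∈ U) →
      U = ⊥ ∨ U = ⊤ := fun U hU => hirr U fun h u hu => by
    obtain ⟨s, hs, hsu⟩ := hS h u
    rw [hsu]; exact hU s hs u hu
  -- subgroups of index at most `2` of `S` are irreducible
  let f : (S : Subgroup H) →* (Module.End (ZMod q) W)ˣ := (ρ.comp (S : Subgroup H).subtype).toHomUnits
  let τ : f.range →* Module.End (ZMod q) W := (Units.coeHom _).comp f.range.subtype
  have hτval : ∀ s : (S : Subgroup H), τ (f.rangeRestrict s) = ρ s := fun s => rfl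
  have hstrong : TwoLinear.Strong τ := by
    intro S0 hidx U hU
    set R : Subgroup (S : Subgroup H) := S0.comap f.rangeRestrict with hR
    have hRidx : R.index ≤ 2 := by
      rwa [hR, Subgroup.index_comap_of_surjective _ f.rangeRestrict_surjective]
    have hUR : ∀ s ∈ R, ∀ u ∈ U, ρ s u ∈ U := fun s hs u hu => hτval s ▸ hU _ hs u hu
    rcases (show R.index = 1 ∨ R.index = 2 by
      have := Nat.pos_of_ne_zero (R.index_ne_zero_of_finite); omega) with h1 | h2
    · rw [Subgroup.index_eq_one] at h1
      exact hSirr U fun s hs u hu => hUR ⟨s, hs⟩ (h1 ▸ Subgroup.mem_top _) u hu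
    obtain ⟨s0, hs0⟩ : ∃ s0, s0 ∉ R := by
      by_contra hall
      push Not at hall
      rw [show R = ⊤ from eq_top_iff.2 fun x _ => hall x, Subgroup.index_top] at h2
      omega
    set U' := U.map (ρ s0) with hU'
    have hsU : ∀ s : (S : Subgroup H), U.map (ρ s) = U ∨ U.map (ρ s) = U' := by
      intro s
      by_cases hs : s ∈ R
      · exact Or.inl (hfix _ U (hUR s hs))
      · refine Or.inr ?_
        have hmem : s0⁻¹ * s ∈ R := by
          rw [Subgroup.mul_mem_iff_of_index_two h2]
          exact iff_of_false (fun h => hs0 (by simpa using R.inv_mem h)) hs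
        rw [show (s : H) = s0 * (s0⁻¹ * s : (S : Subgroup H)) by simp, hmap,
          hfix _ U (hUR _ hmem)]
    have hHU : ∀ h : H, U.map (ρ h) = U ∨ U.map (ρ h) = U' := by
      intro h
      rcases le_or_le_of_covered (U := U.map (ρ h)) (A := U) (B := U') (fun w hw => by
        obtain ⟨u, hu, rfl⟩ := Submodule.mem_map.1 hw
        obtain ⟨s, hs, hsu⟩ := hS h u
        rw [hsu]
        rcases hsU ⟨s, hs⟩ with h3 | h3
        · exact Or.inl (h3 ▸ Submodule.mem_map_of_mem hu)
        · exact Or.inr (h3 ▸ Submodule.mem_map_of_mem hu)) with h3 | h3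
      · exact Or.inl (Submodule.eq_of_le_of_finrank_eq h3 (hdim h U))
      · exact Or.inr (Submodule.eq_of_le_of_finrank_eq h3 (by rw [hdim h U, hU', hdim]))
    by_cases hUU : U' = U
    · refine hSirr U fun s hs u hu => ?_
      rcases hsU ⟨s, hs⟩ with h3 | h3
      · exact h3.le (Submodule.mem_map_of_mem hu)
      · exact (h3.trans hUU).le (Submodule.mem_map_of_mem hu)
    let φ : H →* ℤˣ :=
      { toFun := fun h => if U.map (ρ h) = U then 1 else -1
        map_one' := by rw [map_one, Module.End.one_eq_id, Submodule.map_id, if_pos rfl]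
        map_mul' := fun g h => by
          have hne : U.map (ρ g) ≠ U'.map (ρ g) := fun he =>
            hUU (Submodule.map_injective_of_injective (hinj g) he).symm
          have hgs : U'.map (ρ g) = U ∨ U'.map (ρ g) = U' := by
            rw [hU', ← hmap]; exact hHU _
          rw [hmap]
          rcases hHU h with h3 | h3
          · rw [h3, if_pos rfl, mul_one]
          · rw [h3, if_neg hUU]
            rcases hHU g with h4 | h4
            · rw [h4] at hne
              rw [if_pos h4, if_neg hne.symm, one_mul]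
            · rw [h4] at hne
              rw [if_pos (hgs.resolve_right hne.symm), if_neg (show ¬ U.map (ρ g) = U by rw [h4]; exact hUU)]
              rfl }
    have hφ : ∀ h, φ h = 1 := fun h =>
      MonoidHom.mem_ker.1 (Abelianization.commutator_subset_ker φ (hperf ▸ Subgroup.mem_top h))
    refine hirr U fun h u hu => ?_
    have h3 : U.map (ρ h) = U := by
      by_contra hne
      have := hφ h
      simp [φ, hne] at this
    exact h3.le (Submodule.mem_map_of_mem hu)
  have hq' : Odd (Nat.card (ZMod q)) := by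
    rw [Nat.card_zmod]; exact (hq.out.eq_two_or_odd').resolve_left hq2
  haveI : Finite f.range := Finite.of_surjective _ f.rangeRestrict_surjective
  have h2dim := TwoLinear.finrank_le_two hq' (fun x y hxy => Subtype.ext (Units.ext hxy))
    ((S.isPGroup').of_surjective f.rangeRestrict f.rangeRestrict_surjective) hstrong
  -- determinants are trivial
  have hdet : ∀ h : H, LinearMap.det (ρ h) = 1 := fun h => by
    let d : H →* (ZMod q)ˣ := (LinearMap.det.comp ρ).toHomUnits
    have h1 : d h = 1 :=
      MonoidHom.mem_ker.1 (Abelianization.commutator_subset_ker d (hperf ▸ Subgroup.mem_top h))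
    exact congrArg Units.val h1
  have hker : ∀ (v : W), v ≠ 0 → ∀ c : H, ρ c v = v → ρ c = 1 := by
    intro v hv c hc
    have hN := sq_sub_one_eq_zero h2dim (ρ c) (hdet c) hv hc
    set N := ρ c - 1 with hNdef
    have hpow : ∀ n : ℕ, (1 + N) ^ n = 1 + n • N := by
      intro n
      induction n with
      | zero => simp
      | succ n ih => rw [pow_succ, ih, add_mul, one_mul, mul_add, mul_one, smul_mul_assoc, hN, smul_zero, add_zero, succ_nsmul]; abel
    have h1 : ρ c ^ q = 1 := by
      have h0 : (1 + N) = ρ c := by rw [hNdef]; abel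
      rw [← h0, hpow, ← Nat.cast_smul_eq_nsmul (ZMod q), ZMod.natCast_self, zero_smul, add_zero]
    have h2 : ρ c ^ Nat.card H = 1 := by rw [← map_pow, pow_card_eq_one', map_one]
    have := pow_gcd_eq_one.mpr ⟨h1, h2⟩
    rwa [Nat.Coprime.gcd_eq_one (hq.out.coprime_iff_not_dvd.2 hcop), pow_one] at this
  obtain ⟨v, hv⟩ := exists_ne (0 : W)
  obtain ⟨C, hC, a, ha⟩ := horb v
  haveI hCn : C.Normal := ⟨fun c hc g => by
    have h1 : ρ c = 1 := hker v hv c ((hC c).1 hc)
    rw [hC, map_mul, map_mul, h1, mul_one, ← map_mul, mul_inv_cancel, map_one, Module.End.one_apply]⟩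
  have hCtop : C = ⊤ := by
    by_contra hne
    haveI : Nontrivial (H ⧸ C) := QuotientGroup.nontrivial_iff.2 hne
    haveI : Group.IsNilpotent (H ⧸ C) := (IsPGroup.of_card (p := 2) (n := a) ha).isNilpotent
    have h1 := Group.IsSolvable.commutator_lt_top_of_nontrivial (H ⧸ C)
    refine h1.ne ?_
    rw [_root_.commutator_def, ← Subgroup.map_top_of_surjective _ (QuotientGroup.mk'_surjective C),
      ← Subgroup.map_commutator, ← _root_.commutator_def, hperf]
  exact fun h => hker v hv h ((hC h).1 (hCtop ▸ Subgroup.mem_top h))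

/-- A perfect group acting on an elementary abelian `q`-group with coprime order and all orbits of
`2`-power size acts trivially. -/
theorem trivial_module (hq2 : q ≠ 2) (hperf : commutator H = ⊤) (hcop : ¬ q ∣ Nat.card H)
    (ρ : H →* Module.End (ZMod q) W)
    (horb : ∀ w : W, ∃ C : Subgroup H, (∀ h : H, h ∈ C ↔ ρ h w = w) ∧ ∃ a, C.index = 2 ^ a) :
    ∀ h : H, ρ h = 1 := by
  classical
  have := Fintype.ofFinite H
  by_contra hno
  push Not at hno
  obtain ⟨h0, hh0⟩ := hno
  let P : Submodule (ZMod q) W → Prop := fun U =>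
    (∀ h : H, ∀ u ∈ U, ρ h u ∈ U) ∧ ∃ h : H, ∃ u ∈ U, ρ h u ≠ u
  obtain ⟨U, ⟨hUinv, hUnt⟩, hmin⟩ := (Set.toFinite {U | P U}).exists_minimal
    ⟨⊤, fun _ _ _ => Submodule.mem_top, h0, by
      by_contra hall
      push Not at hall
      exact hh0 (LinearMap.ext fun w => hall w Submodule.mem_top)⟩
  have hprop : ∀ U0 : Submodule (ZMod q) W, U0 ≤ U → (∀ h : H, ∀ u ∈ U0, ρ h u ∈ U0) → U0 ≠ U →
      ∀ h : H, ∀ u ∈ U0, ρ h u = u := fun U0 hle hinv hne h u hu => by
    by_contra hmove
    exact hne (le_antisymm hle (hmin ⟨hinv, h, u, hu, hmove⟩ hle))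
  have hcast : (Nat.card H : ZMod q) ≠ 0 := by rwa [Ne, ZMod.natCast_eq_zero_iff]
  -- `U` is spanned by commutators
  set D : Submodule (ZMod q) W := Submodule.span (ZMod q) {w | ∃ h : H, ∃ u ∈ U, w = ρ h u - u} with hD
  have hDU : D ≤ U := Submodule.span_le.2 (by
    rintro _ ⟨h, u, hu, rfl⟩; exact U.sub_mem (hUinv h u hu) hu)
  have hDtop : D = U := by
    by_contra hne
    obtain ⟨h, u, hu, hmove⟩ := hUnt
    have hDinv : ∀ g : H, ∀ w ∈ D, ρ g w ∈ D := fun g w hw => by
      induction hw using Submodule.span_induction with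
      | mem x hx =>
        obtain ⟨k, x, hx, rfl⟩ := hx
        refine Submodule.subset_span ⟨g * k * g⁻¹, ρ g x, hUinv g x hx, ?_⟩
        rw [map_sub, ← Module.End.mul_apply, ← Module.End.mul_apply, ← map_mul, ← map_mul,
          inv_mul_cancel_right]
      | zero => rw [map_zero]; exact D.zero_mem
      | add x y _ _ hx hy => rw [map_add]; exact D.add_mem hx hy
      | smul c x _ hx => rw [map_smul]; exact D.smul_mem c hx
    set d := ρ h u - u with hd
    have hfix : ρ h d = d := hprop D hDU hDinv hne h d (Submodule.subset_span ⟨h, u, hu, rfl⟩)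
    have hn : ∀ n : ℕ, ρ (h ^ n) u = u + (n : ZMod q) • d := by
      intro n
      induction n with
      | zero => simp
      | succ n ih =>
        rw [pow_succ', map_mul, Module.End.mul_apply, ih, map_add, map_smul, hfix, Nat.cast_succ,
          add_smul, one_smul, hd]
        abel
    have h1 := hn (Nat.card H)
    rw [pow_card_eq_one', map_one, Module.End.one_apply] at h1
    have h2 : (Nat.card H : ZMod q) • d = 0 := by simpa using h1
    rw [smul_eq_zero_iff_right hcast, hd, sub_eq_zero] at h2
    exact hmove h2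
  -- no fixed points in `U`
  have hfix0 : ∀ u ∈ U, (∀ h : H, ρ h u = u) → u = 0 := by
    intro u hu hall
    have hker : D ≤ LinearMap.ker (∑ g : H, ρ g) := Submodule.span_le.2 (by
      rintro _ ⟨h, x, -, rfl⟩
      rw [SetLike.mem_coe, LinearMap.mem_ker, map_sub, LinearMap.sum_apply, LinearMap.sum_apply,
        sub_eq_zero]
      exact Fintype.sum_equiv (Equiv.mulRight h) _ _ fun g => by
        rw [Equiv.coe_mulRight, map_mul, Module.End.mul_apply])
    have h1 := LinearMap.mem_ker.1 (hker (hDtop.symm ▸ hu))
    rw [LinearMap.sum_apply, Finset.sum_congr rfl fun g _ => hall g, Finset.sum_const, Finset.card_univ,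
      ← Nat.card_eq_fintype_card, ← Nat.cast_smul_eq_nsmul (ZMod q), smul_eq_zero_iff_right hcast] at h1
    exact h1
  -- the restriction to `U`
  let σ : H →* Module.End (ZMod q) U :=
    { toFun := fun h => (ρ h).restrict (hUinv h)
      map_one' := LinearMap.ext fun u => Subtype.ext (by simp)
      map_mul' := fun g h => LinearMap.ext fun u => Subtype.ext (by simp) }
  have hσ : ∀ h : H, σ h = 1 := by
    refine trivial_of_perfect hq2 hperf hcop σ (fun U1 hU1 => ?_) fun w => ?_
    · by_cases hne : U1.map U.subtype = U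
      · exact Or.inr (Submodule.map_injective_of_injective U.subtype_injective
          (hne.trans (Submodule.map_subtype_top U).symm))
      refine Or.inl ((Submodule.eq_bot_iff _).2 fun u hu => Subtype.ext (hfix0 _ u.2 fun h => ?_))
      refine hprop _ (Submodule.map_subtype_le _ _) ?_ hne h _ (Submodule.mem_map_of_mem hu)
      rintro g _ ⟨x, hx, rfl⟩
      exact ⟨σ g x, hU1 g x hx, rfl⟩
    · obtain ⟨C, hC, ha⟩ := horb w
      exact ⟨C, fun h => (hC h).trans ⟨fun e => Subtype.ext e, fun e => congrArg Subtype.val e⟩, ha⟩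
  obtain ⟨h, u, hu, hmove⟩ := hUnt
  exact hmove (congrArg Subtype.val (LinearMap.ext_iff.1 (hσ h) ⟨u, hu⟩))

end Perfect

/-- An automorphism of order prime to `q` fixing all elements of order dividing `q` of an abelian
`q`-group is trivial. -/
theorem smul_eq_of_fix_omega {H : Type u} {V : Type v} [Group H] [Finite H] [CommGroup V]
    [MulDistribMulAction H V] {q : ℕ} [Fact q.Prime] (hV : IsPGroup q V) (hcop : ¬ q ∣ Nat.card H)
    {h : H} (hfix : ∀ v : V, v ^ q = 1 → h • v = v) : ∀ v : V, h • v = v := by
  have key : ∀ (k : ℕ) (v : V), v ^ q ^ k = 1 → h • v = v := by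
    intro k
    induction k with
    | zero => intro v hv; rw [pow_zero, pow_one] at hv; rw [hv, smul_one]
    | succ k ih =>
      intro v hv
      rw [pow_succ', pow_mul] at hv
      have hvq := ih _ hv
      set w := h • v * v⁻¹ with hw
      have hwq : w ^ q = 1 := by rw [hw, mul_pow, inv_pow, ← smul_pow', hvq, mul_inv_cancel]
      have hhv : h • v = w * v := by rw [hw, inv_mul_cancel_right]
      have hn : ∀ n : ℕ, h ^ n • v = w ^ n * v := by
        intro n
        induction n with
        | zero => simp
        | succ n ihn => rw [pow_succ', mul_smul, ihn, smul_mul', smul_pow', hfix w hwq, hhv,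
            ← mul_assoc, pow_succ]
      have h1 := hn (Nat.card H)
      rw [pow_card_eq_one', one_smul, right_eq_mul] at h1
      have h2 := pow_gcd_eq_one.mpr ⟨hwq, h1⟩
      rw [Nat.Coprime.gcd_eq_one ((Fact.out : q.Prime).coprime_iff_not_dvd.2 hcop), pow_one] at h2
      rw [hhv, h2, one_mul]
  intro v
  obtain ⟨k, hk⟩ := hV v
  exact key k v hk

/-- Additive maps as linear maps over the prime field. -/
def toEnd {L : Type*} [Group L] {q : ℕ} {A : Type*} [AddCommGroup A] [Module (ZMod q) A]
    (f : L →* AddMonoid.End A) : L →* Module.End (ZMod q) A where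
  toFun h := AddMonoidHom.toZModLinearMap q (f h : A →+ A)
  map_one' := LinearMap.ext fun x => by
    show (f 1 : A →+ A) x = x
    rw [map_one]; rfl
  map_mul' g h := LinearMap.ext fun x => by
    show (f (g * h) : A →+ A) x = (f g : A →+ A) ((f h : A →+ A) x)
    rw [map_mul]; rfl

/-- `trivial_module` for an additive action on a group of exponent `q`. -/
theorem trivial_addAut {L : Type u} [Group L] [Finite L] {q : ℕ} [Fact q.Prime] (hq2 : q ≠ 2)
    (hperf : commutator L = ⊤) (hcop : ¬ q ∣ Nat.card L) {A : Type v} [AddCommGroup A] [Finite A]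
    (hA : ∀ x : A, q • x = 0) (f : L →* AddMonoid.End A)
    (horb : ∀ x : A, ∃ C : Subgroup L, (∀ h : L, h ∈ C ↔ (f h : A →+ A) x = x) ∧ ∃ a, C.index = 2 ^ a) :
    ∀ (h : L) (x : A), (f h : A →+ A) x = x := by
  letI : Module (ZMod q) A := AddCommGroup.zmodModule hA
  intro h x
  exact LinearMap.ext_iff.1 (trivial_module hq2 hperf hcop (toEnd f) horb h) x

/-- A group of order prime to `q` acting faithfully on a finite abelian `q`-group, all orbits having
`p`-power size for a prime `p`, is solvable. -/
theorem isSolvable_of_orbits {H : Type u} {V : Type v} [Group H] [Finite H] [CommGroup V] [Finite V]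
    [MulDistribMulAction H V] [FaithfulSMul H V] {p q : ℕ} (hp : p.Prime) [hq : Fact q.Prime]
    (hV : IsPGroup q V) (hcop : ¬ q ∣ Nat.card H)
    (horb : ∀ v : V, ∃ a, (MulAction.stabilizer H v).index = p ^ a) : Group.IsSolvable H := by
  classical
  rcases hq.out.eq_two_or_odd' with hq2 | hqodd
  · refine H16.FT.oddOrder (Nat.odd_iff.2 ?_)
    subst hq2
    omega
  by_cases hp2 : p = 2
  · subst hp2
    have hq2 : q ≠ 2 := fun h => by rw [h] at hqodd; exact absurd hqodd (by decide)
    by_contra hns
    obtain ⟨n, hn⟩ : ∃ n, derivedSeries H (n + 1) = derivedSeries H n := by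
      by_contra hno
      push Not at hno
      have hlt : ∀ n, Nat.card (derivedSeries H n) + n ≤ Nat.card H := by
        intro n
        induction n with
        | zero => simp
        | succ n ih =>
          have h1 : derivedSeries H (n + 1) < derivedSeries H n :=
            lt_of_le_of_ne ((derivedSeries_antitone H) (Nat.le_succ n)) (hno n)
          have h2 : Nat.card (derivedSeries H (n + 1)) < Nat.card (derivedSeries H n) := by
            by_contra hle
            exact h1.ne (Subgroup.eq_of_le_of_card_ge h1.le (not_lt.1 hle))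
          omega
      have := hlt (Nat.card H)
      have := Nat.card_pos (α := derivedSeries H (Nat.card H))
      omega
    set L := derivedSeries H n with hL
    have hLne : L ≠ ⊥ := fun h => hns ((Group.isSolvable_def H).2 ⟨n, h⟩)
    have hperf : commutator L = ⊤ := by
      refine Subgroup.map_injective L.subtype_injective ?_
      rw [_root_.commutator_def, Subgroup.map_commutator, ← MonoidHom.range_eq_map, Subgroup.range_subtype,
        hL, ← derivedSeries_succ, hn]
    -- the elements of order dividing `q`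
    let V0 : Subgroup V := (powMonoidHom q : V →* V).ker
    have hexp : ∀ x : Additive V0, q • x = 0 := fun x => by
      apply Additive.toMul.injective
      rw [toMul_nsmul, toMul_zero]
      exact Subtype.ext x.toMul.2
    have hmem : ∀ (h : L) (v : V0), (h : H) • (v : V) ∈ V0 := fun h v => by
      show ((h : H) • (v : V)) ^ q = 1
      rw [← smul_pow', show (v : V) ^ q = 1 from v.2, smul_one]
    let ρ0 : L →* AddMonoid.End (Additive V0) :=
      { toFun := fun h => AddMonoidHom.mk' (fun x => Additive.ofMul ⟨_, hmem h x.toMul⟩) fun x y => by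
          apply Additive.toMul.injective
          exact Subtype.ext (smul_mul' _ _ _)
        map_one' := by
          refine AddMonoidHom.ext fun x => Additive.toMul.injective (Subtype.ext ?_)
          exact one_smul H (x.toMul : V0).val
        map_mul' := fun g h => by
          refine AddMonoidHom.ext fun x => Additive.toMul.injective (Subtype.ext ?_)
          exact mul_smul (g : H) (h : H) (x.toMul : V0).val }
    have hval : ∀ (h : L) (x : Additive V0),
        (((ρ0 h : Additive V0 →+ Additive V0) x).toMul : V0).val = (h : H) • (x.toMul : V0).val :=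
      fun h x => rfl
    have htriv := trivial_addAut hq2 hperf (fun h => hcop (h.trans (Subgroup.card_subgroup_dvd_card L)))
      hexp ρ0 fun x => by
        obtain ⟨a, ha⟩ := horb (x.toMul : V0).val
        refine ⟨(MulAction.stabilizer H (x.toMul : V0).val).subgroupOf L, fun h => ?_, ?_⟩
        · rw [Subgroup.mem_subgroupOf, MulAction.mem_stabilizer_iff, ← hval]
          exact ⟨fun e => Additive.toMul.injective (Subtype.ext e), fun e => by rw [e]⟩
        · haveI : L.Normal := derivedSeries_normal H n
          obtain ⟨i, -, hi⟩ := (Nat.dvd_prime_pow Nat.prime_two).1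
            (ha ▸ H27.relIndex_dvd_index_right (MulAction.stabilizer H (x.toMul : V0).val) L)
          exact ⟨i, hi⟩
    refine hLne (eq_bot_iff.2 fun h hh => Subgroup.mem_bot.2 (eq_of_smul_eq_smul (α := V) fun v => ?_))
    rw [one_smul]
    refine smul_eq_of_fix_omega hV hcop (fun w hw => ?_) v
    have h1 := congrArg (fun y : (Additive V0) => (y.toMul : V0).val)
      (htriv ⟨h, hh⟩ (Additive.ofMul ⟨w, hw⟩))
    exact h1
  · -- `p` odd: no involutions
    refine H16.FT.oddOrder ?_
    rw [← Nat.not_even_iff_odd, even_iff_two_dvd]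
    intro h2
    haveI : Fact (Nat.Prime 2) := ⟨Nat.prime_two⟩
    obtain ⟨t, ht⟩ := exists_prime_orderOf_dvd_card' 2 h2
    have htt : t * t = 1 := by rw [← sq, ← ht, pow_orderOf_eq_one]
    refine absurd ht ?_
    rw [show t = 1 from eq_of_smul_eq_smul (α := V) fun v => ?_, orderOf_one]
    · decide
    rw [one_smul]
    by_contra hmove
    set w := v⁻¹ * t • v with hw
    have hw1 : w ≠ 1 := fun h => hmove (inv_mul_eq_one.1 h).symm
    have htw : t • w = w⁻¹ := by
      rw [hw, smul_mul', smul_inv', ← mul_smul, htt, one_smul, mul_inv_rev, inv_inv]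
    obtain ⟨a, ha⟩ := horb w
    rw [MulAction.index_stabilizer] at ha
    have := Fintype.ofFinite (MulAction.orbit H w)
    let ι : MulAction.orbit H w → MulAction.orbit H w := fun x => ⟨(x : V)⁻¹, by
      obtain ⟨g, hg⟩ := x.2
      exact ⟨g * t, by show (g * t) • w = (x : V)⁻¹; rw [mul_smul, htw, smul_inv', show g • w = (x : V) from hg]⟩⟩
    have hinv : Function.Involutive ι := fun x => Subtype.ext (inv_inv _)
    have hev : Even (Fintype.card (MulAction.orbit H w)) := by
      haveI : Fact (Nat.Prime 2) := ⟨Nat.prime_two⟩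
      rw [even_iff_two_dvd, ← Nat.card_eq_fintype_card]
      by_contra hodd
      have hE : (hinv.toPerm ι) ^ (2 ^ 1 : ℕ) = 1 := by
        ext x; simp [pow_succ, Function.Involutive.toPerm, hinv x]
      obtain ⟨⟨x, g, hg⟩, hx⟩ := Equiv.Perm.exists_fixed_point_of_prime
        (by rwa [← Nat.card_eq_fintype_card]) hE
      have hxx : x⁻¹ = x := congrArg Subtype.val hx
      have hx2 : x ^ 2 = 1 := by rw [sq]; nth_rw 1 [← hxx]; rw [inv_mul_cancel]
      obtain ⟨k, hk⟩ := hV x
      have h3 := pow_gcd_eq_one.mpr ⟨hx2, hk⟩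
      rw [Nat.Coprime.gcd_eq_one ((Nat.coprime_two_left.2 hqodd).pow_right k), pow_one] at h3
      have h4 : g • w = g • (1 : V) := by rw [smul_one]; exact hg.trans h3
      exact hw1 (smul_left_cancel g h4)
    rw [← Nat.card_eq_fintype_card, Nat.card_coe_set_eq, ha, even_iff_two_dvd] at hev
    exact hp2 ((Nat.prime_dvd_prime_iff_eq Nat.prime_two hp).1 (Nat.prime_two.dvd_of_dvd_pow hev)).symm

end H34.PrimeOrbits
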