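import Mathlib
import Cfsg.Agent.CompLayer
import Cfsg.Agent.H3.SubnormalJoin

set_option autoImplicit false

/-! Primitive subgroups (Bender): `M = N_G(N)` for every non-trivial normal subgroup `N` of `M`. -/

namespace H34.Prim

open Pointwise
open Cfsg (fittingSubgroup layer generalizedFittingSubgroup IsComponent)

variable {G : Type*} [Group G] [Finite G] {M : Subgroup G}

/-- A non-trivial nilpotent group has non-trivial centre. -/
theorem center_ne_bot {H : Type*} [Group H] [hH : Group.IsNilpotent H] [Nontrivial H] :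
    Subgroup.center H ≠ ⊥ := by
  intro hz
  obtain ⟨n, hn⟩ := hH.nilpotent
  have key : ∀ n, Subgroup.upperCentralSeries H n = ⊥ := by
    intro n
    induction n with
    | zero => exact Subgroup.upperCentralSeries_zero H
    | succ n ih =>
      rw [Subgroup.eq_bot_iff_forall]
      intro x hx
      rw [← Subgroup.mem_bot, ← hz, Subgroup.mem_center_iff]
      intro y
      have h1 := Subgroup.mem_upperCentralSeries_succ_iff.1 hx y
      rw [ih, Subgroup.mem_bot] at h1
      exact (commutatorElement_eq_one_iff_mul_comm.1 (by rw [commutatorElement_def]; exact h1)).symm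
  rw [key] at hn
  exact bot_ne_top hn

/-- A non-trivial subnormal subgroup is never contained in a primitive subgroup. -/
theorem subnormal_eq_bot (hM : M ≠ ⊤)
    (hprim : ∀ N : Subgroup G, N ≤ M → M ≤ Subgroup.normalizer (N : Set G) → N ≠ ⊥ →
      Subgroup.normalizer (N : Set G) = M)
    (L : Subgroup G) (hL : L.IsSubnormal) (hLM : L ≤ M) : L = ⊥ := by
  by_contra hne
  set S := {U : Subgroup G | U.IsSubnormal ∧ U ≤ M}
  set N := sSup S
  have hNs : N.IsSubnormal := H3.subnormal_sSup S fun U hU => hU.1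
  have hNM : N ≤ M := sSup_le fun U hU => hU.2
  have hN : N ≠ ⊥ := fun h => hne (le_bot_iff.1 (h ▸ le_sSup ⟨hL, hLM⟩))
  have hnorm : M ≤ Subgroup.normalizer (N : Set G) := fun g hg =>
    H3.mem_normalizer_sSup S g fun U hU => ⟨hU.1.map (MulAut.conj g).surjective, fun x hx => by
      obtain ⟨u, hu, rfl⟩ := hx
      exact mul_mem (mul_mem hg (hU.2 hu)) (inv_mem hg)⟩
  have heq := hprim N hNM hnorm hN
  rcases Subgroup.IsSubnormal.iff_eq_top_or_exists.1 hNs with h | ⟨K, hNK, hK, hn⟩
  · exact hM (top_le_iff.1 (h ▸ hNM))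
  · have hKM : K ≤ M := heq ▸ (Subgroup.normal_subgroupOf_iff_le_normalizer hNK.le).1 hn
    exact hNK.not_ge (le_sSup ⟨hK, hKM⟩)

/-- A primitive subgroup meets the Fitting subgroup trivially. -/
theorem inf_fitting_eq_bot (hM : M ≠ ⊤)
    (hprim : ∀ N : Subgroup G, N ≤ M → M ≤ Subgroup.normalizer (N : Set G) → N ≠ ⊥ →
      Subgroup.normalizer (N : Set G) = M) :
    M ⊓ fittingSubgroup G = ⊥ := by
  haveI := Cfsg.Comp.fitting_isNilpotent (G := G)
  haveI hF : (fittingSubgroup G).Normal := Subgroup.sSup_normal _ fun _ h => h.1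
  exact subnormal_eq_bot hM hprim _
    (Subgroup.IsSubnormal.trans inf_le_right (H3.subnormal_of_isNilpotent _) hF.isSubnormal) inf_le_left

/-- Bender's lemma on a primitive subgroup meeting `F*(N)`. -/
theorem fitting_bot_of_inf_ne_bot (hM : M ≠ ⊤)
    (hprim : ∀ N : Subgroup G, N ≤ M → M ≤ Subgroup.normalizer (N : Set G) → N ≠ ⊥ →
      Subgroup.normalizer (N : Set G) = M)
    (N : Subgroup G) [hNn : N.Normal]
    (hMF : M ⊓ (generalizedFittingSubgroup ↥N).map N.subtype ≠ ⊥) :
    fittingSubgroup G = ⊥ ∧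
      (generalizedFittingSubgroup ↥N).map N.subtype = generalizedFittingSubgroup G ∧
      generalizedFittingSubgroup G = layer G ∧
      ∀ K : Subgroup G, K.Normal → K ≠ ⊥ →
        (∀ K' : Subgroup G, K'.Normal → K' ≤ K → K' = ⊥ ∨ K' = K) → K ≤ N := by
  set S := (generalizedFittingSubgroup ↥N).map N.subtype with hS
  set E := (layer ↥N).map N.subtype with hE
  set F := (fittingSubgroup ↥N).map N.subtype with hF
  have hSEF : S = E ⊔ F := Subgroup.map_sup _ _ _
  haveI hFn' : (fittingSubgroup ↥N).Characteristic := by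
    refine Subgroup.characteristic_iff_map_le.2 fun e => Subgroup.map_le_iff_le_comap.2 <| sSup_le fun A hA =>
      Subgroup.map_le_iff_le_comap.1 (le_sSup ⟨hA.1.map _ e.surjective, ?_⟩)
    haveI := hA.2
    exact Group.nilpotent_of_surjective (A.equivMapOfInjective e.toMonoidHom e.injective).toMonoidHom
      (MulEquiv.surjective _)
  haveI hEn' : (layer ↥N).Characteristic :=
    Subgroup.characteristic_iff_map_eq.2 fun e => Cfsg.Comp.layer_map_equiv e
  haveI hEn : E.Normal := hE ▸ inferInstance
  haveI hFn : F.Normal := hF ▸ inferInstance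
  haveI hSn : S.Normal := hSEF ▸ inferInstance
  -- the centralizer of `F*(N)` is trivial
  have hC : Subgroup.centralizer (S : Set G) = ⊥ := by
    have hD : M ≤ Subgroup.normalizer ((M ⊓ S : Subgroup G) : Set G) :=
      Cfsg.Comp.inf_le_normalizer Subgroup.le_normalizer Cfsg.Comp.le_normalizer_of_normal
    have hle : Subgroup.centralizer (S : Set G) ≤ M := by
      rw [← hprim _ inf_le_left hD hMF]
      exact (Subgroup.centralizer_le (by exact_mod_cast (inf_le_right : M ⊓ S ≤ S))).trans
        (Subgroup.centralizer_le_normalizer _)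
    exact subnormal_eq_bot hM hprim _ (Subgroup.Normal.isSubnormal inferInstance) hle
  have hcomm : ∀ X : Subgroup G, ⁅X, E⁆ = ⊥ → ⁅X, F⁆ = ⊥ → X = ⊥ := by
    intro X h1 h2
    rw [← le_bot_iff, ← hC, hSEF]
    rw [Subgroup.commutator_eq_bot_iff_le_centralizer] at h1 h2
    rw [Subgroup.le_centralizer_iff] at h1 h2 ⊢
    exact sup_le h1 h2
  -- `F(N) = 1`
  have hF0 : F = ⊥ := by
    by_contra hne
    haveI := Cfsg.Comp.fitting_isNilpotent (G := ↥N)
    haveI : Group.IsNilpotent ↥F := Group.nilpotent_of_surjective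
      ((fittingSubgroup ↥N).equivMapOfInjective N.subtype N.subtype_injective).toMonoidHom
      (MulEquiv.surjective _)
    haveI : Nontrivial ↥F := (Subgroup.nontrivial_iff_ne_bot F).2 hne
    haveI hZ : (F ⊓ Subgroup.centralizer (F : Set G)).Normal := inferInstance
    have hEF : ⁅E, F⁆ = ⊥ := by
      rw [hE, hF, ← Subgroup.map_commutator, Cfsg.Comp.commutator_layer_fitting, Subgroup.map_bot]
    have h0 := hcomm (F ⊓ Subgroup.centralizer (F : Set G))
      (le_bot_iff.1 ((Subgroup.commutator_mono inf_le_left le_rfl).trans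
        (by rw [Subgroup.commutator_comm, hEF])))
      (Subgroup.commutator_eq_bot_iff_le_centralizer.2 inf_le_right)
    obtain ⟨z, hz, hz1⟩ := (Subgroup.nontrivial_iff_exists_ne_one _).1
      ((Subgroup.nontrivial_iff_ne_bot _).2 (center_ne_bot (H := ↥F)))
    have hzm : (z : G) ∈ F ⊓ Subgroup.centralizer (F : Set G) :=
      ⟨z.2, Subgroup.mem_centralizer_iff.2 fun x hx =>
        congrArg Subtype.val (Subgroup.mem_center_iff.1 hz ⟨x, hx⟩)⟩
    rw [h0, Subgroup.mem_bot] at hzm
    exact hz1 (Subtype.ext hzm)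
  have hSE : S = E := by rw [hSEF, hF0, sup_bot_eq]
  have hkill : ∀ X : Subgroup G, ⁅X, E⁆ = ⊥ → X = ⊥ := fun X h =>
    hcomm X h (by rw [hF0]; exact Subgroup.commutator_bot_right _)
  have hFG : fittingSubgroup G = ⊥ := by
    refine hkill _ ?_
    rw [eq_bot_iff]
    refine (Subgroup.commutator_mono le_rfl (Cfsg.Comp.layer_map_subtype_le hNn.isSubnormal)).trans ?_
    rw [Subgroup.commutator_comm, Cfsg.Comp.commutator_layer_fitting]
  have hFE : generalizedFittingSubgroup G = layer G := by
    rw [generalizedFittingSubgroup, hFG, sup_bot_eq]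
  have hLN : ∀ L : Subgroup G, IsComponent L → L ≤ N := by
    intro L hL
    refine (Cfsg.Comp.component_le_or_commute hL hNn.isSubnormal).resolve_right fun h => ?_
    refine Cfsg.Comp.isComponent_ne_bot hL (hkill L ?_)
    rw [eq_bot_iff, ← h]
    exact Subgroup.commutator_mono le_rfl (Subgroup.map_subtype_le _)
  refine ⟨hFG, ?_, hFE, ?_⟩
  · rw [hSE, hFE]
    refine le_antisymm (Cfsg.Comp.layer_map_subtype_le hNn.isSubnormal) ?_
    rw [Cfsg.Comp.layer_le_iff]
    intro L hL
    have h1 := Cfsg.Comp.isComponent_subgroupOf hL (hLN L hL)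
    rw [hE, ← Subgroup.map_subgroupOf_eq_of_le (hLN L hL)]
    exact Subgroup.map_mono (Cfsg.Comp.le_layer h1)
  · intro K hK hK0 hmin
    rcases hmin (K ⊓ N) inferInstance inf_le_left with h | h
    · exfalso
      refine hK0 (hkill K ?_)
      rw [eq_bot_iff]
      refine (Subgroup.commutator_mono le_rfl (Subgroup.map_subtype_le _)).trans ?_
      rw [← h]
      exact Subgroup.commutator_le_inf K N
    · exact inf_eq_left.1 h

end H34.Prim
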