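import Mathlib
import Cfsg.Agent.H1.Cores

set_option autoImplicit false

/-! Primitive subgroups acting on a normal subgroup meeting them trivially. -/

namespace H34.Prim

open Pointwise

variable {G : Type*} [Group G] [Finite G] {M : Subgroup G} {p : ℕ} [Fact p.Prime]

theorem acting_on_normal
    (hprim : ∀ N : Subgroup G, N ≤ M → M ≤ Subgroup.normalizer (N : Set G) → N ≠ ⊥ →
      Subgroup.normalizer (N : Set G) = M)
    (hOp : Cfsg.pCore p ↥M ≠ ⊥) (N : Subgroup G) [N.Normal] (hMN : M ⊓ N = ⊥) :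
    ¬ p ∣ Nat.card N ∧
      (∀ q : ℕ, [Fact q.Prime] → ∃! Q : Sylow q ↥N,
        M ≤ Subgroup.normalizer ((Q : Subgroup ↥N).map N.subtype : Set G)) ∧
      ((∃ q r : ℕ, q.Prime ∧ r.Prime ∧ q ≠ r ∧ q ∣ Nat.card N ∧ r ∣ Nat.card N) → ¬ IsCoatom M) := by
  classical
  haveI := H1.pCore_characteristic p ↥M
  set P0 := (Cfsg.pCore p ↥M).map M.subtype with hP0
  have hP0M : P0 ≤ M := Subgroup.map_subtype_le _
  have hMP0 : M ≤ Subgroup.normalizer (P0 : Set G) := by
    intro m hm
    rw [Subgroup.mem_normalizer_iff]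
    intro x
    constructor
    · rintro ⟨c, hc, rfl⟩
      exact ⟨⟨m, hm⟩ * c * ⟨m, hm⟩⁻¹, (H1.pCore_normal' p ↥M).conj_mem c hc _, rfl⟩
    · rintro ⟨c, hc, he⟩
      refine ⟨⟨m, hm⟩⁻¹ * c * ⟨m, hm⟩, ?_, ?_⟩
      · simpa using (H1.pCore_normal' p ↥M).conj_mem c hc ⟨m, hm⟩⁻¹
      · have he' : (c : G) = m * x * m⁻¹ := he
        simp [he', mul_assoc]
  have hP0ne : P0 ≠ ⊥ := by
    rw [hP0]; exact fun h => hOp ((Subgroup.map_eq_bot_iff_of_injective _ M.subtype_injective).1 h)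
  have hnorm := hprim P0 hP0M hMP0 hP0ne
  have hpP0 : IsPGroup p ↥P0 := (H1.isPGroup_pCore p ↥M).map _
  -- only the identity of `N` commutes with `P0`
  have hcent : ∀ n : ↥N, (∀ u : ↥P0, MulAut.conjNormal (u : G) n = n) → n = 1 := by
    intro n hn
    have h1 : (n : G) ∈ M := by
      rw [← hnorm]
      refine Subgroup.centralizer_le_normalizer _ (Subgroup.mem_centralizer_iff.2 fun u hu => ?_)
      have h := congrArg Subtype.val (hn ⟨u, hu⟩)
      rw [MulAut.conjNormal_apply] at h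
      calc u * n = u * n * u⁻¹ * u := by group
        _ = n * u := by rw [h]
    have h2 : (n : G) ∈ M ⊓ N := ⟨h1, n.2⟩
    rw [hMN, Subgroup.mem_bot] at h2
    exact Subtype.ext h2
  have hpN : ¬ p ∣ Nat.card N := by
    letI : MulAction ↥P0 ↥N := MulAction.compHom _ ((MulAut.conjNormal (H := N)).comp P0.subtype)
    have h := hpP0.card_modEq_card_fixedPoints (↥N)
    have hfix : MulAction.fixedPoints ↥P0 ↥N = {1} := by
      refine Set.eq_singleton_iff_unique_mem.2 ⟨fun u => ?_, fun n hn => hcent n hn⟩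
      show MulAut.conjNormal (u : G) (1 : ↥N) = 1
      exact map_one _
    rw [hfix, Nat.card_coe_set_eq ({1} : Set ↥N), Set.ncard_singleton] at h
    intro hd
    have h0 : Nat.card ↥N ≡ 0 [MOD p] := (Nat.modEq_zero_iff_dvd).2 hd
    exact (Fact.out : p.Prime).one_lt.ne' (Nat.dvd_one.1 ((Nat.modEq_zero_iff_dvd).1 (h.symm.trans h0)))
  -- translating fixed Sylow subgroups into normalisers
  have hiff : ∀ (q : ℕ) (Q : Sylow q ↥N) (g : G),
      g ∈ Subgroup.normalizer (((Q : Subgroup ↥N).map N.subtype : Subgroup G) : Set G) ↔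
        (MulAut.conjNormal g : MulAut ↥N) • Q = Q := by
    intro q Q g
    rw [Sylow.ext_iff, Sylow.pointwise_smul_def]
    have hmem : ∀ n : ↥N, n ∈ (MulAut.conjNormal g : MulAut ↥N) • (Q : Subgroup ↥N) ↔
        (MulAut.conjNormal g : MulAut ↥N)⁻¹ n ∈ (Q : Subgroup ↥N) := fun n =>
      Subgroup.mem_pointwise_smul_iff_inv_smul_mem
    have hmemQ : ∀ n : ↥N, (n : G) ∈ (Q : Subgroup ↥N).map N.subtype ↔ n ∈ (Q : Subgroup ↥N) :=
      fun n => Subgroup.mem_map_iff_mem N.subtype_injective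
    constructor
    · intro hg
      refine Subgroup.ext fun n => ?_
      rw [hmem, ← hmemQ n, ← hmemQ, (Subgroup.mem_normalizer_iff''.1 hg (n : G))]
      rw [← map_inv, MulAut.conjNormal_apply, inv_inv]
    · intro hQ
      rw [Subgroup.mem_normalizer_iff'']
      intro x
      constructor
      · rintro ⟨n, hn, rfl⟩
        refine ⟨(MulAut.conjNormal g : MulAut ↥N)⁻¹ n, (hmem n).1 (hQ.symm ▸ hn), ?_⟩
        rw [← map_inv, Subgroup.coe_subtype, MulAut.conjNormal_apply, inv_inv]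
      · rintro ⟨n, hn, he⟩
        have he' : (n : G) = g⁻¹ * x * g := he
        refine ⟨MulAut.conjNormal g n, ?_, ?_⟩
        · have h1 : (MulAut.conjNormal g : MulAut ↥N)⁻¹ (MulAut.conjNormal g n) = n :=
            MulAut.inv_apply_self _ _ _
          exact hQ ▸ (hmem _).2 (by rw [h1]; exact hn)
        · simp [MulAut.conjNormal_apply, he', mul_assoc]
  have hsylow : ∀ q : ℕ, [Fact q.Prime] → ∃! Q : Sylow q ↥N,
      M ≤ Subgroup.normalizer ((Q : Subgroup ↥N).map N.subtype : Set G) := by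
    intro q _
    -- exactly one Sylow subgroup is fixed by `P0`
    have hexists : ∃ Q : Sylow q ↥N, ∀ u : ↥P0, (MulAut.conjNormal (u : G) : MulAut ↥N) • Q = Q := by
      letI : MulAction ↥P0 (Sylow q ↥N) :=
        MulAction.compHom _ ((MulAut.conjNormal (H := N)).comp P0.subtype)
      obtain ⟨Q, hQ⟩ := hpP0.nonempty_fixed_point_of_prime_not_dvd_card (Sylow q ↥N) fun hd => hpN
        (hd.trans ((Sylow.card_dvd_index (Classical.arbitrary _)).trans (Subgroup.index_dvd_card _)))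
      exact ⟨Q, hQ⟩
    have huniq : ∀ Q₁ Q₂ : Sylow q ↥N, (∀ u : ↥P0, (MulAut.conjNormal (u : G) : MulAut ↥N) • Q₁ = Q₁) →
        (∀ u : ↥P0, (MulAut.conjNormal (u : G) : MulAut ↥N) • Q₂ = Q₂) → Q₁ = Q₂ := by
      intro Q₁ Q₂ h₁ h₂
      obtain ⟨n₀, hn₀⟩ := MulAction.exists_smul_eq ↥N Q₁ Q₂
      let T := {n : ↥N // n • Q₁ = Q₂}
      have hcomm : ∀ (u : G) (n : ↥N) (Q : Sylow q ↥N),
          (MulAut.conjNormal u n) • ((MulAut.conjNormal u : MulAut ↥N) • Q) =
            (MulAut.conjNormal u : MulAut ↥N) • (n • Q) := by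
        intro u n Q
        rw [Sylow.smul_def, Sylow.smul_def, smul_smul, smul_smul]
        congr 1
        ext x
        simp [MulAut.conjNormal_apply, mul_assoc]
      letI : MulAction ↥P0 T :=
        { smul := fun u n => ⟨MulAut.conjNormal (u : G) n.1, by
            have := hcomm (u : G) n.1 Q₁
            rwa [h₁ u, n.2, h₂ u] at this⟩
          one_smul := fun n => Subtype.ext (by
            show MulAut.conjNormal ((1 : ↥P0) : G) n.1 = n.1
            simp)
          mul_smul := fun u v n => Subtype.ext (by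
            show MulAut.conjNormal ((u * v : ↥P0) : G) n.1 =
              MulAut.conjNormal (u : G) (MulAut.conjNormal (v : G) n.1)
            rw [Subgroup.coe_mul, map_mul]
            rfl) }
      let e : MulAction.stabilizer ↥N Q₁ ≃ T :=
        { toFun := fun h => ⟨n₀ * h, by rw [mul_smul, h.2, hn₀]⟩
          invFun := fun n => ⟨n₀⁻¹ * n.1, by
            show (n₀⁻¹ * n.1) • Q₁ = Q₁
            rw [mul_smul, n.2, ← hn₀, inv_smul_smul]⟩
          left_inv := fun h => by ext; simp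
          right_inv := fun n => by ext; simp }
      obtain ⟨n, hn⟩ := hpP0.nonempty_fixed_point_of_prime_not_dvd_card T fun hd => hpN
        ((Nat.card_congr e ▸ hd).trans (Subgroup.card_subgroup_dvd_card _))
      have : n.1 = 1 := hcent n.1 fun u => congrArg Subtype.val (hn u)
      rw [← n.2, this, one_smul]
    obtain ⟨Q, hQ⟩ := hexists
    refine ⟨Q, fun m hm => (hiff q Q m).2 (huniq _ _ (fun u => ?_) hQ), fun Q' hQ' =>
      huniq _ _ (fun u => (hiff q Q' u).1 (hQ' (hP0M u.2))) hQ⟩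
    -- `m • Q` is again fixed by `P0`
    have hu : m⁻¹ * u * m ∈ P0 := (Subgroup.mem_normalizer_iff''.1 (hMP0 hm) u).1 u.2
    have h := hQ ⟨_, hu⟩
    rw [smul_smul]
    conv_rhs => rw [← h, smul_smul]
    congr 1
    rw [← map_mul, ← map_mul]
    congr 1
    group
  refine ⟨hpN, hsylow, ?_⟩
  rintro ⟨q, r, hq, hr, hqr, hqN, hrN⟩ hcoatom
  haveI := Fact.mk hq
  haveI := Fact.mk hr
  obtain ⟨Q, hQ, -⟩ := hsylow q
  set Qm := (Q : Subgroup ↥N).map N.subtype with hQm
  have hlt : M < M ⊔ Qm := by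
    refine lt_of_le_not_ge le_sup_left fun h => ?_
    have h1 : Qm ≤ M ⊓ N := le_inf (le_sup_right.trans h) (Subgroup.map_subtype_le _)
    rw [hMN, le_bot_iff, hQm, Subgroup.map_eq_bot_iff_of_injective _ N.subtype_injective] at h1
    exact Q.ne_bot_of_dvd_card hqN h1
  have htop := hcoatom.2 _ hlt
  have hNQ : ∀ n : ↥N, n ∈ (Q : Subgroup ↥N) := by
    intro n
    have hn : (n : G) ∈ ((M ⊔ Qm : Subgroup G) : Set G) := by rw [htop]; trivial
    rw [Subgroup.coe_mul_of_left_le_normalizer_right M Qm hQ] at hn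
    obtain ⟨m, hm, x, ⟨y, hy, rfl⟩, he⟩ := hn
    have hm1 : m ∈ M ⊓ N := by
      refine ⟨hm, ?_⟩
      have he' : m * (y : G) = n := he
      rw [eq_mul_inv_of_mul_eq he']
      exact N.mul_mem n.2 (N.inv_mem y.2)
    rw [hMN, Subgroup.mem_bot] at hm1
    have he' : m * (y : G) = n := he
    rw [hm1, one_mul] at he'
    rwa [← Subtype.ext he']
  have hcard : Nat.card ↥(Q : Subgroup ↥N) = Nat.card ↥N := by
    rw [show (Q : Subgroup ↥N) = ⊤ from (Subgroup.eq_top_iff' _).2 hNQ, Subgroup.card_top]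
  obtain ⟨k, hk⟩ := IsPGroup.iff_card.1 Q.2
  rw [← hcard, hk] at hrN
  exact hqr ((Nat.prime_dvd_prime_iff_eq hr hq).1 (hr.dvd_of_dvd_pow hrN)).symm

end H34.Prim
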