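import Mathlib
import Cfsg.Agent.H27.ClassBasic
import Cfsg.Agent.H27.PrimePowerClass
import Cfsg.Agent.H25.Kazarin
import Cfsg.Agent.H1.Cores
import Cfsg.Agent.H1.Fitting
import Cfsg.Agent.H1.SchurZassenhausConj
import Cfsg.Agent.H3.ValueCoprimeSolvable
import Cfsg.Agent.H34.PrimeOrbits

/-!
`q`-Baer groups: all elements of `q`-power order have classes of prime power size.
-/

set_option autoImplicit false

open Subgroup
open scoped Pointwise

namespace H34.QBaer

universe u

variable {G : Type u} [Group G] [Finite G] {q : ℕ} [hq : Fact q.Prime]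

theorem mul_inv_mem_of_comm {x g : G} (h : g ∈ centralizer ({x} : Set G)) : g * x * g⁻¹ = x := by
  rw [mem_centralizer_singleton_iff.1 h, mul_inv_cancel_right]

/-- A normal `s`-subgroup is centralised by every element whose class size is prime to `s`. -/
theorem pCore_le_centralizer {s : ℕ} [Fact s.Prime] {x : G}
    (h : ¬ s ∣ (centralizer ({x} : Set G)).index) :
    Cfsg.pCore s G ≤ centralizer ({x} : Set G) := by
  obtain ⟨S, hS⟩ := H27.exists_sylow_le_of_not_dvd_index h
  exact (H1.pCore_le_sylow S).trans hS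

/-- A `q`-element with class size a power of `r` lies in `O_q` when `O_r` is trivial or `r = q`. -/
theorem mem_pCore_mod {r : ℕ} (hr : r.Prime) {x : G} {k : ℕ} (hx : orderOf x = q ^ k) {a : ℕ}
    (hidx : (centralizer ({x} : Set G)).index = r ^ a) (hbot : r = q ∨ Cfsg.pCore r G = ⊥) :
    x ∈ Cfsg.pCore q G := by
  by_cases hrq : r = q
  · subst hrq
    exact H27.mem_pCore_of_index_eq_pow ⟨k, hx⟩ hidx
  have hbot' := hbot.resolve_left hrq
  have hFG : Cfsg.fittingSubgroup G ≤ centralizer ({x} : Set G) := by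
    rw [H1.fittingSubgroup_eq_iSup_pCore]
    refine iSup_le fun s => ?_
    haveI : Fact (s : ℕ).Prime := ⟨s.2⟩
    by_cases hsr : (s : ℕ) = r
    · rw [hsr, hbot']; exact bot_le
    refine pCore_le_centralizer fun hd => ?_
    rw [hidx] at hd
    exact hsr ((Nat.prime_dvd_prime_iff_eq s.2 hr).1 (s.2.dvd_of_dvd_pow hd))
  set M := normalClosure ({x} : Set G) with hM
  have hsol : Group.IsSolvable M := H25.kazarin hr (Nat.card G) rfl x a hidx
  have hxM : x ∈ M := subset_normalClosure rfl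
  have hxF : (⟨x, hxM⟩ : M) ∈ Cfsg.fittingSubgroup M := by
    refine H1.centralizer_fitting_le_of_isSolvable inferInstance (mem_centralizer_iff.2 fun f hf => ?_)
    have h1 : (f : G) ∈ (Cfsg.fittingSubgroup M).map M.subtype := mem_map_of_mem _ hf
    rw [H1.fittingSubgroup_subgroup_map_eq] at h1
    exact Subtype.ext (mem_centralizer_singleton_iff.1 (hFG h1.1))
  have hxG : x ∈ Cfsg.fittingSubgroup G := by
    have h1 : x ∈ (Cfsg.fittingSubgroup M).map M.subtype := ⟨_, hxF, rfl⟩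
    rw [H1.fittingSubgroup_subgroup_map_eq] at h1
    exact h1.1
  haveI := H1.isNilpotent_fittingSubgroup G
  haveI := H1.fittingSubgroup_normal G
  have h2 := H3.ValueCoprime.mem_pCore_of_nilpotent (p := q) (x := (⟨x, hxG⟩ : Cfsg.fittingSubgroup G)) (i := k)
    (by rw [← hx]; exact (Subgroup.orderOf_coe _).symm)
  have h3 : x ∈ (Cfsg.pCore q (Cfsg.fittingSubgroup G)).map (Cfsg.fittingSubgroup G).subtype :=
    ⟨_, h2, rfl⟩
  rw [H1.pCore_subgroup_map_eq] at h3
  exact h3.1

/-- The set of conjugates. -/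
abbrev conjs (x : G) : Set G := (ConjClasses.mk x).carrier

omit [Finite G] in
theorem mem_conjs {x y : G} : y ∈ conjs x ↔ ∃ g : G, g * x * g⁻¹ = y := by
  rw [ConjClasses.mem_carrier_iff_mk_eq, ConjClasses.mk_eq_mk_iff_isConj, isConj_comm, isConj_iff]

/-- Two commuting elements with class sizes powers of different primes `r, s ≠ q`. -/
theorem absurd_of_mixed_aux {x y : G} (hxy : Commute x y) {r s : ℕ} (hr : r.Prime) (hs : s.Prime)
    (hrs : r ≠ s) (hrq : r ≠ q) (hy : ∃ k, orderOf y = q ^ k) {a b e : ℕ} (hb : b ≠ 0)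
    (hX : (centralizer ({x} : Set G)).index = r ^ a) (hY : (centralizer ({y} : Set G)).index = s ^ b)
    (hZ : (centralizer ({x * y} : Set G)).index = r ^ e) : False := by
  classical
  have hcop : (centralizer ({y} : Set G)).index.Coprime (centralizer ({x} : Set G)).index := by
    rw [hX, hY]; exact Nat.coprime_pow_primes _ _ hs hr hrs.symm
  have hea : e ≤ a := by
    have h1 : (centralizer ({x * y} : Set G)).index ∣
        (centralizer ({y} : Set G) ⊓ centralizer ({x} : Set G)).index := index_dvd_of_le fun g hg => by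
      rw [mem_centralizer_singleton_iff, ← mul_assoc, mem_centralizer_singleton_iff.1 hg.2, mul_assoc,
        mem_centralizer_singleton_iff.1 hg.1, mul_assoc]
    rw [H1.index_inf_eq_of_coprime _ _ hcop, hX, hY, hZ] at h1
    have h2 : r ^ e ∣ r ^ a :=
      (Nat.coprime_pow_primes e b hr hs hrs).dvd_of_dvd_mul_left h1
    exact (Nat.pow_dvd_pow_iff_le_right hr.one_lt).1 h2
  -- the product of a conjugate of `x` and a conjugate of `y` is a conjugate of `x * y`
  have hprod : ∀ g h : G, g * x * g⁻¹ * (h * y * h⁻¹) ∈ conjs (x * y) := by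
    intro g h
    obtain ⟨c, hc, d, hd, hcd⟩ := H1.exists_mul_eq_of_coprime_index _ _ hcop (h⁻¹ * g)
    refine mem_conjs.2 ⟨h * c, ?_⟩
    have hg : g = h * (c * d) := by rw [← hcd, mul_inv_cancel_left]
    have hdx := mul_inv_mem_of_comm hd
    have hcy := mul_inv_mem_of_comm hc
    calc h * c * (x * y) * (h * c)⁻¹ = h * (c * x * c⁻¹ * (c * y * c⁻¹)) * h⁻¹ := by group
      _ = h * (c * (d * x * d⁻¹) * c⁻¹ * y) * h⁻¹ := by rw [hdx, hcy]
      _ = g * x * g⁻¹ * (h * y * h⁻¹) := by rw [hg]; group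
  have hcard : (conjs (x * y)).ncard ≤ (conjs x).ncard := by
    rw [← Nat.card_coe_set_eq, ← Nat.card_coe_set_eq, H27.card_carrier_eq_index,
      H27.card_carrier_eq_index, hX, hZ]
    exact Nat.pow_le_pow_right hr.pos hea
  have himg : ∀ h : G, (fun w => w * (h * y * h⁻¹)) '' conjs x = conjs (x * y) := by
    intro h
    refine Set.eq_of_subset_of_ncard_le ?_ ?_ (Set.toFinite _)
    · rintro _ ⟨w, hw, rfl⟩
      obtain ⟨g, rfl⟩ := mem_conjs.1 hw
      exact hprod g h
    · rwa [Set.ncard_image_of_injective _ (mul_left_injective _)]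
  -- the right stabiliser of the class of `x`
  let T : Subgroup G :=
    { carrier := {d | ∀ w ∈ conjs x, w * d ∈ conjs x}
      one_mem' := fun w hw => by rwa [mul_one]
      mul_mem' := fun {d d'} hd hd' w hw => by rw [← mul_assoc]; exact hd' _ (hd w hw)
      inv_mem' := fun {d} hd w hw => by
        have hpow : ∀ n : ℕ, ∀ w ∈ conjs x, w * d ^ n ∈ conjs x := by
          intro n
          induction n with
          | zero => intro w hw; rwa [pow_zero, mul_one]
          | succ n ih => intro w hw; rw [pow_succ, ← mul_assoc]; exact hd _ (ih w hw)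
        obtain ⟨n, hn⟩ : ∃ n, orderOf d = n + 1 := ⟨orderOf d - 1, by have := orderOf_pos d; omega⟩
        have : d⁻¹ = d ^ n := inv_eq_of_mul_eq_one_right (by rw [← pow_succ', ← hn, pow_orderOf_eq_one])
        rw [this]; exact hpow n w hw }
  have hconj : ∀ w ∈ conjs x, ∀ g : G, g * w * g⁻¹ ∈ conjs x := by
    intro w hw g
    obtain ⟨g', rfl⟩ := mem_conjs.1 hw
    exact mem_conjs.2 ⟨g * g', by group⟩
  haveI hTn : T.Normal := ⟨fun d hd g w hw => by
    have := hconj _ (hd _ (hconj w hw g⁻¹)) g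
    rwa [inv_inv, show g * (g⁻¹ * w * g * d) * g⁻¹ = w * (g * d * g⁻¹) by group] at this⟩
  have hyT : ∀ h : G, h * y * h⁻¹ * y⁻¹ ∈ T := by
    intro h w hw
    have h1 : w * (h * y * h⁻¹) ∈ conjs (x * y) := (himg h).le ⟨w, hw, rfl⟩
    rw [← himg 1] at h1
    obtain ⟨w', hw', hw''⟩ := h1
    have : w * (h * y * h⁻¹ * y⁻¹) = w' := by
      simp only [one_mul, inv_one, mul_one] at hw''
      rw [← mul_assoc, ← hw'', mul_inv_cancel_right]
    rwa [this]
  -- `T` is an `r`-group
  obtain ⟨i, -, hi⟩ : ∃ i ≤ a, Nat.card T = r ^ i := by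
    refine (Nat.dvd_prime_pow hr).1 ?_
    have hset : conjs x * (T : Set G) = conjs x := by
      refine Set.Subset.antisymm ?_ fun w hw => ⟨w, hw, 1, T.one_mem, mul_one w⟩
      rintro _ ⟨w, hw, d, hd, rfl⟩
      exact hd w hw
    have hc := Subgroup.card_mul_eq_card_subgroup_mul_card_quotient T (conjs x)
    rw [hset, H27.card_carrier_eq_index, hX] at hc
    exact ⟨_, hc⟩
  -- all conjugates of `y` are conjugate under `T`
  obtain ⟨k, hk⟩ := hy
  have hTC : ∀ g : G, ∃ d ∈ T, d * y * d⁻¹ = g * y * g⁻¹ := by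
    intro g
    have hcop2 : (Nat.card T).Coprime (Nat.card (zpowers y)) := by
      rw [hi, Nat.card_zpowers, hk]; exact Nat.coprime_pow_primes _ _ hr hq.out hrq
    have hK : zpowers (g * y * g⁻¹) ≤ T ⊔ zpowers y := zpowers_le.2 (by
      rw [show g * y * g⁻¹ = g * y * g⁻¹ * y⁻¹ * y by group]
      exact mul_mem (mem_sup_left (hyT g)) (mem_sup_right (mem_zpowers y)))
    obtain ⟨d, hd, hdK⟩ := H1.exists_conj_eq_of_coprime (D := T) (H := zpowers y)
      (K := zpowers (g * y * g⁻¹)) (le_normalizer_of_normal) hcop2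
      (Or.inr (isSolvable_of_comm fun a b => IsCyclic.commutative.is_comm.comm a b)) hK
      (by rw [Nat.card_zpowers, Nat.card_zpowers, ← MulAut.conj_apply,
        MulEquiv.orderOf_eq (MulAut.conj g) y])
    refine ⟨d, hd, ?_⟩
    have h1 : d * y * d⁻¹ ∈ zpowers (g * y * g⁻¹) := by
      rw [← hdK]
      exact mem_map_of_mem _ (mem_zpowers y)
    have h2 : d * y * d⁻¹ * (g * y * g⁻¹)⁻¹ ∈ T ⊓ zpowers (g * y * g⁻¹) := by
      refine mem_inf.2 ⟨?_, mul_mem h1 (inv_mem (mem_zpowers _))⟩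
      rw [show d * y * d⁻¹ * (g * y * g⁻¹)⁻¹ =
        d * (y * d⁻¹ * y⁻¹) * (g * y * g⁻¹ * y⁻¹)⁻¹ by group]
      exact mul_mem (mul_mem hd (hTn.conj_mem _ (inv_mem hd) y)) (inv_mem (hyT g))
    rw [(Subgroup.disjoint_of_coprime_natCard (by
      rwa [Nat.card_zpowers, ← MulAut.conj_apply, MulEquiv.orderOf_eq (MulAut.conj g) y,
        ← Nat.card_zpowers])).eq_bot, mem_bot, mul_inv_eq_one] at h2
    exact h2
  have htop : T ⊔ centralizer ({y} : Set G) = ⊤ := eq_top_iff.2 fun g _ => by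
    obtain ⟨d, hd, hdg⟩ := hTC g
    rw [show g = d * (d⁻¹ * g) by group]
    refine mul_mem (mem_sup_left hd) (mem_sup_right (mem_centralizer_singleton_iff.2 ?_))
    calc d⁻¹ * g * y = d⁻¹ * (g * y * g⁻¹) * g := by group
      _ = d⁻¹ * (d * y * d⁻¹) * g := by rw [hdg]
      _ = y * (d⁻¹ * g) := by group
  have hdvd : (centralizer ({y} : Set G)).index ∣ Nat.card T := by
    have h1 := H1.card_sup_dvd_mul (centralizer ({y} : Set G)) T
    rw [sup_comm, htop, card_top, ← (centralizer ({y} : Set G)).card_mul_index] at h1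
    exact Nat.dvd_of_mul_dvd_mul_left Nat.card_pos h1
  rw [hY, hi] at hdvd
  exact hrs ((Nat.prime_dvd_prime_iff_eq hs hr).1
    (hs.dvd_of_dvd_pow ((dvd_pow_self s hb).trans hdvd))).symm

/-- The hypothesis. -/
def Baer (q : ℕ) (G : Type u) [Group G] : Prop :=
  ∀ x : G, (∃ k : ℕ, orderOf x = q ^ k) →
    ∃ r a : ℕ, r.Prime ∧ (centralizer ({x} : Set G)).index = r ^ a

/-- Two commuting `q`-elements with noncentral classes of sizes prime to `q` share their prime. -/
theorem prime_eq_of_commute (hB : Baer q G) {x y : G} (hxy : Commute x y)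
    (hx : ∃ k, orderOf x = q ^ k) (hy : ∃ k, orderOf y = q ^ k) {r s a b : ℕ} (hr : r.Prime)
    (hs : s.Prime) (ha : a ≠ 0) (hb : b ≠ 0) (hrq : r ≠ q) (hsq : s ≠ q)
    (hX : (centralizer ({x} : Set G)).index = r ^ a) (hY : (centralizer ({y} : Set G)).index = s ^ b) :
    r = s := by
  by_contra hrs
  obtain ⟨k, hk⟩ := hx
  obtain ⟨l, hl⟩ := hy
  have hord : ∃ m, orderOf (x * y) = q ^ m := by
    have h1 : orderOf (x * y) ∣ q ^ (k + l) := by
      refine hxy.orderOf_mul_dvd_lcm.trans (Nat.lcm_dvd ?_ ?_)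
      · rw [hk]; exact pow_dvd_pow q (Nat.le_add_right k l)
      · rw [hl]; exact pow_dvd_pow q (Nat.le_add_left l k)
    obtain ⟨m, -, hm⟩ := (Nat.dvd_prime_pow hq.out).1 h1
    exact ⟨m, hm⟩
  obtain ⟨t, e, ht, hZ⟩ := hB _ hord
  have hcop : (centralizer ({y} : Set G)).index.Coprime (centralizer ({x} : Set G)).index := by
    rw [hX, hY]; exact Nat.coprime_pow_primes _ _ hs hr (Ne.symm hrs)
  rcases Nat.eq_zero_or_pos e with he | he
  · subst he
    rw [pow_zero] at hZ
    exact absurd_of_mixed_aux hxy hr hs hrs hrq ⟨l, hl⟩ hb hX hY (e := 0) (by rw [hZ, pow_zero])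
  have h1 : (centralizer ({x * y} : Set G)).index ∣
      (centralizer ({y} : Set G) ⊓ centralizer ({x} : Set G)).index := index_dvd_of_le fun g hg => by
    rw [mem_centralizer_singleton_iff, ← mul_assoc, mem_centralizer_singleton_iff.1 hg.2, mul_assoc,
      mem_centralizer_singleton_iff.1 hg.1, mul_assoc]
  rw [H1.index_inf_eq_of_coprime _ _ hcop, hX, hY, hZ] at h1
  rcases (Nat.Prime.dvd_mul ht).1 ((dvd_pow_self t he.ne').trans h1) with h | h
  · obtain rfl := (Nat.prime_dvd_prime_iff_eq ht hs).1 (ht.dvd_of_dvd_pow h)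
    exact absurd_of_mixed_aux hxy.symm hs hr (Ne.symm hrs) hsq ⟨k, hk⟩ ha hY hX
      (by rw [← hxy.eq, hZ])
  · obtain rfl := (Nat.prime_dvd_prime_iff_eq ht hr).1 (ht.dvd_of_dvd_pow h)
    exact absurd_of_mixed_aux hxy hr hs hrs hrq ⟨l, hl⟩ hb hX hY hZ

/-- A `q`-element centralising a Sylow `q`-subgroup lies in it. -/
theorem mem_of_centralizes (S : Sylow q G) {y : G} (hy : ∃ k, orderOf y = q ^ k)
    (h : (S : Subgroup G) ≤ centralizer ({y} : Set G)) : y ∈ S := by
  obtain ⟨k, hk⟩ := hy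
  have hp : IsPGroup q (zpowers y) := IsPGroup.of_card (n := k) (by rw [Nat.card_zpowers, hk])
  have hle : zpowers y ≤ normalizer ((S : Subgroup G) : Set G) := by
    refine (zpowers_le.2 ?_).trans (centralizer_le_normalizer _)
    exact mem_centralizer_iff.2 fun u hu => mem_centralizer_singleton_iff.1 (h hu)
  have h1 := S.is_maximal' (hp.to_sup_of_normal_right' S.isPGroup' hle) le_sup_right
  exact h1.le (mem_sup_left (mem_zpowers y))

theorem isQElem_conj {G : Type u} [Group G] {q : ℕ} {y : G} (g : G) (hy : ∃ k, orderOf y = q ^ k) :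
    ∃ k, orderOf (g * y * g⁻¹) = q ^ k := by
  obtain ⟨k, hk⟩ := hy
  exact ⟨k, by rw [← MulAut.conj_apply, MulEquiv.orderOf_eq (MulAut.conj g) y, hk]⟩

theorem isQElem_of_mem (Q : Sylow q G) {x : G} (hx : x ∈ Q) : ∃ k, orderOf x = q ^ k := by
  obtain ⟨k, hk⟩ := IsPGroup.iff_orderOf.1 Q.isPGroup' ⟨x, hx⟩
  exact ⟨k, by rw [← hk]; exact Subgroup.orderOf_coe (⟨x, hx⟩ : (Q : Subgroup G))⟩

theorem exists_conj_mem (Q : Sylow q G) {y : G} (hy : ∃ k, orderOf y = q ^ k) :
    ∃ g : G, g * y * g⁻¹ ∈ Q := by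
  obtain ⟨k, hk⟩ := hy
  obtain ⟨S, hS⟩ := IsPGroup.exists_le_sylow (p := q) (P := zpowers y)
    (IsPGroup.of_card (n := k) (by rw [Nat.card_zpowers, hk]))
  obtain ⟨g, hg⟩ := MulAction.exists_smul_eq G S Q
  refine ⟨g, ?_⟩
  rw [← hg]
  show g * y * g⁻¹ ∈ ((g • S : Sylow q G) : Subgroup G)
  rw [Sylow.coe_subgroup_smul]
  exact ⟨y, hS (mem_zpowers y), rfl⟩

/-- When no class of a `q`-element has size divisible by `q`, one prime serves for all of them. -/
theorem exists_prime (hB : Baer q G) (Q : Sylow q G)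
    (hI : ∀ x ∈ Q, ¬ q ∣ (centralizer ({x} : Set G)).index) :
    (∀ x ∈ Q, x ∈ center G) ∨ ∃ p : ℕ, p.Prime ∧ p ≠ q ∧
      ∀ y : G, (∃ k, orderOf y = q ^ k) → ∃ a, (centralizer ({y} : Set G)).index = p ^ a := by
  by_cases hall : ∀ x ∈ Q, x ∈ center G
  · exact Or.inl hall
  push Not at hall
  obtain ⟨x, hxQ, hxc⟩ := hall
  obtain ⟨r, a, hr, hX⟩ := hB x (isQElem_of_mem Q hxQ)
  have ha : a ≠ 0 := by
    rintro rfl
    rw [pow_zero] at hX
    exact hxc (H27.index_cent_eq_one_iff.1 hX)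
  have hrq : r ≠ q := fun h => hI x hxQ (hX ▸ h ▸ dvd_pow_self r ha)
  refine Or.inr ⟨r, hr, hrq, fun y hy => ?_⟩
  obtain ⟨s, b, hs, hY⟩ := hB y hy
  rcases Nat.eq_zero_or_pos b with hb | hb
  · exact ⟨0, by rw [hY, hb, pow_zero, pow_zero]⟩
  have hqy : ¬ q ∣ (centralizer ({y} : Set G)).index := by
    obtain ⟨g, hg⟩ := exists_conj_mem Q hy
    rw [← H27.index_cent_conj g y]
    exact hI _ hg
  have hsq : s ≠ q := fun h => hqy (hY ▸ h ▸ dvd_pow_self s hb.ne')
  obtain ⟨S1, hS1⟩ := H27.exists_sylow_le_of_not_dvd_index (hI x hxQ)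
  obtain ⟨S2, hS2⟩ := H27.exists_sylow_le_of_not_dvd_index hqy
  obtain ⟨g, hg⟩ := MulAction.exists_smul_eq G S1 S2
  have hx2 : g * x * g⁻¹ ∈ (S2 : Subgroup G) := by
    rw [← hg, Sylow.coe_subgroup_smul]
    exact ⟨x, mem_of_centralizes S1 (isQElem_of_mem Q hxQ) hS1, rfl⟩
  have hc : Commute (g * x * g⁻¹) y := mem_centralizer_singleton_iff.1 (hS2 hx2)
  exact ⟨b, by
    rw [hY, prime_eq_of_commute hB hc (isQElem_conj g (isQElem_of_mem Q hxQ)) hy hr hs ha hb.ne' hrq hsq
      (by rw [H27.index_cent_conj, hX]) hY]⟩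

theorem baer_quotient_prime {p : ℕ} (hp : p.Prime)
    (hP : ∀ y : G, (∃ k, orderOf y = q ^ k) → ∃ a, (centralizer ({y} : Set G)).index = p ^ a)
    (N : Subgroup G) [N.Normal] {z : G ⧸ N} (hz : ∃ k, orderOf z = q ^ k) :
    ∃ a, (centralizer ({z} : Set (G ⧸ N))).index = p ^ a := by
  obtain ⟨k, hk⟩ := hz
  obtain ⟨y, rfl, hy⟩ := H27.exists_lift_pElement N hk
  obtain ⟨a, ha⟩ := hP y hy
  obtain ⟨i, -, hi⟩ := (Nat.dvd_prime_pow hp).1 (ha ▸ H27.index_cent_quot_dvd N y)
  exact ⟨i, hi⟩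

/-- The Sylow `q`-subgroup modulo `O_p`. -/
theorem map_sylow_eq_pCore {p : ℕ} (hp : p.Prime) [(Cfsg.pCore p G).Normal]
    (hP : ∀ y : G, (∃ k, orderOf y = q ^ k) → ∃ a, (centralizer ({y} : Set G)).index = p ^ a)
    (Q : Sylow q G) :
    (Q : Subgroup G).map (QuotientGroup.mk' (Cfsg.pCore p G)) =
      Cfsg.pCore q (G ⧸ Cfsg.pCore p G) := by
  set K := Cfsg.pCore p G
  have hle : (Q : Subgroup G).map (QuotientGroup.mk' K) ≤ Cfsg.pCore q (G ⧸ K) := by
    rintro _ ⟨x, hx, rfl⟩
    obtain ⟨k, hk⟩ := isQElem_of_mem Q hx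
    obtain ⟨m, -, hm⟩ := (Nat.dvd_prime_pow hq.out).1
      (hk ▸ orderOf_map_dvd (QuotientGroup.mk' K) x)
    obtain ⟨a, ha⟩ := baer_quotient_prime hp hP K ⟨m, hm⟩
    exact mem_pCore_mod hp hm ha (Or.inr (H1.pCore_quotient_pCore p G))
  exact le_antisymm hle
    ((Q.mapSurjective (QuotientGroup.mk'_surjective K)).is_maximal' (H1.isPGroup_pCore q _) hle).le

theorem sup_normal {p : ℕ} (hp : p.Prime) [(Cfsg.pCore p G).Normal]
    (hP : ∀ y : G, (∃ k, orderOf y = q ^ k) → ∃ a, (centralizer ({y} : Set G)).index = p ^ a)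
    (Q : Sylow q G) : (Cfsg.pCore p G ⊔ (Q : Subgroup G)).Normal := by
  have h1 := congrArg (Subgroup.comap (QuotientGroup.mk' (Cfsg.pCore p G))) (map_sylow_eq_pCore hp hP Q)
  rw [Subgroup.comap_map_eq, QuotientGroup.ker_mk', sup_comm] at h1
  rw [h1]
  exact (H1.pCore_normal' q _).comap _

theorem pCore_coprime {p : ℕ} (hp : p.Prime) (hpq : p ≠ q) :
    (Nat.card (Cfsg.pCore p G)).Coprime q := by
  haveI : Fact p.Prime := ⟨hp⟩
  obtain ⟨n, hn⟩ := H1.card_pCore_eq_pow p G
  rw [hn]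
  exact ((Nat.coprime_primes hp hq.out).2 hpq).pow_left n

theorem sylow_comm {p : ℕ} (hp : p.Prime) (hpq : p ≠ q)
    (hP : ∀ y : G, (∃ k, orderOf y = q ^ k) → ∃ a, (centralizer ({y} : Set G)).index = p ^ a)
    (Q : Sylow q G) : IsMulCommutative (Q : Subgroup G) := by
  haveI := H1.pCore_normal' p G
  set K := Cfsg.pCore p G
  refine ⟨⟨fun x u => Subtype.ext ?_⟩⟩
  obtain ⟨k, hk⟩ := isQElem_of_mem Q x.2
  obtain ⟨m, -, hm⟩ := (Nat.dvd_prime_pow hq.out).1
    (hk ▸ orderOf_map_dvd (QuotientGroup.mk' K) (x : G))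
  obtain ⟨a, ha⟩ := baer_quotient_prime hp hP K ⟨m, hm⟩
  have hnd : ¬ q ∣ (centralizer ({QuotientGroup.mk' K (x : G)} : Set (G ⧸ K))).index := fun h => by
    rw [ha] at h
    exact hpq ((Nat.prime_dvd_prime_iff_eq hq.out hp).1 (hq.out.dvd_of_dvd_pow h)).symm
  have h1 := pCore_le_centralizer hnd ((map_sylow_eq_pCore hp hP Q).le (mem_map_of_mem _ u.2))
  have h2 : (x : G) * u * (x : G)⁻¹ * (u : G)⁻¹ ∈ (Q : Subgroup G) ⊓ K := by
    refine mem_inf.2 ⟨mul_mem (mul_mem (mul_mem x.2 u.2) (inv_mem x.2)) (inv_mem u.2), ?_⟩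
    rw [← QuotientGroup.eq_one_iff]
    have h3 := (mem_centralizer_singleton_iff.1 h1).symm
    simp only [QuotientGroup.mk'_apply] at h3
    simp only [QuotientGroup.mk_mul, QuotientGroup.mk_inv]
    rw [h3, mul_inv_cancel_right, mul_inv_cancel]
  have hQK : (Q : Subgroup G) ⊓ K = ⊥ := by
    refine (Subgroup.disjoint_of_coprime_natCard ?_).eq_bot
    obtain ⟨n, hn⟩ := IsPGroup.iff_card.1 Q.isPGroup'
    rw [hn]; exact (pCore_coprime hp hpq).symm.pow_left n
  rw [hQK, mem_bot, mul_inv_eq_one, mul_inv_eq_iff_eq_mul] at h2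
  exact h2

/-- The quotient by `O_{q'}` is solvable. -/
theorem isSolvable_quotient {p : ℕ} (hp : p.Prime) (hpq : p ≠ q)
    (hP : ∀ y : G, (∃ k, orderOf y = q ^ k) → ∃ a, (centralizer ({y} : Set G)).index = p ^ a)
    (Q : Sylow q G) [(Cfsg.pPrimeCore q G).Normal] :
    Group.IsSolvable (G ⧸ Cfsg.pPrimeCore q G) := by
  haveI := H1.pCore_normal' p G
  set K' := Cfsg.pPrimeCore q G
  set B := G ⧸ K'
  set f := QuotientGroup.mk' K'
  have hf : Function.Surjective f := QuotientGroup.mk'_surjective K'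
  set V : Sylow q B := Q.mapSurjective hf
  haveI hVn : (V : Subgroup B).Normal := by
    have h1 : (Cfsg.pCore p G ⊔ (Q : Subgroup G)).map f = (V : Subgroup B) := by
      rw [Subgroup.map_sup]
      show _ ⊔ (Q : Subgroup G).map f = (Q : Subgroup G).map f
      rw [sup_eq_right, show (Cfsg.pCore p G).map f = ⊥ from (Subgroup.map_eq_bot_iff _).2 ?_]
      · exact bot_le
      rw [QuotientGroup.ker_mk']
      exact H1.le_pPrimeCore (pCore_coprime hp hpq)
    rw [← h1]
    exact (sup_normal hp hP Q).map f hf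
  have hPB : ∀ y : B, (∃ k, orderOf y = q ^ k) →
      ∃ a, (centralizer ({y} : Set B)).index = p ^ a := fun y hy => baer_quotient_prime hp hP K' hy
  have hVc : IsMulCommutative (V : Subgroup B) := sylow_comm hp hpq hPB V
  letI : CommGroup (V : Subgroup B) :=
    { (inferInstance : Group (V : Subgroup B)) with mul_comm := fun a b => hVc.is_comm.comm a b }
  obtain ⟨N, hN⟩ := Subgroup.exists_right_complement'_of_coprime (N := (V : Subgroup B)) V.card_coprime_index
  have hNq : ¬ q ∣ Nat.card N := by rw [← hN.symm.index_eq_card]; exact V.not_dvd_index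
  let act : N →* MulAut (V : Subgroup B) := MulAut.conjNormal.comp N.subtype
  letI : MulDistribMulAction N (V : Subgroup B) := MulDistribMulAction.compHom _ act
  have hact : ∀ (n : N) (v : (V : Subgroup B)), ((n • v : (V : Subgroup B)) : B) = n * v * (n : B)⁻¹ :=
    fun n v => MulAut.conjNormal_apply _ _
  have hprod : ∀ g : B, ∃ n ∈ N, ∃ u ∈ (V : Subgroup B), g = n * u := fun g => by
    obtain ⟨⟨⟨n, hn⟩, ⟨u, hu⟩⟩, h, -⟩ := hN.symm.existsUnique g
    exact ⟨n, hn, u, hu, h.symm⟩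
  have hcomm : ∀ u ∈ (V : Subgroup B), ∀ v : (V : Subgroup B), u * (v : B) = v * u := fun u hu v =>
    congrArg Subtype.val (hVc.is_comm.comm ⟨u, hu⟩ v)
  -- the kernel of the action
  set C := N ⊓ centralizer ((V : Subgroup B) : Set B) with hC
  haveI hCn : C.Normal := ⟨fun c hc g => by
    obtain ⟨n, hn, u, hu, rfl⟩ := hprod g
    have h1 : u * c * u⁻¹ = c := by
      rw [mul_inv_eq_iff_eq_mul]; exact mem_centralizer_iff.1 hc.2 u hu
    rw [show n * u * c * (n * u)⁻¹ = n * (u * c * u⁻¹) * n⁻¹ by group, h1]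
    exact mem_inf.2 ⟨mul_mem (mul_mem hn hc.1) (inv_mem hn),
      (Subgroup.normal_centralizer (H := (V : Subgroup B))).conj_mem c hc.2 n⟩⟩
  have hCbot : C = ⊥ := by
    have h1 : C ≤ Cfsg.pPrimeCore q B := H1.le_pPrimeCore
      ((hq.out.coprime_iff_not_dvd.2 hNq).symm.coprime_dvd_left (card_dvd_of_le inf_le_left))
    rwa [H1.pPrimeCore_quotient_pPrimeCore, le_bot_iff] at h1
  haveI : FaithfulSMul N (V : Subgroup B) := ⟨fun {m n} h => by
    have hmem : (n : B)⁻¹ * m ∈ C := by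
      refine mem_inf.2 ⟨mul_mem (inv_mem n.2) m.2, mem_centralizer_iff.2 fun v hv => ?_⟩
      have h1 := congrArg Subtype.val (h ⟨v, hv⟩)
      rw [hact, hact] at h1
      calc v * ((n : B)⁻¹ * m) = (n : B)⁻¹ * ((n : B) * v * (n : B)⁻¹) * m := by group
        _ = (n : B)⁻¹ * ((m : B) * v * (m : B)⁻¹) * m := by rw [h1]
        _ = (n : B)⁻¹ * m * v := by group
    rw [hCbot, mem_bot, inv_mul_eq_one] at hmem
    exact Subtype.ext hmem.symm⟩
  have horb : ∀ v : (V : Subgroup B), ∃ a, (MulAction.stabilizer N v).index = p ^ a := by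
    intro v
    obtain ⟨a, ha⟩ := hPB v (isQElem_of_mem V v.2)
    refine ⟨a, ?_⟩
    rw [MulAction.index_stabilizer, ← ha, ← H27.card_carrier_eq_index, Nat.card_coe_set_eq,
      ← Set.ncard_image_of_injective (MulAction.orbit N v) Subtype.val_injective]
    congr 1
    ext w
    constructor
    · rintro ⟨_, ⟨n, rfl⟩, rfl⟩
      exact mem_conjs.2 ⟨n, (hact n v).symm⟩
    · intro hw
      obtain ⟨g, rfl⟩ := mem_conjs.1 hw
      obtain ⟨n, hn, u, hu, rfl⟩ := hprod g
      refine ⟨(⟨n, hn⟩ : N) • v, ⟨_, rfl⟩, ?_⟩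
      rw [hact, show n * u * (v : B) * (n * u)⁻¹ = n * (u * (v : B)) * u⁻¹ * n⁻¹ by group, hcomm u hu]
      group
  have hNsol : Group.IsSolvable N :=
    H34.PrimeOrbits.isSolvable_of_orbits hp (q := q) V.isPGroup' hNq horb
  haveI : Group.IsSolvable (B ⧸ (V : Subgroup B)) := Group.isSolvable_of_surjective
    (f := (QuotientGroup.mk' (V : Subgroup B)).comp N.subtype) fun z => by
      obtain ⟨g, rfl⟩ := QuotientGroup.mk'_surjective _ z
      obtain ⟨n, hn, u, hu, rfl⟩ := hprod g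
      refine ⟨⟨n, hn⟩, ?_⟩
      simp only [MonoidHom.comp_apply, Subgroup.coe_subtype, QuotientGroup.mk'_apply]
      exact QuotientGroup.eq.2 (by rwa [← mul_assoc, inv_mul_cancel, one_mul])
  haveI : Group.IsSolvable (V : Subgroup B) := isSolvable_of_comm fun a b => hVc.is_comm.comm a b
  exact Group.isSolvable_of_ker_le_range (V : Subgroup B).subtype (QuotientGroup.mk' (V : Subgroup B))
    (by rw [QuotientGroup.ker_mk', Subgroup.range_subtype])

/-- The case of a class of size divisible by `q`: the Sylow subgroup is a direct factor. -/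
theorem direct_factor (hB : Baer q G) (Q : Sylow q G) {y : G} (hyQ : y ∈ Q)
    (hy : q ∣ (centralizer ({y} : Set G)).index) :
    (Q : Subgroup G).Normal ∧ ∃ N : Subgroup G, N.Normal ∧ N.IsComplement' (Q : Subgroup G) ∧
      ∀ x ∈ Q, N ≤ centralizer ({x} : Set G) := by
  have hqtype : ∀ x ∈ Q, q ∣ (centralizer ({x} : Set G)).index →
      ∃ a, (centralizer ({x} : Set G)).index = q ^ a := fun x hx hd => by
    obtain ⟨r, a, hr, hX⟩ := hB x (isQElem_of_mem Q hx)
    rw [hX] at hd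
    obtain rfl := (Nat.prime_dvd_prime_iff_eq hq.out hr).1 (hq.out.dvd_of_dvd_pow hd)
    exact ⟨a, hX⟩
  have hqcore : ∀ x ∈ Q, q ∣ (centralizer ({x} : Set G)).index → x ∈ Cfsg.pCore q G := fun x hx hd => by
    obtain ⟨a, ha⟩ := hqtype x hx hd
    exact H27.mem_pCore_of_index_eq_pow (isQElem_of_mem Q hx) ha
  -- `Q` is normal
  have hQ : (Q : Subgroup G) ≤ Cfsg.pCore q G := by
    by_contra hne
    obtain ⟨w, hwQ, hwO⟩ := SetLike.not_le_iff_exists.1 hne
    have hc : ∀ x ∈ Q, x ∉ Cfsg.pCore q G → Commute x y := fun x hx hxO =>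
      (mem_centralizer_singleton_iff.1 (pCore_le_centralizer (fun h => hxO (hqcore x hx h))
        (hqcore y hyQ hy))).symm
    have hle : (Q : Subgroup G) ≤ centralizer ({y} : Set G) := fun x hx => by
      refine mem_centralizer_singleton_iff.2 ?_
      by_cases hxO : x ∈ Cfsg.pCore q G
      · have hwx : w * x ∉ Cfsg.pCore q G := fun h => hwO (by
          simpa using mul_mem h (inv_mem hxO))
        have h1 := (hc w hwQ hwO).inv_left.mul_left (hc _ (mul_mem hwQ hx) hwx)
        rwa [inv_mul_cancel_left] at h1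
      · exact (hc x hx hxO).eq
    exact (H27.not_dvd_index_iff.2 ⟨Q, hle⟩) hy
  have hQn : (Q : Subgroup G).Normal := by
    rw [le_antisymm hQ (H1.pCore_le_sylow Q)]; exact H1.pCore_normal' q G
  haveI := hQn
  refine ⟨hQn, ?_⟩
  set Z := (Q : Subgroup G) ⊓ centralizer ((Q : Subgroup G) : Set G) with hZ
  have hnotZ : ∀ x ∈ Q, x ∉ Z → ∃ a, (centralizer ({x} : Set G)).index = q ^ a := fun x hx hxZ => by
    refine hqtype x hx ?_
    by_contra hd
    refine hxZ (mem_inf.2 ⟨hx, mem_centralizer_iff.2 fun u hu => ?_⟩)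
    exact mem_centralizer_singleton_iff.1
      (pCore_le_centralizer hd (hQ hu))
  obtain ⟨N, hN⟩ := Subgroup.exists_right_complement'_of_coprime (N := (Q : Subgroup G)) Q.card_coprime_index
  set D := (Q : Subgroup G) ⊓ centralizer (N : Set G) with hD
  -- every element outside `Z` has a conjugate in `D`
  have hcover : ∀ x ∈ Q, x ∉ Z → ∃ d ∈ Q, d * x * d⁻¹ ∈ D := by
    intro x hx hxZ
    obtain ⟨a, ha⟩ := hnotZ x hx hxZ
    set C := centralizer ({x} : Set G)
    have hcardN : Nat.card N = (Q : Subgroup G).index := hN.symm.index_eq_card.symm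
    have hrel : ((Q : Subgroup G).subgroupOf C).index = Nat.card N := by
      rw [hcardN]
      refine le_antisymm ?_ ?_
      · exact Nat.le_of_dvd (Nat.pos_of_ne_zero index_ne_zero_of_finite)
          (Subgroup.relIndex_dvd_index_of_normal (H := (Q : Subgroup G)) (K := C))
      · have h1 : ((Q : Subgroup G) ⊓ C).index = (Q : Subgroup G).index * C.index :=
          H1.index_inf_eq_of_coprime _ _ (by
            rw [ha]; exact ((hq.out.coprime_iff_not_dvd.2 Q.not_dvd_index).symm).pow_right a)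
        have h2 := Subgroup.relIndex_mul_index (inf_le_right : (Q : Subgroup G) ⊓ C ≤ C)
        rw [Subgroup.inf_relIndex_right, h1] at h2
        exact (Nat.eq_of_mul_eq_mul_right (Nat.pos_of_ne_zero index_ne_zero_of_finite) h2).ge
    obtain ⟨M, hM⟩ := Subgroup.exists_right_complement'_of_coprime
      (N := (Q : Subgroup G).subgroupOf C) (by
        rw [hrel]
        obtain ⟨m, hm⟩ := IsPGroup.iff_card.1 (Q.isPGroup'.comap_of_injective C.subtype C.subtype_injective)
        show (Nat.card ((Q : Subgroup G).subgroupOf C)).Coprime _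
        rw [show Nat.card ((Q : Subgroup G).subgroupOf C) = q ^ m from hm, hcardN]
        exact (hq.out.coprime_iff_not_dvd.2 Q.not_dvd_index).pow_left m)
    obtain ⟨d, hd, hdN⟩ := H1.exists_conj_eq_of_coprime (D := (Q : Subgroup G))
      (H := M.map C.subtype) (K := N) le_normalizer_of_normal
      (by
        rw [card_map_of_injective C.subtype_injective, ← hM.symm.index_eq_card, hrel, hcardN]
        exact Q.card_coprime_index)
      (Or.inl (by haveI := Q.isPGroup'.isNilpotent; infer_instance))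
      (by
        have h3 : (Q : Subgroup G) ⊔ M.map C.subtype = ⊤ := by
          refine eq_top_of_le_card _ ?_
          rw [← (Q : Subgroup G).card_mul_index]
          have hdisj : Disjoint (Q : Subgroup G) (M.map C.subtype) :=
            Subgroup.disjoint_of_coprime_natCard (by
              rw [card_map_of_injective C.subtype_injective, ← hM.symm.index_eq_card, hrel, hcardN]
              exact Q.card_coprime_index)
          rw [← hcardN, ← hrel, hM.symm.index_eq_card, Nat.card_congr (M.equivMapOfInjective C.subtype C.subtype_injective).toEquiv]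
          refine le_of_eq ?_
          rw [← Nat.card_prod]
          refine (Nat.card_congr (Equiv.ofBijective
            (fun z : ↥(Q : Subgroup G) × ↥(M.map C.subtype) =>
              (⟨(z.1 : G) * z.2, mul_mem (mem_sup_left z.1.2) (mem_sup_right z.2.2)⟩ :
                ((Q : Subgroup G) ⊔ M.map C.subtype : Subgroup G))) ⟨?_, ?_⟩))
          · intro z z' h
            exact Subgroup.mul_injective_of_disjoint hdisj (congrArg Subtype.val h)
          · rintro ⟨w, hw⟩
            obtain ⟨u, hu, m, hm, rfl⟩ := Subgroup.mem_sup_of_normal_left.1 hw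
            exact ⟨(⟨u, hu⟩, ⟨m, hm⟩), rfl⟩
        rw [h3]; exact le_top)
      (by rw [card_map_of_injective C.subtype_injective, ← hM.symm.index_eq_card, hrel])
    refine ⟨d, hd, mem_inf.2 ⟨mul_mem (mul_mem hd hx) (inv_mem hd),
      mem_centralizer_iff.2 fun n hn => ?_⟩⟩
    rw [SetLike.mem_coe, ← hdN] at hn
    obtain ⟨_, ⟨c, -, rfl⟩, rfl⟩ := hn
    have hcx : (c : G) * x = x * c := mem_centralizer_singleton_iff.1 c.2
    simp only [MulDistribMulAction.toMonoidEnd_apply, MulDistribMulAction.toMonoidHom_apply,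
      MulAut.smul_def, MulAut.conj_apply, Subgroup.coe_subtype]
    calc d * (c : G) * d⁻¹ * (d * x * d⁻¹) = d * ((c : G) * x) * d⁻¹ := by group
      _ = d * (x * (c : G)) * d⁻¹ := by rw [hcx]
      _ = d * x * d⁻¹ * (d * (c : G) * d⁻¹) := by group
  -- `D ⊔ Z = Q`
  have hDZle : D ⊔ Z ≤ (Q : Subgroup G) := sup_le inf_le_left inf_le_left
  have hDZ : D ⊔ Z = (Q : Subgroup G) := by
    by_contra hne
    haveI : Group.IsNilpotent (Q : Subgroup G) := Q.isPGroup'.isNilpotent
    obtain ⟨Mx, hMx, hle⟩ := (eq_top_or_exists_le_coatom ((D ⊔ Z).subgroupOf (Q : Subgroup G))).resolve_left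
      (fun h => hne (le_antisymm hDZle (subgroupOf_eq_top.1 h)))
    haveI : Mx.Normal := NormalizerCondition.normal_of_coatom _ Group.normalizerCondition_of_isNilpotent hMx
    refine hMx.1 (eq_top_iff.2 fun x _ => ?_)
    by_cases hxZ : (x : G) ∈ Z
    · exact hle (mem_subgroupOf.2 (mem_sup_right hxZ))
    · obtain ⟨d, hd, hdx⟩ := hcover _ x.2 hxZ
      have h1 : (⟨d, hd⟩ : (Q : Subgroup G)) * x * (⟨d, hd⟩ : (Q : Subgroup G))⁻¹ ∈ Mx :=
        hle (mem_subgroupOf.2 (mem_sup_left hdx))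
      have h2 := (inferInstance : Mx.Normal).conj_mem _ h1 (⟨d, hd⟩ : (Q : Subgroup G))⁻¹
      simpa [mul_assoc] using h2
  have hQnorm : (Q : Subgroup G) ≤ normalizer (D : Set G) := hDZ ▸ sup_le le_normalizer
    ((inf_le_right : Z ≤ _).trans
      ((centralizer_le (fun w hw => (mem_inf.1 hw).1)).trans (centralizer_le_normalizer _)))
  -- `D = Q`
  have hDQ : (Q : Subgroup G) ≤ D := by
    have hout : ∀ x ∈ Q, x ∉ Z → x ∈ D := fun x hx hxZ => by
      obtain ⟨d, hd, hdx⟩ := hcover x hx hxZ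
      exact (mem_normalizer_iff.1 (hQnorm hd) x).2 hdx
    intro x hx
    by_cases hxZ : x ∈ Z
    · have hyZ : y ∉ Z := fun h => by
        refine (H27.not_dvd_index_iff.2 ⟨Q, fun u hu => ?_⟩) hy
        exact mem_centralizer_singleton_iff.2 (mem_centralizer_iff.1 (mem_inf.1 h).2 u hu)
      have h1 : x * y ∉ Z := fun h => hyZ (by simpa using Z.mul_mem (Z.inv_mem hxZ) h)
      simpa using D.mul_mem (hout _ (mul_mem hx hyQ) h1) (D.inv_mem (hout y hyQ hyZ))
    · exact hout x hx hxZ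
  have hNQ : ∀ x ∈ Q, ∀ n ∈ N, n * x = x * n := fun x hx n hn =>
    mem_centralizer_iff.1 (mem_inf.1 (hDQ hx)).2 n hn
  refine ⟨N, ?_, hN.symm, fun x hx n hn => mem_centralizer_singleton_iff.2 (hNQ x hx n hn)⟩
  refine normalizer_eq_top_iff.1 (eq_top_iff.2 ?_)
  rw [← hN.sup_eq_top]
  refine sup_le (fun x hx => centralizer_le_normalizer _ ?_) le_normalizer
  exact mem_centralizer_iff.2 fun n hn => hNQ x hx n hn

end H34.QBaer
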