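import Mathlib
import Cfsg.Agent.H33.Basic
import Cfsg.Agent.H2.UniqueSubgroup
import Cfsg.Agent.H13.QuaternionSylow

set_option autoImplicit false

/-! Nilpotent groups in which all centralizers of non-central elements are cyclic. -/

namespace H34.QCC

open QuaternionGroup

theorem two_nsmul_eq_zero {n : ℕ} (hn : 0 < n) {j : ZMod (2 * n)} (h : j + j = 0) :
    j = 0 ∨ j = (n : ZMod (2 * n)) := by
  haveI : NeZero (2 * n) := ⟨by omega⟩
  have hlt := ZMod.val_lt j
  have h' : ((2 * j.val : ℕ) : ZMod (2 * n)) = 0 := by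
    push_cast
    rw [ZMod.natCast_zmod_val, two_mul j, h]
  rw [ZMod.natCast_eq_zero_iff] at h'
  have h2 : n ∣ j.val := Nat.dvd_of_mul_dvd_mul_left two_pos h'
  obtain ⟨c, hc⟩ := h2
  have hc2 : c < 2 := by
    by_contra hc2
    have : n * 2 ≤ n * c := Nat.mul_le_mul_left _ (not_lt.1 hc2)
    omega
  interval_cases c
  · left; rw [← ZMod.natCast_zmod_val j, hc, mul_zero, Nat.cast_zero]
  · right; rw [← ZMod.natCast_zmod_val j, hc, mul_one]

/-- Centralizers of non-central elements of a generalized quaternion group are cyclic. -/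
theorem centralizer_cyclic {n : ℕ} (hn : 0 < n) (u : QuaternionGroup n)
    (hu : u ∉ Subgroup.center (QuaternionGroup n)) :
    IsCyclic ↥(Subgroup.centralizer ({u} : Set (QuaternionGroup n))) := by
  haveI : NeZero (2 * n) := ⟨by omega⟩
  suffices h : ∃ g : QuaternionGroup n,
      Subgroup.centralizer ({u} : Set (QuaternionGroup n)) ≤ Subgroup.zpowers g by
    obtain ⟨g, hg⟩ := h
    exact isCyclic_of_injective (Subgroup.inclusion hg) (Subgroup.inclusion_injective hg)
  cases u with
  | a i =>
    refine ⟨a 1, fun y hy => ?_⟩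
    rw [Subgroup.mem_centralizer_singleton_iff] at hy
    cases y with
    | a j =>
      refine ⟨(j.val : ℤ), ?_⟩
      show a 1 ^ (j.val : ℤ) = a j
      rw [zpow_natCast, a_one_pow, ZMod.natCast_zmod_val]
    | xa j =>
      exfalso
      rw [xa_mul_a, a_mul_xa] at hy
      have h2 : i + i = 0 := by
        have h := xa.inj hy
        calc i + i = (j + i) - (j - i) := by ring
          _ = 0 := by rw [h, sub_self]
      refine hu (Subgroup.mem_center_iff.2 fun y => ?_)
      cases y with
      | a l => rw [a_mul_a, a_mul_a, add_comm]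
      | xa l =>
        rw [xa_mul_a, a_mul_xa]
        congr 1
        calc l + i = (l - i) + (i + i) := by ring
          _ = l - i := by rw [h2, add_zero]
  | xa i =>
    have hsq : xa i * xa i = (a (n : ZMod (2 * n)) : QuaternionGroup n) := by
      rw [xa_mul_xa, add_sub_cancel_right]
    refine ⟨xa i, fun y hy => ?_⟩
    rw [Subgroup.mem_centralizer_singleton_iff] at hy
    cases y with
    | a j =>
      rw [a_mul_xa, xa_mul_a] at hy
      have h2 : j + j = 0 := by
        have h := xa.inj hy
        calc j + j = (i + j) - (i - j) := by ring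
          _ = 0 := by rw [← h, sub_self]
      rcases two_nsmul_eq_zero hn h2 with rfl | rfl
      · exact one_mem _
      · rw [← hsq]; exact mul_mem (Subgroup.mem_zpowers _) (Subgroup.mem_zpowers _)
    | xa j =>
      rw [xa_mul_xa, xa_mul_xa] at hy
      have h2 : (j - i) + (j - i) = 0 := by
        have h := a.inj hy
        calc (j - i) + (j - i) = ((n : ZMod (2 * n)) + j - i) - ((n : ZMod (2 * n)) + i - j) := by ring
          _ = 0 := by rw [h, sub_self]
      rcases two_nsmul_eq_zero hn h2 with h | h
      · rw [sub_eq_zero] at h; rw [h]; exact Subgroup.mem_zpowers _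
      · have e : xa j = (xa i * (xa i * xa i) : QuaternionGroup n) := by
          rw [hsq, xa_mul_a, ← h, add_sub_cancel]
        rw [e]
        exact mul_mem (Subgroup.mem_zpowers _) (mul_mem (Subgroup.mem_zpowers _) (Subgroup.mem_zpowers _))

theorem iff_quaternion {G : Type*} [Group G] [Finite G] (hG : Group.IsNilpotent G)
    (hna : ¬ IsMulCommutative G) :
    (∀ x : G, x ∉ Subgroup.center G → IsCyclic (Subgroup.centralizer ({x} : Set G))) ↔
      ∃ (k m : ℕ), 1 ≤ k ∧ Odd m ∧ Nonempty (G ≃* QuaternionGroup (2 ^ k) × Multiplicative (ZMod m)) := by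
  classical
  haveI := hG
  constructor
  · intro hcc
    -- a non-commutative Sylow subgroup
    obtain ⟨p, hpp, S, hSna⟩ : ∃ (p : ℕ) (_ : Fact p.Prime) (S : Sylow p G),
        ¬ ∀ a b : ↥(S : Subgroup G), a * b = b * a := by
      by_contra hcon
      push Not at hcon
      refine hna ⟨⟨fun x y => ?_⟩⟩
      obtain ⟨e⟩ := (Group.isNilpotent_of_finite_tfae (G := G)).out 0 4 |>.mp hG
      apply e.symm.injective
      rw [map_mul, map_mul]
      funext q P
      exact hcon q.1 ⟨Nat.prime_of_mem_primeFactors q.2⟩ P _ _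
    haveI := hpp
    have hp : p.Prime := hpp.out
    haveI hSn : (S : Subgroup G).Normal := by
      have h := ((Group.isNilpotent_of_finite_tfae (G := G)).out 0 3 rfl rfl).mp hG
      exact h p hpp S
    obtain ⟨a, b, hab⟩ : ∃ a b : ↥(S : Subgroup G), a * b ≠ b * a := by
      by_contra h; push Not at h; exact hSna h
    have ha : (a : G) ∉ Subgroup.center G := fun h =>
      hab (Subtype.ext (Subgroup.mem_center_iff.1 h b).symm)
    obtain ⟨K, hK⟩ := Subgroup.exists_right_complement'_of_coprime
      (N := (S : Subgroup G)) S.card_coprime_index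
    have hKcop : ¬ p ∣ Nat.card K := by
      rw [← hK.symm.index_eq_card]; exact S.not_dvd_index
    have hcomm : ∀ s ∈ (S : Subgroup G), ∀ t ∈ K, Commute s t := fun s hs t ht =>
      H33.commute_of_nilpotent (p := p)
        (by obtain ⟨k, hk⟩ := IsPGroup.iff_orderOf.1 S.2 ⟨s, hs⟩; exact ⟨k, by rw [← hk, ← Subgroup.orderOf_coe]⟩)
        (fun hd => hKcop (hd.trans (Subgroup.orderOf_dvd_natCard K ht)))
    -- `K` is cyclic
    haveI hKc : IsCyclic ↥K := by
      haveI := hcc _ ha
      exact isCyclic_of_injective (Subgroup.inclusion (fun t ht =>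
        Subgroup.mem_centralizer_singleton_iff.2 (hcomm a a.2 t ht).symm.eq))
        (Subgroup.inclusion_injective _)
    -- the Sylow subgroup has a unique subgroup of order `p`
    obtain ⟨z, hz, hzc, hzp⟩ : ∃ z ∈ (S : Subgroup G), z ∈ Subgroup.center G ∧ orderOf z = p := by
      haveI : Nontrivial ↥(S : Subgroup G) := ⟨⟨a, b, fun h => hab (by rw [h])⟩⟩
      haveI := S.2.center_nontrivial
      have hd : p ∣ Nat.card (Subgroup.center ↥(S : Subgroup G)) :=
        ((S.2.to_subgroup _).card_eq_or_dvd).resolve_left (fun h => absurd (Subgroup.eq_bot_of_card_eq _ h)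
          ((Subgroup.nontrivial_iff_ne_bot _).1 inferInstance))
      obtain ⟨z, hz⟩ := exists_prime_orderOf_dvd_card' p hd
      refine ⟨((z : ↥(S : Subgroup G)) : G), (z : ↥(S : Subgroup G)).2, Subgroup.mem_center_iff.2 fun g => ?_, ?_⟩
      · obtain ⟨⟨⟨s, hs⟩, ⟨t, ht⟩⟩, rfl⟩ := hK.2 g
        have h1 : s * (z : ↥(S : Subgroup G)) = (z : ↥(S : Subgroup G)) * s :=
          congrArg Subtype.val (Subgroup.mem_center_iff.1 z.2 ⟨s, hs⟩)
        have h2 := hcomm _ (z : ↥(S : Subgroup G)).2 t ht
        exact ((show Commute s _ from h1).mul_left h2.symm).eq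
      · rw [Subgroup.orderOf_coe, Subgroup.orderOf_coe]; exact hz
    have huniq : ∀ H H' : Subgroup ↥(S : Subgroup G), Nat.card H = p → Nat.card H' = p → H = H' := by
      suffices h : ∀ H : Subgroup ↥(S : Subgroup G), Nat.card H = p →
          H.map (S : Subgroup G).subtype = Subgroup.zpowers z from fun H H' hH hH' =>
        Subgroup.map_injective (Subgroup.subtype_injective _) ((h H hH).trans (h H' hH').symm)
      intro H hH
      set H₁ := H.map (S : Subgroup G).subtype
      have hH₁ : Nat.card H₁ = p :=
        (Nat.card_congr (H.equivMapOfInjective _ (Subgroup.subtype_injective _)).toEquiv).symm.trans hH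
      obtain ⟨⟨y, hy⟩, hyg⟩ := (isCyclic_of_prime_card (p := p) hH₁).exists_generator
      have hHy : H₁ = Subgroup.zpowers y := le_antisymm (fun x hx => by
        obtain ⟨i, hi⟩ := hyg ⟨x, hx⟩
        exact ⟨i, congrArg Subtype.val hi⟩) (Subgroup.zpowers_le.2 hy)
      -- both generators lie in a common cyclic centralizer
      have key : ∀ w : G, w ∉ Subgroup.center G → y ∈ Subgroup.centralizer ({w} : Set G) →
          z ∈ Subgroup.centralizer ({w} : Set G) → H₁ = Subgroup.zpowers z := by
        intro w hw hyw hzw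
        refine H13.eq_of_le_cyclic (hcc w hw) ?_ (Subgroup.zpowers_le.2 hzw) ?_
        · rw [hHy]; exact Subgroup.zpowers_le.2 hyw
        · rw [hH₁, Nat.card_zpowers, hzp]
      have hzall : ∀ w : G, z ∈ Subgroup.centralizer ({w} : Set G) := fun w =>
        Subgroup.mem_centralizer_singleton_iff.2 (Subgroup.mem_center_iff.1 hzc w).symm
      by_cases hyc : y ∈ Subgroup.center G
      · exact key _ ha (Subgroup.mem_centralizer_singleton_iff.2 (Subgroup.mem_center_iff.1 hyc _).symm) (hzall _)
      · exact key y hyc (Subgroup.mem_centralizer_singleton_iff.2 rfl) (hzall y)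
    rcases H2.cyclic_or_quaternion_of_unique S.2 huniq with hc | ⟨hp2, k, ⟨eS⟩⟩
    · exact absurd (IsCyclic.commGroup (α := ↥(S : Subgroup G))).mul_comm hSna
    subst hp2
    refine ⟨k, Nat.card K, ?_, Nat.not_even_iff_odd.1 fun h => hKcop (even_iff_two_dvd.1 h), ⟨?_⟩⟩
    · by_contra hk0
      have hk0 : k = 0 := by omega
      subst hk0
      refine hSna fun u v => eS.injective ?_
      rw [map_mul, map_mul]
      exact (show ∀ u v : QuaternionGroup (2 ^ 0), u * v = v * u from by
        show ∀ u v : QuaternionGroup 1, u * v = v * u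
        decide) _ _
    · let f : ↥(S : Subgroup G) × ↥K →* G := MonoidHom.noncommCoprod (S : Subgroup G).subtype K.subtype
        (fun s t => hcomm s s.2 t t.2)
      have hf : Function.Bijective f := hK
      exact (MulEquiv.ofBijective f hf).symm.trans
        (MulEquiv.prodCongr eS (zmodCyclicMulEquiv hKc).symm)
  · rintro ⟨k, m, hk, hm, ⟨e⟩⟩ x hx
    haveI : NeZero m := ⟨fun h => by subst h; simp at hm⟩
    have hn : 0 < 2 ^ k := Nat.two_pow_pos k
    have hu : (e x).1 ∉ Subgroup.center (QuaternionGroup (2 ^ k)) := fun h =>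
      hx (Subgroup.mem_center_iff.2 fun g => e.injective <| by
        rw [map_mul, map_mul]
        exact Prod.ext (Subgroup.mem_center_iff.1 h (e g).1) (mul_comm (G := Multiplicative (ZMod m)) _ _))
    haveI := centralizer_cyclic hn _ hu
    set C := Subgroup.centralizer ({(e x).1} : Set (QuaternionGroup (2 ^ k)))
    haveI : NeZero (2 ^ k) := ⟨by omega⟩
    haveI : IsCyclic (↥C × Multiplicative (ZMod m)) := by
      refine Group.isCyclic_prod_iff.2 ⟨inferInstance, inferInstance, ?_⟩
      refine Nat.Coprime.coprime_dvd_left (Subgroup.card_subgroup_dvd_card C) ?_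
      rw [Nat.card_eq_fintype_card, QuaternionGroup.card, Nat.card_congr Multiplicative.toAdd, Nat.card_zmod]
      rw [show 4 * 2 ^ k = 2 ^ (k + 2) by ring]
      exact (Nat.coprime_two_left.2 hm).pow_left _
    let f : ↥(Subgroup.centralizer ({x} : Set G)) →* ↥C × Multiplicative (ZMod m) :=
      { toFun := fun y => (⟨(e y).1, Subgroup.mem_centralizer_singleton_iff.2 (by
            have h := congrArg (fun t => (e t).1) (Subgroup.mem_centralizer_singleton_iff.1 y.2)
            simpa using h)⟩, (e y).2)
        map_one' := Prod.ext (Subtype.ext (by simp)) (by simp)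
        map_mul' := fun y y' => Prod.ext (Subtype.ext (by simp)) (by simp) }
    refine isCyclic_of_injective f fun y y' h => ?_
    refine Subtype.ext (e.injective (Prod.ext ?_ ?_))
    · exact congrArg Subtype.val (Prod.ext_iff.1 h).1
    · exact (Prod.ext_iff.1 h).2

end H34.QCC
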