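import Cfsg.Agent.H34.TorusLattice
import Cfsg.Agent.H54.ChevBaseChange
import Cfsg.Agent.H54.ChevSylow
import Cfsg.Agent.H54.ChevGroup
import Cfsg.Agent.H52.Order
import Mathlib.FieldTheory.Finite.Extension

/-!
Self-centralising cyclic tori of order `Φ_m(q)` in Chevalley groups with `φ(m)` the rank and unimodular Cartan
matrix: an element of prime order `ℓ ∣ Φ_m(q)` is conjugate over `F_{q^m}` into the diagonal subgroup, is regular
there, and its centraliser is the group of twisted fixed points of that subgroup.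
-/

set_option autoImplicit false
set_option linter.unusedSectionVars false

open Cfsg.Lie
open scoped MatrixGroups
open Polynomial Matrix

namespace H34.Tori

variable {D : ChevalleyDatum} (C : H54.Ctx D)

/-- Coefficients of a root. -/
def cov (r : Fin D.nroots) : Fin D.rank → ℤ := fun j => C.T.co r.val j.val

/-- The Cartan matrix of the datum. -/
def cmat (D : ChevalleyDatum) : Matrix (Fin D.rank) (Fin D.rank) ℤ :=
  Matrix.of fun i j => D.cartan i.val (D.simple j.val)

/-- The index of a fundamental root. -/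
def simpleF (i : Fin D.rank) : Fin D.nroots := ⟨D.simple i.val, C.hC.simple_lt i.isLt⟩

theorem cov_simple (i : Fin D.rank) : cov C (simpleF C i) = Pi.single i 1 := by
  funext j
  rw [cov, simpleF, C.hC.co_simple i.isLt j.isLt, Pi.single_apply]
  simp [Fin.val_inj]

theorem cov_injective : Function.Injective (cov C) := fun r s h =>
  Fin.ext (C.hC.co_inj r.isLt s.isLt fun j hj => congrFun h ⟨j, hj⟩)

theorem cartan_cov (i : Fin D.rank) (r : Fin D.nroots) :
    D.cartan i.val r.val = (cmat D *ᵥ cov C r) i := by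
  rw [C.hC.cartan_eq r.isLt i.isLt, Finset.sum_range]
  simp [cmat, cov, Matrix.mulVec, dotProduct, mul_comm]

/-- The group of permutations of the roots generated by the fundamental reflections. -/
def wgrp : Subgroup (Equiv.Perm (Fin D.nroots)) := Subgroup.closure (Set.range C.W.sigma)

theorem wperm_mem_wgrp (L : List (Fin D.rank)) : C.wperm L ∈ wgrp C :=
  list_prod_mem fun g hg => by
    obtain ⟨i, -, rfl⟩ := List.mem_map.1 hg
    exact Subgroup.subset_closure ⟨i, rfl⟩

/-- The matrix of a permutation of the roots. -/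
def lmat (π : Equiv.Perm (Fin D.nroots)) : Matrix (Fin D.rank) (Fin D.rank) ℤ :=
  Matrix.of fun j k => cov C (π (simpleF C k)) j

/-- The matrix of a fundamental reflection. -/
def smat (D : ChevalleyDatum) (i : Fin D.rank) : Matrix (Fin D.rank) (Fin D.rank) ℤ :=
  Matrix.of fun j k => (if j = k then 1 else 0) - if j = i then cmat D i k else 0

theorem smat_mulVec (i : Fin D.rank) (x : Fin D.rank → ℤ) :
    smat D i *ᵥ x = x - ((cmat D *ᵥ x) i) • (Pi.single i 1 : Fin D.rank → ℤ) := by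
  funext j
  simp only [smat, Matrix.mulVec, dotProduct, Matrix.of_apply, sub_mul, Finset.sum_sub_distrib,
    Pi.sub_apply, Pi.smul_apply, Pi.single_apply, smul_eq_mul]
  congr 1
  · simp [ite_mul]
  · split_ifs with h
    · subst h; simp
    · simp

theorem cov_sigma (i : Fin D.rank) (r : Fin D.nroots) :
    cov C (C.W.sigma i r) = smat D i *ᵥ cov C r := by
  funext j
  rw [cov, C.sigma_val, C.hC.co_reflect i.isLt r.isLt j.isLt, smat_mulVec, Pi.sub_apply, Pi.smul_apply,
    ← cartan_cov, Pi.single_apply]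
  simp only [Fin.val_inj, smul_eq_mul, mul_ite, mul_one, mul_zero]
  rfl

theorem lmat_spec {π : Equiv.Perm (Fin D.nroots)} (hπ : π ∈ wgrp C) (r : Fin D.nroots) :
    lmat C π *ᵥ cov C r = cov C (π r) := by
  obtain ⟨L, rfl⟩ : ∃ L, C.wperm L = π := C.exists_wperm hπ
  obtain ⟨A, hA⟩ : ∃ A : Matrix (Fin D.rank) (Fin D.rank) ℤ, ∀ r, A *ᵥ cov C r = cov C (C.wperm L r) := by
    clear hπ r
    induction L with
    | nil => exact ⟨1, fun r => by rw [Matrix.one_mulVec, H54.Ctx.wperm_nil]; rfl⟩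
    | cons i L ih =>
      obtain ⟨A, hA⟩ := ih
      exact ⟨smat D i * A, fun r => by
        rw [← Matrix.mulVec_mulVec, hA, H54.Ctx.wperm_cons, Equiv.Perm.mul_apply, cov_sigma]⟩
  have : lmat C (C.wperm L) = A := by
    ext j k
    rw [lmat, Matrix.of_apply, ← hA, cov_simple, Matrix.mulVec_single_one]
    rfl
  rw [this, hA]

theorem lmat_mul {π π' : Equiv.Perm (Fin D.nroots)} (hπ : π ∈ wgrp C) :
    lmat C (π * π') = lmat C π * lmat C π' := by
  ext j k
  have := congrFun (lmat_spec C hπ (π' (simpleF C k))) j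
  rw [Matrix.mul_apply, lmat, Matrix.of_apply, Equiv.Perm.mul_apply, ← this]
  rfl

theorem lmat_one : lmat C 1 = 1 := by
  ext j k
  rw [lmat, Matrix.of_apply, Equiv.Perm.one_apply, cov_simple, Pi.single_apply, Matrix.one_apply]

theorem lmat_pow {π : Equiv.Perm (Fin D.nroots)} (hπ : π ∈ wgrp C) (k : ℕ) :
    lmat C (π ^ k) = lmat C π ^ k := by
  induction k with
  | zero => rw [pow_zero, pow_zero, lmat_one]
  | succ k ih => rw [pow_succ', pow_succ', lmat_mul C hπ, ih]

theorem eq_one_of_lmat {π : Equiv.Perm (Fin D.nroots)} (hπ : π ∈ wgrp C) (h : lmat C π = 1) : π = 1 :=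
  Equiv.ext fun r => cov_injective C (by rw [← lmat_spec C hπ, h, Matrix.one_mulVec]; rfl)

theorem exists_conj_simple (r : Fin D.nroots) : ∃ π ∈ wgrp C, ∃ i, π (simpleF C i) = r := by
  have h := H54.root_rec C.hC (fun r => ∀ hr : r < D.nroots, ∃ π ∈ wgrp C, ∃ i,
    π (simpleF C i) = ⟨r, hr⟩) ?_ ?_ r.isLt r.isLt
  · exact h
  · intro i hi
    refine ⟨fun hr => ⟨1, one_mem _, ⟨i, hi⟩, rfl⟩, fun hr => ⟨C.W.sigma ⟨i, hi⟩,
      Subgroup.subset_closure ⟨_, rfl⟩, ⟨i, hi⟩, Fin.ext ?_⟩⟩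
    rw [C.sigma_val]
    exact C.hC.reflect_simple hi
  · intro i hi r hr ih hr'
    obtain ⟨π, hπ, k, hk⟩ := ih hr
    refine ⟨C.W.sigma ⟨i, hi⟩ * π, mul_mem (Subgroup.subset_closure ⟨_, rfl⟩) hπ, k, Fin.ext ?_⟩
    rw [Equiv.Perm.mul_apply, hk, C.sigma_val]

variable {E : Type*} [Field E] {N : ℕ}

/-- The value of a weight on a root. -/
def rval (f : Fin D.rank → ZMod N) (r : Fin D.nroots) : ZMod N :=
  f ⬝ᵥ fun j => (cov C r j : ZMod N)

theorem rval_vecMul {π : Equiv.Perm (Fin D.nroots)} (hπ : π ∈ wgrp C) (f : Fin D.rank → ZMod N)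
    (r : Fin D.nroots) : rval C (f ᵥ* toZ N (lmat C π)) r = rval C f (π r) := by
  rw [rval, rval, ← lmat_spec C hπ, ← Matrix.dotProduct_mulVec]
  congr 1
  funext j
  simp [Matrix.mulVec, dotProduct]

theorem rval_simple (f : Fin D.rank → ZMod N) (i : Fin D.rank) : rval C f (simpleF C i) = f i := by
  simp [rval, cov_simple, dotProduct, Pi.single_apply]

theorem rval_add (f g : Fin D.rank → ZMod N) (r : Fin D.nroots) :
    rval C (f + g) r = rval C f r + rval C g r := add_dotProduct _ _ _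

theorem rval_smul (c : ZMod N) (f : Fin D.rank → ZMod N) (r : Fin D.nroots) :
    rval C (c • f) r = c * rval C f r := smul_dotProduct _ _ _

/-- The unit of an exponent. -/
def uval (e : Multiplicative (ZMod N) ≃* Eˣ) (a : ZMod N) : Eˣ := e (Multiplicative.ofAdd a)

theorem uval_add (e : Multiplicative (ZMod N) ≃* Eˣ) (a b : ZMod N) :
    uval e (a + b) = uval e a * uval e b := by rw [uval, ofAdd_add, map_mul]; rfl

theorem uval_injective (e : Multiplicative (ZMod N) ≃* Eˣ) : Function.Injective (uval e) :=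
  e.injective.comp Multiplicative.ofAdd.injective

theorem uval_zero (e : Multiplicative (ZMod N) ≃* Eˣ) : uval e 0 = 1 := map_one e

theorem uval_natCast_mul (e : Multiplicative (ZMod N) ≃* Eˣ) (n : ℕ) (a : ZMod N) :
    uval e ((n : ZMod N) * a) = uval e a ^ n := by
  rw [uval, ← nsmul_eq_mul, ofAdd_nsmul, map_pow]; rfl

theorem uval_sum (e : Multiplicative (ZMod N) ≃* Eˣ) {ι : Type*} (s : Finset ι) (g : ι → ZMod N) :
    uval e (∑ i ∈ s, g i) = ∏ i ∈ s, uval e (g i) := by rw [uval, ofAdd_sum, map_prod]; rfl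

variable (e : Multiplicative (ZMod N) ≃* Eˣ)

/-- The diagonal element of a weight. -/
noncomputable def tor (f : Fin D.rank → ZMod N) : GL D.Idx E :=
  H52.dgR D fun s => if h : s < D.nroots then uval e (rval C f ⟨s, h⟩) else 1

theorem tor_add (f g : Fin D.rank → ZMod N) : tor C e (f + g) = tor C e f * tor C e g := by
  rw [tor, tor, tor, H52.dgR_mul]
  refine H52.dgR_congr fun s hs => ?_
  rw [dif_pos hs, dif_pos hs, dif_pos hs, rval_add, uval_add]

theorem tor_zero : tor C e (0 : Fin D.rank → ZMod N) = 1 := by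
  rw [tor, H52.dgR, ← map_one (H52.dgU D (F := E))]
  congr 1
  funext x
  cases x with
  | inl m => rfl
  | inr s => simp [rval, uval_zero]

theorem torus_eq_tor (g : Fin D.rank → ZMod N) :
    H52.torus D (fun i => uval e (g i)) = tor C e (g ᵥ* toZ N (cmat D)) := by
  rw [H52.torus_apply, tor]
  refine H52.dgR_congr fun s hs => ?_
  rw [dif_pos hs]
  have hz : ∀ (a : ZMod N) (z : ℤ), uval e a ^ z = uval e (a * (z : ZMod N)) := fun a z => by
    rw [uval, ← map_zpow, ← ofAdd_zsmul, zsmul_eq_mul, mul_comm]; rfl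
  simp only [hz, ← uval_sum]
  congr 1
  rw [rval, ← Matrix.dotProduct_mulVec]
  refine Finset.sum_congr rfl fun i _ => ?_
  rw [cartan_cov C i ⟨s, hs⟩]
  simp [Matrix.mulVec, dotProduct]

/-- The weights of the diagonal subgroup. -/
def InT (f : Fin D.rank → ZMod N) : Prop := ∃ g : Fin D.rank → ZMod N, g ᵥ* toZ N (cmat D) = f

theorem inT_of_inverse {B : Matrix (Fin D.rank) (Fin D.rank) ℤ} (hBA : B * cmat D = 1)
    (f : Fin D.rank → ZMod N) : InT f :=
  ⟨f ᵥ* toZ N B, by
    rw [Matrix.vecMul_vecMul, toZ, toZ, ← Matrix.map_mul, hBA, Matrix.map_one _ (map_zero _) (map_one _),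
      Matrix.vecMul_one]⟩

theorem InT.add {f g : Fin D.rank → ZMod N} (hf : InT f) (hg : InT g) : InT (f + g) := by
  obtain ⟨a, rfl⟩ := hf
  obtain ⟨b, rfl⟩ := hg
  exact ⟨a + b, Matrix.add_vecMul _ _ _⟩

theorem InT.smul (c : ZMod N) {f : Fin D.rank → ZMod N} (hf : InT f) : InT (c • f) := by
  obtain ⟨a, rfl⟩ := hf
  exact ⟨c • a, Matrix.smul_vecMul _ _ _⟩

theorem tor_mem {f : Fin D.rank → ZMod N} (hf : InT f) : tor C e f ∈ D.diagonalSubgroup E := by
  obtain ⟨g, rfl⟩ := hf
  rw [C.hC.diagonalSubgroup_eq]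
  exact ⟨_, torus_eq_tor C e g⟩

theorem exists_tor {h : GL D.Idx E} (hh : h ∈ D.diagonalSubgroup E) :
    ∃ f : Fin D.rank → ZMod N, InT f ∧ tor C e f = h := by
  rw [C.hC.diagonalSubgroup_eq] at hh
  obtain ⟨c, rfl⟩ := hh
  refine ⟨_, ⟨fun i => Multiplicative.toAdd (e.symm (c i)), rfl⟩, ?_⟩
  rw [← torus_eq_tor C e]
  congr 1
  funext i
  simp [uval]

theorem tor_conj_rt (f : Fin D.rank → ZMod N) (r : Fin D.nroots) (t : E) :
    tor C e f * H52.rt D r.val t * (tor C e f)⁻¹ = H52.rt D r.val ((uval e (rval C f r) : E) * t) := by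
  have hz : ∀ (a : ZMod N) (z : ℤ), uval e a ^ z = uval e (a * (z : ZMod N)) := fun a z => by
    rw [uval, ← map_zpow, ← ofAdd_zsmul, zsmul_eq_mul, mul_comm]; rfl
  let χ : ℕ → Eˣ := fun s => ∏ j ∈ Finset.range D.rank,
    (if hj : j < D.rank then uval e (f ⟨j, hj⟩) else 1) ^ C.T.co s j
  have hχ : ∀ s : Fin D.nroots, χ s.val = uval e (rval C f s) := fun s => by
    simp only [χ, Finset.prod_range, Fin.is_lt, dif_pos, hz, ← uval_sum]
    rfl
  have h : tor C e f = H52.dgR D χ := H52.dgR_congr fun s hs => by rw [dif_pos hs, hχ ⟨s, hs⟩]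
  rw [h, ← hχ r, C.hC.dgR_conj_rt (C.hC.isChar_prod _) r.isLt]

theorem tor_injective : Function.Injective (tor C e) := by
  intro f g h
  funext i
  have h1 := congrArg (fun z : GL D.Idx E => ((z : Matrix D.Idx D.Idx E))
    (Sum.inr (simpleF C i)) (Sum.inr (simpleF C i))) h
  simp only [tor, H52.coe_dgR, Matrix.diagonal_apply_eq, Sum.elim_inr,
    dif_pos (simpleF C i).isLt] at h1
  have := uval_injective e (Units.ext h1)
  rwa [rval_simple, rval_simple] at this

theorem glF_tor (σ : E ≃+* E) (q : ℕ) (hσ : ∀ x, σ x = x ^ q) (f : Fin D.rank → ZMod N) :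
    H54.glF D σ.toRingHom (tor C e f) = tor C e ((q : ZMod N) • f) := by
  apply Units.ext
  rw [H54.coe_glF, tor, tor, H52.coe_dgR, H52.coe_dgR, Matrix.diagonal_map (map_zero _)]
  congr 1
  funext x
  cases x with
  | inl m => simp
  | inr s =>
    simp only [Sum.elim_inr, dif_pos s.isLt, rval_smul, uval_natCast_mul, Units.val_pow_eq_pow_val,
      RingEquiv.toRingHom_eq_coe, RingEquiv.coe_toRingHom, hσ]

theorem nw_conj_mem (L : List (Fin D.rank)) {f : Fin D.rank → ZMod N} (hfT : InT f) :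
    H54.Ctx.nw D E L * tor C e f * (H54.Ctx.nw D E L)⁻¹ ∈ D.diagonalSubgroup E := by
  have hf := tor_mem C e hfT
  have hH := (H53.mem_diag_iff C.hC C.W ⟨_, C.diag_le_group hf⟩).1 hf
  have hN : C.nwG (F := E) L * ⟨_, C.diag_le_group hf⟩ * (C.nwG (F := E) L)⁻¹ ∈
      (H53.grpSys C.W E).N :=
    mul_mem (mul_mem (C.nwG_mem_N L) (H53.RootGroupSys.H_le_N hH)) (inv_mem (C.nwG_mem_N L))
  have hacts := H53.RootGroupSys.acts_mul (H53.RootGroupSys.acts_mul (C.nwG_acts (F := E) L)
    (H53.RootGroupSys.acts_H C.axioms hH)) (H53.RootGroupSys.acts_inv (C.nwG_acts (F := E) L))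
  rw [mul_one, mul_inv_cancel] at hacts
  have h := (H53.mem_diag_iff C.hC C.W _).2 (H53.RootGroupSys.mem_H_of_acts_one C.axioms C.sep hN hacts)
  simpa [H54.Ctx.coe_nwG] using h

/-- A word in the fundamental reflections acts on the diagonal subgroup through its matrix. -/
theorem nw_conj_tor (L : List (Fin D.rank)) {f : Fin D.rank → ZMod N} (hfT : InT f) :
    H54.Ctx.nw D E L * tor C e f * (H54.Ctx.nw D E L)⁻¹ =
      tor C e (f ᵥ* toZ N (lmat C (C.wperm L)⁻¹)) := by
  set π := C.wperm L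
  have hπ := wperm_mem_wgrp C L
  have hf := tor_mem C e hfT
  have hmem := nw_conj_mem C e L hfT
  obtain ⟨g, -, hg⟩ := exists_tor C e hmem
  rw [← hg]
  congr 1
  funext i
  obtain ⟨c, hc⟩ := exists_char C L (π⁻¹ (simpleF C i)) (E := E)
  have hpi : C.wperm L (π⁻¹ (simpleF C i)) = simpleF C i := Equiv.apply_symm_apply π _
  have h1 : tor C e g * (H54.Ctx.nw D E L * H52.rt D (π⁻¹ (simpleF C i)).val (1 : E) *
      (H54.Ctx.nw D E L)⁻¹) * (tor C e g)⁻¹ = H54.Ctx.nw D E L * (tor C e f *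
      H52.rt D (π⁻¹ (simpleF C i)).val (1 : E) * (tor C e f)⁻¹) * (H54.Ctx.nw D E L)⁻¹ := by
    rw [hg]; group
  rw [tor_conj_rt C e, hc, hc, tor_conj_rt C e, hpi] at h1
  have h3 := C.hC.rt_injective (simpleF C i).isLt h1
  have hc0 : c ≠ 0 := by
    obtain ⟨eps, heps, h⟩ := C.nw_conj_rt (F := E) L (π⁻¹ (simpleF C i)) 1
    rw [hc, hpi] at h
    have := C.hC.rt_injective (simpleF C i).isLt h
    rintro rfl
    rcases heps with rfl | rfl <;> simp at this
  have h4 : uval e (rval C g (simpleF C i)) = uval e (rval C f (π⁻¹ (simpleF C i))) := by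
    apply Units.ext
    refine mul_left_cancel₀ hc0 ?_
    linear_combination h3
  rw [← rval_simple C g i, uval_injective e h4, ← rval_simple C (f ᵥ* toZ N (lmat C π⁻¹)) i,
    rval_vecMul C (inv_mem hπ)]
where
  exists_char {D : ChevalleyDatum} (C : H54.Ctx D) (L : List (Fin D.rank)) (r : Fin D.nroots) {E : Type _}
      [Field E] : ∃ c : E, ∀ t : E, H54.Ctx.nw D E L * H52.rt D r.val t * (H54.Ctx.nw D E L)⁻¹ =
        H52.rt D (C.wperm L r).val (c * t) := by
    induction L with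
    | nil => exact ⟨1, fun t => by simp [H54.Ctx.nw_nil, H54.Ctx.wperm_nil]⟩
    | cons i L ih =>
      obtain ⟨c, h⟩ := ih
      refine ⟨(C.T.eps i.val (C.wperm L r).val : E) * c, fun t => ?_⟩
      rw [H54.Ctx.nw_cons, show H53.nGL D (D.simple i.val) (1 : E) * H54.Ctx.nw D E L * H52.rt D r.val t *
          (H53.nGL D (D.simple i.val) (1 : E) * H54.Ctx.nw D E L)⁻¹ = H53.nGL D (D.simple i.val) (1 : E) *
          (H54.Ctx.nw D E L * H52.rt D r.val t * (H54.Ctx.nw D E L)⁻¹) *
          (H53.nGL D (D.simple i.val) (1 : E))⁻¹ by group, h, mul_inv_eq_iff_eq_mul, H54.Ctx.wperm_cons,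
        Equiv.Perm.mul_apply, C.sigma_val]
      apply Units.ext
      simp only [Units.val_mul, C.hC.coe_rt, H53.coe_nGL C.hC, mul_assoc]
      exact C.hC.sig_mul_x i.isLt (C.wperm L r).isLt _

theorem tor_conj_uinv (f : Fin D.rank → ZMod N) {π : Equiv.Perm (Fin D.nroots)} {v : GL D.Idx E}
    (hv : v ∈ H54.Ctx.uinv D E π) : tor C e f * v * (tor C e f)⁻¹ ∈ H54.Ctx.uinv D E π := by
  induction hv using Subgroup.closure_induction with
  | mem x hx =>
    obtain ⟨r, t, h1, h2, rfl⟩ := hx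
    rw [tor_conj_rt C e]
    exact Subgroup.subset_closure ⟨r, _, h1, h2, rfl⟩
  | one => simp
  | mul x y _ _ hx hy =>
    have := mul_mem hx hy
    rwa [show tor C e f * x * (tor C e f)⁻¹ * (tor C e f * y * (tor C e f)⁻¹) =
      tor C e f * (x * y) * (tor C e f)⁻¹ by group] at this
  | inv x _ hx =>
    have := inv_mem hx
    rwa [show (tor C e f * x * (tor C e f)⁻¹)⁻¹ = tor C e f * x⁻¹ * (tor C e f)⁻¹ by group] at this

theorem eq_one_of_commute {f : Fin D.rank → ZMod N} (hf : ∀ r, rval C f r ≠ 0) {u : GL D.Idx E}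
    (hu : u ∈ D.posUnipotent E) (h : tor C e f * u * (tor C e f)⁻¹ = u) : u = 1 := by
  rw [C.hC.posUnipotent_eq] at hu
  obtain ⟨a, rfl⟩ := C.hC.exists_upProd le_rfl hu
  let χ : ℕ → E := fun r => if hr : r < D.nroots then (uval e (rval C f ⟨r, hr⟩) : E) else 1
  have hconj : ∀ (n k : ℕ), D.nroots = k + n →
      tor C e f * H52.upProd D k a * (tor C e f)⁻¹ = H52.upProd D k fun r => χ r * a r := by
    intro n
    induction n with
    | zero =>
      intro k hk
      have h1 : ∀ t : ℕ → E, H52.upProd D k t = 1 := fun t => by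
        have := H52.Checked.upProd_mem (D := D) k t
        rwa [H52.Checked.upper_eq_bot (D := D) (F := E) (by omega), Subgroup.mem_bot] at this
      rw [h1, h1]
      simp
    | succ n ih =>
      intro k hk
      have hlt : k < D.nroots := by omega
      rw [H52.Checked.upProd_step hlt a, H52.Checked.upProd_step hlt (fun r => χ r * a r),
        show tor C e f * (H52.rt D k (a k) * H52.upProd D (k + 1) a) * (tor C e f)⁻¹ =
          tor C e f * H52.rt D k (a k) * (tor C e f)⁻¹ *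
            (tor C e f * H52.upProd D (k + 1) a * (tor C e f)⁻¹) by group,
        ih (k + 1) (by omega), tor_conj_rt C e f ⟨k, by omega⟩]
      simp [χ, show k < D.nroots by omega]
  rw [hconj (D.nroots - D.nroots / 2) _ (by omega)] at h
  have ha := C.hC.upProd_injective le_rfl h
  have h1 : H52.upProd D (D.nroots / 2) a = H52.upProd D (D.nroots / 2) fun _ => (0 : E) := by
    refine H52.Checked.upProd_congr fun r hr hr' => ?_
    by_contra hne
    have h2 := ha r hr hr'
    simp only [χ, dif_pos hr', mul_left_eq_self₀] at h2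
    rcases h2 with h2 | h2
    · exact hf ⟨r, hr'⟩ (uval_injective e (by rw [uval_zero]; exact Units.ext h2))
    · exact hne h2
  rw [h1]
  simp only [H52.upProd, H52.wordRt, List.map_map]
  refine List.prod_eq_one fun x hx => ?_
  obtain ⟨k, -, rfl⟩ := List.mem_map.1 hx
  exact C.hC.rt_zero k

/-- The normal form of an element carrying one diagonal element to another. -/
theorem nf_of_conj {f f' : Fin D.rank → ZMod N} (hfT : InT f) (hfT' : InT f') {y : GL D.Idx E}
    (hy : y ∈ D.group E)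
    (h : y * tor C e f = tor C e f' * y) :
    ∃ (u v : GL D.Idx E) (g : Fin D.rank → ZMod N) (L : List (Fin D.rank)),
      u ∈ D.posUnipotent E ∧ v ∈ D.posUnipotent E ∧ InT g ∧ y = u * tor C e g * H54.Ctx.nw D E L * v ∧
      f' = f ᵥ* toZ N (lmat C (C.wperm L)⁻¹) ∧
      tor C e f' * u * (tor C e f')⁻¹ = u ∧ tor C e f * v * (tor C e f)⁻¹ = v := by
  obtain ⟨u, hu, t, ht, L, v, hv, rfl⟩ := C.exists_nf hy
  set nL := H54.Ctx.nw D E L
  have hv' : (tor C e f)⁻¹ * v * tor C e f ∈ H54.Ctx.uinv D E (C.wperm L) := by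
    have hneg : (tor C e f)⁻¹ = tor C e (-f) := by
      rw [inv_eq_iff_mul_eq_one, ← tor_add, add_neg_cancel, tor_zero]
    have := tor_conj_uinv C e (-f) hv
    rwa [← hneg, inv_inv] at this
  set f'' := f ᵥ* toZ N (lmat C (C.wperm L)⁻¹)
  have hn : nL * tor C e f * nL⁻¹ = tor C e f'' := nw_conj_tor C e L hfT
  have heq : u * (t * tor C e f'') * nL * ((tor C e f)⁻¹ * v * tor C e f) =
      (tor C e f' * u * (tor C e f')⁻¹) * (tor C e f' * t) * nL * v := by
    rw [← hn]
    calc _ = u * t * nL * v * tor C e f := by group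
      _ = tor C e f' * (u * t * nL * v) := h
      _ = _ := by group
  have hf'' : tor C e f'' ∈ D.diagonalSubgroup E := by
    rw [← hn]
    obtain ⟨a, ha, hae⟩ := exists_tor C e (nw_conj_mem C e L hfT)
    rw [← hae]
    exact tor_mem C e ha
  obtain ⟨hu1, ht1, hv1⟩ := (C.nf_unique hu (C.hC.diag_conj_pos (tor_mem C e hfT') hu)
    (mul_mem ht hf'') (mul_mem (tor_mem C e hfT') ht) hv' hv heq).2 rfl
  obtain ⟨g, hgT, rfl⟩ := exists_tor C e ht
  rw [← tor_add, ← tor_add, add_comm f'] at ht1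
  exact ⟨u, v, g, L, hu, C.uinv_le _ hv, hgT, rfl, (add_left_cancel (tor_injective C e ht1)).symm, hu1.symm, by
    calc tor C e f * v * (tor C e f)⁻¹
        = tor C e f * ((tor C e f)⁻¹ * v * tor C e f) * (tor C e f)⁻¹ := by rw [hv1]
      _ = v := by group⟩

/-- An element carrying one regular diagonal element to another is monomial. -/
theorem mono_of_conj {f f' : Fin D.rank → ZMod N} (hfT : InT f) (hfT' : InT f')
    (hf : ∀ r, rval C f r ≠ 0)
    (hf' : ∀ r, rval C f' r ≠ 0) {y : GL D.Idx E} (hy : y ∈ D.group E)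
    (h : y * tor C e f = tor C e f' * y) :
    ∃ (g : Fin D.rank → ZMod N) (L : List (Fin D.rank)),
      InT g ∧ y = tor C e g * H54.Ctx.nw D E L ∧ f' = f ᵥ* toZ N (lmat C (C.wperm L)⁻¹) := by
  obtain ⟨u, v, g, L, hu, hv, hgT, rfl, hw, hu1, hv1⟩ := nf_of_conj C e hfT hfT' hy h
  exact ⟨g, L, hgT, by rw [eq_one_of_commute C e hf' hu hu1, eq_one_of_commute C e hf hv hv1,
    one_mul, mul_one], hw⟩

theorem rval_smul_ne {f : Fin D.rank → ZMod N} {ℓ : ℕ} (hl : ℓ.Prime) (hlf : ℓ • f = 0) {a : ℤ}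
    (ha : ¬ (ℓ : ℤ) ∣ a) {r : Fin D.nroots} (h : rval C f r ≠ 0) : rval C ((a : ZMod N) • f) r ≠ 0 := by
  intro h0
  refine h ?_
  have hl0 : ℓ • rval C f r = 0 := by
    rw [nsmul_eq_mul, ← rval_smul, Nat.cast_smul_eq_nsmul, hlf]
    exact zero_dotProduct _
  rw [rval_smul] at h0
  have := eq_zero_of_smul (r := 1) hl (f := fun _ => rval C f r) (funext fun _ => hl0) ha
    (funext fun _ => h0)
  exact congrFun this 0

/-- A weight of order `ℓ` that is a `q`-eigenvector of a Weyl element is regular, and fixed by no other. -/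
theorem regular_of_eigen [NeZero N] {m : ℕ} (hm : 3 ≤ m) (hr : m.totient = D.rank) {ℓ : ℕ} (hl : ℓ.Prime)
    (hlr : D.rank + 1 < ℓ) (hlm : ¬ ℓ ∣ m) {q : ℤ} (hq : (ℓ : ℤ) ∣ (cyclotomic m ℤ).eval q)
    {π₀ : Equiv.Perm (Fin D.nroots)} (hπ₀ : π₀ ∈ wgrp C)
    {f : Fin D.rank → ZMod N} (hf0 : f ≠ 0) (hlf : ℓ • f = 0)
    (hf : f ᵥ* toZ N (lmat C π₀) = (q : ZMod N) • f) :
    aeval (lmat C π₀) (cyclotomic m ℤ) = 0 ∧ (∀ r, rval C f r ≠ 0) ∧
      ∀ π ∈ wgrp C, (∀ r, rval C f (π r) = rval C f r) → π = 1 := by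
  classical
  have hM : aeval (lmat C π₀) (cyclotomic m ℤ) = 0 := by
    refine cyclotomic_kills (orderOf_pos π₀) ?_ (by omega) hr hl ?_ hlm hq hf0 hlf hf
    · rw [← lmat_pow C hπ₀, pow_orderOf_eq_one, lmat_one]
    · have : 0 < D.rank := hr ▸ Nat.totient_pos.2 (by omega)
      omega
  have hrπ : ∀ r, rval C f (π₀ r) = (q : ZMod N) * rval C f r := fun r => by
    rw [← rval_vecMul C hπ₀, hf, rval_smul]
  let Sf : Subgroup (Equiv.Perm (Fin D.nroots)) :=
    { carrier := {π | π ∈ wgrp C ∧ ∀ r, rval C f (π r) = rval C f r}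
      one_mem' := ⟨one_mem _, fun r => rfl⟩
      mul_mem' := fun {a b} ha hb => ⟨mul_mem ha.1 hb.1, fun r => by
        rw [Equiv.Perm.mul_apply, ha.2, hb.2]⟩
      inv_mem' := fun {a} ha => ⟨inv_mem ha.1, fun r => by
        conv_rhs => rw [← Equiv.apply_symm_apply a r]
        rw [ha.2]; rfl⟩ }
  have hcop : ¬ ℓ ∣ Nat.card ↥Sf := fun hd => by
    have := Fact.mk hl
    obtain ⟨x, hx⟩ := exists_prime_orderOf_dvd_card' (G := ↥Sf) ℓ hd
    have h1 : lmat C (x : Equiv.Perm (Fin D.nroots)) = 1 := by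
      refine eq_one_of_pow_prime hl hlr ?_
      rw [← lmat_pow C x.2.1, ← SubgroupClass.coe_pow, ← hx, pow_orderOf_eq_one]
      exact lmat_one C
    have h2 : x = 1 := Subtype.ext (eq_one_of_lmat C x.2.1 h1)
    rw [h2, orderOf_one] at hx
    exact hl.ne_one hx.symm
  have hSf : Sf = ⊥ := by
    obtain ⟨i, hi⟩ : ∃ i, f i ≠ 0 := by
      by_contra hall
      push Not at hall
      exact hf0 (funext hall)
    have := Fintype.ofFinite ↥Sf
    let avg : Fin D.nroots → (Fin D.rank → ℤ) := fun r => ∑ π : ↥Sf, cov C ((π : Equiv.Perm _) r)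
    have hM1 : ∀ r, lmat C π₀ *ᵥ avg r = avg (π₀ r) := by
      intro r
      rw [Matrix.mulVec_sum]
      simp only [lmat_spec C hπ₀]
      let φ : ↥Sf → ↥Sf := fun π => ⟨π₀ * π * π₀⁻¹, mul_mem (mul_mem hπ₀ π.2.1) (inv_mem hπ₀), fun s => by
        rw [Equiv.Perm.mul_apply, Equiv.Perm.mul_apply, hrπ, π.2.2, ← hrπ]
        exact congrArg _ (Equiv.apply_symm_apply π₀ s)⟩
      have hφ : Function.Injective φ := fun a b hab => by
        have := congrArg (Subtype.val) hab
        exact Subtype.ext (mul_left_cancel (mul_right_cancel this))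
      refine Fintype.sum_bijective φ (Finite.injective_iff_bijective.1 hφ) _ _ fun π => ?_
      simp [φ]
    have hMk : ∀ k r, (lmat C π₀ ^ k) *ᵥ avg r = avg ((π₀ ^ k) r) := by
      intro k
      induction k with
      | zero => intro r; simp
      | succ k ih => intro r; rw [pow_succ', ← Matrix.mulVec_mulVec, ih, hM1, pow_succ']; rfl
    have hne : avg (simpleF C i) ≠ 0 := by
      intro h0
      have h1 := congrArg (fun z : Fin D.rank → ℤ => f ⬝ᵥ fun j => (z j : ZMod N)) h0
      have h2 : (f ⬝ᵥ fun j => ((avg (simpleF C i) j : ℤ) : ZMod N)) =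
          ∑ π : ↥Sf, rval C f ((π : Equiv.Perm _) (simpleF C i)) := by
        simp only [rval, dotProduct, avg, Finset.sum_apply, Int.cast_sum, Finset.mul_sum]
        exact Finset.sum_comm
      simp only [h2] at h1
      rw [Finset.sum_congr rfl (fun π _ => (π : ↥Sf).2.2 (simpleF C i)), Finset.sum_const, Finset.card_univ,
        rval_simple, ← Nat.card_eq_fintype_card] at h1
      simp only [Pi.zero_apply, Int.cast_zero] at h1
      rw [show (fun _ : Fin D.rank => (0 : ZMod N)) = 0 from rfl, dotProduct_zero] at h1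
      refine hi (congrFun (eq_zero_of_smul (r := 1) hl (f := fun _ => f i) ?_ (a := (Nat.card ↥Sf : ℤ))
        (fun hd => hcop (Int.natCast_dvd_natCast.1 hd)) ?_) 0)
      · exact funext fun _ => congrFun hlf i
      · funext a
        simpa [nsmul_eq_mul] using h1
    refine (Subgroup.eq_bot_iff_forall _).2 fun π hπ => ?_
    refine eq_one_of_lmat C hπ.1 (eq_one_of_fix (by omega) hr hM hne fun k => ?_)
    rw [hMk, Matrix.mulVec_sum]
    simp only [lmat_spec C hπ.1]
    refine Fintype.sum_bijective (fun σ : ↥Sf => ⟨π, hπ⟩ * σ) (Group.mulLeft_bijective _) _ _ fun σ => rfl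
  have hfix : ∀ π ∈ wgrp C, (∀ r, rval C f (π r) = rval C f r) → π = 1 := fun π h1 h2 => by
    have : π ∈ Sf := ⟨h1, h2⟩
    rwa [hSf, Subgroup.mem_bot] at this
  refine ⟨hM, fun r hr0 => ?_, hfix⟩
  obtain ⟨π, hπ, i, rfl⟩ := exists_conj_simple C r
  have hs : C.W.sigma i ∈ wgrp C := Subgroup.subset_closure ⟨i, rfl⟩
  have h1 := hfix (π * C.W.sigma i * π⁻¹) (mul_mem (mul_mem hπ hs) (inv_mem hπ)) fun s => by
    obtain ⟨x, rfl⟩ : ∃ x, π x = s := ⟨π.symm s, π.apply_symm_apply s⟩
    rw [Equiv.Perm.mul_apply, Equiv.Perm.mul_apply, show π⁻¹ (π x) = x from π.symm_apply_apply x]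
    rw [← rval_vecMul C hπ, ← rval_vecMul C hπ, rval, rval, cov_sigma, smat_mulVec]
    set g := f ᵥ* toZ N (lmat C π)
    have hg : g i = 0 := by rw [← rval_simple C g i, rval_vecMul C hπ, hr0]
    simp only [dotProduct, Pi.sub_apply, Pi.smul_apply, Pi.single_apply, smul_eq_mul, Int.cast_sub,
      mul_sub, Finset.sum_sub_distrib]
    rw [sub_eq_self]
    refine Finset.sum_eq_zero fun j _ => ?_
    by_cases hj : j = i
    · rw [hj, hg, zero_mul]
    · simp [hj]
  have h2 : C.W.sigma i = 1 := by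
    calc C.W.sigma i = π⁻¹ * (π * C.W.sigma i * π⁻¹) * π := by group
      _ = 1 := by rw [h1]; group
  have h3 := congrArg (fun z : Equiv.Perm (Fin D.nroots) => (z (simpleF C i)).val) h2
  simp only [C.sigma_val, Equiv.Perm.one_apply] at h3
  have hlt := C.hC.simple_lt i.isLt
  rw [show D.reflectRoot i.val (simpleF C i).val = D.neg (D.simple i.val) from C.hC.reflect_simple i.isLt,
    C.hC.neg_eq hlt] at h3
  simp only [simpleF] at h3
  have := C.W.half
  omega

end H34.Tori
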