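import Cfsg.Agent.H34.RegularTorusMain
import Cfsg.Agent.H52.OrderF4
import Cfsg.Agent.H52.OrderE8
import Mathlib.RingTheory.Polynomial.Cyclotomic.Expand

/-!
The cases F4 (`m = 8`) and E8 (`m = 30`).
-/

set_option autoImplicit false
set_option maxRecDepth 10000

open Cfsg.Lie
open Polynomial

namespace H34.Tori

theorem ones_four : (fun _ => 1 : Fin 4 → ℕ) = ![1, 1, 1, 1] := by decide
theorem ones_eight : (fun _ => 1 : Fin 8 → ℕ) = ![1, 1, 1, 1, 1, 1, 1, 1] := by decide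

theorem divisorsF4_ones : H52.HasDivisors chevF4 (fun _ => 1) := ones_four ▸ H52.divisorsF4

theorem divisorsE8_ones : H52.HasDivisors chevE8 (fun _ => 1) := ones_eight ▸ H52.divisorsE8

theorem rank_F4 : chevF4.rank = 4 := rfl
theorem rank_E8 : chevE8.rank = 8 := rfl

attribute [local irreducible] Cfsg.Lie.chevE8 Cfsg.Lie.chevF4

theorem cyclo8_eval (q : ℤ) : (cyclotomic 8 ℤ).eval q = q ^ 4 + 1 := by
  rw [show 8 = 2 ^ (2 + 1) by rfl, cyclotomic_prime_pow_eq_geom_sum Nat.prime_two]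
  simp [Finset.sum_range_succ]
  ring

theorem cyclo30_eval (q : ℤ) :
    (cyclotomic 30 ℤ).eval q = q ^ 8 + q ^ 7 - q ^ 5 - q ^ 4 - q ^ 3 + q + 1 := by
  have h1 := cyclotomic_expand_eq_cyclotomic_mul (p := 2) (n := 15) Nat.prime_two (by decide) ℤ
  have h2 := cyclotomic_expand_eq_cyclotomic_mul (p := 5) (n := 3) Nat.prime_five (by decide) ℤ
  rw [show (15 : ℕ) * 2 = 30 from rfl] at h1
  rw [show (3 : ℕ) * 5 = 15 from rfl, cyclotomic_three] at h2
  have e15 : ∀ x : ℤ, x ^ 10 + x ^ 5 + 1 = (cyclotomic 15 ℤ).eval x * (x ^ 2 + x + 1) := fun x => by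
    have := congrArg (Polynomial.eval x) h2
    simp [Polynomial.expand_eval] at this
    linear_combination this
  have e30 : (cyclotomic 15 ℤ).eval (q ^ 2) = (cyclotomic 30 ℤ).eval q * (cyclotomic 15 ℤ).eval q := by
    have := congrArg (Polynomial.eval q) h1
    simpa [Polynomial.expand_eval] using this
  have hne : (q ^ 10 + q ^ 5 + 1) * (q ^ 4 + q ^ 2 + 1) ≠ 0 := by
    have h1 : q ^ 10 + q ^ 5 + 1 ≠ 0 := by nlinarith [sq_nonneg (2 * q ^ 5 + 1)]
    have h2 : q ^ 4 + q ^ 2 + 1 ≠ 0 := by nlinarith [sq_nonneg (2 * q ^ 2 + 1)]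
    exact mul_ne_zero h1 h2
  refine mul_right_cancel₀ hne ?_
  calc (cyclotomic 30 ℤ).eval q * ((q ^ 10 + q ^ 5 + 1) * (q ^ 4 + q ^ 2 + 1))
      = ((cyclotomic 15 ℤ).eval (q ^ 2) * ((q ^ 2) ^ 2 + q ^ 2 + 1)) * (q ^ 2 + q + 1) := by
        rw [e30, e15 q]; ring
    _ = ((q ^ 2) ^ 10 + (q ^ 2) ^ 5 + 1) * (q ^ 2 + q + 1) := by rw [e15 (q ^ 2)]
    _ = _ := by ring

theorem torus_F4 {F : Type*} [Field F] [Fintype F] :
    ∃ H : Subgroup ↥(chevF4.group F), IsCyclic ↥H ∧ Nat.card ↥H = Fintype.card F ^ 4 + 1 ∧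
      Subgroup.centralizer (H : Set ↥(chevF4.group F)) = H := by
  obtain ⟨C⟩ := H54.exists_ctx (D := chevF4) (by simp)
  have hcard : ∀ (E : Type _) [Field E] [Fintype E], Nat.card ↥(chevF4.group E) =
      Fintype.card E ^ (chevF4.nroots / 2) *
        (([2, 6, 8, 12] : List ℕ).map fun e => Fintype.card E ^ e - 1).prod := fun E _ _ => by
    simpa using H52.f4_card (F := E) divisorsF4_ones
  set q := Fintype.card F
  have hq : 2 ≤ q := Fintype.one_lt_card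
  have hev : ((cyclotomic 8 ℤ).eval (q : ℤ)).natAbs = q ^ 4 + 1 := by
    rw [cyclo8_eval]; exact Int.natAbs_natCast (q ^ 4 + 1)
  have h4 : ¬ 4 ∣ q ^ 4 + 1 := by
    have : ∀ x : ZMod 4, x ^ 4 + 1 ≠ 0 := by decide
    intro h
    refine this q ?_
    have := (ZMod.natCast_eq_zero_iff _ _).2 h
    simpa using this
  rw [← hev]
  refine exists_torus C divisorsF4_ones 8 (by norm_num) ?_ [2, 6, 8, 12] (by simp) ?_ ?_
    (by simpa using H52.f4_card (F := F) divisorsF4_ones) hcard ?_ ?_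
  · rw [show Nat.totient 8 = 4 by decide]; simp [rank_F4]
  · simp [rank_F4]
  · intro d hd l hl h8 hld
    have := hl.two_le
    simp only [List.mem_cons, List.not_mem_nil, or_false] at hd
    have hle : l ≤ d := Nat.le_of_dvd (by omega) hld
    rcases hd with rfl | rfl | rfl | rfl <;> interval_cases l <;> simp_all (config := {decide := true})
  · have hpow : (2 : ℕ) ^ 4 ≤ q ^ 4 := Nat.pow_le_pow_left hq 4
    obtain ⟨l, hl, hdiv, hl2⟩ : ∃ l, l.Prime ∧ l ∣ q ^ 4 + 1 ∧ l ≠ 2 := by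
      by_contra hall
      push Not at hall
      have h := Nat.eq_prime_pow_of_unique_prime_dvd (p := 2) (n := q ^ 4 + 1) (by omega)
        (fun {d} hd hdd => hall d hd hdd)
      rcases Nat.lt_or_ge (q ^ 4 + 1).primeFactorsList.length 2 with hlt | hge
      · have := Nat.pow_le_pow_right (show 1 ≤ 2 by norm_num) (Nat.lt_succ_iff.1 hlt)
        omega
      · exact h4 (by rw [h]; exact pow_dvd_pow 2 hge)
    refine ⟨l, hl, Int.natCast_dvd.2 (by rw [hev]; exact hdiv), fun h => hl2 ?_⟩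
    exact (Nat.prime_dvd_prime_iff_eq hl Nat.prime_two).1 (hl.dvd_of_dvd_pow (n := 3) h)
  · intro p hp h
    obtain rfl : p = 2 := (Nat.prime_dvd_prime_iff_eq hp Nat.prime_two).1 (hp.dvd_of_dvd_pow (n := 3) h)
    rw [hev]
    exact h4

theorem torus_E8 {F : Type*} [Field F] [Fintype F] :
    ∃ H : Subgroup ↥(chevE8.group F), IsCyclic ↥H ∧
      Nat.card ↥H = Fintype.card F ^ 8 + Fintype.card F ^ 7 - Fintype.card F ^ 5 - Fintype.card F ^ 4
        - Fintype.card F ^ 3 + Fintype.card F + 1 ∧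
      Subgroup.centralizer (H : Set ↥(chevE8.group F)) = H := by
  obtain ⟨C⟩ := H54.exists_ctx (D := chevE8) (by simp)
  have hcard : ∀ (E : Type _) [Field E] [Fintype E], Nat.card ↥(chevE8.group E) =
      Fintype.card E ^ (chevE8.nroots / 2) *
        (([2, 8, 12, 14, 18, 20, 24, 30] : List ℕ).map fun e => Fintype.card E ^ e - 1).prod :=
    fun E _ _ => by simpa using H52.e8_card (F := E) divisorsE8_ones
  set q := Fintype.card F
  have hq : 2 ≤ q := Fintype.one_lt_card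
  have hz : ((q ^ 8 + q ^ 7 - q ^ 5 - q ^ 4 - q ^ 3 + q + 1 : ℕ) : ℤ) =
      (q : ℤ) ^ 8 + (q : ℤ) ^ 7 - (q : ℤ) ^ 5 - (q : ℤ) ^ 4 - (q : ℤ) ^ 3 + q + 1 := by
    have h5 : q ^ 5 + q ^ 4 ≤ q ^ 7 := by
      calc q ^ 5 + q ^ 4 ≤ q ^ 6 + q ^ 6 := Nat.add_le_add (Nat.pow_le_pow_right (by omega) (by omega))
            (Nat.pow_le_pow_right (by omega) (by omega))
        _ ≤ q * q ^ 6 := by rw [← two_mul]; exact Nat.mul_le_mul_right _ hq
        _ = q ^ 7 := by ring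
    have h3 : q ^ 3 ≤ q ^ 8 := Nat.pow_le_pow_right (by omega) (by omega)
    zify [show q ^ 5 ≤ q ^ 8 + q ^ 7 by omega, show q ^ 4 ≤ q ^ 8 + q ^ 7 - q ^ 5 by omega,
      show q ^ 3 ≤ q ^ 8 + q ^ 7 - q ^ 5 - q ^ 4 by omega]
  have hev : (cyclotomic 30 ℤ).eval (q : ℤ) = ((q ^ 8 + q ^ 7 - q ^ 5 - q ^ 4 - q ^ 3 + q + 1 : ℕ) : ℤ) := by
    rw [cyclo30_eval, hz]
  have hno : ∀ p : ℕ, p.Prime → p ∣ 30 → ¬ p ∣ q ^ 8 + q ^ 7 - q ^ 5 - q ^ 4 - q ^ 3 + q + 1 := by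
    intro p hp h30 hd
    have hd' : ((q : ℤ) ^ 8 + (q : ℤ) ^ 7 - (q : ℤ) ^ 5 - (q : ℤ) ^ 4 - (q : ℤ) ^ 3 + q + 1 : ℤ) =
        ((q ^ 8 + q ^ 7 - q ^ 5 - q ^ 4 - q ^ 3 + q + 1 : ℕ) : ℤ) := hz.symm
    have h0 := congrArg (fun z : ℤ => (z : ZMod p)) hd'
    simp only [Int.cast_natCast, (ZMod.natCast_eq_zero_iff _ _).2 hd] at h0
    push_cast at h0
    have hp30 : p = 2 ∨ p = 3 ∨ p = 5 := by
      have := Nat.le_of_dvd (by norm_num) h30
      interval_cases p <;> simp_all (config := {decide := true})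
    rcases hp30 with rfl | rfl | rfl
    · exact (by decide : ∀ x : ZMod 2, x ^ 8 + x ^ 7 - x ^ 5 - x ^ 4 - x ^ 3 + x + 1 ≠ 0) _ h0
    · exact (by decide : ∀ x : ZMod 3, x ^ 8 + x ^ 7 - x ^ 5 - x ^ 4 - x ^ 3 + x + 1 ≠ 0) _ h0
    · exact (by decide : ∀ x : ZMod 5, x ^ 8 + x ^ 7 - x ^ 5 - x ^ 4 - x ^ 3 + x + 1 ≠ 0) _ h0
  obtain ⟨H, h1, h2, h3⟩ := exists_torus C divisorsE8_ones 30 (by norm_num)
    (by rw [show Nat.totient 30 = 8 by decide]; simp [rank_E8])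
    [2, 8, 12, 14, 18, 20, 24, 30] (by simp) (by simp [rank_E8])
    (fun d hd l hl h30 hld => by
      have := hl.two_le
      have hd30 : 0 < d ∧ d ≤ 30 := by
        simp only [List.mem_cons, List.not_mem_nil, or_false] at hd; omega
      have hle : l ≤ d := Nat.le_of_dvd hd30.1 hld
      have := Nat.le_of_dvd (by omega) h30
      omega)
    (by simpa using H52.e8_card (F := F) divisorsE8_ones) hcard
    (by
      obtain ⟨l, hl, hdiv⟩ := Nat.exists_prime_and_dvd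
        (n := q ^ 8 + q ^ 7 - q ^ 5 - q ^ 4 - q ^ 3 + q + 1) (by omega)
      exact ⟨l, hl, by rw [hev]; exact_mod_cast hdiv, fun h => hno l hl h hdiv⟩)
    (fun p hp h h2 => hno p hp h (by
      rw [hev, Int.natAbs_natCast] at h2; exact (dvd_pow_self p two_ne_zero).trans h2))
  exact ⟨H, h1, by rw [h2, hev, Int.natAbs_natCast], h3⟩

end H34.Tori
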