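import Mathlib
import Cfsg.Agent.H1.Cores
import Cfsg.Agent.H1.SchurZassenhausConj
import Cfsg.Agent.H10.PSolvable
import Cfsg.Agent.H10.PSolvableDual
import Cfsg.Agent.H79.CoprimeGen

set_option autoImplicit false

/-!
A Sylow subgroup of Schmidt type in a `p`-solvable group with trivial `p'`-core is normal.
-/

namespace H34.SchmidtPL

open scoped commutatorElement
open scoped Pointwise

variable {G : Type*} [Group G]

theorem commElt_mul_left (a b n : G) : ⁅a * b, n⁆ = a * ⁅b, n⁆ * a⁻¹ * ⁅a, n⁆ := by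
  simp only [commutatorElement_def]; group

theorem commElt_conj (k x n : G) : ⁅k * x * k⁻¹, n⁆ = k * ⁅x, k⁻¹ * n * k⁆ * k⁻¹ := by
  simp only [commutatorElement_def]; group

theorem conj_eq_commElt_mul (a y : G) : a * y * a⁻¹ = ⁅a, y⁆ * y := by
  simp only [commutatorElement_def]; group

/-- An element fixing `V` with commutators of `U` in `V` has a power of index `|V|` centralising `U`. -/
theorem pow_card_commute [Finite G] {U V : Subgroup G} {g : G} (hV : ∀ v ∈ V, g * v * g⁻¹ = v)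
    (hU : ∀ u ∈ U, ⁅g, u⁆ ∈ V) : ∀ u ∈ U, g ^ Nat.card V * u = u * g ^ Nat.card V := by
  intro u hu
  set y := ⁅g, u⁆ with hy
  have key : ∀ j : ℕ, g ^ j * u * (g ^ j)⁻¹ = y ^ j * u := by
    intro j
    induction j with
    | zero => simp
    | succ j ih =>
      calc g ^ (j + 1) * u * (g ^ (j + 1))⁻¹ = g * (g ^ j * u * (g ^ j)⁻¹) * g⁻¹ := by
            rw [pow_succ']; group
        _ = (g * y ^ j * g⁻¹) * (g * u * g⁻¹) := by rw [ih]; group
        _ = y ^ j * (y * u) := by rw [hV _ (pow_mem (hU u hu) j), conj_eq_commElt_mul g u, ← hy]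
        _ = y ^ (j + 1) * u := by rw [pow_succ, mul_assoc]
  have h := key (Nat.card V)
  have h1 : y ^ Nat.card V = 1 := congrArg Subtype.val (pow_card_eq_one' (x := (⟨y, hU u hu⟩ : V)))
  rw [h1, one_mul, mul_inv_eq_iff_eq_mul] at h
  exact h

theorem sylow_le_pCore [Finite G] {p : ℕ} [Fact p.Prime] (hG : Cfsg.IsPSolvable p G)
    (h0 : Cfsg.pPrimeCore p G = ⊥) (P : Sylow p G) (D : Subgroup G)
    (hDdef : D = ⁅(P : Subgroup G), (P : Subgroup G)⁆)
    (hc : ∀ c ∈ D, ∀ y ∈ (P : Subgroup G), y * c = c * y)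
    (hf : ∀ x ∈ (P : Subgroup G), x ∉ D → ∀ c ∈ D, ∃ y ∈ (P : Subgroup G), ⁅x, y⁆ = c)
    (hpw : ∀ x ∈ (P : Subgroup G), x ^ p ∈ D)
    (h3 : Nat.card (P : Subgroup G) = p ^ 3 →
      p ≠ 3 ∧ (p = 2 → ∀ x ∈ (P : Subgroup G), x ∉ D → x ^ 2 ≠ 1)) :
    (P : Subgroup G) ≤ Cfsg.pCore p G := by
  classical
  have hp : p.Prime := Fact.out
  set N := Cfsg.pCore p G with hNdef
  haveI : N.Normal := H1.pCore_normal' p G
  have hCN : Subgroup.centralizer (N : Set G) ≤ N := H10.centralizer_pCore_le hG h0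
  have hNP : N ≤ (P : Subgroup G) := H1.pCore_le_sylow P
  by_contra hPN
  have hcommD : ∀ a ∈ (P : Subgroup G), ∀ b ∈ (P : Subgroup G), ⁅a, b⁆ ∈ D := fun a ha b hb => by
    rw [hDdef]; exact Subgroup.commutator_mem_commutator ha hb
  have hDP : D ≤ (P : Subgroup G) := hDdef ▸ Subgroup.commutator_le_self _
  have hDN : D ≤ N := fun d hd =>
    hCN (Subgroup.mem_centralizer_iff.2 fun n hn => hc d hd n (hNP hn))
  have hbil : ∀ a ∈ (P : Subgroup G), ∀ b ∈ (P : Subgroup G), ∀ c ∈ (P : Subgroup G),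
      ⁅a * b, c⁆ = ⁅a, c⁆ * ⁅b, c⁆ ∧ ⁅c, a * b⁆ = ⁅c, a⁆ * ⁅c, b⁆ := by
    intro a ha b hb c hcP
    have h1 := hc _ (hcommD b hb c hcP)
    have h2 := hc _ (hcommD c hcP b hb)
    constructor
    · rw [commElt_mul_left, h1 a ha, mul_inv_cancel_right]
      exact (h1 _ (hDP (hcommD a ha c hcP))).symm
    · calc ⁅c, a * b⁆ = ⁅c, a⁆ * (a * ⁅c, b⁆ * a⁻¹) := by simp only [commutatorElement_def]; group
        _ = ⁅c, a⁆ * ⁅c, b⁆ := by rw [h2 a ha, mul_inv_cancel_right]
  -- the preimage of `O_{p'}(G/N)`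
  set f := QuotientGroup.mk' N with hfdef
  have hfsurj : Function.Surjective f := QuotientGroup.mk'_surjective N
  have hfker : ∀ {g : G}, f g = 1 ↔ g ∈ N := fun {g} => QuotientGroup.eq_one_iff g
  set Wb := Cfsg.pPrimeCore p (G ⧸ N) with hWbdef
  haveI : Wb.Normal := H1.pPrimeCore_normal' p (G ⧸ N)
  have hWbcop : (Nat.card Wb).Coprime p := H1.card_pPrimeCore_coprime p _
  set W := Wb.comap f with hWdef
  haveI : W.Normal := inferInstanceAs (Wb.comap f).Normal
  have hppow : ∀ g : G, g ∈ W → ∀ k : ℕ, g ^ p ^ k ∈ N → g ∈ N := by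
    intro g hg k hgk
    refine hfker.1 (orderOf_eq_one_iff.1 (Nat.eq_one_of_dvd_coprimes (hWbcop.symm.pow_left k)
      (orderOf_dvd_of_pow_eq_one (by rw [← map_pow]; exact hfker.2 hgk))
      (Subgroup.orderOf_mk (f g) (show f g ∈ Wb from hg) ▸ orderOf_dvd_natCard _)))
  have hWP : ∀ x ∈ W, x ∈ (P : Subgroup G) → x ∈ N := fun x hxW hxP => by
    obtain ⟨k, hk⟩ := P.2 ⟨x, hxP⟩
    have h1 : x ^ p ^ k = 1 := congrArg Subtype.val hk
    exact hppow x hxW k (h1 ▸ one_mem N)
  have hdual : ∀ x : G, (∀ w ∈ W, ⁅w, x⁆ ∈ N) → x ∈ W := by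
    intro x hx
    refine H10.centralizer_pPrimeCore_le (H10.isPSolvable_quotient hG N) H10.pCore_quotient_pCore ?_
    rw [Subgroup.mem_centralizer_iff]
    intro y hy
    obtain ⟨w, rfl⟩ := hfsurj y
    have := hfker.2 (hx w hy)
    rw [map_commutatorElement, commutatorElement_eq_one_iff_mul_comm] at this
    exact this
  -- `W` does not normalise `D`
  obtain ⟨w, hw, c, hcD, hwc⟩ : ∃ w ∈ W, ∃ c ∈ D, w * c * w⁻¹ ∉ D := by
    by_contra hcon
    push Not at hcon
    refine hPN fun x hx => hWP x (hdual x fun g hg => ?_) hx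
    -- the elements acting trivially on `D` and `N / D`
    have hS : ∀ a b : G, ((∀ d ∈ D, a * d * a⁻¹ = d) ∧ ∀ n ∈ N, ⁅a, n⁆ ∈ D) →
        ((∀ d ∈ D, b * d * b⁻¹ = d) ∧ ∀ n ∈ N, ⁅b, n⁆ ∈ D) →
        ((∀ d ∈ D, (a * b) * d * (a * b)⁻¹ = d) ∧ ∀ n ∈ N, ⁅a * b, n⁆ ∈ D) := by
      intro a b ha hb
      constructor
      · intro d hd
        rw [show (a * b) * d * (a * b)⁻¹ = a * (b * d * b⁻¹) * a⁻¹ by group, hb.1 d hd, ha.1 d hd]
      · intro n hn
        rw [commElt_mul_left, ha.1 _ (hb.2 n hn)]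
        exact mul_mem (hb.2 n hn) (ha.2 n hn)
    have hxS : ∀ y ∈ (P : Subgroup G), (∀ d ∈ D, y * d * y⁻¹ = d) ∧ ∀ n ∈ N, ⁅y, n⁆ ∈ D := fun y hy =>
      ⟨fun d hd => by rw [hc d hd y hy, mul_inv_cancel_right], fun n hn => hcommD y hy n (hNP hn)⟩
    have hconjS : (∀ d ∈ D, (g * x * g⁻¹) * d * (g * x * g⁻¹)⁻¹ = d) ∧
        ∀ n ∈ N, ⁅g * x * g⁻¹, n⁆ ∈ D := by
      constructor
      · intro d hd
        have h1 : g⁻¹ * d * g ∈ D := by simpa using hcon g⁻¹ (inv_mem hg) d hd
        calc g * x * g⁻¹ * d * (g * x * g⁻¹)⁻¹ = g * (x * (g⁻¹ * d * g) * x⁻¹) * g⁻¹ := by group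
          _ = d := by rw [(hxS x hx).1 _ h1]; group
      · intro n hn
        rw [commElt_conj]
        refine hcon g hg _ ((hxS x hx).2 _ ?_)
        simpa using (inferInstance : N.Normal).conj_mem n hn g⁻¹
    have hgS := hS _ _ hconjS (hxS _ (inv_mem hx))
    rw [← commutatorElement_def] at hgS
    obtain ⟨k, hk⟩ := IsPGroup.iff_card.1 ((H1.isPGroup_pCore p G).to_le hDN)
    refine hppow _ ?_ k ?_
    · have := mul_mem hg ((inferInstance : W.Normal).conj_mem g⁻¹ (inv_mem hg) x)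
      rw [show g * (x * g⁻¹ * x⁻¹) = ⁅g, x⁆ by simp only [commutatorElement_def]; group] at this
      exact this
    · refine hCN (Subgroup.mem_centralizer_iff.2 fun n hn => ?_)
      rw [← hk]
      exact (pow_card_commute hgS.1 hgS.2 n hn).symm
  -- an element of the centre of `N` outside `D`
  obtain ⟨a, haC, haD⟩ : ∃ a ∈ Subgroup.centralizer (N : Set G), a ∉ D := by
    by_contra hcon
    push Not at hcon
    refine hwc (hcon _ (Subgroup.mem_centralizer_iff.2 fun n hn => ?_))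
    have hm := (inferInstance : N.Normal).conj_mem n hn w⁻¹
    rw [inv_inv] at hm
    have h1 := hc c hcD _ (hNP hm)
    calc n * (w * c * w⁻¹) = w * ((w⁻¹ * n * w) * c) * w⁻¹ := by group
      _ = w * (c * (w⁻¹ * n * w)) * w⁻¹ := by rw [h1]
      _ = w * c * w⁻¹ * n := by group
  have haN : a ∈ N := hCN haC
  have haP := hNP haN
  set R := (P : Subgroup G).map f with hRdef
  have hRN : ∀ x ∈ (P : Subgroup G), x ^ p ∈ N := fun x hx => hDN (hpw x hx)
  by_cases hcyc : IsCyclic R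
  · -- `P = N⟨x₀⟩`
    obtain ⟨⟨gen, x0, hx0, rfl⟩, hgen⟩ := hcyc.exists_generator
    have hdec : ∀ y ∈ (P : Subgroup G), ∃ n ∈ N, ∃ i : ℤ, y = n * x0 ^ i := by
      intro y hy
      obtain ⟨i, hi⟩ := hgen ⟨f y, y, hy, rfl⟩
      refine ⟨y * (x0 ^ i)⁻¹, hfker.1 ?_, i, (inv_mul_cancel_right _ _).symm⟩
      have h1 : f x0 ^ i = f y := congrArg Subtype.val hi
      rw [map_mul, map_inv, map_zpow, h1, mul_inv_cancel]
    have hx0N : x0 ∉ N := fun h => hPN fun y hy => by
      obtain ⟨n, hn, i, rfl⟩ := hdec y hy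
      exact mul_mem hn (zpow_mem h i)
    let ψ : ∀ z ∈ (P : Subgroup G), ↥(P : Subgroup G) →* G := fun z hz =>
      MonoidHom.mk' (fun y => ⁅z, (y : G)⁆) fun u v => (hbil u u.2 v v.2 z hz).2
    have hzpow : ∀ z ∈ (P : Subgroup G), ∀ y ∈ (P : Subgroup G), ∀ i : ℤ, ⁅z, y ^ i⁆ = ⁅z, y⁆ ^ i :=
      fun z hz y hy i => map_zpow (ψ z hz) ⟨y, hy⟩ i
    have haN1 : ∀ n ∈ N, ⁅a, n⁆ = 1 := fun n hn =>
      commutatorElement_eq_one_iff_mul_comm.2 (Subgroup.mem_centralizer_iff.1 haC n hn).symm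
    set c0 := ⁅a, x0⁆ with hc0
    have hc0D : c0 ∈ D := hcommD a haP x0 hx0
    have hDgen : ∀ d ∈ D, ∃ i : ℤ, c0 ^ i = d := by
      intro d hd
      obtain ⟨y, hy, rfl⟩ := hf a haP haD d hd
      obtain ⟨n, hn, i, rfl⟩ := hdec y hy
      exact ⟨i, by rw [(hbil n (hNP hn) _ (zpow_mem hx0 i) a haP).2, haN1 n hn, one_mul, hzpow a haP x0 hx0]⟩
    have hc0ne : c0 ≠ 1 := by
      intro h
      refine hwc ?_
      obtain ⟨i, hi⟩ := hDgen c hcD
      rw [h, one_zpow] at hi
      rw [← hi]; simp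
    have hc0p : c0 ^ p = 1 := by
      rw [hc0, ← zpow_natCast, ← hzpow a haP x0 hx0, zpow_natCast]
      exact commutatorElement_eq_one_iff_mul_comm.2 (hc _ (hpw x0 hx0) a haP)
    have hord : orderOf c0 = p := orderOf_eq_prime hc0p hc0ne
    have hDz : D = Subgroup.zpowers c0 :=
      le_antisymm (fun d hd => hDgen d hd) (Subgroup.zpowers_le.2 hc0D)
    have hDcard : Nat.card D = p := by rw [hDz, Nat.card_zpowers, hord]
    have hDprime : ∀ d ∈ D, d ≠ 1 → D = Subgroup.zpowers d := by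
      intro d hd hd1
      refine (Subgroup.eq_of_le_of_card_ge (Subgroup.zpowers_le.2 hd) ?_).symm
      rw [hDcard, Nat.card_zpowers]
      refine le_of_eq (orderOf_eq_prime ?_ hd1).symm
      rw [← hDcard]
      exact congrArg Subtype.val (pow_card_eq_one' (x := (⟨d, hd⟩ : D)))
    have hstab : ∀ d ∈ D, d ≠ 1 → ∀ g : G, g * d * g⁻¹ ∈ D → ∀ e ∈ D, g * e * g⁻¹ ∈ D := by
      intro d hd hd1 g hg e he
      rw [hDprime d hd hd1] at he
      obtain ⟨i, rfl⟩ := he
      show g * d ^ i * g⁻¹ ∈ D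
      rw [← conj_zpow]
      exact zpow_mem hg i
    -- `N` is abelian
    have hNab : ∀ u ∈ N, ∀ v ∈ N, u * v = v * u := by
      intro u hu v hv
      by_contra hne
      refine hwc (hstab _ (hcommD u (hNP hu) v (hNP hv)) (fun h => hne (commutatorElement_eq_one_iff_mul_comm.1 h)) w ?_ c hcD)
      have h1 : w * ⁅u, v⁆ * w⁻¹ = ⁅w * u * w⁻¹, w * v * w⁻¹⁆ := by
        simp only [commutatorElement_def]; group
      rw [h1]
      exact hcommD _ (hNP ((inferInstance : N.Normal).conj_mem u hu w)) _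
        (hNP ((inferInstance : N.Normal).conj_mem v hv w))
    have hker : ∀ n ∈ N, ⁅x0, n⁆ = 1 → n ∈ D := by
      intro n hn h1
      by_contra hnD
      obtain ⟨y, hy, hyc⟩ := hf n (hNP hn) hnD c0 hc0D
      obtain ⟨m, hm, i, rfl⟩ := hdec y hy
      refine hc0ne ?_
      rw [← hyc, (hbil m (hNP hm) _ (zpow_mem hx0 i) n (hNP hn)).2, hzpow n (hNP hn) x0 hx0,
        commutatorElement_eq_one_iff_mul_comm.2 (hNab n hn m hm), one_mul]
      rw [← commutatorElement_inv, h1, inv_one, one_zpow]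
    have hNcard : Nat.card N = p ^ 2 := by
      let θ : ↥N →* G := (ψ x0 hx0).comp (Subgroup.inclusion hNP)
      have hθk : θ.ker = D.subgroupOf N := by
        ext n
        refine ⟨fun h => hker n n.2 h, fun h => ?_⟩
        exact commutatorElement_eq_one_iff_mul_comm.2 (hc _ h x0 hx0)
      have hθr : θ.range = D := by
        refine le_antisymm (fun y ⟨n, hn⟩ => hn ▸ hcommD x0 hx0 n (hNP n.2)) ?_
        rw [hDprime _ (hcommD x0 hx0 a haP) fun h => haD (hker a haN h)]
        exact Subgroup.zpowers_le.2 ⟨⟨a, haN⟩, rfl⟩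
      have h := Subgroup.card_mul_index θ.ker
      rw [Subgroup.index_ker, hθr, hθk, Nat.card_congr (Subgroup.subgroupOfEquivOfLe hDN).toEquiv, hDcard] at h
      rw [← h, pow_two]
    have hPcard : Nat.card (P : Subgroup G) = p ^ 3 := by
      have hR : Nat.card R = p := by
        have h1 : R = Subgroup.zpowers (f x0) := le_antisymm (fun y hy => by
          obtain ⟨i, hi⟩ := hgen ⟨y, hy⟩
          exact ⟨i, congrArg Subtype.val hi⟩) (Subgroup.zpowers_le.2 ⟨x0, hx0, rfl⟩)
        rw [h1, Nat.card_zpowers]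
        exact orderOf_eq_prime (by rw [← map_pow]; exact hfker.2 (hRN x0 hx0)) fun h => hx0N (hfker.1 h)
      rw [← Subgroup.relIndex_bot_left, ← Subgroup.relIndex_mul_relIndex ⊥ N _ bot_le hNP,
        Subgroup.relIndex_bot_left, hNcard, ← QuotientGroup.ker_mk' N, Subgroup.relIndex_ker,
        ← hfdef, ← hRdef, hR, pow_succ p 2]
    obtain ⟨hp3, hp2⟩ := h3 hPcard
    by_cases h2 : p = 2
    · subst h2
      refine hwc (hstab _ (hpw a haP) (hp2 rfl a haP haD) w ?_ c hcD)
      rw [← conj_pow]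
      exact hpw _ (hNP ((inferInstance : N.Normal).conj_mem a haN w))
    -- `p ≥ 5`
    have hc1 : c ≠ 1 := fun h => hwc (by rw [h]; simp)
    set c' := w * c * w⁻¹ with hc'def
    have hc'N : c' ∈ N := (inferInstance : N.Normal).conj_mem c (hDN hcD) w
    have hwic : w⁻¹ * c * w ∉ D := by
      intro hmem
      have hmem' : w⁻¹ * c * w⁻¹⁻¹ ∈ D := by rwa [inv_inv]
      set d := w⁻¹ * c * w with hd
      have hd1 : d ≠ 1 := fun h => hc1 (by
        calc c = w * d * w⁻¹ := by rw [hd]; group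
          _ = 1 := by rw [h]; simp)
      refine hwc (hstab d hmem hd1 w ?_ c hcD)
      rw [show w * d * w⁻¹ = c by rw [hd]; group]
      exact hcD
    -- commutators with a power of `x0`
    have hsolve : ∀ n ∈ N, n ∉ D → ∀ e ∈ D, ∃ i : ℤ, ⁅x0 ^ i, n⁆ = e := by
      intro n hn hnD e he
      have h1 : ⁅x0, n⁆ ≠ 1 := fun h => hnD (hker n hn h)
      rw [hDprime _ (hcommD x0 hx0 n (hNP hn)) h1] at he
      obtain ⟨i, rfl⟩ := he
      refine ⟨i, ?_⟩
      rw [← commutatorElement_inv, hzpow n (hNP hn) x0 hx0, ← inv_zpow, commutatorElement_inv]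
    have hw1 : w⁻¹ * c * w ∈ N := by
      simpa using (inferInstance : N.Normal).conj_mem c (hDN hcD) w⁻¹
    obtain ⟨i, hi⟩ := hsolve c' hc'N hwc c hcD
    obtain ⟨j, hj⟩ := hsolve _ hw1 hwic c⁻¹ (inv_mem hcD)
    set x := x0 ^ i with hxdef
    set y := x0 ^ j with hydef
    set x' := w * y * w⁻¹ with hx'def
    have hxc : x * c * x⁻¹ = c := by rw [hc c hcD x (zpow_mem hx0 i), mul_inv_cancel_right]
    have hxc' : x * c' * x⁻¹ = c * c' := by rw [conj_eq_commElt_mul, hi]
    have hx'c' : x' * c' * x'⁻¹ = c' := by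
      calc x' * c' * x'⁻¹ = w * (y * c * y⁻¹) * w⁻¹ := by rw [hx'def, hc'def]; group
        _ = c' := by rw [hc c hcD y (zpow_mem hx0 j), mul_inv_cancel_right]
    have hx'c : x' * c * x'⁻¹ = c'⁻¹ * c := by
      calc x' * c * x'⁻¹ = w * (y * (w⁻¹ * c * w) * y⁻¹) * w⁻¹ := by rw [hx'def]; group
        _ = w * (c⁻¹ * (w⁻¹ * c * w)) * w⁻¹ := by rw [conj_eq_commElt_mul y, hj]
        _ = c'⁻¹ * c := by rw [hc'def]; group
    letI : CommGroup ↥N := { (inferInstance : Group ↥N) with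
      mul_comm := fun u v => Subtype.ext (hNab u u.2 v v.2) }
    set φ : G →* MulAut ↥N := MulAut.conjNormal with hφ
    set C : ↥N := ⟨c, hDN hcD⟩ with hCdef
    set C' : ↥N := ⟨c', hc'N⟩ with hC'def
    have hφx : φ x C = C ∧ φ x C' = C * C' :=
      ⟨Subtype.ext ((MulAut.conjNormal_apply _ _).trans hxc), Subtype.ext ((MulAut.conjNormal_apply _ _).trans hxc')⟩
    have hφx' : φ x' C = C * C'⁻¹ ∧ φ x' C' = C' :=
      ⟨(Subtype.ext ((MulAut.conjNormal_apply _ _).trans hx'c) : φ x' C = C'⁻¹ * C).trans (mul_comm _ _),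
        Subtype.ext ((MulAut.conjNormal_apply _ _).trans hx'c')⟩
    have hX : ∀ t : ℕ, φ (x ^ t) C = C ∧ φ (x ^ t) C' = C ^ t * C' := by
      intro t
      induction t with
      | zero => simp
      | succ t ih =>
        rw [pow_succ', map_mul, MulAut.mul_apply, MulAut.mul_apply, ih.1, ih.2, map_mul, map_pow, hφx.1,
          hφx.2]
        exact ⟨rfl, by rw [pow_succ, mul_assoc]⟩
    have hX' : ∀ t : ℕ, φ (x' ^ t) C = C * (C'⁻¹) ^ t ∧ φ (x' ^ t) C' = C' := by
      intro t
      induction t with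
      | zero => simp
      | succ t ih =>
        rw [pow_succ', map_mul, MulAut.mul_apply, MulAut.mul_apply, ih.1, ih.2, map_mul, map_pow, map_inv,
          hφx'.1, hφx'.2]
        exact ⟨by rw [pow_succ', mul_assoc], rfl⟩
    have hcp : c ^ p = 1 := by
      rw [← hDcard]; exact congrArg Subtype.val (pow_card_eq_one' (x := (⟨c, hcD⟩ : D)))
    have hCp : C ^ p = 1 := Subtype.ext hcp
    have hC'p : C' ^ p = 1 := Subtype.ext (by
      show c' ^ p = 1
      rw [hc'def, conj_pow, hcp, mul_one, mul_inv_cancel])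
    obtain ⟨s, hs⟩ : ∃ s : ℕ, 2 * s = p + 1 := by
      obtain ⟨t, ht⟩ := hp.odd_of_ne_two h2
      exact ⟨t + 1, by omega⟩
    have hCs : C ^ s * C ^ s = C := by rw [← pow_add, ← two_mul, hs, pow_succ, hCp, one_mul]
    have hC's : C' ^ s * C' ^ s = C' := by rw [← pow_add, ← two_mul, hs, pow_succ, hC'p, one_mul]
    have hgenN : ∀ g : G, φ g C = C → φ g C' = C' → g ∈ N := by
      intro g h1 h2
      have h1' : g * c * g⁻¹ = c := (MulAut.conjNormal_apply _ _).symm.trans (congrArg Subtype.val h1)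
      have h2' : g * c' * g⁻¹ = c' := (MulAut.conjNormal_apply _ _).symm.trans (congrArg Subtype.val h2)
      refine hCN ?_
      rw [Subgroup.mem_centralizer_iff]
      intro n hn
      have hgn : N ≤ Subgroup.centralizer ({g} : Set G) := by
        have hlt : D < D ⊔ Subgroup.zpowers c' := lt_of_le_of_ne le_sup_left fun h =>
          hwc (by rw [h]; exact Subgroup.mem_sup_right (Subgroup.mem_zpowers _))
        have hle : D ⊔ Subgroup.zpowers c' ≤ N := sup_le hDN (Subgroup.zpowers_le.2 hc'N)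
        have heq : D ⊔ Subgroup.zpowers c' = N := by
          refine Subgroup.eq_of_le_of_card_ge hle ?_
          obtain ⟨k, hk⟩ := IsPGroup.iff_card.1 ((H1.isPGroup_pCore p G).to_le hle)
          have h3 : Nat.card D < Nat.card ↥(D ⊔ Subgroup.zpowers c') := by
            by_contra hge
            exact hlt.ne (Subgroup.eq_of_le_of_card_ge hlt.le (not_lt.1 hge))
          rw [hk, hDcard] at h3
          rw [hNcard, hk]
          refine Nat.pow_le_pow_right hp.pos ?_
          have := (Nat.pow_lt_pow_iff_right hp.one_lt).1 (show p ^ 1 < p ^ k by simpa using h3)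
          omega
        rw [← heq, hDprime c hcD hc1, sup_le_iff, Subgroup.zpowers_le, Subgroup.zpowers_le,
          Subgroup.mem_centralizer_singleton_iff, Subgroup.mem_centralizer_singleton_iff]
        exact ⟨(mul_inv_eq_iff_eq_mul.1 h1').symm, (mul_inv_eq_iff_eq_mul.1 h2').symm⟩
      exact Subgroup.mem_centralizer_singleton_iff.1 (hgn hn)
    have hrel : ∀ u v : G, φ u C = φ v C → φ u C' = φ v C' → f u = f v := by
      intro u v h1 h2
      have hm : v⁻¹ * u ∈ N := by
        refine hgenN _ ?_ ?_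
        · rw [map_mul, MulAut.mul_apply, h1, ← MulAut.mul_apply, ← map_mul, inv_mul_cancel, map_one, MulAut.one_apply]
        · rw [map_mul, MulAut.mul_apply, h2, ← MulAut.mul_apply, ← map_mul, inv_mul_cancel, map_one, MulAut.one_apply]
      have := hfker.2 hm
      rwa [map_mul, map_inv, inv_mul_eq_one, eq_comm] at this
    have e1 : f ((x * x' * x) * x') = f (x * (x * x' * x)) := by
      refine hrel _ _ ?_ ?_ <;>
        simp only [map_mul, MulAut.mul_apply, hφx.1, hφx.2, hφx'.1, hφx'.2, map_inv] <;>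
        simp [mul_assoc, mul_comm, mul_left_comm]
    have e2 : f ((x ^ 2 * x' ^ s * x ^ 2) * x') = f (x ^ 4 * (x ^ 2 * x' ^ s * x ^ 2)) := by
      have hA1 : φ (x ^ 2 * x' ^ s * x ^ 2) C = (C'⁻¹) ^ s := by
        simp only [map_mul φ, MulAut.mul_apply]
        rw [(hX 2).1, (hX' s).1, map_mul (φ (x ^ 2)), map_pow (φ (x ^ 2)), map_inv (φ (x ^ 2)), (hX 2).1,
          (hX 2).2, mul_inv, mul_pow, inv_pow (C ^ 2), ← pow_mul, hs, pow_succ, hCp, one_mul,
          mul_inv_cancel_left]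
      have hA2 : φ (x ^ 2 * x' ^ s * x ^ 2) C' = C ^ 2 := by
        simp only [map_mul φ, MulAut.mul_apply]
        have h : (C * C'⁻¹ ^ s) ^ 2 * C' = C ^ 2 := by
          rw [mul_pow, mul_assoc, inv_pow, inv_pow, ← pow_mul, mul_comm s 2, hs, pow_succ C' p, hC'p, one_mul,
            inv_mul_cancel, mul_one]
        rw [(hX 2).2, map_mul (φ (x' ^ s)), map_pow (φ (x' ^ s)), (hX' s).1, (hX' s).2, h,
          map_pow (φ (x ^ 2)), (hX 2).1]
      refine hrel _ _ ?_ ?_
      · rw [map_mul φ _ x', map_mul φ (x ^ 4), MulAut.mul_apply, MulAut.mul_apply, hA1, hφx'.1,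
          map_mul (φ (x ^ 2 * x' ^ s * x ^ 2)), map_inv (φ (x ^ 2 * x' ^ s * x ^ 2)), hA1, hA2,
          map_pow (φ (x ^ 4)), map_inv (φ (x ^ 4)), (hX 4).2, mul_inv, mul_pow, mul_comm]
        congr 1
        calc (C ^ 2)⁻¹ = ((C ^ s * C ^ s) ^ 2)⁻¹ := by rw [hCs]
          _ = ((C ^ 4)⁻¹) ^ s := by
            rw [← pow_add, ← pow_mul, inv_pow, ← pow_mul]
            congr 2
            ring
      · rw [map_mul φ _ x', map_mul φ (x ^ 4), MulAut.mul_apply, MulAut.mul_apply, hφx'.2, hA2,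
          map_pow (φ (x ^ 4)), (hX 4).1]
    -- in the commutative quotient by `W`
    set π := QuotientGroup.mk' W
    have hNW : N ≤ W := fun n hn => show f n ∈ Wb by rw [hfker.2 hn]; exact one_mem _
    have hπ : ∀ u v : G, f u = f v → π u = π v := by
      intro u v h
      have h1 : u⁻¹ * v ∈ N := hfker.1 (by rw [map_mul, map_inv, h, inv_mul_cancel])
      exact QuotientGroup.eq.2 (hNW h1)
    have hπy : π x' = π y := by
      refine (QuotientGroup.eq.2 ?_).symm
      have := mul_mem ((inferInstance : W.Normal).conj_mem w hw y⁻¹) (inv_mem hw)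
      rw [inv_inv] at this
      convert this using 1
      rw [hx'def]; group
    have hcm : Commute (π x) (π x') := by
      rw [hπy]
      exact ((Commute.refl x0).zpow_zpow i j).map π
    have r1 := hπ _ _ e1
    have r2 := hπ _ _ e2
    simp only [map_mul, map_pow] at r1 r2
    have h4 : (π x) ^ 3 = 1 := by
      have a1 : π x' = π x := by
        have : π x * π x' * π x * π x' = π x * π x' * π x * π x := by
          rw [r1]
          exact ((((Commute.refl (π x)).mul_right hcm).mul_right (Commute.refl _))).eq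
        exact mul_left_cancel this
      rw [a1] at r2
      have a2 : π x ^ 2 * π x ^ s * π x ^ 2 * π x = π x ^ 4 * (π x ^ 2 * π x ^ s * π x ^ 2) := r2
      simp only [← pow_succ, ← pow_add] at a2
      rw [show 4 + (2 + s + 2) = 3 + (2 + s + 2 + 1) by ring, pow_add (π x) 3] at a2
      exact mul_eq_right.1 a2.symm
    have hxP : x ∈ (P : Subgroup G) := zpow_mem hx0 i
    have hxW : x ∈ W := by
      rw [← QuotientGroup.eq_one_iff (N := W)]
      refine orderOf_eq_one_iff.1 (Nat.eq_one_of_dvd_coprimes ((Nat.coprime_primes Nat.prime_three hp).2 (Ne.symm hp3))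
        (orderOf_dvd_of_pow_eq_one h4) (orderOf_dvd_of_pow_eq_one ?_))
      rw [← QuotientGroup.mk_pow]
      exact (QuotientGroup.eq_one_iff _).2 (hNW (hRN x hxP))
    have hxN := hWP x hxW hxP
    refine hc1 ?_
    rw [← hi, commutatorElement_eq_one_iff_mul_comm]
    exact hNab x hxN c' hc'N
  · -- noncyclic quotient
    obtain ⟨m, hm⟩ := IsPGroup.iff_card.1 (H1.isPGroup_pCore p G)
    have hNW : N ≤ W := fun n hn => show f n ∈ Wb by rw [hfker.2 hn]; exact one_mem _
    obtain ⟨K, hK⟩ := Subgroup.exists_right_complement'_of_coprime (N := N.subgroupOf W) (by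
      rw [Nat.card_congr (Subgroup.subgroupOfEquivOfLe hNW).toEquiv, hm]
      show (p ^ m).Coprime (N.relIndex W)
      rw [← QuotientGroup.ker_mk' N, Subgroup.relIndex_ker, ← hfdef, hWdef,
        Subgroup.map_comap_eq_self_of_surjective hfsurj]
      exact hWbcop.symm.pow_left m)
    set K0 := K.map W.subtype with hK0
    have hK0W : K0 ≤ W := Subgroup.map_subtype_le K
    have hNK : ∀ z, z ∈ N → z ∈ K0 → z = 1 := by
      rintro z hzN ⟨k, hk, rfl⟩
      rw [Subgroup.disjoint_def.1 hK.disjoint (show k ∈ N.subgroupOf W from hzN) hk, map_one]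
    have hWdec : ∀ u ∈ W, ∃ n ∈ N, ∃ k ∈ K0, u = n * k := by
      intro u hu
      obtain ⟨⟨⟨n, hn⟩, ⟨k, hk⟩⟩, he⟩ := hK.2 ⟨u, hu⟩
      exact ⟨n, hn, k, ⟨k, hk, rfl⟩, (congrArg Subtype.val he).symm⟩
    have hK0cop : (Nat.card K0).Coprime p := by
      rw [hK0, Nat.card_congr (K.equivMapOfInjective _ W.subtype_injective).symm.toEquiv, ← hK.symm.index_eq_card]
      show (N.relIndex W).Coprime p
      rw [← QuotientGroup.ker_mk' N, Subgroup.relIndex_ker, ← hfdef, hWdef,
        Subgroup.map_comap_eq_self_of_surjective hfsurj]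
      exact hWbcop
    set L := Subgroup.normalizer (K0 : Set G) with hL
    haveI : Group.IsNilpotent ↥N := (H1.isPGroup_pCore p G).isNilpotent
    have hGNL : ∀ g : G, ∃ n ∈ N, n⁻¹ * g ∈ L := by
      intro g
      obtain ⟨n, hn, hne⟩ := H1.exists_conj_eq_of_coprime (D := N) (H := K0) (K := MulAut.conj g • K0)
        (by rw [Subgroup.normalizer_eq_top]; exact le_top) (by rw [hm]; exact hK0cop.symm.pow_left m)
        (Or.inl inferInstance) (by
          rintro _ ⟨k, hk, rfl⟩
          obtain ⟨n', hn', k', hk', he⟩ := hWdec _ ((inferInstance : W.Normal).conj_mem k (hK0W hk) g)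
          show g * k * g⁻¹ ∈ N ⊔ K0
          rw [he]; exact Subgroup.mul_mem_sup hn' hk')
        (Nat.card_congr (Subgroup.equivSMul (MulAut.conj g) K0).toEquiv).symm
      refine ⟨n, hn, ?_⟩
      rw [hL, Subgroup.mem_normalizer_iff_map_conj_eq]
      show MulAut.conj (n⁻¹ * g) • K0 = K0
      rw [map_mul, mul_smul, ← hne, map_inv, inv_smul_smul]
    set F := N ⊓ L with hF
    have hFK : ∀ z ∈ F, ∀ k ∈ K0, k * z * k⁻¹ = z := by
      intro z hz k hk
      have h1 : ⁅k, z⁆ ∈ N := mul_mem ((inferInstance : N.Normal).conj_mem z hz.1 k) (inv_mem hz.1)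
      have h2 : ⁅k, z⁆ ∈ K0 := by
        have := mul_mem hk ((Subgroup.mem_normalizer_iff.1 hz.2 k⁻¹).1 (inv_mem hk))
        rw [show k * (z * k⁻¹ * z⁻¹) = ⁅k, z⁆ by simp only [commutatorElement_def]; group] at this
        exact this
      rw [conj_eq_commElt_mul, hNK _ h1 h2, one_mul]
    have hFP : F ≤ (P : Subgroup G) := inf_le_left.trans hNP
    set Y := D ⊔ F with hY
    have hYN : Y ≤ N := sup_le hDN inf_le_left
    have hYmem : ∀ {y}, y ∈ Y → ∃ d ∈ D, ∃ z ∈ F, y = d * z := by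
      intro y hy
      have hFD : F ≤ Subgroup.normalizer (D : Set G) := fun z hz =>
        Subgroup.mem_normalizer_fintype fun d hd => by rwa [hc d hd z (hFP hz), mul_inv_cancel_right]
      rw [hY, ← SetLike.mem_coe, Subgroup.coe_mul_of_right_le_normalizer_left D F hFD] at hy
      obtain ⟨d, hd, z, hz, rfl⟩ := hy
      exact ⟨d, hd, z, hz, rfl⟩
    have hnormal : ∀ k ∈ K0, ∀ y ∈ Y, k * y * k⁻¹ ∈ Y := by
      set T := K0 ⊓ Subgroup.normalizer (Y : Set G) with hT
      haveI : IsMulCommutative R := ⟨⟨by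
        rintro ⟨_, u, hu, rfl⟩ ⟨_, v, hv, rfl⟩
        refine Subtype.ext ?_
        show f u * f v = f v * f u
        rw [← commutatorElement_eq_one_iff_mul_comm, ← map_commutatorElement]
        exact hfker.2 (hDN (hcommD u hu v hv))⟩⟩
      have hle : Wb ≤ T.map f := by
        refine H79.le_of_centralizers_le (A := R) (p := p) ?_ hcyc
          (by rw [Subgroup.normalizer_eq_top]; exact le_top) hWbcop ?_
        · rintro _ ⟨u, hu, rfl⟩
          rw [← map_pow]; exact hfker.2 (hRN u hu)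
        · rintro _ ⟨u, hu, rfl⟩ hu1 v ⟨hv, hvc⟩
          obtain ⟨g, rfl⟩ := hfsurj v
          obtain ⟨n, hn, k, hk, rfl⟩ := hWdec g hv
          obtain ⟨n', hn', hl⟩ := hGNL u
          set x := n'⁻¹ * u with hx
          have hxP : x ∈ (P : Subgroup G) := mul_mem (inv_mem (hNP hn')) hu
          have hfx : f x = f u := by rw [hx, map_mul, map_inv, hfker.2 hn', inv_one, one_mul]
          have hfg : f (n * k) = f k := by rw [map_mul, hfker.2 hn, one_mul]
          rw [hfg]
          refine ⟨k, ⟨hk, ?_⟩, rfl⟩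
          have hxk : k * x = x * k := by
            rw [← commutatorElement_eq_one_iff_mul_comm]
            refine hNK _ (hfker.1 ?_) ?_
            · rw [map_commutatorElement, commutatorElement_eq_one_iff_mul_comm, hfx, ← hfg]
              exact Subgroup.mem_centralizer_singleton_iff.1 hvc
            · have := mul_mem hk ((Subgroup.mem_normalizer_iff.1 hl k⁻¹).1 (inv_mem hk))
              rw [show k * (x * k⁻¹ * x⁻¹) = ⁅k, x⁆ by simp only [commutatorElement_def]; group] at this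
              exact this
          have hxN : x ∉ N := fun h => hu1 (by rw [← hfx]; exact hfker.2 h)
          refine Subgroup.mem_normalizer_fintype fun y hy => ?_
          obtain ⟨d, hd, z, hz, rfl⟩ := hYmem hy
          rw [← conj_mul, hFK z hz k hk]
          refine mul_mem ?_ (Subgroup.mem_sup_right hz)
          obtain ⟨q, hq, rfl⟩ := hf x hxP (fun h => hxN (hDN h)) d hd
          obtain ⟨n1, hn1, hl1⟩ := hGNL q
          set r := n1⁻¹ * q with hr
          have hrP : r ∈ (P : Subgroup G) := mul_mem (inv_mem (hNP hn1)) hq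
          rw [show q = n1 * r by simp [hr], (hbil n1 (hNP hn1) r hrP x hxP).2, ← conj_mul]
          have hsm : ⁅x, r⁆ ∈ F := Subgroup.mem_inf.2 ⟨hDN (hcommD x hxP r hrP),
            mul_mem (mul_mem (mul_mem hl hl1) (inv_mem hl)) (inv_mem hl1)⟩
          rw [hFK _ hsm k hk]
          refine mul_mem (Subgroup.mem_sup_left ?_) (Subgroup.mem_sup_right hsm)
          have hkx : k * ⁅x, n1⁆ * k⁻¹ = ⁅x, k * n1 * k⁻¹⁆ := by
            have h1 : k * x * k⁻¹ = x := by rw [hxk, mul_inv_cancel_right]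
            conv_rhs => rw [← h1]
            simp only [commutatorElement_def]; group
          rw [hkx]
          exact hcommD x hxP _ (hNP ((inferInstance : N.Normal).conj_mem n1 hn1 k))
      intro k hk y hy
      obtain ⟨t, ⟨htK, htY⟩, hte⟩ := hle (show f k ∈ Wb from hK0W hk)
      have h1 : k * t⁻¹ = 1 := hNK _ (hfker.1 (by rw [map_mul, map_inv, hte, mul_inv_cancel])) (mul_mem hk (inv_mem htK))
      rw [mul_inv_eq_one] at h1
      subst h1
      exact (Subgroup.mem_normalizer_iff.1 htY y).1 hy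
    have hkill : ∀ x ∈ (P : Subgroup G), x ∈ L → ∀ k ∈ K0, ⁅k, x⁆ = 1 := by
      intro x hxP hxL k hk
      have hx1 : ∀ u ∈ (P : Subgroup G), u ∈ L →
          (∀ n ∈ N, ⁅u, n⁆ ∈ Y) ∧ (∀ y ∈ Y, ⁅u, y⁆ ∈ F) ∧ (∀ z ∈ F, u * z * u⁻¹ ∈ F) := by
        intro u huP huL
        refine ⟨fun n hn => Subgroup.mem_sup_left (hcommD u huP n (hNP hn)), fun y hy => ?_, fun z hz => ?_⟩
        · obtain ⟨d, hd, z, hz, rfl⟩ := hYmem hy
          rw [(hbil d (hDP hd) z (hFP hz) u huP).2,
            commutatorElement_eq_one_iff_mul_comm.2 (hc d hd u huP), one_mul]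
          exact Subgroup.mem_inf.2 ⟨hDN (hcommD u huP z (hFP hz)), mul_mem (mul_mem (mul_mem huL hz.2) (inv_mem huL)) (inv_mem hz.2)⟩
        · exact Subgroup.mem_inf.2 ⟨(inferInstance : N.Normal).conj_mem z hz.1 u, mul_mem (mul_mem huL hz.2) (inv_mem huL)⟩
      obtain ⟨b1, b2, -⟩ := hx1 x⁻¹ (inv_mem hxP) (inv_mem hxL)
      obtain ⟨c1, c2, c3⟩ := hx1 x hxP hxL
      have hkN : ∀ n ∈ N, k⁻¹ * n * k ∈ N := fun n hn => by
        simpa using (inferInstance : N.Normal).conj_mem n hn k⁻¹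
      have hkY : ∀ y ∈ Y, k⁻¹ * y * k ∈ Y := fun y hy => by
        simpa using hnormal k⁻¹ (inv_mem hk) y hy
      set u := k * x * k⁻¹ with hu
      have a1 : ∀ n ∈ N, ⁅u, n⁆ ∈ Y := fun n hn => by
        rw [hu, commElt_conj]; exact hnormal k hk _ (c1 _ (hkN n hn))
      have a2 : ∀ y ∈ Y, ⁅u, y⁆ ∈ F := fun y hy => by
        have := c2 _ (hkY y hy)
        rw [hu, commElt_conj, hFK _ this k hk]; exact this
      have a3 : ∀ z ∈ F, u * z * u⁻¹ ∈ F := fun z hz => by
        have hzf : k⁻¹ * z * k = z := by simpa using hFK z hz k⁻¹ (inv_mem hk)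
        have e : u * z * u⁻¹ = k * (x * (k⁻¹ * z * k) * x⁻¹) * k⁻¹ := by rw [hu]; group
        rw [e, hzf, hFK _ (c3 z hz) k hk]; exact c3 z hz
      have aY : ∀ y ∈ Y, u * y * u⁻¹ ∈ Y := fun y hy => by
        rw [conj_eq_commElt_mul]; exact mul_mem (Subgroup.mem_sup_right (a2 y hy)) hy
      set g := ⁅k, x⁆ with hg
      have hgu : g = u * x⁻¹ := commutatorElement_def k x
      have hgK : g ∈ K0 := by
        have := mul_mem hk ((Subgroup.mem_normalizer_iff.1 hxL k⁻¹).1 (inv_mem hk))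
        rw [show k * (x * k⁻¹ * x⁻¹) = g by rw [hg]; simp only [commutatorElement_def]; group] at this
        exact this
      have g1 : ∀ n ∈ N, ⁅g, n⁆ ∈ Y := fun n hn => by
        rw [hgu, commElt_mul_left]; exact mul_mem (aY _ (b1 n hn)) (a1 n hn)
      have g2 : ∀ y ∈ Y, ⁅g, y⁆ ∈ F := fun y hy => by
        rw [hgu, commElt_mul_left]; exact mul_mem (a3 _ (b2 y hy)) (a2 y hy)
      have g4 : ∀ j : ℕ, ∀ n ∈ N, ⁅g ^ j, n⁆ ∈ Y := by
        intro j
        induction j with
        | zero => intro n _; rw [pow_zero, commutatorElement_one_left]; exact one_mem _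
        | succ j ih =>
          intro n hn
          rw [pow_succ', commElt_mul_left]
          refine mul_mem ?_ (g1 n hn)
          rw [conj_eq_commElt_mul]
          exact mul_mem (Subgroup.mem_sup_right (g2 _ (ih n hn))) (ih n hn)
      have h1 := pow_card_commute (fun z hz => hFK z hz g hgK) g2
      have h2 := pow_card_commute (U := N) (V := Y)
        (fun y hy => by rw [h1 y hy, mul_inv_cancel_right]) (g4 (Nat.card F))
      have hmem : (g ^ Nat.card F) ^ Nat.card Y ∈ N := hCN (Subgroup.mem_centralizer_iff.2 fun n hn => (h2 n hn).symm)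
      rw [← pow_mul] at hmem
      refine orderOf_eq_one_iff.1 (Nat.eq_one_of_dvd_coprimes ?_
        (orderOf_dvd_of_pow_eq_one (hNK _ hmem (pow_mem hgK _))) (Subgroup.orderOf_mk g hgK ▸ orderOf_dvd_natCard _))
      obtain ⟨k1, hk1⟩ := IsPGroup.iff_card.1 ((H1.isPGroup_pCore p G).to_le (inf_le_left : F ≤ N))
      obtain ⟨k2, hk2⟩ := IsPGroup.iff_card.1 ((H1.isPGroup_pCore p G).to_le hYN)
      rw [hk1, hk2, ← pow_add]
      exact hK0cop.symm.pow_left _
    refine hPN fun q hq => ?_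
    obtain ⟨n, hn, hl⟩ := hGNL q
    set x := n⁻¹ * q with hx
    have hxP : x ∈ (P : Subgroup G) := mul_mem (inv_mem (hNP hn)) hq
    have hxN : x ∈ N := by
      refine hWP x (hdual x fun g hg => hfker.1 ?_) hxP
      obtain ⟨m', hm', k, hk, rfl⟩ := hWdec g hg
      rw [map_commutatorElement, map_mul, hfker.2 hm', one_mul, ← map_commutatorElement, hkill x hxP hl k hk, map_one]
    rw [show q = n * x by simp [hx]]
    exact mul_mem hn hxN

end H34.SchmidtPL
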