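import Mathlib
import Cfsg.Prelude.Def_SolvableStructure
import Cfsg.Agent.H81.Fitting

set_option autoImplicit false

/-!
The structure of the normal Sylow subgroup of a minimal non-nilpotent group, used through
an automorphism of prime order.
-/

namespace H34.SchmidtType

open scoped commutatorElement

/-- An automorphism of prime order prime to `p` fixing every proper invariant subgroup pointwise. -/
def IrrAut (p : ℕ) (P : Type*) [Group P] : Prop :=
  ∃ (α : MulAut P) (q : ℕ), q.Prime ∧ q ≠ p ∧ α ^ q = 1 ∧ α ≠ 1 ∧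
    ∀ U : Subgroup P, U ≠ ⊤ → (∀ y ∈ U, α y ∈ U) → ∀ y ∈ U, α y = y

theorem irrAut_congr {p : ℕ} {P Q : Type*} [Group P] [Group Q] (e : P ≃* Q) (h : IrrAut p P) :
    IrrAut p Q := by
  obtain ⟨α, q, hq, hqp, hα, hα1, hU⟩ := h
  refine ⟨MulAut.congr e α, q, hq, hqp, by rw [← map_pow, hα, map_one], ?_, fun U hUt hUinv y hy => ?_⟩
  · exact fun h => hα1 ((MulAut.congr e).injective (h.trans (map_one _).symm))
  · have key : ∀ z, MulAut.congr e α z = e (α (e.symm z)) := fun z => rfl
    have hne : U.comap e.toMonoidHom ≠ ⊤ := fun h => hUt (by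
      rw [← Subgroup.map_comap_eq_self_of_surjective (f := e.toMonoidHom) e.surjective U, h,
        Subgroup.map_top_of_surjective _ e.surjective])
    have := hU _ hne (fun z hz => by
      have h1 := hUinv _ hz
      rw [key, MulEquiv.coe_toMonoidHom, e.symm_apply_apply] at h1
      exact h1) (e.symm y) (by simpa using hy)
    rw [key, this, e.apply_symm_apply]

theorem exists_irrAut {X : Type*} [Group X] [Finite X] (p : ℕ) [Fact p.Prime]
    (hX : Cfsg.IsMinimalNonNilpotent X) (P : Sylow p X) (hPn : (P : Subgroup X).Normal)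
    (hP1 : (P : Subgroup X) ≠ ⊥) : IrrAut p ↥(P : Subgroup X) := by
  classical
  haveI := hPn
  have hp : p.Prime := Fact.out
  obtain ⟨C, hC⟩ := Subgroup.exists_right_complement'_of_coprime (N := (P : Subgroup X))
    (by obtain ⟨k, hk⟩ := IsPGroup.iff_card.1 P.2
        rw [hk]; exact (hp.coprime_iff_not_dvd.2 P.not_dvd_index).pow_left k)
  have hCcard : ¬ p ∣ Nat.card C := by rw [← hC.symm.index_eq_card]; exact P.not_dvd_index
  let φ : ↥C →* MulAut ↥(P : Subgroup X) := (MulAut.conjNormal).comp C.subtype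
  obtain ⟨u, hu⟩ : ∃ u : ↥C, φ u ≠ 1 := by
    by_contra h
    push Not at h
    have hCtop : C ≠ ⊤ := by
      intro hCt
      refine hP1 (Subgroup.eq_bot_of_card_eq _ ?_)
      have := hC.card_mul
      rw [hCt, Subgroup.card_top] at this
      exact (Nat.mul_eq_right Nat.card_pos.ne').1 this
    haveI := hX.2 C hCtop
    haveI : Group.IsNilpotent ↥(P : Subgroup X) := P.2.isNilpotent
    let f : ↥(P : Subgroup X) × ↥C →* X := MonoidHom.noncommCoprod (P : Subgroup X).subtype C.subtype
      fun a b => by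
        have := congrArg Subtype.val (congrFun (congrArg (fun (φ : MulAut _) => ⇑φ) (h b)) a)
        rw [show φ b a = MulAut.conjNormal (b : X) a from rfl, MulAut.conjNormal_apply] at this
        exact (mul_inv_eq_iff_eq_mul.1 this).symm
    exact hX.1 (Group.nilpotent_of_surjective f fun x => by
      obtain ⟨⟨a, b⟩, hab⟩ := hC.2 x
      exact ⟨⟨a, b⟩, hab⟩)
  obtain ⟨⟨u, hu, hmin⟩⟩ : Nonempty {u : ↥C // φ u ≠ 1 ∧ ∀ v, φ v ≠ 1 → orderOf u ≤ orderOf v} := by
    obtain ⟨u0, hu0, hmin⟩ := Set.exists_min_image {v : ↥C | φ v ≠ 1} orderOf (Set.toFinite _) ⟨u, hu⟩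
    exact ⟨⟨u0, hu0, hmin⟩⟩
  have hou : orderOf u ≠ 1 := fun h => hu (by rw [orderOf_eq_one_iff.1 h, map_one])
  obtain ⟨q, hq, hqu⟩ := Nat.exists_prime_and_dvd hou
  have huq : φ (u ^ q) = 1 := by
    by_contra h
    have h1 := hmin _ h
    rw [orderOf_pow_of_dvd hq.ne_zero hqu] at h1
    have := Nat.div_lt_self (orderOf_pos u) hq.one_lt
    omega
  have hqp : q ≠ p := fun h => hCcard (h ▸ hqu.trans (orderOf_dvd_natCard u))
  refine ⟨φ u, q, hq, hqp, by rw [← map_pow, huq], hu, fun U hU hinv y hy => ?_⟩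
  -- the subgroup `U ⟨u⟩` is proper, hence nilpotent
  set U' := U.map (P : Subgroup X).subtype with hU'
  have hnorm : Subgroup.zpowers (u : X) ≤ Subgroup.normalizer (U' : Set X) := by
    rw [Subgroup.zpowers_le]
    refine Subgroup.mem_normalizer_fintype ?_
    rintro _ ⟨z, hz, rfl⟩
    exact ⟨φ u z, hinv z hz, MulAut.conjNormal_apply _ _⟩
  have hprop : U' ⊔ Subgroup.zpowers (u : X) ≠ ⊤ := by
    intro htop
    refine hU (eq_top_iff.2 fun z _ => ?_)
    have hz : (z : X) ∈ ((U' ⊔ Subgroup.zpowers (u : X) : Subgroup X) : Set X) := by rw [htop]; trivial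
    rw [Subgroup.coe_mul_of_right_le_normalizer_left U' _ hnorm] at hz
    obtain ⟨_, ⟨a, ha, rfl⟩, b, hb, hab⟩ := hz
    have hbP : b ∈ (P : Subgroup X) := by
      have := mul_mem (inv_mem a.2) z.2
      rw [← hab] at this
      simpa using this
    have hbC : b ∈ C := Subgroup.zpowers_le.2 u.2 hb
    have hb1 : b = 1 := Subgroup.disjoint_def.1 hC.disjoint hbP hbC
    simp only [hb1, mul_one] at hab
    rw [← Subtype.ext hab]; exact ha
  have hnil := hX.2 _ hprop
  have hcop : (orderOf (u : X)).Coprime (orderOf (y : X)) := by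
    obtain ⟨k, hk⟩ := P.2 y
    refine Nat.Coprime.of_dvd (Subgroup.orderOf_coe u ▸ orderOf_dvd_natCard u)
      (orderOf_dvd_of_pow_eq_one (by simpa using congrArg Subtype.val hk)) ?_
    exact ((hp.coprime_iff_not_dvd.2 hCcard).symm).pow_right k
  have := congrArg Subtype.val (H81.commute_of_coprime_orderOf hnil
    (x := (⟨(u : X), Subgroup.mem_sup_right (Subgroup.mem_zpowers _)⟩ : ↥(U' ⊔ Subgroup.zpowers (u : X))))
    (y := ⟨(y : X), Subgroup.mem_sup_left ⟨y, hy, rfl⟩⟩)
    (by rwa [Subgroup.orderOf_mk, Subgroup.orderOf_mk]))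
  refine Subtype.ext ?_
  show (MulAut.conjNormal (u : X) y : X) = y
  rw [MulAut.conjNormal_apply, mul_inv_eq_iff_eq_mul]
  exact this

theorem iterate_fixed {A : Type*} [CommGroup A] (β : A →* A) (a c : A) (hβa : β a = a * c) (hc : β c = c) :
    ∀ j : ℕ, β^[j] a = a * c ^ j := by
  intro j
  induction j with
  | zero => simp
  | succ j ih => rw [Function.iterate_succ_apply', ih, map_mul, map_pow, hβa, hc, pow_succ', mul_assoc]

/-- The properties used for the `p`-length theorem. -/
theorem structure_of_irrAut {P : Type*} [Group P] [Finite P] {p : ℕ} [Fact p.Prime]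
    (hP : IsPGroup p P) (h : IrrAut p P) (hnab : ¬ ∀ a b : P, a * b = b * a) :
    (∀ c ∈ commutator P, ∀ y : P, y * c = c * y) ∧
    (∀ x : P, x ∉ commutator P → ∀ c ∈ commutator P, ∃ y : P, ⁅x, y⁆ = c) ∧
    (∀ x : P, x ^ p ∈ commutator P) ∧
    (Nat.card P = p ^ 3 → p ≠ 3 ∧ (p = 2 → ∀ x : P, x ∉ commutator P → x ^ 2 ≠ 1)) := by
  classical
  have hp : p.Prime := Fact.out
  obtain ⟨α, q, hq, hqp, hα, hα1, hirr⟩ := h
  haveI := Fact.mk hq
  haveI : Nontrivial P := by
    by_contra hs
    rw [not_nontrivial_iff_subsingleton] at hs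
    exact hnab fun a b => Subsingleton.elim _ _
  haveI := hP.isNilpotent
  set D := commutator P with hDdef
  have hDtop : D ≠ ⊤ := (Group.IsSolvable.commutator_lt_top_of_nontrivial (G := P)).ne
  have hDinv : ∀ y ∈ D, α y ∈ D := fun y hy =>
    (Subgroup.characteristic_iff_comap_eq.1 (inferInstance : D.Characteristic) α).symm.le hy
  have hfix : ∀ c ∈ D, α c = c := hirr D hDtop hDinv
  let β : Abelianization P →* Abelianization P := Abelianization.map α.toMonoidHom
  have hβ : ∀ y : P, β (Abelianization.of y) = Abelianization.of (α y) := fun y => Abelianization.map_of _ _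
  have hker : ∀ y : P, Abelianization.of y = 1 ↔ y ∈ D := fun y => QuotientGroup.eq_one_iff y
  have hsurjof : Function.Surjective (Abelianization.of : P → Abelianization P) := QuotientGroup.mk'_surjective _
  have hαiter : ∀ (j : ℕ) (y : P), (α ^ j) y = α^[j] y := by
    intro j
    induction j with
    | zero => intro y; rfl
    | succ j ih => intro y; rw [pow_succ', MulAut.mul_apply, ih, Function.iterate_succ_apply']
  have hβiter : ∀ (j : ℕ) (y : P), β^[j] (Abelianization.of y) = Abelianization.of (α^[j] y) := by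
    intro j
    induction j with
    | zero => intro y; rfl
    | succ j ih => intro y; rw [Function.iterate_succ_apply', ih, hβ, Function.iterate_succ_apply']
  have hβq : ∀ a, β^[q] a = a := fun a => by
    obtain ⟨y, rfl⟩ := hsurjof a
    rw [hβiter, ← hαiter, hα]; rfl
  have hcopA : ∀ a : Abelianization P, a ^ q = 1 → a = 1 := by
    intro a ha
    obtain ⟨y, rfl⟩ := hsurjof a
    obtain ⟨k, hk⟩ := hP y
    refine orderOf_eq_one_iff.1 (Nat.eq_one_of_dvd_coprimes (((Nat.coprime_primes hq hp).2 hqp).pow_right k)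
      (orderOf_dvd_of_pow_eq_one ha) (orderOf_dvd_of_pow_eq_one ?_))
    rw [← map_pow, hk, map_one]
  let g : Abelianization P →* Abelianization P := MonoidHom.mk' (fun a => a⁻¹ * β a) fun a b => by
    rw [map_mul, mul_inv, mul_mul_mul_comm]
  have hgβ : ∀ a, g (β a) = β (g a) := fun a => by simp [g]
  have hgc : ∀ a c, g a = c → β c = c → c = 1 := by
    intro a c h1 h2
    refine hcopA c ?_
    have := iterate_fixed β a c (by rw [← h1]; simp [g]) h2 q
    rw [hβq] at this
    exact mul_eq_left.1 this.symm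
  have hg1 : ¬ ∀ a, g a = 1 := by
    intro hg
    refine hα1 (MulEquiv.ext fun y => ?_)
    set d := y⁻¹ * α y with hd
    have hdD : d ∈ D := by
      rw [← hker, map_mul, map_inv, ← hβ]; exact hg _
    have hy : ∀ j : ℕ, α^[j] y = y * d ^ j := by
      intro j
      induction j with
      | zero => simp
      | succ j ih =>
        rw [Function.iterate_succ_apply', ih, map_mul, map_pow, hfix d hdD, show α y = y * d by simp [hd],
          pow_succ', mul_assoc]
    have hdq : d ^ q = 1 := by
      have := hy q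
      rw [← hαiter, hα] at this
      exact mul_eq_left.1 this.symm
    obtain ⟨k, hk⟩ := hP d
    have hd1 : d = 1 := orderOf_eq_one_iff.1 (Nat.eq_one_of_dvd_coprimes
      (((Nat.coprime_primes hq hp).2 hqp).pow_right k) (orderOf_dvd_of_pow_eq_one hdq)
      (orderOf_dvd_of_pow_eq_one hk))
    show α y = y
    rw [show α y = y * d by simp [hd], hd1, mul_one]
  have hgsurj : Function.Surjective g := by
    rw [← MonoidHom.range_eq_top]
    by_contra hne
    refine hg1 fun a => ?_
    have hV : (g.range.comap Abelianization.of) ≠ ⊤ := fun h => hne (eq_top_iff.2 fun b _ => by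
      obtain ⟨y, rfl⟩ := hsurjof b
      exact (h.symm ▸ Subgroup.mem_top y : y ∈ g.range.comap Abelianization.of))
    have hVinv : ∀ y ∈ g.range.comap Abelianization.of, α y ∈ g.range.comap Abelianization.of := by
      rintro y ⟨b, hb⟩
      exact ⟨β b, by rw [hgβ, hb, hβ]⟩
    obtain ⟨y, hy⟩ := hsurjof (g a)
    have h1 := hirr _ hV hVinv y ⟨a, hy.symm⟩
    exact hgc a (g a) rfl (by rw [← hy, hβ, h1])
  have hprop : ∀ U : Subgroup P, U ≠ ⊤ → (∀ y ∈ U, α y ∈ U) → U ≤ D := by
    intro U hU hinv y hy
    obtain ⟨a, ha⟩ := hgsurj (Abelianization.of y)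
    rw [← hker]
    exact hgc a _ ha (by rw [hβ, hirr U hU hinv y hy])
  have hcent : ∀ c ∈ D, ∀ y : P, y * c = c * y := by
    let C := Subgroup.centralizer (D : Set P)
    have hC : C = ⊤ := by
      by_contra hne
      have hle := hprop C hne fun y hy => by
        rw [Subgroup.mem_centralizer_iff] at hy ⊢
        intro c hc
        have := congrArg α (hy c hc)
        rwa [map_mul, map_mul, hfix c hc] at this
      refine hg1 fun a => ?_
      obtain ⟨y, rfl⟩ := hsurjof a
      have hmem : y⁻¹ * α y ∈ C := by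
        rw [Subgroup.mem_centralizer_iff]
        intro c hc
        have h1 : y * c * y⁻¹ ∈ D := (inferInstance : D.Normal).conj_mem c hc y
        have h2 := hfix _ h1
        rw [map_mul, map_mul, map_inv, hfix c hc] at h2
        calc c * (y⁻¹ * α y) = y⁻¹ * (y * c * y⁻¹) * α y := by group
          _ = y⁻¹ * (α y * c * (α y)⁻¹) * α y := by rw [h2]
          _ = y⁻¹ * α y * c := by group
      show (Abelianization.of y)⁻¹ * β (Abelianization.of y) = 1
      rw [hβ, ← map_inv, ← map_mul, hker]
      exact hle hmem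
    intro c hc y
    exact (Subgroup.mem_centralizer_iff.1 (hC.symm ▸ Subgroup.mem_top y : y ∈ C) c hc).symm
  have hcomm : ∀ x y z : P, ⁅x * y, z⁆ = ⁅x, z⁆ * ⁅y, z⁆ ∧ ⁅z, x * y⁆ = ⁅z, x⁆ * ⁅z, y⁆ := by
    intro x y z
    have h1 : ⁅y, z⁆ ∈ D := Subgroup.commutator_mem_commutator (Subgroup.mem_top _) (Subgroup.mem_top _)
    have h2 : ⁅z, y⁆ ∈ D := Subgroup.commutator_mem_commutator (Subgroup.mem_top _) (Subgroup.mem_top _)
    constructor
    · calc ⁅x * y, z⁆ = x * ⁅y, z⁆ * z * x⁻¹ * z⁻¹ := by simp only [commutatorElement_def]; group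
        _ = ⁅y, z⁆ * x * z * x⁻¹ * z⁻¹ := by rw [hcent _ h1 x]
        _ = ⁅y, z⁆ * ⁅x, z⁆ := by simp only [commutatorElement_def]; group
        _ = ⁅x, z⁆ * ⁅y, z⁆ := (hcent _ h1 _).symm
    · calc ⁅z, x * y⁆ = ⁅z, x⁆ * (x * ⁅z, y⁆ * x⁻¹) := by simp only [commutatorElement_def]; group
        _ = ⁅z, x⁆ * ⁅z, y⁆ := by rw [hcent _ h2 x, mul_inv_cancel_right]
  have hfull : ∀ x : P, x ∉ D → ∀ c ∈ D, ∃ y : P, ⁅x, y⁆ = c := by
    intro x hx c hc
    let f : P →* P := MonoidHom.mk' (fun y => ⁅x, y⁆) fun a b => (hcomm a b x).2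
    let S : Subgroup P :=
      { carrier := {z | ∀ y, ⁅z, y⁆ ∈ f.range}
        one_mem' := fun y => by rw [commutatorElement_one_left]; exact one_mem _
        mul_mem' := fun {a b} ha hb y => by rw [(hcomm a b y).1]; exact mul_mem (ha y) (hb y)
        inv_mem' := fun {a} ha y => by
          have h1 := (hcomm a⁻¹ a y).1
          rw [inv_mul_cancel, commutatorElement_one_left] at h1
          rw [eq_inv_of_mul_eq_one_left h1.symm]
          exact inv_mem (ha y) }
    have hS : S = ⊤ := by
      by_contra hne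
      refine hx (hprop S hne (fun z hz y => ?_) (fun y => ⟨y, rfl⟩))
      have hzy : ⁅z, α.symm y⁆ ∈ D := Subgroup.commutator_mem_commutator (Subgroup.mem_top _) (Subgroup.mem_top _)
      rw [show ⁅α z, y⁆ = α ⁅z, α.symm y⁆ by
        rw [map_commutatorElement, MulEquiv.apply_symm_apply], hfix _ hzy]
      exact hz _
    have hle : D ≤ f.range := Subgroup.commutator_le.2 fun a _ b _ =>
      (hS.symm ▸ Subgroup.mem_top a : a ∈ S) b
    exact hle hc
  have hpow : ∀ x : P, x ^ p ∈ D := by
    intro x
    let f : Abelianization P →* Abelianization P := powMonoidHom p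
    have hne : (f.range.comap Abelianization.of) ≠ ⊤ := by
      intro h
      have hsurj : Function.Surjective f := fun b => by
        obtain ⟨y, rfl⟩ := hsurjof b
        exact (h.symm ▸ Subgroup.mem_top y : y ∈ f.range.comap Abelianization.of)
      haveI : Finite (Abelianization P) := Finite.of_surjective _ hsurjof
      have hinj := Finite.injective_iff_surjective.2 hsurj
      refine hDtop (eq_top_iff.2 fun y _ => (hker y).1 ?_)
      obtain ⟨k, hk⟩ := hP y
      have : (Abelianization.of y) ^ p ^ k = 1 := by rw [← map_pow, hk, map_one]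
      clear hk
      induction k with
      | zero => simpa using this
      | succ k ih =>
        refine ih (hinj ?_)
        show ((Abelianization.of y) ^ p ^ k) ^ p = 1 ^ p
        rw [← pow_mul, ← pow_succ, this, one_pow]
    refine hprop _ hne ?_ ⟨Abelianization.of x, (map_pow _ _ _).symm⟩
    rintro y ⟨b, hb⟩
    exact ⟨β b, by rw [← hβ, ← hb]; exact (map_pow β b p).symm⟩
  refine ⟨hcent, hfull, hpow, fun hcard => ?_⟩
  -- the extraspecial case of order `p ^ 3`
  have hDbot : D ≠ ⊥ := fun h => hnab fun a b => by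
    have := Subgroup.commutator_mem_commutator (Subgroup.mem_top a) (Subgroup.mem_top b)
    rw [← commutator_def, ← hDdef, h, Subgroup.mem_bot] at this
    exact commutatorElement_eq_one_iff_mul_comm.1 this
  have hDcen : D ≤ Subgroup.center P := fun c hc => Subgroup.mem_center_iff.2 fun y => hcent c hc y
  have hcardA : Nat.card (Abelianization P) = p ^ 2 := by
    haveI : Finite (Abelianization P) := Finite.of_surjective _ hsurjof
    have h := Subgroup.card_eq_card_quotient_mul_card_subgroup D
    rw [hcard] at h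
    obtain ⟨i, hi, hA⟩ := (Nat.dvd_prime_pow hp).1 (Dvd.intro _ h.symm : Nat.card (P ⧸ D) ∣ p ^ 3)
    rw [hA] at h
    show Nat.card (P ⧸ D) = p ^ 2
    rw [hA]
    by_contra hne
    have hi2 : i ≠ 2 := fun e => hne (e ▸ rfl)
    have hi3 : i ≠ 3 := by
      rintro rfl
      exact hDbot (Subgroup.eq_bot_of_card_eq _ ((Nat.mul_eq_left (pow_pos hp.pos 3).ne').1 h.symm))
    haveI : IsCyclic (P ⧸ D) := by
      rcases (by omega : i = 0 ∨ i = 1) with rfl | rfl
      · rw [pow_zero] at hA
        haveI : Subsingleton (P ⧸ D) := (Nat.card_eq_one_iff_unique.1 hA).1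
        infer_instance
      · exact isCyclic_of_prime_card (p := p) (by simpa using hA)
    exact hnab fun a b => commutative_of_cyclic_center_quotient (QuotientGroup.mk' D)
      (by rw [QuotientGroup.ker_mk']; exact hDcen) a b
  have hfpf : ∀ a : Abelianization P, β a = a → a = 1 := fun a ha => by
    obtain ⟨b, rfl⟩ := hgsurj a
    exact hgc b _ rfl ha
  have hq2 : q ≠ 2 := by
    rintro rfl
    have hinvA : ∀ a, β a = a⁻¹ := fun a => by
      refine eq_inv_of_mul_eq_one_left (hfpf _ ?_)
      rw [map_mul, show β (β a) = a from hβq a, mul_comm]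
    haveI : Nontrivial (Abelianization P) := Finite.one_lt_card_iff_nontrivial.1 (by
      rw [hcardA]; exact Nat.one_lt_pow (by omega) hp.one_lt)
    obtain ⟨a, ha⟩ := exists_ne (1 : Abelianization P)
    obtain ⟨y, rfl⟩ := hsurjof a
    have hne : (Subgroup.zpowers (Abelianization.of y)).comap Abelianization.of ≠ ⊤ := by
      intro h
      haveI : IsCyclic (P ⧸ D) := ⟨⟨Abelianization.of y, fun b => by
        obtain ⟨z, rfl⟩ := hsurjof b
        exact (h.symm ▸ Subgroup.mem_top z : z ∈ (Subgroup.zpowers (Abelianization.of y)).comap Abelianization.of)⟩⟩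
      exact hnab fun a b => commutative_of_cyclic_center_quotient (QuotientGroup.mk' D)
        (by rw [QuotientGroup.ker_mk']; exact hDcen) a b
    refine ha ((hker y).2 (hprop _ hne (fun z hz => ?_) (Subgroup.mem_zpowers _)))
    rw [Subgroup.mem_comap, ← hβ, hinvA]
    exact inv_mem hz
  have hdiv : q ∣ p ^ 2 - 1 := by
    haveI : Finite (Abelianization P) := Finite.of_surjective _ hsurjof
    let σ : Equiv.Perm (Abelianization P) :=
      { toFun := β
        invFun := β^[q - 1]
        left_inv := fun a => by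
          rw [← Function.iterate_succ_apply, show (q - 1).succ = q by have := hq.pos; omega, hβq]
        right_inv := fun a => by
          rw [← Function.iterate_succ_apply' β, show (q - 1).succ = q by have := hq.pos; omega, hβq] }
    have hσ : σ ^ q = 1 := Equiv.ext fun a => by
      show (σ ^ q) a = a
      rw [Equiv.Perm.coe_pow]
      exact hβq a
    have hσp : IsPGroup q (Subgroup.zpowers σ) := IsPGroup.of_exponent_dvd_pow (n := 1) ?_
    swap
    · rw [pow_one, Monoid.exponent_dvd_iff_forall_pow_eq_one]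
      rintro ⟨_, i, rfl⟩
      refine Subtype.ext ?_
      show (σ ^ i) ^ q = 1
      rw [← zpow_natCast, ← zpow_mul, mul_comm, zpow_mul, zpow_natCast, hσ, one_zpow]
    have hmod := hσp.card_modEq_card_fixedPoints (Abelianization P)
    have hF : MulAction.fixedPoints (Subgroup.zpowers σ) (Abelianization P) = {1} := by
      refine Set.eq_singleton_iff_unique_mem.2 ⟨?_, fun a ha => ?_⟩
      · rintro ⟨_, i, rfl⟩
        show (σ ^ i) 1 = 1
        exact Function.IsFixedPt.perm_zpow (show σ 1 = 1 from map_one β) i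
      · exact hfpf a (ha ⟨σ, Subgroup.mem_zpowers σ⟩)
    rw [hF, hcardA, Nat.card_unique] at hmod
    exact (Nat.modEq_iff_dvd' (Nat.one_le_pow _ _ hp.pos)).1 hmod.symm
  refine ⟨?_, ?_⟩
  · rintro rfl
    norm_num at hdiv
    exact hq2 ((Nat.prime_dvd_prime_iff_eq hq Nat.prime_two).1 (hq.dvd_of_dvd_pow (n := 3) hdiv))
  · rintro rfl x hx hx2
    norm_num at hdiv
    have hq3 : q = 3 := (Nat.prime_dvd_prime_iff_eq hq Nat.prime_three).1 hdiv
    subst hq3
    set a := Abelianization.of x with ha
    have ha1 : a ≠ 1 := fun h => hx ((hker x).1 h)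
    have hb1 : β a ≠ 1 := fun h => ha1 (by rw [← hβq a, show β^[3] a = β (β (β a)) from rfl, h, map_one, map_one])
    have hc1 : β (β a) ≠ 1 := fun h => ha1 (by rw [← hβq a, show β^[3] a = β (β (β a)) from rfl, h, map_one])
    have hab : β a ≠ a := fun h => ha1 (hfpf a h)
    have hbc : β (β a) ≠ β a := fun h => hb1 (hfpf _ h)
    have hac : β (β a) ≠ a := fun h => by
      refine hab ?_
      have h2 : β (β (β a)) = a := hβq a
      rwa [h] at h2
    haveI : Finite (Abelianization P) := Finite.of_surjective _ hsurjof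
    have hall : ∀ b : Abelianization P, b = 1 ∨ b = a ∨ b = β a ∨ b = β (β a) := by
      letI := Fintype.ofFinite (Abelianization P)
      intro b
      have hs : ({1, a, β a, β (β a)} : Finset (Abelianization P)) = Finset.univ := by
        refine Finset.eq_univ_of_card _ ?_
        rw [← Nat.card_eq_fintype_card, hcardA]
        simp [ha1.symm, hb1.symm, hc1.symm, hab.symm, hac.symm, hbc.symm]
      simpa [← hs] using Finset.mem_univ b
    have hD2 : ∀ d ∈ D, d ^ 2 = 1 := by
      intro d hd
      obtain ⟨y, hy⟩ := hfull x hx d hd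
      have h1 := (hcomm x x y).1
      have hxx : x * x = 1 := by rw [← pow_two]; exact hx2
      rw [hxx, commutatorElement_one_left, hy] at h1
      rw [pow_two]; exact h1.symm
    have hall2 : ∀ z : P, z ^ 2 = 1 := by
      intro z
      have key : ∀ w, Abelianization.of z = Abelianization.of w → w ^ 2 = 1 → z ^ 2 = 1 := by
        intro w hw hw2
        have hd : w⁻¹ * z ∈ D := by rw [← hker, map_mul, map_inv, hw, inv_mul_cancel]
        have hc : Commute w (w⁻¹ * z) := hcent _ hd w
        rw [← mul_inv_cancel_left w z, hc.mul_pow, hw2, hD2 _ hd, one_mul]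
      rcases hall (Abelianization.of z) with h | h | h | h
      · exact key 1 (by rw [h, map_one]) (one_pow 2)
      · exact key x h hx2
      · exact key (α x) (by rw [h, hβ]) (by rw [← map_pow, hx2, map_one])
      · exact key (α (α x)) (by rw [h, hβ, hβ]) (by rw [← map_pow, ← map_pow, hx2, map_one, map_one])
    refine hnab fun u v => ?_
    have hu := hall2 u; have hv := hall2 v; have huv := hall2 (u * v)
    rw [pow_two] at hu hv huv
    calc u * v = (u * v)⁻¹ := (eq_inv_of_mul_eq_one_left huv)
      _ = v⁻¹ * u⁻¹ := mul_inv_rev _ _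
      _ = v * u := by rw [← eq_inv_of_mul_eq_one_left hv, ← eq_inv_of_mul_eq_one_left hu]

end H34.SchmidtType
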