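import Mathlib

set_option autoImplicit false

/-!
Schur: a transitive group of degree `p ^ m` (`m ≥ 2`) containing a full cycle is imprimitive or
doubly transitive.
-/

namespace H34.Schur

open Finset

variable {p m n : ℕ} [NeZero n] (S : Subgroup (Equiv.Perm (ZMod n)))

/-- An element of the group algebra with coefficients constant on suborbits. -/
def Inv {R : Type*} [Semiring R] (u : AddMonoidAlgebra R (ZMod n)) : Prop :=
  ∀ g ∈ S, ∀ x y, u.coeff (g y - g x) = u.coeff (y - x)

/-- An invariant set of differences. -/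
def IInv (W : Finset (ZMod n)) : Prop :=
  ∀ g ∈ S, ∀ x y, g y - g x ∈ W ↔ y - x ∈ W

/-- An invariant subgroup of differences (a block through `0`). -/
def IInvSub (H : AddSubgroup (ZMod n)) : Prop :=
  ∀ g ∈ S, ∀ x y, y - x ∈ H → g y - g x ∈ H

/-- The indicator of a set. -/
noncomputable def ind (R : Type*) [Semiring R] (W : Finset (ZMod n)) : AddMonoidAlgebra R (ZMod n) :=
  ∑ x ∈ W, AddMonoidAlgebra.single x 1

theorem coeff_ind (R : Type*) [Semiring R] (W : Finset (ZMod n)) (y : ZMod n) :
    (ind R W).coeff y = if y ∈ W then 1 else 0 := by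
  classical
  simp only [ind, AddMonoidAlgebra.coeff_sum, Finsupp.finsetSum_apply, AddMonoidAlgebra.coeff_single,
    Finsupp.single_apply]
  rw [Finset.sum_ite_eq' W y]

variable {S}

theorem inv_ind {R : Type*} [Semiring R] {W : Finset (ZMod n)} (hW : IInv S W) : Inv S (ind R W) := by
  intro g hg x y
  rw [coeff_ind, coeff_ind]
  simp only [hW g hg x y]

theorem inv_one {R : Type*} [Semiring R] : Inv S (1 : AddMonoidAlgebra R (ZMod n)) := by
  classical
  intro g _ x y
  rw [AddMonoidAlgebra.one_def, AddMonoidAlgebra.coeff_single, Finsupp.single_apply, Finsupp.single_apply]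
  simp only [eq_comm (a := (0 : ZMod n)), sub_eq_zero, g.injective.eq_iff]

theorem coeff_mul_sum {R : Type*} [Semiring R] (u v : AddMonoidAlgebra R (ZMod n)) (z : ZMod n) :
    (u * v).coeff z = ∑ x, u.coeff x * v.coeff (z - x) := by
  classical
  rw [AddMonoidAlgebra.coeff_mul, Finsupp.sum_fintype _ _ (fun i => by simp)]
  refine Finset.sum_congr rfl fun x _ => ?_
  rw [Finsupp.sum_fintype _ _ (fun i => by simp)]
  rw [Finset.sum_eq_single (z - x)]
  · simp
  · intro b _ hb
    rw [if_neg]
    rintro rfl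
    simp at hb
  · intro h; exact absurd (Finset.mem_univ _) h

theorem inv_mul {R : Type*} [Semiring R] {u v : AddMonoidAlgebra R (ZMod n)} (hu : Inv S u)
    (hv : Inv S v) : Inv S (u * v) := by
  intro g hg a b
  rw [coeff_mul_sum, coeff_mul_sum]
  -- substitute `x = z - a` and then `z = g z'`
  calc ∑ x, u.coeff x * v.coeff (g b - g a - x)
      = ∑ z, u.coeff (z - g a) * v.coeff (g b - z) := by
        refine (Fintype.sum_equiv (Equiv.subRight (g a)) _ _ fun z => ?_).symm
        simp only [Equiv.subRight_apply]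
        congr 2; abel
    _ = ∑ z, u.coeff (z - a) * v.coeff (b - z) := by
        refine (Fintype.sum_equiv g _ _ fun z => ?_).symm
        rw [hu g hg a z, hv g hg z b]
    _ = ∑ x, u.coeff x * v.coeff (b - a - x) := by
        refine Fintype.sum_equiv (Equiv.subRight a) _ _ fun z => ?_
        simp only [Equiv.subRight_apply]
        congr 2; abel

theorem inv_pow {R : Type*} [Semiring R] {u : AddMonoidAlgebra R (ZMod n)} (hu : Inv S u) (k : ℕ) :
    Inv S (u ^ k) := by
  induction k with
  | zero => rw [pow_zero]; exact inv_one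
  | succ k ih => rw [pow_succ]; exact inv_mul ih hu

theorem iinv_level {R : Type*} [Semiring R] {u : AddMonoidAlgebra R (ZMod n)} (hu : Inv S u)
    (P : R → Prop) [DecidablePred P] :
    IInv S (univ.filter fun d => P (u.coeff d)) := by
  intro g hg x y
  simp only [mem_filter, mem_univ, true_and, hu g hg x y]

theorem iinvSub_closure {W : Finset (ZMod n)} (hW : IInv S W) :
    IInvSub S (AddSubgroup.closure (W : Set (ZMod n))) := by
  intro g hg
  have key : ∀ d ∈ AddSubgroup.closure (W : Set (ZMod n)),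
      ∀ x, g (x + d) - g x ∈ AddSubgroup.closure (W : Set (ZMod n)) := by
    intro d hd
    induction hd using AddSubgroup.closure_induction with
    | mem d hd =>
      intro x
      exact AddSubgroup.subset_closure ((hW g hg x (x + d)).2 (by simpa using hd))
    | zero => intro x; simp
    | add a b _ _ ha hb =>
      intro x
      have := add_mem (hb (x + a)) (ha x)
      rw [sub_add_sub_cancel] at this
      rwa [← add_assoc]
    | neg a _ ha =>
      intro x
      have := neg_mem (ha (x + -a))
      rw [neg_sub, neg_add_cancel_right] at this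
      exact this
  intro x y h
  have := key (y - x) h x
  rwa [add_sub_cancel] at this

/-- The suborbit through `x`. -/
noncomputable def orb (S : Subgroup (Equiv.Perm (ZMod n))) (x : ZMod n) : Finset (ZMod n) :=
  open scoped Classical in univ.filter fun y => ∃ h ∈ S, h 0 = 0 ∧ h x = y

theorem mem_orb {x y : ZMod n} : y ∈ orb S x ↔ ∃ h ∈ S, h 0 = 0 ∧ h x = y := by
  simp [orb]

theorem mem_orb_self (x : ZMod n) : x ∈ orb S x := mem_orb.2 ⟨1, one_mem _, rfl, rfl⟩

theorem orb_eq {x y : ZMod n} (h : y ∈ orb S x) : orb S y = orb S x := by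
  obtain ⟨k, hk, hk0, rfl⟩ := mem_orb.1 h
  ext z
  rw [mem_orb, mem_orb]
  constructor
  · rintro ⟨l, hl, hl0, rfl⟩
    exact ⟨l * k, mul_mem hl hk, by simp [hk0, hl0], rfl⟩
  · rintro ⟨l, hl, hl0, rfl⟩
    refine ⟨l * k⁻¹, mul_mem hl (inv_mem hk), ?_, by simp⟩
    have : k⁻¹ 0 = 0 := Equiv.Perm.inv_eq_iff_eq.2 hk0.symm
    rw [Equiv.Perm.mul_apply, this, hl0]

theorem zero_notMem_orb {x : ZMod n} (hx : x ≠ 0) : (0 : ZMod n) ∉ orb S x := fun h => by
  obtain ⟨k, -, hk0, hkx⟩ := mem_orb.1 h
  exact hx (k.injective (hkx.trans hk0.symm))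

variable (htr : ∀ t : ZMod n, Equiv.addRight t ∈ S)
include htr

theorem iinv_orb (x : ZMod n) : IInv S (orb S x) := by
  intro g hg a b
  -- the conjugate of `g` fixing the origin
  set h := Equiv.addRight (-(g a)) * g * Equiv.addRight a with hh
  have hh' : h ∈ S := mul_mem (mul_mem (htr _) hg) (htr _)
  have hha : ∀ z, h z = g (z + a) - g a := fun z => by simp [hh, sub_eq_add_neg]
  have h0 : h 0 = 0 := by rw [hha]; simp
  have e : g b - g a = h (b - a) := by rw [hha, sub_add_cancel]
  constructor
  · intro hm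
    obtain ⟨k, hk, hk0, hkx⟩ := mem_orb.1 hm
    refine mem_orb.2 ⟨h⁻¹ * k, mul_mem (inv_mem hh') hk, ?_, ?_⟩
    · rw [Equiv.Perm.mul_apply, hk0, Equiv.Perm.inv_eq_iff_eq, h0]
    · rw [Equiv.Perm.mul_apply, hkx, e, Equiv.Perm.inv_eq_iff_eq]
  · intro hm
    obtain ⟨k, hk, hk0, hkx⟩ := mem_orb.1 hm
    exact mem_orb.2 ⟨h * k, mul_mem hh' hk, by simp [hk0, h0], by simp [hkx, e]⟩

theorem orb_subset {W : Finset (ZMod n)} (hW : IInv S W) {x : ZMod n} (hx : x ∈ W) :
    orb S x ⊆ W := by
  intro y hy
  obtain ⟨k, hk, hk0, rfl⟩ := mem_orb.1 hy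
  have := (hW k hk 0 x).2 (by simpa using hx)
  simpa [hk0] using this

omit htr in
/-- Schur's multiplier theorem. -/
theorem iinv_image (c : ℕ) (hc : c.Coprime n) {W : Finset (ZMod n)} (hW : IInv S W) :
    IInv S (W.image fun x => (c : ZMod n) * x) := by
  classical
  induction c using Nat.recOnMul generalizing W with
  | zero =>
    have : n = 1 := (Nat.coprime_zero_left n).1 hc
    subst this
    intro g _ x y
    rw [Subsingleton.elim (g y - g x) (y - x)]
  | one => simpa using hW
  | prime q hq =>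
    haveI := Fact.mk hq
    haveI : CharP (AddMonoidAlgebra (ZMod q) (ZMod n)) q :=
      charP_of_injective_algebraMap (R := ZMod q) (algebraMap (ZMod q) _).injective q
    have hpow : ind (ZMod q) W ^ q = ind (ZMod q) (W.image fun x => (q : ZMod n) * x) := by
      rw [ind, sum_pow_char q, ind, Finset.sum_image]
      · refine Finset.sum_congr rfl fun x _ => ?_
        rw [AddMonoidAlgebra.single_pow, one_pow, nsmul_eq_mul]
      · exact fun a _ b _ hab => ((ZMod.unitOfCoprime q hc).isUnit).mul_left_cancel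
          (by rw [ZMod.coe_unitOfCoprime]; exact hab)
    have h := inv_pow (inv_ind (R := ZMod q) hW) q
    rw [hpow] at h
    intro g hg x y
    have := h g hg x y
    rw [coeff_ind, coeff_ind] at this
    split_ifs at this with h1 h2 h2
    · exact iff_of_true h1 h2
    · exact absurd this one_ne_zero
    · exact absurd this zero_ne_one
    · exact iff_of_false h1 h2
  | mul a b iha ihb =>
    have h := iha (Nat.Coprime.coprime_mul_right hc) (ihb (Nat.Coprime.coprime_mul_left hc) hW)
    rw [Finset.image_image] at h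
    convert h using 2
    funext x
    simp [mul_assoc]

omit htr in
/-- Integer relations between the powers of a primitive `p`-th root of unity. -/
theorem eq_of_sum_eq_zero [Fact p.Prime] {ζ : ℂ} (hζ : IsPrimitiveRoot ζ p) (f : ZMod p → ℤ)
    (h : ∑ u, (f u : ℂ) * ζ ^ u.val = 0) (u v : ZMod p) : f u = f v := by
  classical
  have hp : p.Prime := Fact.out
  set P : Polynomial ℚ := ∑ u : ZMod p, Polynomial.C (f u : ℚ) * Polynomial.X ^ u.val with hP
  have hroot : Polynomial.aeval ζ P = 0 := by
    rw [hP, map_sum, ← h]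
    refine Finset.sum_congr rfl fun u _ => ?_
    simp
  have hcoeff : ∀ w : ZMod p, P.coeff w.val = f w := by
    intro w
    rw [hP, Polynomial.finsetSum_coeff, Finset.sum_eq_single w]
    · simp
    · intro b _ hb
      rw [Polynomial.coeff_C_mul, Polynomial.coeff_X_pow, if_neg, mul_zero]
      exact fun e => hb (ZMod.val_injective p e).symm
    · intro h; exact absurd (Finset.mem_univ _) h
  have hdeg : P.natDegree ≤ p - 1 := by
    refine Polynomial.natDegree_sum_le_of_forall_le _ _ fun u _ => ?_
    refine (Polynomial.natDegree_C_mul_X_pow_le _ _).trans ?_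
    have := ZMod.val_lt u
    omega
  have hdvd : Polynomial.cyclotomic p ℚ ∣ P := by
    rw [Polynomial.cyclotomic_eq_minpoly_rat hζ hp.pos]
    exact minpoly.dvd ℚ ζ hroot
  obtain ⟨D, hD⟩ := hdvd
  have hkey : ∀ i < p, P.coeff i = D.coeff 0 := by
    intro i hi
    rcases eq_or_ne D 0 with rfl | hD0
    · simp [hD]
    have h0 : D.natDegree = 0 := by
      have := congrArg Polynomial.natDegree hD
      rw [Polynomial.natDegree_mul (Polynomial.cyclotomic_ne_zero p ℚ) hD0, Polynomial.natDegree_cyclotomic,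
        Nat.totient_prime hp] at this
      omega
    rw [hD, Polynomial.eq_C_of_natDegree_eq_zero h0, Polynomial.coeff_mul_C, Polynomial.coeff_C_zero,
      Polynomial.cyclotomic_prime, Polynomial.finsetSum_coeff,
      Finset.sum_eq_single i (fun b _ hb => by rw [Polynomial.coeff_X_pow, if_neg (Ne.symm hb)])
        (fun hni => absurd (Finset.mem_range.2 hi) hni), Polynomial.coeff_X_pow, if_pos rfl, one_mul]
  have e : (f u : ℚ) = f v := by
    rw [← hcoeff, ← hcoeff, hkey _ (ZMod.val_lt u), hkey _ (ZMod.val_lt v)]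
  exact_mod_cast e

omit htr

open scoped Classical in
/-- Schur's theorem for cyclic groups of prime power order. -/
theorem exists_block (hp : p.Prime) (hm : 2 ≤ m) (hn : n = p ^ m)
    (htr : ∀ t : ZMod n, Equiv.addRight t ∈ S)
    (h2 : ∃ a b : ZMod n, a ≠ 0 ∧ b ≠ 0 ∧ b ∉ orb S a) :
    ∃ H : AddSubgroup (ZMod n), IInvSub S H ∧ H ≠ ⊤ ∧ ((p ^ (m - 1) : ℕ) : ZMod n) ∈ H := by
  haveI := Fact.mk hp
  set q : ZMod n := ((p ^ (m - 1) : ℕ) : ZMod n) with hq
  have hpn : p ∣ n := hn ▸ dvd_pow_self p (by omega)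
  set π : ZMod n →+* ZMod p := ZMod.castHom hpn (ZMod p) with hπ
  have hpq : (p : ZMod n) * q = 0 := by
    rw [hq, ← Nat.cast_mul, ← pow_succ', show m - 1 + 1 = m by omega, ← hn, ZMod.natCast_self]
  have hq0 : q ≠ 0 := by
    rw [hq, ne_eq, ZMod.natCast_eq_zero_iff, hn, Nat.pow_dvd_pow_iff_le_right hp.one_lt]
    omega
  have hπq : π q = 0 := by
    rw [hq, map_natCast, Nat.cast_pow, ZMod.natCast_self, zero_pow (by omega)]
  -- the elements killed by `p`
  have hE : ∀ x : ZMod n, (p : ZMod n) * x = 0 ↔ ∃ u : ZMod p, x = (u.val : ZMod n) * q := by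
    intro x
    constructor
    · intro hx
      rw [← ZMod.natCast_zmod_val x, ← Nat.cast_mul, ZMod.natCast_eq_zero_iff] at hx
      have h1 : p ^ (m - 1) ∣ x.val := by
        have h2 : p * p ^ (m - 1) ∣ p * x.val := by
          rw [← pow_succ', show m - 1 + 1 = m by omega, ← hn]; exact hx
        exact Nat.dvd_of_mul_dvd_mul_left hp.pos h2
      obtain ⟨k, hk⟩ := h1
      have hkp : k < p := by
        have := ZMod.val_lt x
        rw [hk] at this
        by_contra hc
        have h3 : p ^ (m - 1) * p ≤ p ^ (m - 1) * k := Nat.mul_le_mul_left _ (not_lt.1 hc)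
        rw [← pow_succ, show m - 1 + 1 = m by omega, ← hn] at h3
        omega
      refine ⟨(k : ZMod p), ?_⟩
      rw [ZMod.val_natCast, Nat.mod_eq_of_lt hkp, hq, ← Nat.cast_mul, mul_comm, ← hk, ZMod.natCast_zmod_val]
    · rintro ⟨u, rfl⟩
      rw [mul_left_comm, hpq, mul_zero]
  have hEmul : ∀ a b : ℕ, (a : ZMod p) = (b : ZMod p) → (a : ZMod n) * q = (b : ZMod n) * q := by
    intro a b hab
    rw [hq, ← Nat.cast_mul, ← Nat.cast_mul, ZMod.natCast_eq_natCast_iff, hn]
    have h := Nat.ModEq.mul_right' (p ^ (m - 1)) ((ZMod.natCast_eq_natCast_iff _ _ _).1 hab)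
    rwa [← pow_succ', show m - 1 + 1 = m by omega] at h
  have hEinj : ∀ u v : ZMod p, (u.val : ZMod n) * q = (v.val : ZMod n) * q → u = v := by
    intro u v h
    rw [hq, ← Nat.cast_mul, ← Nat.cast_mul, ZMod.natCast_eq_natCast_iff] at h
    have h1 : u.val * p ^ (m - 1) % (p * p ^ (m - 1)) = v.val * p ^ (m - 1) % (p * p ^ (m - 1)) := by
      rw [← pow_succ', show m - 1 + 1 = m by omega, ← hn]; exact h
    rw [Nat.mul_mod_mul_right, Nat.mul_mod_mul_right, Nat.mod_eq_of_lt (ZMod.val_lt u),
      Nat.mod_eq_of_lt (ZMod.val_lt v)] at h1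
    exact ZMod.val_injective p (mul_right_cancel₀ (pow_ne_zero _ hp.ne_zero) h1)
  -- every non-zero subgroup contains `q`
  have hsub : ∀ (H : AddSubgroup (ZMod n)) (x : ZMod n), x ∈ H → x ≠ 0 → q ∈ H := by
    intro H x hx hx0
    have hv : x.val ≠ 0 := by rwa [ne_eq, ZMod.val_eq_zero]
    obtain ⟨j, k, hk, hjk⟩ := Nat.exists_eq_pow_mul_and_not_dvd hv p hp.ne_one
    have hjm : j < m := by
      by_contra hc
      refine hx0 ?_
      rw [← ZMod.natCast_zmod_val x, hjk, ZMod.natCast_eq_zero_iff, hn]
      exact dvd_mul_of_dvd_left (pow_dvd_pow p (not_lt.1 hc)) k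
    have hmem : ((p ^ (m - 1) * k : ℕ) : ZMod n) ∈ H := by
      have := H.nsmul_mem hx (p ^ (m - 1 - j))
      rw [nsmul_eq_mul] at this
      convert this using 1
      conv_rhs => rw [← ZMod.natCast_zmod_val x, hjk, ← Nat.cast_mul, ← mul_assoc, ← pow_add,
        show m - 1 - j + j = m - 1 by omega]
    have hku : Nat.Coprime k n := hn ▸ ((hp.coprime_iff_not_dvd.2 hk).symm.pow_right m)
    have := H.nsmul_mem hmem ((ZMod.unitOfCoprime k hku)⁻¹ : (ZMod n)ˣ).val.val
    rw [nsmul_eq_mul, ZMod.natCast_zmod_val, Nat.cast_mul, mul_left_comm, ← hq, ← ZMod.coe_unitOfCoprime k hku,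
      Units.inv_mul, mul_one] at this
    exact this
  by_contra hprim
  push Not at hprim
  have hprim' : ∀ H : AddSubgroup (ZMod n), IInvSub S H → ∀ x ∈ H, x ≠ 0 → H = ⊤ := by
    intro H hH x hx hx0
    by_contra hne
    exact hprim H hH hne (hsub H x hx hx0)
  -- a subgroup inside `ker π` is proper
  have hker : ∀ W : Finset (ZMod n), IInv S W → (∀ w ∈ W, π w = 0) → ∀ w ∈ W, w = 0 := by
    intro W hW hWπ w hw
    by_contra hw0
    have htop := hprim' _ (iinvSub_closure hW) w (AddSubgroup.subset_closure hw) hw0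
    have hle : AddSubgroup.closure (W : Set (ZMod n)) ≤ π.toAddMonoidHom.ker :=
      (AddSubgroup.closure_le _).2 fun y hy => hWπ y hy
    have h1 : π (1 : ZMod n) = 0 := hle (htop ▸ AddSubgroup.mem_top _)
    rw [map_one] at h1
    exact one_ne_zero h1
  -- fibres of multiplication by `p` have size `p`
  have hfib : ∀ y : ZMod n, (univ.filter fun z : ZMod n => (p : ZMod n) * z = (p : ZMod n) * y) =
      (univ : Finset (ZMod p)).image fun u => y + (u.val : ZMod n) * q := by
    intro y
    ext z
    simp only [mem_filter, mem_univ, true_and, mem_image]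
    rw [← sub_eq_zero, ← mul_sub, hE]
    constructor
    · rintro ⟨u, hu⟩; exact ⟨u, by rw [← hu]; abel⟩
    · rintro ⟨u, rfl⟩; exact ⟨u, by abel⟩
  -- suborbits are unions of cosets outside the elements killed by `p`
  have hper : ∀ x y : ZMod n, y ∈ orb S x → (p : ZMod n) * y ≠ 0 →
      ∀ z, (p : ZMod n) * z = (p : ZMod n) * y → z ∈ orb S x := by
    intro x y hy hpy z hz
    set T := orb S x
    have hcnt : p ∣ (T.filter fun t => (p : ZMod n) * t = (p : ZMod n) * y).card := by
      haveI : CharP (AddMonoidAlgebra (ZMod p) (ZMod n)) p :=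
        charP_of_injective_algebraMap (R := ZMod p) (algebraMap (ZMod p) _).injective p
      have hc : ∀ d, (ind (ZMod p) T ^ p).coeff d =
          ((T.filter fun t => (p : ZMod n) * t = d).card : ZMod p) := by
        intro d
        rw [ind, sum_pow_char p, AddMonoidAlgebra.coeff_sum, Finsupp.finsetSum_apply,
          Finset.natCast_card_filter]
        refine Finset.sum_congr rfl fun t _ => ?_
        rw [AddMonoidAlgebra.single_pow, one_pow, nsmul_eq_mul, AddMonoidAlgebra.coeff_single,
          Finsupp.single_apply]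
      have hL := iinv_level (inv_pow (inv_ind (R := ZMod p) (iinv_orb htr x)) p) (fun a => a ≠ 0)
      by_contra hnd
      refine hpy (hker _ hL ?_ _ ?_)
      · intro w hw
        rw [mem_filter, hc] at hw
        obtain ⟨t, ht⟩ := Finset.card_ne_zero.1 (fun h => hw.2 (by rw [h, Nat.cast_zero]))
        rw [← (mem_filter.1 ht).2, map_mul, map_natCast, ZMod.natCast_self, zero_mul]
      · rw [mem_filter, hc]
        exact ⟨mem_univ _, fun h => hnd ((ZMod.natCast_eq_zero_iff _ _).1 h)⟩
    have hsubset : (T.filter fun t => (p : ZMod n) * t = (p : ZMod n) * y) ⊆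
        univ.filter fun t => (p : ZMod n) * t = (p : ZMod n) * y := fun t ht => by
      simp at ht ⊢; exact ht.2
    have hcard : (univ.filter fun t : ZMod n => (p : ZMod n) * t = (p : ZMod n) * y).card = p := by
      rw [hfib, Finset.card_image_of_injective, Finset.card_univ, ZMod.card]
      exact fun u v h => hEinj u v (add_left_cancel h)
    have heq := Finset.eq_of_subset_of_card_le hsubset (by
      rw [hcard]
      exact Nat.le_of_dvd (Finset.card_pos.2 ⟨y, mem_filter.2 ⟨hy, rfl⟩⟩) hcnt)
    have : z ∈ T.filter fun t => (p : ZMod n) * t = (p : ZMod n) * y := by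
      rw [heq]; simp [hz]
    exact (mem_filter.1 this).1
  -- every suborbit meets the elements killed by `p`
  have hmeet : ∀ x : ZMod n, x ≠ 0 → ∃ y ∈ orb S x, (p : ZMod n) * y = 0 := by
    intro x hx
    by_contra hno
    push Not at hno
    set T := orb S x
    have hmono : Inv S (ind ℕ T * ind ℕ (T.image fun t => -t)) := by
      refine inv_mul (inv_ind (iinv_orb htr x)) (inv_ind ?_)
      intro g hg a b
      simp only [mem_image]
      have := iinv_orb htr x g hg b a
      constructor
      · rintro ⟨t, ht, he⟩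
        exact ⟨a - b, this.1 (by rwa [show g a - g b = t by rw [← neg_sub, ← he, neg_neg]]), by abel⟩
      · rintro ⟨t, ht, he⟩
        exact ⟨g a - g b, this.2 (by rwa [show a - b = t by rw [← neg_sub, ← he, neg_neg]]), by abel⟩
    have hc : ∀ d, (ind ℕ T * ind ℕ (T.image fun t => -t)).coeff d =
        (T.filter fun t => t - d ∈ T).card := by
      intro d
      rw [coeff_mul_sum, Finset.card_filter]
      simp only [coeff_ind, ite_mul, one_mul, zero_mul]
      rw [Finset.sum_ite_mem, Finset.univ_inter]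
      refine Finset.sum_congr rfl fun t _ => ?_
      refine if_congr ?_ rfl rfl
      constructor
      · intro h
        obtain ⟨t', ht', he⟩ := mem_image.1 h
        rwa [show t - d = t' by rw [← neg_sub, ← he, neg_neg]]
      · intro h
        exact mem_image.2 ⟨t - d, h, neg_sub t d⟩
    set L := univ.filter fun d : ZMod n => (ind ℕ T * ind ℕ (T.image fun t => -t)).coeff d = T.card
    have hL : IInv S L := iinv_level hmono (fun a => a = T.card)
    have hLmem : ∀ d ∈ L, T.image (fun t => t - d) = T := by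
      intro d hd
      have h1 := (mem_filter.1 hd).2
      rw [hc] at h1
      have h2 := Finset.filter_eq_self.1 (Finset.eq_of_subset_of_card_le (Finset.filter_subset _ T) h1.ge)
      refine Finset.eq_of_subset_of_card_le (Finset.image_subset_iff.2 h2) (le_of_eq ?_)
      exact (Finset.card_image_of_injective _ fun a b h => by simpa using h).symm
    have hqL : q ∈ L := by
      simp only [L, mem_filter, mem_univ, true_and, hc]
      rw [Finset.filter_eq_self.2]
      intro t ht
      exact hper x t ht (hno t ht) _ (by rw [mul_sub, hpq, sub_zero])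
    have htop := hprim' _ (iinvSub_closure hL) q (AddSubgroup.subset_closure hqL) hq0
    have hstab : ∀ d ∈ AddSubgroup.closure (L : Set (ZMod n)), T.image (fun t => t - d) = T := by
      intro d hd
      induction hd using AddSubgroup.closure_induction with
      | mem d hd => exact hLmem d hd
      | zero => simp
      | add a b _ _ ha hb =>
        conv_rhs => rw [← hb, ← ha, Finset.image_image]
        congr 1; funext t; simp only [Function.comp]; abel
      | neg a _ ha =>
        conv_lhs => rw [← ha, Finset.image_image]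
        conv_rhs => rw [← Finset.image_id (s := T)]
        congr 1; funext t; simp
    have h0 : (0 : ZMod n) ∈ T := by
      rw [← hstab x (htop ▸ AddSubgroup.mem_top _)]
      exact mem_image.2 ⟨x, mem_orb_self x, sub_self x⟩
    exact zero_notMem_orb hx h0
  -- two different suborbits
  obtain ⟨a, b, ha, hb, hab⟩ := h2
  obtain ⟨x1, hx1, hpx1⟩ := hmeet a ha
  set T1 := orb S a with hT1
  have hx10 : x1 ≠ 0 := fun h => zero_notMem_orb ha (h ▸ hx1)
  obtain ⟨u1, hu1⟩ := (hE x1).1 hpx1
  have hu10 : u1 ≠ 0 := fun h => hx10 (by rw [hu1, h, ZMod.val_zero, Nat.cast_zero, zero_mul])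
  have hne0 : ∀ x, x ≠ 0 → ∀ y ∈ orb S x, y ≠ 0 := fun x hx y hy h => zero_notMem_orb hx (h ▸ hy)
  -- every suborbit is a multiple of the first
  have hmul : ∀ x : ZMod n, x ≠ 0 → ∃ c : ℕ, c.Coprime n ∧
      T1.image (fun t => (c : ZMod n) * t) = orb S x := by
    intro x hx
    obtain ⟨y, hy, hpy⟩ := hmeet x hx
    obtain ⟨u, hu⟩ := (hE y).1 hpy
    have hu0 : u ≠ 0 := fun h => hne0 x hx y hy (by rw [hu, h, ZMod.val_zero, Nat.cast_zero, zero_mul])
    set c := (u * u1⁻¹).val with hcdef
    have hc : c.Coprime n := by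
      rw [hn]
      refine ((hp.coprime_iff_not_dvd.2 fun h => ?_).symm.pow_right m)
      have : ((c : ℕ) : ZMod p) = 0 := (ZMod.natCast_eq_zero_iff _ _).2 h
      rw [hcdef, ZMod.natCast_zmod_val] at this
      exact mul_ne_zero hu0 (inv_ne_zero hu10) this
    refine ⟨c, hc, ?_⟩
    have hmem : (c : ZMod n) * x1 = y := by
      rw [hu1, hu, ← mul_assoc, ← Nat.cast_mul]
      refine hEmul _ _ ?_
      rw [Nat.cast_mul, hcdef, ZMod.natCast_zmod_val, ZMod.natCast_zmod_val, ZMod.natCast_zmod_val,
        inv_mul_cancel_right₀ hu10]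
    have h1 : orb S x ⊆ T1.image (fun t => (c : ZMod n) * t) := by
      rw [← orb_eq hy]
      exact orb_subset htr (iinv_image c hc (iinv_orb htr a)) (mem_image.2 ⟨x1, hx1, hmem⟩)
    set c' := (((ZMod.unitOfCoprime c hc)⁻¹ : (ZMod n)ˣ) : ZMod n).val with hc'def
    have hc' : c'.Coprime n := ZMod.val_coe_unit_coprime _
    have h2 : T1 ⊆ (orb S x).image (fun t => (c' : ZMod n) * t) := by
      rw [hT1, ← orb_eq hx1]
      refine orb_subset htr (iinv_image c' hc' (iinv_orb htr x)) (mem_image.2 ⟨y, hy, ?_⟩)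
      rw [← hmem, ← mul_assoc, hc'def, ZMod.natCast_zmod_val, ← ZMod.coe_unitOfCoprime c hc,
        Units.inv_mul, one_mul]
    refine (Finset.eq_of_subset_of_card_le h1 ?_).symm
    exact Finset.card_image_le.trans ((Finset.card_le_card h2).trans Finset.card_image_le)
  -- characters
  set ψ := (ZMod.stdAddChar : AddChar (ZMod n) ℂ) with hψ
  set ζ := ψ q with hζdef
  have hζ : IsPrimitiveRoot ζ p := by
    have h1 : ζ ^ p = 1 := by
      rw [hζdef, ← AddChar.map_nsmul_eq_pow, nsmul_eq_mul, hpq, AddChar.map_zero_eq_one]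
    have h2 : ζ ≠ 1 := fun h => hq0 (ZMod.injective_stdAddChar (h.trans (AddChar.map_zero_eq_one ψ).symm))
    exact IsPrimitiveRoot.iff_orderOf.2 (orderOf_eq_prime h1 h2)
  have hψq : ∀ k : ℕ, ψ ((k : ZMod n) * q) = ζ ^ k := fun k => by
    rw [← nsmul_eq_mul, AddChar.map_nsmul_eq_pow]
  let val : ZMod n → ℂ := fun c => ∑ t ∈ T1, ψ (c * t)
  let g : ZMod n → ZMod p → ℤ := fun x u => if (u.val : ZMod n) * q ∈ orb S x then 1 else 0
  have hg0 : ∀ x, x ≠ 0 → g x 0 = 0 := fun x hx => by
    simp only [g, ZMod.val_zero, Nat.cast_zero, zero_mul]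
    rw [if_neg (zero_notMem_orb hx)]
  -- the value at a unit
  have hval : ∀ x, x ≠ 0 → ∀ c : ℕ, c.Coprime n → T1.image (fun t => (c : ZMod n) * t) = orb S x →
      val c = ∑ u : ZMod p, (g x u : ℂ) * ζ ^ u.val := by
    intro x hx c hc hcT
    have h1 : val c = ∑ y ∈ orb S x, ψ y := by
      rw [← hcT, Finset.sum_image]
      exact fun a _ b _ h => ((ZMod.unitOfCoprime c hc).isUnit).mul_left_cancel
        (by rw [ZMod.coe_unitOfCoprime]; exact h)
    rw [h1, ← Finset.sum_filter_add_sum_filter_not (orb S x) (fun y => (p : ZMod n) * y = 0)]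
    have hz : ∑ y ∈ (orb S x).filter (fun y => ¬ (p : ZMod n) * y = 0), ψ y = 0 := by
      set T' := (orb S x).filter (fun y => ¬ (p : ZMod n) * y = 0)
      have hT' : T'.image (fun y => y + q) = T' := by
        refine Finset.eq_of_subset_of_card_le ?_ (le_of_eq (Finset.card_image_of_injective _ (add_left_injective q)).symm)
        intro z hz
        obtain ⟨y, hy, rfl⟩ := mem_image.1 hz
        obtain ⟨hy1, hy2⟩ := mem_filter.1 hy
        refine mem_filter.2 ⟨hper x y hy1 hy2 _ (by rw [mul_add, hpq, add_zero]), by rwa [mul_add, hpq, add_zero]⟩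
      have h : ∑ y ∈ T', ψ y = ζ * ∑ y ∈ T', ψ y := by
        conv_lhs => rw [← hT', Finset.sum_image ((add_left_injective q).injOn)]
        rw [Finset.mul_sum]
        refine Finset.sum_congr rfl fun y _ => ?_
        rw [AddChar.map_add_eq_mul, mul_comm]
      have : (1 - ζ) * ∑ y ∈ T', ψ y = 0 := by rw [sub_mul, one_mul, ← h, sub_self]
      rcases mul_eq_zero.1 this with h' | h'
      · exact absurd (sub_eq_zero.1 h').symm (hζ.ne_one hp.one_lt)
      · exact h'
    rw [hz, add_zero]
    have e : (orb S x).filter (fun y => (p : ZMod n) * y = 0) =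
        ((univ : Finset (ZMod p)).filter fun u => (u.val : ZMod n) * q ∈ orb S x).image fun u => (u.val : ZMod n) * q := by
      ext y
      simp only [mem_filter, mem_image, mem_univ, true_and]
      constructor
      · rintro ⟨hy, hpy⟩
        obtain ⟨u, rfl⟩ := (hE y).1 hpy
        exact ⟨u, hy, rfl⟩
      · rintro ⟨u, hu, rfl⟩
        exact ⟨hu, (hE _).2 ⟨u, rfl⟩⟩
    rw [e, Finset.sum_image (fun u _ v _ h => hEinj u v h), Finset.sum_filter]
    refine Finset.sum_congr rfl fun u _ => ?_
    simp only [g]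
    split_ifs <;> simp only [Int.cast_one, Int.cast_zero, one_mul, zero_mul, hψq]
  -- the value at `q`
  let f : ZMod p → ℤ := fun u => ((T1.filter fun t => π t = u).card : ℤ)
  have hvalq : val q = ∑ u : ZMod p, (f u : ℂ) * ζ ^ u.val := by
    simp only [val, f]
    rw [← Finset.sum_fiberwise T1 π]
    refine Finset.sum_congr rfl fun u _ => ?_
    rw [Finset.sum_congr rfl (g := fun _ => ζ ^ u.val), Finset.sum_const, nsmul_eq_mul]
    · push_cast; ring
    intro t ht
    rw [mul_comm, ← ZMod.natCast_zmod_val t, ← hψq]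
    congr 1
    refine hEmul _ _ ?_
    rw [ZMod.natCast_zmod_val u, ← (mem_filter.1 ht).2]
    conv_rhs => rw [← ZMod.natCast_zmod_val t, map_natCast]
  have hf : ∀ u, u ≠ 0 → (p : ℤ) ∣ f u := by
    intro u hu
    simp only [f]
    norm_cast
    set F := T1.filter fun t => π t = u
    rw [Finset.card_eq_sum_card_image (fun t => (p : ZMod n) * t) F]
    refine Finset.dvd_sum fun d hd => ?_
    obtain ⟨y, hy, rfl⟩ := mem_image.1 hd
    obtain ⟨hy1, hy2⟩ := mem_filter.1 hy
    have hpy : (p : ZMod n) * y ≠ 0 := by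
      intro h
      obtain ⟨w, rfl⟩ := (hE y).1 h
      rw [map_mul, hπq, mul_zero] at hy2
      exact hu hy2.symm
    have : F.filter (fun t => (p : ZMod n) * t = (p : ZMod n) * y) =
        (univ : Finset (ZMod p)).image fun v => y + (v.val : ZMod n) * q := by
      rw [← hfib]
      ext t
      simp only [mem_filter, mem_univ, true_and, F]
      refine ⟨fun h => h.2, fun h => ⟨⟨hper a y hy1 hpy t h, ?_⟩, h⟩⟩
      obtain ⟨v, hv⟩ := (hE (t - y)).1 (by rw [mul_sub, h, sub_self])
      have h' := congrArg π hv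
      rw [map_sub, map_mul, hπq, mul_zero, sub_eq_zero] at h'
      rw [h', hy2]
    rw [this, Finset.card_image_of_injective _ (fun v w h => hEinj v w (add_left_cancel h)),
      Finset.card_univ, ZMod.card]
  have hfq : 1 ≤ f 0 := by
    simp only [f]
    exact_mod_cast Finset.card_pos.2 ⟨x1, mem_filter.2 ⟨hx1, by rw [hu1, map_mul, hπq, mul_zero]⟩⟩
  -- the trivial value
  let k : ℤ := (T1.card : ℤ)
  let δ : ZMod p → ℤ := fun u => if u = 0 then k else 0
  have hval0 : val 0 = ∑ u : ZMod p, (δ u : ℂ) * ζ ^ u.val := by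
    rw [Finset.sum_eq_single (0 : ZMod p) (fun u _ hu => by simp [δ, hu]) (fun h => absurd (Finset.mem_univ _) h)]
    simp [val, δ, k]
  have hcompare : ∀ (F F' : ZMod p → ℤ), ∑ u : ZMod p, (F u : ℂ) * ζ ^ u.val = ∑ u : ZMod p, (F' u : ℂ) * ζ ^ u.val →
      ∀ u v, F u - F' u = F v - F' v := by
    intro F F' h
    refine eq_of_sum_eq_zero hζ (fun u => F u - F' u) ?_
    push_cast
    simp only [sub_mul, Finset.sum_sub_distrib, h, sub_self]
  -- the suborbits
  let rel : Setoid (ZMod n) := ⟨fun x y => y ∈ orb S x, ⟨mem_orb_self,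
    fun h => by rw [orb_eq h]; exact mem_orb_self _, fun h h' => by rw [← orb_eq h]; exact h'⟩⟩
  let O := Quotient rel
  let V : Option O → ℂ := fun o => o.elim (val q) fun c =>
    if c.out = 0 then val 0 else ∑ u : ZMod p, (g c.out u : ℂ) * ζ ^ u.val
  have hgex : ∀ x, x ≠ 0 → ∃ u, u ≠ 0 ∧ g x u = 1 := by
    intro x hx
    obtain ⟨y, hy, hpy⟩ := hmeet x hx
    obtain ⟨u, rfl⟩ := (hE y).1 hpy
    refine ⟨u, fun h => hne0 x hx _ hy (by rw [h, ZMod.val_zero, Nat.cast_zero, zero_mul]), ?_⟩
    simp only [g, if_pos hy]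
  have hgex0 : ∀ x, x ≠ 0 → ∃ v, v ≠ 0 ∧ g x v = 0 := by
    intro x hx
    obtain ⟨z, hz, hzx⟩ : ∃ z, z ≠ 0 ∧ z ∉ orb S x := by
      by_contra hcon
      push Not at hcon
      refine hab ?_
      rw [hT1, orb_eq (hcon a ha)]
      exact hcon b hb
    obtain ⟨y, hy, hpy⟩ := hmeet z hz
    obtain ⟨v, rfl⟩ := (hE y).1 hpy
    refine ⟨v, fun h => hne0 z hz _ hy (by rw [h, ZMod.val_zero, Nat.cast_zero, zero_mul]), ?_⟩
    simp only [g]
    rw [if_neg]
    exact fun h => hzx (by rw [← orb_eq h, orb_eq hy]; exact mem_orb_self z)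
  have hq_vs_zero : val q ≠ val 0 := by
    intro h
    rw [hvalq, hval0] at h
    have hle : ∀ w ∈ T1, π w = 0 := by
      intro w hw
      by_contra hπw
      have e := hcompare _ _ h (π w) 0
      have hfk : f 0 ≤ k := by
        simp only [f, k]; exact_mod_cast Finset.card_filter_le _ _
      have hpos : 1 ≤ f (π w) := by
        have h1 : 0 < (T1.filter fun t => π t = π w).card := Finset.card_pos.2 ⟨w, mem_filter.2 ⟨hw, rfl⟩⟩
        simp only [f]; exact_mod_cast h1
      simp only [δ, if_neg hπw, if_pos (rfl : (0 : ZMod p) = 0)] at e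
      omega
    exact hx10 (hker _ (iinv_orb htr a) hle x1 hx1)
  have hq_vs : ∀ x, x ≠ 0 → val q ≠ ∑ u : ZMod p, (g x u : ℂ) * ζ ^ u.val := by
    intro x hx h
    rw [hvalq] at h
    obtain ⟨u, hu0, hu⟩ := hgex x hx
    obtain ⟨v, hv0, hv⟩ := hgex0 x hx
    have e1 := hcompare _ _ h u 0
    have e2 := hcompare _ _ h v 0
    rw [hu, hg0 x hx] at e1
    rw [hv, hg0 x hx] at e2
    have h1 := hf u hu0
    have h2 := hf v hv0
    have h3 : (p : ℤ) ∣ 1 := by
      have := h1.sub h2
      rwa [show f u - f v = 1 by omega] at this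
    exact hp.one_lt.ne' (Nat.dvd_one.1 (by exact_mod_cast h3))
  have hzero_vs : ∀ x, x ≠ 0 → val 0 ≠ ∑ u : ZMod p, (g x u : ℂ) * ζ ^ u.val := by
    intro x hx h
    rw [hval0] at h
    obtain ⟨u, hu0, hu⟩ := hgex x hx
    have e := hcompare _ _ h u 0
    rw [hu, hg0 x hx] at e
    have hk : 1 ≤ k := by simp only [k]; exact_mod_cast Finset.card_pos.2 ⟨x1, hx1⟩
    simp only [δ, if_neg hu0, if_pos (rfl : (0 : ZMod p) = 0)] at e
    omega
  have hV : Function.Injective V := by
    rintro (_ | c) (_ | d) h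
    · rfl
    · simp only [V, Option.elim] at h
      split_ifs at h with hd
      · exact absurd h hq_vs_zero
      · exact absurd h (hq_vs _ hd)
    · simp only [V, Option.elim] at h
      split_ifs at h with hd
      · exact absurd h.symm hq_vs_zero
      · exact absurd h.symm (hq_vs _ hd)
    · simp only [V, Option.elim] at h
      congr 1
      split_ifs at h with hc hd hd
      · rw [← Quotient.out_eq c, ← Quotient.out_eq d, hc, hd]
      · exact absurd h (hzero_vs _ hd)
      · exact absurd h.symm (hzero_vs _ hc)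
      · have hgg : ∀ w, g c.out w = g d.out w := fun w => by
          have := hcompare _ _ h w 0
          rw [hg0 _ hc, hg0 _ hd] at this
          omega
        obtain ⟨u, -, hu⟩ := hgex _ hc
        have hu' := hu
        rw [hgg] at hu'
        simp only [g] at hu hu'
        have h1 : (u.val : ZMod n) * q ∈ orb S c.out := by
          by_contra h1; rw [if_neg h1] at hu; exact zero_ne_one hu
        have h3 : (u.val : ZMod n) * q ∈ orb S d.out := by
          by_contra h3; rw [if_neg h3] at hu'; exact zero_ne_one hu'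
        rw [← Quotient.out_eq c, ← Quotient.out_eq d]
        refine Quotient.sound ?_
        show d.out ∈ orb S c.out
        rw [← orb_eq h1, orb_eq h3]; exact mem_orb_self _
  -- a polynomial of degree at most `card O` vanishing at all values
  set N := Fintype.card O
  let W : Fin (N + 1) → O → ℂ := fun i c => (ind ℂ T1 ^ (i : ℕ)).coeff c.out
  have hdep : ¬ LinearIndependent ℂ W := fun h => by
    have := h.fintype_card_le_finrank
    rw [Module.finrank_pi, Fintype.card_fin] at this
    omega
  obtain ⟨a', ha', i0, hi0⟩ := Fintype.not_linearIndependent_iff.1 hdep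
  set u := ∑ i : Fin (N + 1), AddMonoidAlgebra.single (0 : ZMod n) (a' i) * ind ℂ T1 ^ (i : ℕ) with hu
  have hucoeff : ∀ d, u.coeff d = ∑ i : Fin (N + 1), a' i * (ind ℂ T1 ^ (i : ℕ)).coeff d := by
    intro d
    rw [hu, AddMonoidAlgebra.coeff_sum, Finsupp.finsetSum_apply]
    refine Finset.sum_congr rfl fun i _ => ?_
    rw [coeff_mul_sum, Finset.sum_eq_single (0 : ZMod n)]
    · simp
    · intro b _ hb; simp [Ne.symm hb]
    · intro h; exact absurd (Finset.mem_univ _) h
  have hu0 : u = 0 := by
    refine AddMonoidAlgebra.ext (Finsupp.ext fun d => ?_)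
    rw [hucoeff, AddMonoidAlgebra.coeff_zero, Finsupp.zero_apply]
    have h0 := congrFun ha' (Quotient.mk rel d)
    simp only [Finset.sum_apply, Pi.smul_apply, smul_eq_mul, Pi.zero_apply, W] at h0
    rw [← h0]
    refine Finset.sum_congr rfl fun i _ => ?_
    congr 1
    obtain ⟨l, hl, hl0, hld⟩ := mem_orb.1 (show d ∈ orb S (Quotient.mk rel d).out from
      Quotient.exact (Quotient.out_eq (Quotient.mk rel d)))
    have := inv_pow (inv_ind (R := ℂ) (iinv_orb htr a)) (i : ℕ) l hl 0 (Quotient.mk rel d).out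
    rw [hl0, hld, sub_zero, sub_zero] at this
    exact this
  set P : Polynomial ℂ := ∑ i : Fin (N + 1), Polynomial.C (a' i) * Polynomial.X ^ (i : ℕ) with hP
  have hP0 : P ≠ 0 := by
    intro h
    have := congrArg (fun Q => Q.coeff (i0 : ℕ)) h
    rw [hP] at this
    simp only [Polynomial.finsetSum_coeff, Polynomial.coeff_zero] at this
    rw [Finset.sum_eq_single i0 (fun b _ hb => by
      rw [Polynomial.coeff_C_mul, Polynomial.coeff_X_pow, if_neg (fun e => hb (Fin.ext e.symm)), mul_zero])
      (fun h => absurd (Finset.mem_univ _) h)] at this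
    simp at this
    exact hi0 this
  have hPdeg : P.natDegree ≤ N := Polynomial.natDegree_sum_le_of_forall_le _ _ fun i _ =>
    (Polynomial.natDegree_C_mul_X_pow_le _ _).trans (Nat.lt_succ_iff.1 i.2)
  have hroot : ∀ c, P.eval (val c) = 0 := by
    intro c
    let ev := AddMonoidAlgebra.lift ℂ ℂ (ZMod n) (ψ.mulShift c).toMonoidHom
    have hev : ev (ind ℂ T1) = val c := by
      rw [ind, map_sum]
      refine Finset.sum_congr rfl fun t _ => ?_
      rw [AddMonoidAlgebra.lift_single, one_smul]
      rfl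
    have h := congrArg ev hu0
    rw [hu, map_sum, map_zero] at h
    rw [hP, Polynomial.eval_finsetSum, ← h]
    refine Finset.sum_congr rfl fun i _ => ?_
    rw [Polynomial.eval_mul, Polynomial.eval_C, Polynomial.eval_pow, Polynomial.eval_X, map_mul, map_pow,
      hev, AddMonoidAlgebra.lift_single, smul_eq_mul]
    congr 1
    show a' i = a' i * (ψ.mulShift c) 0
    rw [AddChar.map_zero_eq_one, mul_one]
  have hVroot : ∀ o, V o ∈ P.roots.toFinset := by
    intro o
    rw [Multiset.mem_toFinset, Polynomial.mem_roots hP0]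
    rcases o with _ | c
    · exact hroot q
    · simp only [V, Option.elim]
      split_ifs with hc
      · exact hroot 0
      · obtain ⟨e, he, heT⟩ := hmul _ hc
        rw [← hval _ hc e he heT]
        exact hroot _
  have hcount := Finset.card_le_card_of_injOn V (s := (univ : Finset (Option O))) (t := P.roots.toFinset)
    (fun o _ => hVroot o) hV.injOn
  rw [Finset.card_univ, Fintype.card_option] at hcount
  have := (Multiset.toFinset_card_le P.roots).trans ((Polynomial.card_roots' P).trans hPdeg)
  omega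

end H34.Schur
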