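import Mathlib
import Cfsg.Agent.H5.PResidual
import Cfsg.Agent.H5.Frobenius
import Cfsg.Agent.H1.Cores

set_option autoImplicit false

/-!
A finite group has a normal `p`-complement iff all its sections `K` with `O_{p'}(K) = 1`
have an element of order equal to the exponent.
-/

namespace H34.SecExp

open Pointwise

universe u

/-- The iterate of a displacement fixed by the acting element. -/
theorem conj_pow_of_fixed {G : Type*} [Group G] {g x c : G} (h : g * x * g⁻¹ = x * c)
    (hc : Commute g c) (k : ℕ) : g ^ k * x * (g ^ k)⁻¹ = x * c ^ k := by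
  induction k with
  | zero => simp
  | succ k ih =>
    have hk : Commute g (c ^ k) := hc.pow_right k
    calc g ^ (k + 1) * x * (g ^ (k + 1))⁻¹ = g * (g ^ k * x * (g ^ k)⁻¹) * g⁻¹ := by
          rw [pow_succ']; group
      _ = g * (x * c ^ k) * g⁻¹ := by rw [ih]
      _ = g * x * (c ^ k * g⁻¹) := by group
      _ = g * x * (g⁻¹ * c ^ k) := by rw [(hk.inv_left).symm.eq]
      _ = x * c * c ^ k := by rw [← h]; group
      _ = x * c ^ (k + 1) := by rw [pow_succ']; group

/-- A finite `p`-group has an element whose order is the exponent. -/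
theorem exists_orderOf_eq_exponent {K : Type*} [Group K] [Finite K] {p : ℕ} [Fact p.Prime]
    (hK : IsPGroup p K) : ∃ k : K, orderOf k = Monoid.exponent K := by
  obtain ⟨k, hk⟩ := Finite.exists_max (orderOf : K → ℕ)
  refine ⟨k, Nat.dvd_antisymm (Monoid.order_dvd_exponent k) (Monoid.exponent_dvd.2 fun g => ?_)⟩
  obtain ⟨a, ha⟩ := IsPGroup.iff_orderOf.1 hK g
  obtain ⟨b, hb⟩ := IsPGroup.iff_orderOf.1 hK k
  rw [ha, hb]
  refine pow_dvd_pow p ?_
  have := hk g
  rw [ha, hb] at this
  exact (Nat.pow_le_pow_iff_right (Fact.out : p.Prime).one_lt).1 this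

/-- Sections with trivial `O_{p'}` attain their exponent. -/
def Attains (p : ℕ) (G : Type u) [Group G] : Prop :=
  ∀ (H : Subgroup G) (K : Type u) [Group K] (f : H →* K), Function.Surjective f →
    Cfsg.pPrimeCore p K = ⊥ → ∃ k : K, orderOf k = Monoid.exponent K

theorem Attains.subgroup {p : ℕ} {G : Type u} [Group G] (h : Attains p G) (S : Subgroup G) :
    Attains p S := by
  intro H K _ f hf hK
  exact h (H.map S.subtype) K (f.comp (H.equivMapOfInjective S.subtype S.subtype_injective).symm.toMonoidHom)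
    (hf.comp (MulEquiv.surjective _)) hK

theorem Attains.quotient {p : ℕ} {G : Type u} [Group G] (h : Attains p G) (N : Subgroup G)
    [N.Normal] : Attains p (G ⧸ N) := by
  intro H K _ f hf hK
  refine h (H.comap (QuotientGroup.mk' N)) K
    (f.comp ((QuotientGroup.mk' N).subgroupComap H)) (hf.comp ?_) hK
  intro y
  obtain ⟨x, hx⟩ := QuotientGroup.mk'_surjective N y
  exact ⟨⟨x, show QuotientGroup.mk' N x ∈ H by rw [hx]; exact y.2⟩, Subtype.ext hx⟩

theorem hasNormalPComplement_of_attains (p : ℕ) [Fact p.Prime] (n : ℕ) :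
    ∀ (G : Type u) [Group G] [Finite G], Nat.card G ≤ n → Attains p G →
      Cfsg.HasNormalPComplement p G := by
  induction n with
  | zero => intro G _ _ hn; exact absurd hn (by simp [Nat.card_pos.ne'])
  | succ n ih =>
    intro G _ _ hn hG
    by_contra hnot
    have hp : p.Prime := Fact.out
    have hsub : ∀ S : Subgroup G, S ≠ ⊤ → Cfsg.HasNormalPComplement p S := fun S hS => by
      refine ih S ?_ (hG.subgroup S)
      have h1 := Subgroup.one_lt_index_of_ne_top hS
      have h2 := S.index_mul_card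
      have h3 : 0 < Nat.card S := Nat.card_pos
      nlinarith
    have hquot : ∀ (N : Subgroup G) [N.Normal], N ≠ ⊥ → Cfsg.HasNormalPComplement p (G ⧸ N) := fun N _ hN => by
      refine ih _ ?_ (hG.quotient N)
      have h1 := (Subgroup.one_lt_card_iff_ne_bot N).2 hN
      have h2 := Subgroup.card_eq_card_quotient_mul_card_subgroup N
      have h3 : 0 < Nat.card (G ⧸ N) := Nat.card_pos
      nlinarith
    -- a `p`-subgroup `Q` and a `p'`-element normalising but not centralising it
    obtain ⟨Q, hQ, g, hgN, hgo, hgC⟩ : ∃ Q : Subgroup G, IsPGroup p Q ∧ ∃ g : G,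
        g ∈ Subgroup.normalizer (Q : Set G) ∧ Nat.Coprime (orderOf g) p ∧
        g ∉ Subgroup.centralizer (Q : Set G) := by
      by_contra hc
      push Not at hc
      refine hnot (H5.hasNormalPComplement_of_frobenius (Classical.arbitrary (Sylow p G))
        fun Q hQ g hg ho => hc Q ((Classical.arbitrary (Sylow p G)).2.to_le hQ) g hg ho)
    -- choose such an element of least order
    obtain ⟨g, ⟨hgN, hgo, hgC⟩, hmin⟩ :
        ∃ g : G, (g ∈ Subgroup.normalizer (Q : Set G) ∧ Nat.Coprime (orderOf g) p ∧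
          g ∉ Subgroup.centralizer (Q : Set G)) ∧
        ∀ h : G, (h ∈ Subgroup.normalizer (Q : Set G) ∧ Nat.Coprime (orderOf h) p ∧
          h ∉ Subgroup.centralizer (Q : Set G)) → orderOf g ≤ orderOf h :=
      Set.exists_min_image _ orderOf (Set.toFinite _) ⟨g, hgN, hgo, hgC⟩
    -- `G = Q⟨g⟩` with `Q` normal
    have htop : Q ⊔ Subgroup.zpowers g = ⊤ := by
      by_contra hS
      set S := Q ⊔ Subgroup.zpowers g
      refine hgC (Subgroup.mem_centralizer_iff.2 fun x hx => ?_)
      have hgS : g ∈ S := (le_sup_right : _ ≤ S) (Subgroup.mem_zpowers g)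
      have h1 : (⟨g, hgS⟩ : S) ∈ Subgroup.centralizer ((Q.subgroupOf S : Subgroup S) : Set S) := by
        refine H5.frobenius_of_hasNormalPComplement (hsub S hS)
          (hQ.of_equiv (Subgroup.subgroupOfEquivOfLe (le_sup_left : Q ≤ S)).symm) ?_ ?_
        · rw [Subgroup.mem_normalizer_iff]
          intro y
          simp only [Subgroup.mem_subgroupOf]
          exact (Subgroup.mem_normalizer_iff.1 hgN) (y : G)
        · rwa [← Subgroup.orderOf_coe]
      exact congrArg Subtype.val (Subgroup.mem_centralizer_iff.1 h1 ⟨x, (le_sup_left : Q ≤ S) hx⟩ hx)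
    haveI hQn : Q.Normal := by
      rw [← Subgroup.normalizer_eq_top_iff, eq_top_iff, ← htop, sup_le_iff]
      exact ⟨Subgroup.le_normalizer, Subgroup.zpowers_le.2 hgN⟩
    -- a `p'`-element inside `Q` is trivial
    have hQcop : ∀ x ∈ Q, (orderOf x).Coprime p → x = 1 := by
      intro x hx hxo
      obtain ⟨k, hk⟩ := IsPGroup.iff_orderOf.1 hQ ⟨x, hx⟩
      rw [← Subgroup.orderOf_coe] at hk
      rw [← orderOf_eq_one_iff]
      exact Nat.eq_one_of_dvd_coprimes (hxo.pow_right k) dvd_rfl (by rw [← hk])
    -- stable chains are centralised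
    have hstab : ∀ x ∈ Q, Commute g (x⁻¹ * (g * x * g⁻¹)) → Commute g x := by
      intro x hx hc
      set c := x⁻¹ * (g * x * g⁻¹) with hcdef
      have h : g * x * g⁻¹ = x * c := by rw [hcdef]; group
      have hk := conj_pow_of_fixed h hc (orderOf g)
      rw [pow_orderOf_eq_one, one_mul, inv_one, mul_one] at hk
      have hc1 : c ^ orderOf g = 1 := by simpa using hk
      have hcQ : c ∈ Q := mul_mem (inv_mem hx) (hQn.conj_mem x hx g)
      have : c = 1 := hQcop c hcQ (Nat.Coprime.coprime_dvd_left (orderOf_dvd_of_pow_eq_one hc1) hgo)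
      rw [this, mul_one] at h
      calc g * x = g * x * g⁻¹ * g := by group
        _ = x * g := by rw [h]
    -- displacements lie in any non-trivial normal subgroup
    have hdisp : ∀ (N : Subgroup G) [N.Normal], N ≠ ⊥ → ∀ x ∈ Q, x⁻¹ * (g * x * g⁻¹) ∈ N := by
      intro N _ hN x hx
      have h1 : QuotientGroup.mk' N g ∈ Subgroup.centralizer ((Q.map (QuotientGroup.mk' N)) : Set (G ⧸ N)) := by
        refine H5.frobenius_of_hasNormalPComplement (hquot N hN) (hQ.map _) ?_ ?_
        · haveI := hQn.map _ (QuotientGroup.mk'_surjective N)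
          rw [Subgroup.normalizer_eq_top_iff.2 inferInstance]
          trivial
        · exact hgo.coprime_dvd_left (orderOf_map_dvd _ g)
      have h2 := Subgroup.mem_centralizer_iff.1 h1 (QuotientGroup.mk' N x) ⟨x, hx, rfl⟩
      rw [← QuotientGroup.ker_mk' N, MonoidHom.mem_ker, map_mul, map_mul, map_mul, ← h2, map_inv, map_inv]
      group
    -- `g` has prime order
    have hg1 : g ≠ 1 := fun h => hgC (h ▸ one_mem _)
    obtain ⟨q, hq, hqg⟩ := Nat.exists_prime_and_dvd (n := orderOf g) (by simpa using hg1)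
    have hgq : g ^ q ∈ Subgroup.centralizer (Q : Set G) := by
      by_contra hgq
      have h1 := hmin (g ^ q) ⟨pow_mem hgN q, hgo.coprime_dvd_left (orderOf_pow_dvd q), hgq⟩
      rw [orderOf_pow_of_dvd hq.ne_zero hqg] at h1
      exact absurd h1 (not_le.2 (Nat.div_lt_self (orderOf_pos g) hq.one_lt))
    have hgq1 : g ^ q = 1 := by
      by_contra hne
      haveI hWn : (Subgroup.zpowers (g ^ q)).Normal := by
        rw [← Subgroup.normalizer_eq_top_iff, eq_top_iff, ← htop, sup_le_iff]
        refine ⟨fun x hx => Subgroup.centralizer_le_normalizer _ (Subgroup.mem_centralizer_iff.2 ?_),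
          Subgroup.zpowers_le.2 (Subgroup.centralizer_le_normalizer _ (Subgroup.mem_centralizer_iff.2 ?_))⟩
        · rintro _ ⟨i, rfl⟩
          exact ((show Commute x (g ^ q) from (Subgroup.mem_centralizer_iff.1 hgq x hx)).zpow_right i).symm.eq
        · rintro _ ⟨i, rfl⟩
          exact (((Commute.refl g).pow_left q).zpow_left i).eq
      refine hgC (Subgroup.mem_centralizer_iff.2 fun x hx => (hstab x hx ?_).symm.eq)
      obtain ⟨i, hi⟩ := hdisp (Subgroup.zpowers (g ^ q)) (by simpa using hne) x hx
      rw [← hi]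
      exact ((Commute.refl g).pow_right q).zpow_right i
    have hgord : orderOf g = q := orderOf_eq_prime (hp := ⟨hq⟩) hgq1 hg1
    have hqp : q.Coprime p := hgord ▸ hgo
    -- proper `g`-invariant subgroups of `Q` are centralised
    have hcent : ∀ Z : Subgroup G, [Z.Normal] → Z ≤ Q → Z ≠ Q → ∀ z ∈ Z, Commute g z := by
      intro Z _ hZ hne z hz
      set S := Z ⊔ Subgroup.zpowers g
      have hS : S ≠ ⊤ := by
        intro hS
        refine hne (le_antisymm hZ fun x hx => ?_)
        obtain ⟨a, ha, b, hb, rfl⟩ : x ∈ (Z : Set G) * (Subgroup.zpowers g : Set G) := by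
          rw [← Subgroup.normal_mul, SetLike.mem_coe, show Z ⊔ Subgroup.zpowers g = ⊤ from hS]; trivial
        have hbQ : b ∈ Q := by
          have := mul_mem (inv_mem (hZ ha)) hx
          simpa using this
        have : b = 1 := hQcop b hbQ (by
          refine Nat.Coprime.coprime_dvd_left ?_ hgo
          obtain ⟨i, rfl⟩ := hb
          exact orderOf_dvd_of_pow_eq_one (by rw [← zpow_natCast, ← zpow_mul, mul_comm, zpow_mul, zpow_natCast, pow_orderOf_eq_one, one_zpow]))
        show a * b ∈ Z
        rw [this, mul_one]; exact ha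
      have hgS : g ∈ S := (le_sup_right : _ ≤ S) (Subgroup.mem_zpowers g)
      have h1 : (⟨g, hgS⟩ : S) ∈ Subgroup.centralizer ((Z.subgroupOf S : Subgroup S) : Set S) := by
        refine H5.frobenius_of_hasNormalPComplement (hsub S hS)
          ((hQ.to_le hZ).of_equiv (Subgroup.subgroupOfEquivOfLe (le_sup_left : Z ≤ S)).symm) ?_ ?_
        · rw [Subgroup.normalizer_eq_top_iff.2 inferInstance]; trivial
        · rwa [← Subgroup.orderOf_coe]
      exact (congrArg Subtype.val
        (Subgroup.mem_centralizer_iff.1 h1 ⟨z, (le_sup_left : Z ≤ S) hz⟩ hz)).symm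
    haveI hQchar : (Q ⊓ Subgroup.centralizer (Q : Set G)).Normal := inferInstance
    -- `Q` is abelian
    have hQab : ∀ a ∈ Q, ∀ b ∈ Q, a * b = b * a := by
      intro a ha b hb
      set Z := Q ⊓ Subgroup.centralizer (Q : Set G) with hZ
      by_cases hZQ : Z = Q
      · exact Subgroup.mem_centralizer_iff.1 ((hZQ ▸ hb : b ∈ Z)).2 a ha
      exfalso
      haveI : Nontrivial Q := by
        rw [Subgroup.nontrivial_iff_ne_bot]
        rintro rfl
        exact hgC (Subgroup.mem_centralizer_iff.2 fun x hx => by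
          rw [show x = 1 from hx]; simp)
      have hZne : Z ≠ ⊥ := by
        intro h
        have hc : Subgroup.center Q = ⊥ := by
          rw [Subgroup.eq_bot_iff_forall]
          intro z hz
          have : (z : G) ∈ Z := ⟨z.2, Subgroup.mem_centralizer_iff.2 fun x hx =>
            congrArg Subtype.val (Subgroup.mem_center_iff.1 hz ⟨x, hx⟩)⟩
          rw [h, Subgroup.mem_bot] at this
          exact Subtype.ext this
        have := hQ.center_nontrivial
        rw [hc] at this
        exact false_of_nontrivial_of_subsingleton (⊥ : Subgroup Q)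
      exact hgC (Subgroup.mem_centralizer_iff.2 fun x hx =>
        (hstab x hx (hcent Z inf_le_left hZQ _ (hdisp Z hZne x hx))).symm.eq)
    -- `g` acts without fixed points
    have hfix : ∀ x ∈ Q, Commute g x → x = 1 := by
      intro x hx hgx
      set C := Q ⊓ Subgroup.centralizer ({g} : Set G) with hC
      haveI : C.Normal := by
        rw [← Subgroup.normalizer_eq_top_iff, eq_top_iff, ← htop, sup_le_iff]
        constructor
        · exact fun a ha => Subgroup.centralizer_le_normalizer _ (Subgroup.mem_centralizer_iff.2 fun b hb => hQab b hb.1 a ha)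
        · refine Subgroup.zpowers_le.2 (Subgroup.centralizer_le_normalizer _ (Subgroup.mem_centralizer_iff.2 fun b hb => ?_))
          exact Subgroup.mem_centralizer_singleton_iff.1 hb.2
      by_cases hCb : C = ⊥
      · have : x ∈ C := ⟨hx, Subgroup.mem_centralizer_singleton_iff.2 hgx.symm.eq⟩
        rwa [hCb, Subgroup.mem_bot] at this
      · exfalso
        refine hgC (Subgroup.mem_centralizer_iff.2 fun y hy => (hstab y hy ?_).symm.eq)
        exact (show Commute _ g from Subgroup.mem_centralizer_singleton_iff.1 (hdisp C hCb y hy).2).symm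
    -- `O_{p'}(G) = 1`
    have hO : Cfsg.pPrimeCore p G = ⊥ := by
      by_contra hO
      haveI := H1.pPrimeCore_normal' p G
      refine hgC (Subgroup.mem_centralizer_iff.2 fun x hx => ?_)
      have h1 := hdisp _ hO x hx
      have h2 : x⁻¹ * (g * x * g⁻¹) = 1 := hQcop _ (mul_mem (inv_mem hx) (hQn.conj_mem x hx g)) <|
        (H1.card_pPrimeCore_coprime p G).coprime_dvd_left (Subgroup.orderOf_dvd_natCard _ h1)
      rw [inv_mul_eq_one] at h2
      calc x * g = g * x * g⁻¹ * g := by rw [← h2]
        _ = g * x := by group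
    let etop : (⊤ : Subgroup G) →* G := Subgroup.subtype ⊤
    obtain ⟨k, hk⟩ := hG ⊤ G etop (fun x => ⟨⟨x, trivial⟩, rfl⟩) hO
    obtain ⟨x, hxQ, hx1⟩ : ∃ x ∈ Q, x ≠ 1 := by
      by_contra h
      push Not at h
      exact hgC (Subgroup.mem_centralizer_iff.2 fun x hx => by rw [h x hx]; simp)
    have hpe : p ∣ orderOf k := by
      obtain ⟨a, ha⟩ := IsPGroup.iff_orderOf.1 hQ ⟨x, hxQ⟩
      rw [← Subgroup.orderOf_coe] at ha
      rcases a with _ | a
      · exact absurd (orderOf_eq_one_iff.1 (by simpa using ha)) hx1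
      · exact hk ▸ (dvd_pow_self p a.succ_ne_zero).trans (ha ▸ Monoid.order_dvd_exponent x)
    have hqe : q ∣ orderOf k := hk ▸ hgord ▸ Monoid.order_dvd_exponent g
    set u := k ^ (orderOf k / p) with hu
    set y := k ^ (orderOf k / q) with hy
    have hou : orderOf u = p := orderOf_pow_orderOf_div (orderOf_pos k).ne' hpe
    have hoy : orderOf y = q := orderOf_pow_orderOf_div (orderOf_pos k).ne' hqe
    have hdecomp : ∀ t : G, ∃ a ∈ Q, ∃ i : ℤ, t = a * g ^ i := fun t => by
      obtain ⟨a, ha, b, ⟨i, rfl⟩, he⟩ : t ∈ (Q : Set G) * (Subgroup.zpowers g : Set G) := by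
        rw [← Subgroup.normal_mul, SetLike.mem_coe, htop]; trivial
      exact ⟨a, ha, i, he.symm⟩
    have huQ : u ∈ Q := by
      rw [← QuotientGroup.eq_one_iff, ← orderOf_eq_one_iff]
      refine Nat.eq_one_of_dvd_coprimes hqp.symm ?_ ?_
      · rw [← hou]; exact orderOf_map_dvd (QuotientGroup.mk' Q) u
      · obtain ⟨a, ha, i, he⟩ := hdecomp u
        refine orderOf_dvd_of_pow_eq_one ?_
        rw [he, QuotientGroup.mk_mul, (QuotientGroup.eq_one_iff _).2 ha, one_mul, ← QuotientGroup.mk_pow,
          ← zpow_natCast, ← zpow_mul, mul_comm, zpow_mul, zpow_natCast, hgq1, one_zpow]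
        rfl
    have hu1 : u ≠ 1 := fun h => by rw [h, orderOf_one] at hou; exact hp.one_lt.ne hou
    refine hu1 (hfix u huQ ?_)
    obtain ⟨a, ha, i, he⟩ := hdecomp y
    have hcomm : Commute u (g ^ i) := by
      have h1 : Commute u y := (Commute.refl k).pow_pow _ _
      have h2 : Commute u a := hQab u huQ a ha
      have : g ^ i = a⁻¹ * y := by rw [he]; group
      rw [this]; exact h2.inv_right.mul_right h1
    have hdvd : ¬ (q : ℤ) ∣ i := by
      rintro ⟨j, rfl⟩
      rw [zpow_mul, zpow_natCast, hgq1, one_zpow, mul_one] at he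
      have := hQcop y (he ▸ ha) (hoy ▸ hqp)
      rw [this, orderOf_one] at hoy
      exact hq.one_lt.ne hoy
    obtain ⟨s, t, hst⟩ : IsCoprime i (q : ℤ) :=
      ((Prime.coprime_iff_not_dvd (Nat.prime_iff_prime_int.1 hq)).2 hdvd).symm
    have : g = (g ^ i) ^ s := by
      rw [← zpow_mul]
      calc g = g ^ (s * i + t * q) := by rw [hst, zpow_one]
        _ = g ^ (i * s) := by rw [zpow_add, mul_comm t, zpow_mul g (q : ℤ), zpow_natCast, hgq1, one_zpow, mul_one, mul_comm]
    rw [this]
    exact (hcomm.zpow_right s).symm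

theorem iff_attains {G : Type u} [Group G] [Finite G] (p : ℕ) [Fact p.Prime] :
    Cfsg.HasNormalPComplement p G ↔
      ∀ (H : Subgroup G) (N : Subgroup H) [N.Normal], Cfsg.pPrimeCore p (H ⧸ N) = ⊥ →
        ∃ k : H ⧸ N, orderOf k = Monoid.exponent (H ⧸ N) := by
  constructor
  · intro h H N _ hO
    have h1 := H5.hasNormalPComplement_of_surjective (p := p) (QuotientGroup.mk' N)
      (QuotientGroup.mk'_surjective N) (H5.hasNormalPComplement_subgroup H h)
    refine exists_orderOf_eq_exponent (p := p) ?_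
    have h2 : Cfsg.pResidual p (H ⧸ N) = ⊥ := by
      rw [← le_bot_iff, ← hO]
      refine H1.le_pPrimeCore ?_
      exact ((Fact.out : p.Prime).coprime_iff_not_dvd.2 (H5.hasNormalPComplement_iff_not_dvd.1 h1)).symm
    intro x
    obtain ⟨k, hk⟩ := H5.exists_pow_prime_pow_coprime (p := p) x
    exact ⟨k, by simpa [h2] using H5.mem_pResidual_of_coprime hk⟩
  · intro h
    refine hasNormalPComplement_of_attains p _ G le_rfl ?_
    intro H K _ f hf hK
    let e : H ⧸ f.ker ≃* K := QuotientGroup.quotientKerEquivOfSurjective f hf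
    have hK' : Cfsg.pPrimeCore p (H ⧸ f.ker) = ⊥ := by
      refine Subgroup.map_injective (f := (e : (H ⧸ f.ker) →* K)) e.injective ?_
      rw [H1.map_pPrimeCore_equiv, hK, Subgroup.map_bot]
    obtain ⟨k, hk⟩ := h H f.ker hK'
    exact ⟨e k, by rw [e.orderOf_eq, hk, Monoid.exponent_eq_of_mulEquiv e]⟩

end H34.SecExp
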