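import Mathlib
import Cfsg.Prelude.Def_Solvable
import Cfsg.Agent.H1.Cores

set_option autoImplicit false

/-! The semilinear affine group of the field with nine elements, of order 144. -/

namespace H34.AGL9

abbrev C8 := Multiplicative (ZMod 8)
abbrev C2 := Multiplicative (ZMod 2)
abbrev V := Multiplicative (ZMod 3 × ZMod 3)

/-- `k ↦ 3 ^ e · k`. -/
def tw (e : C2) (k : C8) : C8 := if e = 1 then k else k * k * k

theorem tw_tw : ∀ e k, tw e (tw e k) = k := by decide
theorem tw_mul : ∀ e k l, tw e (k * l) = tw e k * tw e l := by decide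
theorem tw_hom : ∀ e f k, tw (e * f) k = tw e (tw f k) := by decide

def twAut (e : C2) : MulAut C8 :=
  { toFun := tw e, invFun := tw e, left_inv := tw_tw e, right_inv := tw_tw e, map_mul' := tw_mul e }

def psi : C2 →* MulAut C8 where
  toFun := twAut
  map_one' := by ext1 k; rfl
  map_mul' e f := by ext1 k; exact tw_hom e f k

abbrev H := C8 ⋊[psi] C2

/-- Multiplication by a generator of the field. -/
def sMul (v : V) : V := .ofAdd ((v.toAdd.2, v.toAdd.1 + v.toAdd.2))

/-- The field automorphism. -/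
def frob (v : V) : V := .ofAdd ((v.toAdd.1 + v.toAdd.2, -v.toAdd.2))

def act (k : C8) (e : C2) (v : V) : V := sMul^[k.toAdd.val] (if e = 1 then v else frob v)

theorem act_one' : ∀ v, act 1 1 v = v := by decide
theorem act_mul : ∀ k e v w, act k e (v * w) = act k e v * act k e w := by decide
theorem act_act : ∀ k e l f v, act (k * tw e l) (e * f) v = act k e (act l f v) := by decide

def actAut (h : H) : MulAut V :=
  { toFun := act h.left h.right
    invFun := act (h⁻¹).left (h⁻¹).right
    left_inv := fun v => by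
      rw [← act_act]
      show act (h⁻¹ * h).left (h⁻¹ * h).right v = v
      rw [inv_mul_cancel]; exact act_one' v
    right_inv := fun v => by
      rw [← act_act]
      show act (h * h⁻¹).left (h * h⁻¹).right v = v
      rw [mul_inv_cancel]; exact act_one' v
    map_mul' := act_mul h.left h.right }

def phi : H →* MulAut V where
  toFun := actAut
  map_one' := by ext1 v; exact act_one' v
  map_mul' g h := by ext1 v; exact act_act g.left g.right h.left h.right v

abbrev G := V ⋊[phi] H

/-- The involution. -/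
def inv0 : G := ⟨1, ⟨1, .ofAdd 1⟩⟩

theorem inv0_sq : inv0 * inv0 = 1 := by decide

theorem key : ∀ v k e, ∃ v' k' e',
    ((⟨v', ⟨k', e'⟩⟩ : G) * ⟨v, ⟨k, e⟩⟩ * (⟨v', ⟨k', e'⟩⟩ : G)⁻¹).left = 1 ∨
    (⟨v', ⟨k', e'⟩⟩ : G) * ⟨v, ⟨k, e⟩⟩ * (⟨v', ⟨k', e'⟩⟩ : G)⁻¹ * inv0 =
      inv0 * ((⟨v', ⟨k', e'⟩⟩ : G) * ⟨v, ⟨k, e⟩⟩ * (⟨v', ⟨k', e'⟩⟩ : G)⁻¹) := by
  decide

instance instFiniteH : Finite H := Finite.of_equiv _ SemidirectProduct.equivProd.symm

instance instFiniteG : Finite G := Finite.of_equiv _ SemidirectProduct.equivProd.symm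

theorem isPGroup_H : IsPGroup 2 H := by
  haveI : Fact (Nat.Prime 2) := ⟨Nat.prime_two⟩
  refine IsPGroup.of_card (n := 4) ?_
  rw [SemidirectProduct.card]; simp

instance instSolvableG : Group.IsSolvable G := by
  haveI : Fact (Nat.Prime 2) := ⟨Nat.prime_two⟩
  haveI : Group.IsNilpotent H := isPGroup_H.isNilpotent
  exact Group.isSolvable_of_ker_le_range (SemidirectProduct.inl : V →* G) SemidirectProduct.rightHom
    (by rw [← SemidirectProduct.range_inl_eq_ker_rightHom])

theorem example_two :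
    ∃ (G : Type) (_ : Group G) (_ : Finite G) (A : Subgroup G), Group.IsSolvable G ∧ Nat.card A = 2 ∧
      (∀ c : G, ∃ g : G, IsConj c g ∧ (A.subgroupOf (A ⊔ Subgroup.zpowers g)).IsSubnormal) ∧
      ¬ A ≤ Cfsg.pCore 2 G := by
  haveI : Fact (Nat.Prime 2) := ⟨Nat.prime_two⟩
  refine ⟨G, inferInstance, inferInstance, Subgroup.zpowers inv0, inferInstance, ?_, fun c => ?_, ?_⟩
  · rw [Nat.card_zpowers]
    exact orderOf_eq_prime (by rw [pow_two]; exact inv0_sq) (by decide)
  · obtain ⟨v', k', e', h⟩ := key c.left c.right.left c.right.right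
    set y : G := ⟨v', ⟨k', e'⟩⟩
    refine ⟨y * c * y⁻¹, isConj_iff.2 ⟨y, rfl⟩, ?_⟩
    rcases h with h | h
    · -- both lie in the complement, a 2-group
      have hle : Subgroup.zpowers inv0 ⊔ Subgroup.zpowers (y * c * y⁻¹) ≤
          (SemidirectProduct.inr : H →* G).range := by
        rw [sup_le_iff, Subgroup.zpowers_le, Subgroup.zpowers_le]
        refine ⟨⟨⟨1, .ofAdd 1⟩, rfl⟩, ⟨(y * c * y⁻¹).right, ?_⟩⟩
        refine SemidirectProduct.ext ?_ rfl
        exact (show (y * c * y⁻¹).left = 1 from h).symm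
      have hP := ((isPGroup_H.to_subgroup ⊤).map (SemidirectProduct.inr : H →* G)).to_le
        (hle.trans (le_of_eq (MonoidHom.range_eq_map _)))
      haveI := hP.isNilpotent
      -- subgroups of a finite nilpotent group are subnormal
      generalize Subgroup.subgroupOf (Subgroup.zpowers inv0) _ = B
      induction B using WellFoundedGT.induction with
      | _ B ih =>
        rcases eq_or_ne B ⊤ with rfl | hB
        · exact Subgroup.IsSubnormal.top
        · have hlt := Group.normalizerCondition_of_isNilpotent B (lt_top_iff_ne_top.2 hB)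
          exact Subgroup.IsSubnormal.step B _ hlt.le (ih _ hlt) Subgroup.normal_in_normalizer
    · refine Subgroup.Normal.isSubnormal ((Subgroup.normal_subgroupOf_iff_le_normalizer le_sup_left).2 ?_)
      rw [sup_le_iff]
      refine ⟨Subgroup.le_normalizer, Subgroup.zpowers_le.2 ?_⟩
      refine Subgroup.centralizer_le_normalizer _ (Subgroup.mem_centralizer_iff.2 ?_)
      intro z hz
      obtain ⟨i, rfl⟩ := hz
      exact (((show Commute inv0 (y * c * y⁻¹) from
        (show (y * c * y⁻¹) * inv0 = inv0 * (y * c * y⁻¹) from h).symm)).zpow_left i).eq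
  · intro hle
    set v : G := ⟨.ofAdd (0, 1), 1⟩
    have ha := hle (Subgroup.mem_zpowers inv0)
    have hb := (H1.pCore_normal' 2 G).conj_mem _ ha v
    obtain ⟨n, hn⟩ := H1.isPGroup_pCore 2 G ⟨_, mul_mem ha hb⟩
    have h3 : (inv0 * (v * inv0 * v⁻¹)) ^ 3 = 1 := by decide
    have hne : inv0 * (v * inv0 * v⁻¹) ≠ 1 := by decide
    refine hne ?_
    have hn' : (inv0 * (v * inv0 * v⁻¹)) ^ (2 ^ n) = 1 := congrArg Subtype.val hn
    rw [← orderOf_eq_one_iff]
    exact Nat.eq_one_of_dvd_coprimes (Nat.Coprime.pow_right n (by decide : Nat.Coprime 3 2))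
      (orderOf_dvd_of_pow_eq_one h3) (orderOf_dvd_of_pow_eq_one hn')

end H34.AGL9
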