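import Mathlib

/-!
A finite `p`-group, `p` odd, acting on a finite set has a subset whose setwise stabiliser fixes
every point.
-/

set_option autoImplicit false

namespace H34

open MulAction

universe u v

private theorem setStab_aux {p : ℕ} [Fact p.Prime] (hp : p ≠ 2) :
    ∀ (n : ℕ) (G : Type u) [Group G] [Finite G], IsPGroup p G →
      ∀ (X : Type v) [MulAction G X] [Finite X], Nat.card X = n →
        ∃ S : Set X, ∀ g : G, (∀ x, g • x ∈ S ↔ x ∈ S) → ∀ x : X, g • x = x := by
  intro n
  induction n using Nat.strong_induction_on with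
  | _ n ih =>
    intro G _ _ hG X _ _ hn
    classical
    -- proper invariant parts can be treated separately
    have part : ∀ (Y : Set X), Y ≠ Set.univ → ∀ K : Subgroup G, (∀ k ∈ K, ∀ y ∈ Y, k • y ∈ Y) →
        ∃ S : Set X, S ⊆ Y ∧ ∀ k ∈ K, (∀ y ∈ Y, k • y ∈ S ↔ y ∈ S) → ∀ y ∈ Y, k • y = y := by
      intro Y hY K hK
      let Ys : SubMulAction ↥K X := ⟨Y, fun k y hy => hK k k.2 y hy⟩
      obtain ⟨S, hS⟩ := ih (Nat.card ↥Ys) (hn ▸ lt_of_lt_of_eq
        (Set.ncard_lt_ncard (Set.ssubset_univ_iff.2 hY)) (Set.ncard_univ X))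
        ↥K (hG.to_subgroup K) ↥Ys rfl
      refine ⟨(fun y : ↥Ys => (y : X)) '' S, ?_, fun k hk hkS y hy => ?_⟩
      · rintro _ ⟨y, -, rfl⟩; exact y.2
      have h2 := hS ⟨k, hk⟩ (fun z => ?_) ⟨y, hy⟩
      · exact congrArg (fun z : ↥Ys => (z : X)) h2
      · have := hkS z z.2
        rw [show k • (z : X) = (((⟨k, hk⟩ : ↥K) • z : ↥Ys) : X) from rfl] at this
        have hinj : Function.Injective (fun y : ↥Ys => (y : X)) := fun a b h => Subtype.ext h
        exact (hinj.mem_set_image (s := S)).symm.trans (this.trans hinj.mem_set_image)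
    by_cases htr : ∀ x y : X, ∃ g : G, g • x = y
    swap
    · push Not at htr
      obtain ⟨x₀, y₀, hxy⟩ := htr
      set Y : Set X := orbit G x₀ with hYdef
      have hY : ∀ (g : G) (y : X), g • y ∈ Y ↔ y ∈ Y := fun g y => by
        constructor
        · intro h; simpa using mem_orbit_of_mem_orbit g⁻¹ h
        · exact fun h => mem_orbit_of_mem_orbit g h
      have hyY : y₀ ∉ Y := fun ⟨g, hg⟩ => hxy g hg
      obtain ⟨S1, hS1Y, hS1⟩ := part Y (fun h => hyY (h ▸ Set.mem_univ _)) ⊤ fun k _ y hy => (hY k y).2 hy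
      obtain ⟨S2, hS2Y, hS2⟩ := part Yᶜ
        (fun h => (h.symm.subset (Set.mem_univ x₀)) (mem_orbit_self x₀)) ⊤
        fun k _ y hy => fun h => hy ((hY k y).1 h)
      refine ⟨S1 ∪ S2, fun g hg x => ?_⟩
      by_cases hx : x ∈ Y
      · refine hS1 g trivial (fun y hy => ?_) x hx
        have hgy := (hY g y).2 hy
        exact ⟨fun h => ((hg y).1 (Or.inl h)).resolve_right fun h' => hS2Y h' hy,
          fun h => ((hg y).2 (Or.inl h)).resolve_right fun h' => hS2Y h' hgy⟩
      · refine hS2 g trivial (fun y hy => ?_) x hx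
        have hgy : g • y ∈ Yᶜ := fun h => hy ((hY g y).1 h)
        exact ⟨fun h => ((hg y).1 (Or.inr h)).resolve_left fun h' => hy (hS1Y h'),
          fun h => ((hg y).2 (Or.inr h)).resolve_left fun h' => hgy (hS1Y h')⟩
    -- transitive case
    by_cases hfix : ∀ (g : G) (x : X), g • x = x
    · exact ⟨∅, fun g _ x => hfix g x⟩
    push Not at hfix
    obtain ⟨g₀, x₀, hgx⟩ := hfix
    have hne : stabilizer G x₀ ≠ ⊤ := fun h =>
      hgx (mem_stabilizer_iff.1 (h ▸ Subgroup.mem_top g₀))
    obtain h | ⟨H, hH, hle⟩ := eq_top_or_exists_le_coatom (stabilizer G x₀)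
    · exact absurd h hne
    haveI : Group.IsNilpotent G := hG.isNilpotent
    haveI hHn : H.Normal :=
      Subgroup.NormalizerCondition.normal_of_coatom H Group.normalizerCondition_of_isNilpotent hH
    choose rep hrep using htr x₀
    -- the map to cosets of `H`
    set f : X → G ⧸ H := fun x => (rep x : G ⧸ H) with hf
    have hfg : ∀ (g : G) (x : X), f (g • x) = (g : G ⧸ H) * f x := by
      intro g x
      rw [hf]
      show (rep (g • x) : G ⧸ H) = ((g * rep x : G) : G ⧸ H)
      refine QuotientGroup.eq.2 (hle ?_)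
      rw [mem_stabilizer_iff, mul_smul, inv_smul_eq_iff, hrep, mul_smul, hrep]
    have hne' : ∀ c : G ⧸ H, {x | f x = c} ≠ Set.univ := by
      intro c hc
      obtain ⟨g, hg⟩ : ∃ g : G, g ∉ H := not_forall.1 fun h => hH.1 ((Subgroup.eq_top_iff' H).2 h)
      have h1 : f (g • x₀) = f x₀ := (hc.symm.subset (Set.mem_univ _)).trans (hc.symm.subset (Set.mem_univ _)).symm
      rw [hfg, mul_eq_right] at h1
      exact hg ((QuotientGroup.eq_one_iff g).1 h1)
    have hHinv : ∀ c : G ⧸ H, ∀ h ∈ H, ∀ y ∈ {x | f x = c}, h • y ∈ {x | f x = c} := by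
      intro c h hh y hy
      show f (h • y) = c
      rw [hfg, (QuotientGroup.eq_one_iff h).2 hh, one_mul]; exact hy
    choose T hTsub hT using fun c => part _ (hne' c) H (hHinv c)
    -- the fibres have a common odd size
    set m := {x | f x = f x₀}.ncard with hm
    have hmc : ∀ c, {x | f x = c}.ncard = m := by
      intro c
      obtain ⟨g, hg⟩ := QuotientGroup.mk_surjective (c * (f x₀)⁻¹)
      have : {x | f x = c} = (fun x => g • x) '' {x | f x = f x₀} := by
        ext x
        constructor
        · intro (hx : f x = c)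
          refine ⟨g⁻¹ • x, ?_, smul_inv_smul g x⟩
          show f (g⁻¹ • x) = f x₀
          rw [hfg, hx, QuotientGroup.mk_inv, hg]; group
        · rintro ⟨y, (hy : f y = f x₀), rfl⟩
          show f (g • y) = c
          rw [hfg, hy, hg, inv_mul_cancel_right]
      rw [this, Set.ncard_image_of_injective _ (MulAction.injective g)]
    have hodd : ¬ 2 ∣ m := by
      intro h2
      haveI := Fintype.ofFinite (G ⧸ H)
      haveI := Fintype.ofFinite X
      have hX : Nat.card X = Nat.card (G ⧸ H) * m := by
        rw [Nat.card_eq_fintype_card, ← Finset.card_univ,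
          Finset.card_eq_sum_card_fiberwise (f := f) (t := Finset.univ) (fun x _ => Finset.mem_univ _)]
        have : ∀ c, (Finset.univ.filter fun x => f x = c).card = m := fun c => by
          rw [← hmc c, Set.ncard_eq_toFinset_card']; congr 1; ext; simp
        simp [this, Nat.card_eq_fintype_card]
      obtain ⟨k, hk⟩ := hG.card_orbit x₀
      have horb : orbit G x₀ = Set.univ := Set.eq_univ_of_forall fun y => ⟨rep y, hrep y⟩
      rw [horb, Nat.card_coe_set_eq, Set.ncard_univ, hX] at hk
      exact hp ((Nat.prime_dvd_prime_iff_eq Nat.prime_two Fact.out).1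
        (Nat.prime_two.dvd_of_dvd_pow (hk ▸ h2.mul_left _))).symm
    set c₀ := f x₀
    set S' : G ⧸ H → Set X := fun c =>
      if ((T c).ncard * 2 < m) = (c = c₀) then T c else {x | f x = c} \ T c with hS'
    have hsmall : ∀ c, ((S' c).ncard * 2 < m) = (c = c₀) := by
      intro c
      simp only [hS']
      split_ifs with h
      · exact h
      · rw [Set.ncard_diff (hTsub c), hmc c]
        have h1 : (T c).ncard ≤ m := hmc c ▸ Set.ncard_le_ncard (hTsub c)
        by_cases hc : c = c₀ <;> simp only [hc, eq_iff_iff, iff_true, iff_false] at h ⊢ <;> omega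
    refine ⟨{x | x ∈ S' (f x)}, fun g hg => ?_⟩
    have hgH : g ∈ H := by
      rw [← QuotientGroup.eq_one_iff (N := H)]
      have himg : (fun x => g • x) '' S' c₀ = S' ((g : G ⧸ H) * c₀) := by
        have hsub : ∀ c, S' c ⊆ {x | f x = c} := fun c => by
          simp only [hS']; split_ifs
          · exact hTsub c
          · exact Set.diff_subset
        ext x
        constructor
        · rintro ⟨y, hy, rfl⟩
          have hfy : f y = c₀ := hsub c₀ hy
          have h1 := (hg y).2 (show y ∈ S' (f y) by rw [hfy]; exact hy)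
          change g • y ∈ S' (f (g • y)) at h1
          rwa [hfg, hfy] at h1
        · intro hx
          refine ⟨g⁻¹ • x, ?_, smul_inv_smul g x⟩
          have hfx : f x = _ := hsub _ hx
          have h1 := (hg (g⁻¹ • x)).1 (show g • g⁻¹ • x ∈ {x | x ∈ S' (f x)} by
            rw [smul_inv_smul]; show x ∈ S' (f x); rwa [hfx])
          change g⁻¹ • x ∈ S' (f (g⁻¹ • x)) at h1
          rwa [hfg, hfx, QuotientGroup.mk_inv, inv_mul_cancel_left] at h1
      have h0 : (S' c₀).ncard * 2 < m := (hsmall c₀).symm ▸ rfl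
      rw [← Set.ncard_image_of_injective (S' c₀) (MulAction.injective g), himg, hsmall, mul_eq_right] at h0
      exact h0
    intro x
    refine hT (f x) g hgH (fun y (hy : f y = f x) => ?_) x rfl
    have hgy : f (g • y) = f x := hHinv (f x) g hgH y hy
    have h1 := hg y
    change g • y ∈ S' (f (g • y)) ↔ y ∈ S' (f y) at h1
    rw [hgy, hy] at h1
    simp only [hS'] at h1
    split_ifs at h1 with h
    · exact h1
    · simpa [hy, hgy, not_iff_not] using h1

/-- A finite `p`-group, `p` odd, acting on a finite set: some subset is moved by every element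
that moves a point. -/
theorem exists_set_trivial_stab {G : Type u} [Group G] [Finite G] {p : ℕ} [Fact p.Prime] (hp : p ≠ 2)
    (hG : IsPGroup p G) (X : Type v) [MulAction G X] [Finite X] :
    ∃ S : Set X, ∀ g : G, (∀ x, g • x ∈ S ↔ x ∈ S) → ∀ x : X, g • x = x :=
  setStab_aux hp (Nat.card X) G hG X rfl

end H34
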