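import Cfsg.Agent.H53.StTorus
import Cfsg.Agent.H54.ChevBaseChange

/-!
The presented Chevalley group as a functor of the field.
-/

set_option autoImplicit false
set_option linter.unusedSectionVars false

open Cfsg.Lie
open scoped MatrixGroups

namespace H34.St

variable {D : ChevalleyDatum} {F K L : Type*} [Field F] [Field K] [Field L]

/-- The map of the free groups on the generators. -/
noncomputable def freeMap (f : F →+* K) : FreeGroup (Fin D.nroots × F) →* FreeGroup (Fin D.nroots × K) :=
  FreeGroup.map fun p => (p.1, f p.2)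

theorem freeMap_stX (f : F →+* K) (r : ℕ) (t : F) : freeMap f (D.stX r t) = D.stX r (f t) := by
  unfold ChevalleyDatum.stX
  split
  · rw [freeMap, FreeGroup.map.of]
  · rw [map_one]

theorem freeMap_stWord (f : F →+* K) (w : List (ℕ × F)) :
    freeMap f (D.stWord w) = D.stWord (w.map fun p => (p.1, f p.2)) := by
  simp [ChevalleyDatum.stWord, map_list_prod, List.map_map, Function.comp_def, freeMap_stX]

theorem freeMap_rel (f : F →+* K) {x : FreeGroup (Fin D.nroots × F)} (hx : x ∈ D.steinbergRels F) :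
    freeMap f x ∈ D.steinbergRels K := by
  rcases hx with (⟨r, t, u, hr, rfl⟩ | ⟨r, s, t, u, hr, hs, h1, h2, rfl⟩) | ⟨r, t, u, hr, ht, hu, rfl⟩
  · exact Or.inl (Or.inl ⟨r, f t, f u, hr, by simp [freeMap_stX]⟩)
  · refine Or.inl (Or.inr ⟨r, s, f t, f u, hr, hs, h1, h2, ?_⟩)
    simp [freeMap_stX, freeMap_stWord, ChevalleyDatum.commWord, List.map_map, Function.comp_def]
  · refine Or.inr ⟨r, f t, f u, hr, (map_ne_zero f).2 ht, (map_ne_zero f).2 hu, ?_⟩
    simp [ChevalleyDatum.stH, freeMap_stWord, ChevalleyDatum.hWord, ChevalleyDatum.nWord]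

/-- The map of the presented groups. -/
noncomputable def stMap (f : F →+* K) : D.SteinbergGroup F →* D.SteinbergGroup K :=
  PresentedGroup.toGroup (rels := D.steinbergRels F)
    (f := fun p => PresentedGroup.mk (D.steinbergRels K) (FreeGroup.of (p.1, f p.2))) fun x hx => by
      have he : FreeGroup.lift
          (fun p : Fin D.nroots × F => PresentedGroup.mk (D.steinbergRels K) (FreeGroup.of (p.1, f p.2))) =
          (PresentedGroup.mk (D.steinbergRels K)).comp (freeMap f) :=
        FreeGroup.ext_hom _ _ fun p => by simp [freeMap]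
      rw [he, MonoidHom.comp_apply]
      exact PresentedGroup.one_of_mem (freeMap_rel f hx)

theorem stMap_stGen (f : F →+* K) (r : ℕ) (t : F) : stMap f (D.stGen F r t) = D.stGen K r (f t) := by
  unfold ChevalleyDatum.stGen ChevalleyDatum.stX
  split
  · exact PresentedGroup.toGroup.of _
  · simp

theorem stMap_comp (f : F →+* K) (g : K →+* L) (x : D.SteinbergGroup F) :
    stMap g (stMap f x) = stMap (g.comp f) x := by
  have he : (stMap g).comp (stMap f) = stMap (D := D) (g.comp f) := by
    refine PresentedGroup.ext fun p => ?_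
    show stMap g (stMap f (PresentedGroup.of p)) = stMap (g.comp f) (PresentedGroup.of p)
    simp only [stMap, PresentedGroup.toGroup.of]
    exact PresentedGroup.toGroup.of _
  exact DFunLike.congr_fun he x

theorem theta_stMap (C : H54.Ctx D) (f : F →+* K) (θF : D.SteinbergGroup F →* GL D.Idx F)
    (hF : ∀ r < D.nroots, ∀ t, θF (D.stGen F r t) = H52.rt D r t) (θK : D.SteinbergGroup K →* GL D.Idx K)
    (hK : ∀ r < D.nroots, ∀ t, θK (D.stGen K r t) = H52.rt D r t) (x : D.SteinbergGroup F) :
    θK (stMap f x) = H54.glF D f (θF x) := by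
  have he : θK.comp (stMap f) = (H54.glF D f).comp θF := by
    refine PresentedGroup.ext fun p => ?_
    have hp : (PresentedGroup.of p : D.SteinbergGroup F) = D.stGen F p.1.val p.2 := by
      rw [ChevalleyDatum.stGen, ChevalleyDatum.stX, dif_pos p.1.isLt]; rfl
    rw [MonoidHom.comp_apply, MonoidHom.comp_apply, hp, stMap_stGen, hF _ p.1.isLt, hK _ p.1.isLt,
      C.glF_rt]
  exact DFunLike.congr_fun he x

theorem stMap_stTorus (C : H54.Ctx D) (hP : H53.HasPairs D) (f : F →+* K) (c : Fin D.rank → Fˣ) :
    stMap f (H53.stTorus C.hC C.W hP c) =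
      H53.stTorus C.hC C.W hP fun i => Units.map f.toMonoidHom (c i) := by
  let φ : (Fin D.rank → Fˣ) →* (Fin D.rank → Kˣ) :=
    MonoidHom.pi fun i => (Units.map f.toMonoidHom).comp (Pi.evalMonoidHom _ i)
  refine DFunLike.congr_fun (MonoidHom.pi_ext (M := fun _ : Fin D.rank => Fˣ)
    (f := (stMap f).comp (H53.stTorus C.hC C.W hP)) (g := (H53.stTorus C.hC C.W hP).comp φ)
    fun i t => ?_) c
  have hφ : φ (Pi.mulSingle i t) = Pi.mulSingle i (Units.map f.toMonoidHom t) := by
    funext j
    show Units.map f.toMonoidHom ((Pi.mulSingle i t : Fin D.rank → Fˣ) j) = _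
    rcases eq_or_ne j i with rfl | h
    · rw [Pi.mulSingle_eq_same, Pi.mulSingle_eq_same]
    · rw [Pi.mulSingle_eq_of_ne h, Pi.mulSingle_eq_of_ne h, map_one]
  rw [MonoidHom.comp_apply, MonoidHom.comp_apply, hφ, H53.stTorus_single, H53.stTorus_single,
    H53.stH1_apply, H53.stH1_apply, H53.hom_stHEl C.hC C.W (stMap f)]
  refine Eq.trans ?_ (H53.hom_stHEl C.hC C.W (MonoidHom.id _) i _).symm
  simp [stMap_stGen]

end H34.St
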