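import Cfsg.Agent.H34.QuadChain
import Cfsg.Agent.H85.LocalSystems
import Cfsg.Agent.H85.Systems
import Cfsg.Agent.H85.Centric
import Cfsg.Agent.H88.AutBasics

/-!
A saturated fusion system is generated by the centralizer system of `℧¹(Z(S))` and the normalizer
system of `J(S)`.
-/

set_option autoImplicit false

open Cfsg Cfsg.FusionSystem

namespace H34

variable {Ω : Type*} [Group Ω] {S : Subgroup Ω} {p : ℕ}

/-- An automorphism of the system on `Q ≥ X` preserving `X` is a map of `N_F(X)`. -/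
theorem mem_normalizerHom_of_invariant {F : FusionSystem S} {Q X : Subgroup Ω} [Finite X]
    (hXQ : X ≤ Q) (hQN : Q ≤ normalizerIn S X) {α : MulAut Q} (hα : α ∈ F.autGroup Q)
    (hX : ∀ x : Q, (x : Ω) ∈ X → ((α x : Q) : Ω) ∈ X) :
    Q.subtype.comp α.toMonoidHom ∈ F.normalizerHom X Q := by
  have hQS : Q ≤ S := hQN.trans inf_le_left
  have hα' := (H85.mem_autGroup hQS).1 hα
  have hψ := H85.restrict hα' (sup_le le_rfl hXQ)
  refine H85.mem_normalizerHom.2 ⟨hα', hQN, fun x => hQN (α x).2, _, hψ, fun x => rfl, ?_⟩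
  refine Subgroup.eq_of_le_of_card_ge ?_ (le_of_eq ?_)
  · rintro _ ⟨⟨x, hx⟩, hxX, rfl⟩
    exact hX _ hxX
  · rw [show H85.img _ X = (X.subgroupOf (Q ⊔ X)).map _ from rfl,
      Subgroup.card_map_of_injective (F.injective_of_mem hψ),
      Nat.card_congr (Subgroup.subgroupOfEquivOfLe (le_sup_right : X ≤ Q ⊔ X)).toEquiv]

/-- The common maps of a subsystem over `T` and of a system over `S`. -/
def interSystem {T : Subgroup Ω} (D : FusionSystem T) (E : FusionSystem S) (hT : T ≤ S) :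
    FusionSystem T where
  Hom P := D.Hom P ∩ E.Hom P
  le_of_mem h := D.le_of_mem h.1
  injective_of_mem h := D.injective_of_mem h.1
  conj_mem hP hg := ⟨D.conj_mem hP hg, E.conj_mem (hP.trans hT) (hT hg)⟩
  comp_mem hφ hψ h := ⟨D.comp_mem hφ.1 hψ.1 h, E.comp_mem hφ.2 hψ.2 h⟩
  inv_mem {P φ} hφ := by
    obtain ⟨ψ, hψ, hψx⟩ := D.inv_mem hφ.1
    obtain ⟨ψ', hψ', hψx'⟩ := E.inv_mem hφ.2
    refine ⟨ψ, ⟨hψ, H85.hom_congr hψ' ?_⟩, hψx⟩
    rintro ⟨_, x, rfl⟩
    exact (hψx' x).trans (hψx x).symm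

/-- `F = ⟨C_F(℧¹(Z(S))), N_F(J(S))⟩`. -/
theorem le_of_centralizer_normalizer [Finite S] [Fact p.Prime] (hS : IsPGroup p S)
    {F E : FusionSystem S} (hF : F.IsSaturated p)
    (hCE : ∀ P, F.centralizerHom (powerClosure p 1 (S ⊓ Subgroup.centralizer (S : Set Ω))) P ⊆ E.Hom P)
    (hNE : ∀ P, F.normalizerHom (thompsonSubgroupAOf S) P ⊆ E.Hom P) : F ≤ E := by
  set Z₀ := S ⊓ Subgroup.centralizer (S : Set Ω) with hZ₀
  set V := powerClosure p 1 Z₀ with hV
  have hVZ : V ≤ Z₀ := (Subgroup.closure_le _).2 fun y ⟨_, hx, hy⟩ => hy ▸ pow_mem hx _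
  refine H88.le_of_step hS hF (fun α hα => ?_) fun R hR hRn hbig => ?_
  · haveI : Finite ↥(thompsonSubgroupAOf S) := H85.finite_of_le (H74.JA.JA_le S)
    refine (H85.mem_autGroup le_rfl).2 (hNE S (mem_normalizerHom_of_invariant (H74.JA.JA_le S)
      (le_inf le_rfl (Subgroup.le_normalizer.trans (H74.JA.normalizer_le_normalizer_JA S))) hα
      fun x hx => (mem_JA_equiv α x).2 hx))
  haveI : Finite R := H85.finite_of_le hR.le
  haveI : Finite (MulAut R) := Finite.of_injective _ DFunLike.coe_injective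
  have hbig' : ∀ T : Subgroup Ω, R < T → F.Hom T ⊆ E.Hom T := fun T hT ψ hψ => by
    haveI : Finite T := H85.finite_of_le (H85.source_le hψ)
    exact hbig T (H88.card_lt_card_of_lt_sub hT) hψ
  by_cases hCR : centralizerIn S R ≤ R
  swap
  · obtain ⟨g, hgC, hgR⟩ := SetLike.not_le_iff_exists.1 hCR
    exact H88.autGroup_le_of_pSubgroup hS hF hRn hbig' ⊥ IsPGroup.of_bot
      (H85.centralizerIn_le_normalizerIn R hgC) hgR
      ⟨1, one_mem _, fun x => by
        show (x : Ω) = g * (x : Ω) * g⁻¹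
        rw [← Subgroup.mem_centralizer_iff.1 hgC.2 x x.2, mul_inv_cancel_right]⟩
  have hRc : F.IsCentric R :=
    H85.centric_of_fullyCentralized hS hF (H85.fullyCentralized_of_fullyNormalized hS hF hRn) hCR
  set X := thompsonSubgroupAOf R with hXdef
  have hXR : X ≤ R := H74.JA.JA_le R
  haveI : Finite X := H85.finite_of_le (hXR.trans hR.le)
  have hNX : normalizerIn S R ≤ normalizerIn S X :=
    inf_le_inf le_rfl (H74.JA.normalizer_le_normalizer_JA R)
  let K₂ : Subgroup (F.autGroup R) :=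
    { carrier := {α | ∀ x : R, (x : Ω) ∈ X → (α : MulAut R) x = x}
      one_mem' := fun x _ => rfl
      mul_mem' := fun {a b} ha hb x hx => by
        show (a : MulAut R) ((b : MulAut R) x) = x
        rw [hb x hx, ha x hx]
      inv_mem' := fun {a} ha x hx => by
        show (a : MulAut R)⁻¹ x = x
        conv_lhs => rw [← ha x hx]
        exact MulAut.inv_apply_self _ _ _ }
  haveI : K₂.Normal := ⟨fun a ha b x hx => by
    show (b : MulAut R) ((a : MulAut R) ((b : MulAut R)⁻¹ x)) = x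
    rw [ha _ ((mem_JA_equiv ((b : MulAut R)⁻¹) x).2 hx), MulAut.apply_inv_self]⟩
  have hK₂ : IsPGroup p K₂ := by
    obtain ⟨n, hn⟩ := IsPGroup.iff_card.1 (hS.to_le hR.le)
    intro α
    refine ⟨n, Subtype.ext (Subtype.ext (MulEquiv.ext fun r => ?_))⟩
    set c := r⁻¹ * ((α : F.autGroup R) : MulAut R) r with hc
    have hcX : (c : Ω) ∈ X := by
      refine mem_JA_of_commute c.2 fun y hy => ?_
      have hry : (r : Ω) * y * (r : Ω)⁻¹ ∈ X :=
        (Subgroup.mem_normalizer_iff.1 (H74.JA.normalizer_le_normalizer_JA R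
          (Subgroup.le_normalizer r.2)) y).1 hy
      have h1 := α.2 ⟨_, hXR hry⟩ hry
      have h2 := α.2 ⟨y, hXR hy⟩ hy
      have e1 : (⟨_, hXR hry⟩ : R) = r * ⟨y, hXR hy⟩ * r⁻¹ := rfl
      rw [e1, map_mul, map_mul, map_inv, h2] at h1
      have h3 : (⟨y, hXR hy⟩ : R) * c = c * ⟨y, hXR hy⟩ := by
        have := congrArg (fun t => r⁻¹ * t * ((α : F.autGroup R) : MulAut R) r) h1
        rw [hc]
        simpa [mul_assoc] using this.symm
      exact congrArg Subtype.val h3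
    have h := H88.aut_pow_apply_of_fixed ((α : F.autGroup R) : MulAut R) (y := r) (c := c)
      (by rw [hc, mul_inv_cancel_left]) (α.2 c hcX) (p ^ n)
    show (((α : F.autGroup R) : MulAut R) ^ p ^ n) r = r
    rw [h, ← hn, pow_card_eq_one', mul_one]
  by_cases h2a : ∃ g ∈ normalizerIn S R, g ∉ R ∧ ∀ x ∈ X, x * g = g * x
  · obtain ⟨g, hgN, hgR, hgX⟩ := h2a
    exact H88.autGroup_le_of_pSubgroup hS hF hRn hbig' K₂ hK₂ hgN hgR
      ⟨⟨H85.conjAut S R ⟨g, hgN⟩, H85.autInducedBy_le_autGroup F hR.le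
        (H85.conjAut_range S R ▸ ⟨_, rfl⟩)⟩, fun x hx => Subtype.ext (by
          show g * (x : Ω) * g⁻¹ = x
          rw [← hgX x hx, mul_inv_cancel_right]), fun x => rfl⟩
  push_neg at h2a
  obtain ⟨g₀, hg₀, hg₀R⟩ := H88.exists_mem_normalizerIn_not_mem hS hR
  have hRN : R < normalizerIn S X :=
    lt_of_le_of_ne ((H85.le_normalizerIn hR.le).trans hNX) fun h => hg₀R (h.ge (hNX hg₀))
  obtain ⟨X', hX', hX'n⟩ := H85.exists_fullyNormalized F (hXR.trans hR.le)
  obtain ⟨χ, hχ, hχN, hχX⟩ := H85.exists_map_to_fullyNormalized hS hF hX'n hX'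
  have hχE := hbig' _ hRN hχ
  set T' := normalizerIn S X' with hT'def
  haveI : Finite T' := H85.finite_of_le inf_le_left
  have hT' : IsPGroup p T' := hS.to_le inf_le_left
  haveI : Finite X' := H85.finite_of_le hX'n.1
  set R' := H85.img χ R with hR'def
  let e : R ≃* R' := H85.resIso χ (F.injective_of_mem hχ) hRN.le
  have heF : H85.IsFIso F e := H85.of_extend hχ hRN.le fun x => rfl
  have heE : H85.IsFIso E e := H85.of_extend hχE hRN.le fun x => rfl
  have hR'T : R' ≤ T' := fun y hy => by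
    obtain ⟨x, -, rfl⟩ := H85.mem_img.1 hy
    exact hχN x
  have hR'S : R' ≤ S := heF.right_le
  haveI : Finite R' := H85.finite_of_le hR'S
  have hJR' : thompsonSubgroupAOf R' = X' := by
    refine le_antisymm (fun y hy => ?_) (fun y hy => ?_)
    · obtain ⟨x, hx⟩ := e.surjective ⟨y, H74.JA.JA_le R' hy⟩
      have hy' : ((e x : R') : Ω) = y := congrArg Subtype.val hx
      rw [← hy'] at hy ⊢
      exact hχX.le (H85.apply_mem_img (x := Subgroup.inclusion hRN.le x) ((mem_JA_equiv e x).1 hy))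
    · obtain ⟨x, hx, rfl⟩ := H85.mem_img.1 (hχX.ge hy)
      exact (mem_JA_equiv e ⟨x, hXR hx⟩).2 hx
  have hX'R' : X' ≤ R' := hJR' ▸ H74.JA.JA_le R'
  have hR'c : centralizerIn S R' ≤ R' := H85.centric_self (H85.centric_of_isConj hRc heF.isConj)
  -- `C_S(X') ≤ X'`
  have hCX' : ∀ g ∈ S, (∀ x ∈ X', x * g = g * x) → g ∈ X' := by
    suffices h : centralizerIn S X' ≤ R' from fun g hg hc =>
      hJR' ▸ mem_JA_of_commute (h ⟨hg, Subgroup.mem_centralizer_iff.2 hc⟩) (hJR'.symm ▸ hc)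
    by_contra hnot
    have hCN : T' ≤ Subgroup.normalizer (centralizerIn S X' : Set Ω) := fun g hg => by
      haveI : Finite (centralizerIn S X') := H85.finite_of_le inf_le_left
      refine H85.mem_normalizer_of_conj fun c hc => ⟨S.mul_mem (S.mul_mem hg.1 hc.1) (S.inv_mem hg.1),
        Subgroup.mem_centralizer_iff.2 fun x hx => ?_⟩
      have hx' : g⁻¹ * x * g ∈ X' := (Subgroup.mem_normalizer_iff.1 hg.2 _).2 (by
        rw [show g * (g⁻¹ * x * g) * g⁻¹ = x by group]; exact hx)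
      have h2 := Subgroup.mem_centralizer_iff.1 hc.2 _ hx'
      calc x * (g * c * g⁻¹) = g * ((g⁻¹ * x * g) * c) * g⁻¹ := by group
        _ = _ := by rw [h2]; group
    obtain ⟨g, hgC, hgN, hgR'⟩ := H88.exists_mem_normalizer_normalized hT'
      (H85.centralizerIn_le_normalizerIn X') hCN hR'T hnot
    have hgN' : g ∈ normalizerIn S R' := ⟨hgC.1, hgN.2⟩
    set cg : MulAut R' := H85.conjAut S R' ⟨g, hgN'⟩ with hcg
    have hcgF : H85.IsFIso F cg := H85.isFIso_of_mem_autInducedBy F hR'S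
      (H85.conjAut_range S R' ▸ ⟨_, rfl⟩)
    have hβF := (heF.trans hcgF).trans heF.symm
    set β : MulAut R := (e.trans cg).trans e.symm with hβ
    have hβK : (⟨β, (H85.mem_autGroup hR.le).2 hβF⟩ : F.autGroup R) ∈ K₂ := by
      intro x hx
      refine e.injective (Subtype.ext ?_)
      show ((e (e.symm (cg (e x))) : R') : Ω) = _
      rw [MulEquiv.apply_symm_apply]
      show g * ((e x : R') : Ω) * g⁻¹ = _
      rw [← Subgroup.mem_centralizer_iff.1 hgC.2 _ (hJR'.le ((mem_JA_equiv e x).2 hx)),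
        mul_inv_cancel_right]
    obtain ⟨g₁, hg₁S, hg₁⟩ :=
      H85.mem_autInducedBy.1 (H88.le_autInducedBy_of_normal_pGroup hS hF hRn K₂ hK₂ hβK)
    have hg₁N : g₁ ∈ normalizerIn S R := ⟨hg₁S, H85.mem_normalizer_of_induced hg₁⟩
    have hg₁R : g₁ ∈ R := by
      by_contra hg₁R
      obtain ⟨x, hx, hne⟩ := h2a g₁ hg₁N hg₁R
      refine hne ?_
      have h1 := hg₁ ⟨x, hXR hx⟩
      have h2 : β ⟨x, hXR hx⟩ = ⟨x, hXR hx⟩ := hβK ⟨x, hXR hx⟩ hx
      rw [show ((⟨β, _⟩ : F.autGroup R) : MulAut R) = β from rfl, h2] at h1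
      exact eq_mul_inv_iff_mul_eq.1 h1
    refine hgR' ?_
    have h3 : ((e ⟨g₁, hg₁R⟩ : R') : Ω)⁻¹ * g ∈ centralizerIn S R' := by
      refine ⟨S.mul_mem (S.inv_mem (hR'S (e _).2)) hgC.1,
        Subgroup.mem_centralizer_iff.2 fun y hy => ?_⟩
      obtain ⟨x, hx⟩ := e.surjective ⟨y, hy⟩
      have h4 : β x = ⟨g₁, hg₁R⟩ * x * ⟨g₁, hg₁R⟩⁻¹ := Subtype.ext (hg₁ x)
      have h5 : cg (e x) = e ⟨g₁, hg₁R⟩ * e x * (e ⟨g₁, hg₁R⟩)⁻¹ := by
        rw [← map_mul, ← map_inv, ← map_mul, ← h4]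
        exact (e.apply_symm_apply _).symm
      rw [hx] at h5
      have h6 : g * y * g⁻¹ = (e ⟨g₁, hg₁R⟩ : Ω) * y * (e ⟨g₁, hg₁R⟩ : Ω)⁻¹ := congrArg Subtype.val h5
      calc y * ((e ⟨g₁, hg₁R⟩ : Ω)⁻¹ * g) =
          (e ⟨g₁, hg₁R⟩ : Ω)⁻¹ * ((e ⟨g₁, hg₁R⟩ : Ω) * y * (e ⟨g₁, hg₁R⟩ : Ω)⁻¹) * g := by group
        _ = _ := by rw [← h6]; group
    have := R'.mul_mem (e ⟨g₁, hg₁R⟩).2 (hR'c h3)
    rwa [mul_inv_cancel_left] at this
  have hZ₀X' : Z₀ ≤ X' := fun z hz => hCX' z hz.1 fun x hx =>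
    Subgroup.mem_centralizer_iff.1 hz.2 x (hX'n.1 hx)
  -- transport the automorphism to `R'`
  intro α hα
  have hα' : H85.IsFIso F (e.symm.trans (MulEquiv.trans α e)) :=
    heF.symm.trans (((H85.mem_autGroup hR.le).1 hα : H85.IsFIso F α).trans heF)
  suffices hαE : H85.IsFIso E (e.symm.trans (MulEquiv.trans α e)) by
    exact (H85.mem_autGroup hR.le).2
      (((heE.trans hαE).trans heE.symm).congr fun x => by simp)
  have hinv : ∀ x : R', (x : Ω) ∈ X' → ((e.symm.trans (MulEquiv.trans α e) x : R') : Ω) ∈ X' :=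
    fun x hx => hJR' ▸ (mem_JA_equiv (e.symm.trans (MulEquiv.trans α e)) x).2 (hJR'.symm ▸ hx)
  have hnh := mem_normalizerHom_of_invariant hX'R' hR'T ((H85.mem_autGroup hR'S).2 hα') hinv
  by_cases hJT : thompsonSubgroupAOf T' = X'
  · -- then `T' = S` and `X' = J(S)`
    have hTS : T' = S := by
      by_contra hne
      obtain ⟨g, hg, hgT⟩ := H88.exists_mem_normalizerIn_not_mem hS
        (lt_of_le_of_ne inf_le_left hne : T' < S)
      exact hgT ⟨hg.1, by
        have := H74.JA.normalizer_le_normalizer_JA T' hg.2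
        rwa [hJT] at this⟩
    rw [hTS] at hJT
    rw [← hJT] at hnh
    exact hNE R' hnh
  -- inside the normalizer system of `X'`
  set D := H85.normalizerSystem F X' hX'n.1 with hDdef
  have hD : D.IsSaturated p :=
    H85.isSaturated_normalizerSystem hS hF hX'n D (H85.normalizerSystem_spec F X' hX'n.1)
  obtain ⟨R'', hR'', hR''n⟩ := H85.exists_fullyNormalized D hR'T
  obtain ⟨θ, hθ, hθN, hθR⟩ := H85.exists_map_to_fullyNormalized hT' hD hR''n hR''
  have hR'lt : R' < T' := lt_of_le_of_ne hR'T fun h => hJT (h ▸ hJR')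
  have hcardR : Nat.card R' = Nat.card R := (Nat.card_congr e.toEquiv).symm
  have hR'N : R' < normalizerIn T' R' := by
    obtain ⟨g, hg, hgR'⟩ := H88.exists_mem_normalizerIn_not_mem hT' hR'lt
    exact lt_of_le_of_ne (H85.le_normalizerIn hR'T) fun h => hgR' (h.ge hg)
  haveI : Finite (normalizerIn T' R') := H85.finite_of_le inf_le_left
  have hθE : θ ∈ E.Hom (normalizerIn T' R') :=
    hbig _ (hcardR ▸ H88.card_lt_card_of_lt_sub hR'N) hθ.1
  let f : R' ≃* R'' :=
    (H85.resIso θ (D.injective_of_mem hθ) hR'N.le).trans (MulEquiv.subgroupCongr hθR)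
  have hfD : H85.IsFIso D f := H85.of_extend hθ hR'N.le fun x => rfl
  have hfE : H85.IsFIso E f := H85.of_extend hθE hR'N.le fun x => rfl
  have hR''T : R'' ≤ T' := hR''n.1
  haveI : Finite R'' := H85.finite_of_le hR''T
  have hDinv : ∀ β ∈ D.autGroup R'', ∀ x : R'', (x : Ω) ∈ X' → ((β x : R'') : Ω) ∈ X' := by
    intro β hβ x hx
    obtain ⟨-, -, -, ψ, -, hext, himg⟩ := H85.mem_normalizerHom.1 ((H85.mem_autGroup hR''T).1 hβ)
    have h1 := himg.le (H85.apply_mem_img (φ := ψ) (x := Subgroup.inclusion le_sup_left x) hx)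
    rw [hext] at h1
    exact h1
  obtain ⟨-, -, -, ψ, -, hext, himg⟩ := H85.mem_normalizerHom.1 hfD
  have hJR'' : thompsonSubgroupAOf R'' = X' := by
    refine le_antisymm (fun y hy => ?_) (fun y hy => ?_)
    · obtain ⟨x, hx⟩ := f.surjective ⟨y, H74.JA.JA_le R'' hy⟩
      have hxy : ((f x : R'') : Ω) = y := congrArg Subtype.val hx
      rw [← hxy] at hy ⊢
      have h1 := himg.le (H85.apply_mem_img (φ := ψ) (x := Subgroup.inclusion le_sup_left x)
        (hJR'.le ((mem_JA_equiv f x).1 hy)))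
      rw [hext] at h1
      exact h1
    · obtain ⟨z, hz, hzy⟩ := H85.mem_img.1 (himg.ge hy)
      have hzy' : ((f ⟨z, hX'R' hz⟩ : R'') : Ω) = y := by
        rw [← hzy]
        exact ((congrArg ψ (Subtype.ext rfl : z = Subgroup.inclusion le_sup_left
          (⟨z, hX'R' hz⟩ : R'))).trans (hext _)).symm
      exact hzy' ▸ (mem_JA_equiv f _).2 (hJR'.symm ▸ hz)
  have hX'R'' : X' ≤ R'' := hJR'' ▸ H74.JA.JA_le R''
  have hJT'R : ¬ thompsonSubgroupAOf T' ≤ R'' := fun h => hJT ((JA_eq_of_le hR''T h).trans hJR'')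
  obtain ⟨U, hUR, hUinv, hUC, g, hg, hgR, hgU⟩ := exists_fix_powers hT' hR''T hX'R''
    inf_le_right (fun t ht hc => hCX' t ht.1 hc) hJT'R (D.autGroup R'') hDinv
  have hVU : Z₀ ≤ U := fun z hz => hUC z
    ⟨hz.1, Subgroup.le_normalizer (hZ₀X' hz)⟩
    fun x hx => Subgroup.mem_centralizer_iff.1 hz.2 x (hR''T hx).1
  let K : Subgroup (D.autGroup R'') :=
    { carrier := {β | ∀ z : R'', (z : Ω) ∈ U → (β : MulAut R'') (z ^ p) = z ^ p}
      one_mem' := fun z _ => rfl
      mul_mem' := fun {a b} ha hb z hz => by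
        show (a : MulAut R'') ((b : MulAut R'') (z ^ p)) = _
        rw [hb z hz, ha z hz]
      inv_mem' := fun {a} ha z hz => by
        show (a : MulAut R'')⁻¹ (z ^ p) = _
        conv_lhs => rw [← ha z hz]
        exact MulAut.inv_apply_self _ _ _ }
  haveI : K.Normal := ⟨fun a ha b z hz => by
    show (b : MulAut R'') ((a : MulAut R'') ((b : MulAut R'')⁻¹ (z ^ p))) = _
    rw [map_pow ((b : MulAut R'')⁻¹), ha _ (hUinv _ (Subgroup.inv_mem _ b.2) z hz), map_pow,
      MulAut.apply_inv_self]⟩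
  set ED := interSystem D E (inf_le_left : T' ≤ S)
  have hKE : ∀ β ∈ K, ((β : D.autGroup R'') : MulAut R'') ∈ ED.autGroup R'' := by
    intro β hβ
    have hβD := (H85.mem_autGroup hR''T).1 β.2
    refine (H85.mem_autGroup hR''T).2 ⟨hβD, hCE R'' ?_⟩
    have hVR : V ≤ R'' := hVZ.trans (hVU.trans hUR)
    have hR''S : R'' ≤ S := hR''T.trans inf_le_left
    have hSV : ∀ x ∈ S, x ∈ centralizerIn S V := fun x hx => ⟨hx, Subgroup.mem_centralizer_iff.2
      fun v hv => (Subgroup.mem_centralizer_iff.1 (hVZ hv).2 x hx).symm⟩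
    refine ⟨hβD.1, fun x hx => hSV x (hR''S hx), fun x => hSV _ (hR''S ((β : MulAut R'') x).2), _,
      H85.restrict hβD.1 (sup_le le_rfl hVR), fun x => rfl, ?_⟩
    have key : ∀ y ∈ V, ∀ hy : y ∈ R'', (β : MulAut R'') ⟨y, hy⟩ = ⟨y, hy⟩ := by
      intro y hy
      induction hy using Subgroup.closure_induction with
      | mem y hy =>
        obtain ⟨z, hz, rfl⟩ := hy
        intro hy
        have h1 := hβ ⟨z, hUR (hVU hz)⟩ (hVU hz)
        simpa [pow_one] using h1
      | one => intro hy; exact map_one _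
      | mul a b ha hb iha ihb =>
        intro hy
        rw [show (⟨a * b, hy⟩ : R'') = ⟨a, hVR ha⟩ * ⟨b, hVR hb⟩ from rfl, map_mul, iha, ihb]
      | inv a _ iha =>
        intro hy
        have ha' : a ∈ R'' := inv_mem_iff.1 hy
        rw [show (⟨a⁻¹, hy⟩ : R'') = (⟨a, ha'⟩ : R'')⁻¹ from rfl, map_inv, iha]
    exact fun x => congrArg Subtype.val (key x x.2 (hVR x.2))
  have hEbig : ∀ T : Subgroup Ω, R'' < T → D.Hom T ⊆ ED.Hom T := fun T hT φ hφ => by
    haveI : Finite T := H85.finite_of_le (H85.source_le hφ)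
    refine ⟨hφ, hbig T ?_ hφ.1⟩
    rw [← hcardR, Nat.card_congr f.toEquiv]
    exact H88.card_lt_card_of_lt_sub hT
  have hstep := H88.autGroup_le_of_kernel hT' hD hR''n hEbig K hKE hg hgR
    ⟨⟨H85.conjAut T' R'' ⟨g, hg⟩, H85.autInducedBy_le_autGroup D hR''T
      (H85.conjAut_range T' R'' ▸ ⟨_, rfl⟩)⟩, fun z hz => Subtype.ext (by
        show g * ((z ^ p : R'') : Ω) * g⁻¹ = _
        rw [SubmonoidClass.coe_pow]
        exact hgU _ hz), fun x => rfl⟩
  have hαD : H85.IsFIso D (e.symm.trans (MulEquiv.trans α e)) := hnh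
  have h3 : H85.IsFIso E (f.symm.trans ((e.symm.trans (MulEquiv.trans α e)).trans f)) :=
    ((H85.mem_autGroup hR''T).1
      (hstep ((H85.mem_autGroup hR''T).2 (hfD.symm.trans (hαD.trans hfD))))).2
  exact ((hfE.trans h3).trans hfE.symm).congr fun x => by simp

end H34
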