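import Mathlib

/-!
Integer matrices of finite order with a cyclotomic eigenvalue modulo a prime, and the number of solutions of
`f M = q f` modulo `N`.
-/

set_option autoImplicit false

namespace H34.Tori

open Polynomial Matrix

variable {r : ℕ}

/-- Iterates of a vector killed by an irreducible polynomial in `A` are independent. -/
theorem indep_of_irreducible {A : Matrix (Fin r) (Fin r) ℚ} {P : ℚ[X]} (hP : Irreducible P)
    {v : Fin r → ℚ} (hv : v ≠ 0) (hPv : (aeval A P) *ᵥ v = 0) :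
    LinearIndependent ℚ (fun i : Fin P.natDegree => (A ^ (i : ℕ)) *ᵥ v) := by
  classical
  rw [Fintype.linearIndependent_iff]
  intro a ha
  set p : ℚ[X] := ∑ i : Fin P.natDegree, C (a i) * X ^ (i : ℕ) with hp
  have hpv : (aeval A p) *ᵥ v = 0 := by
    rw [hp, map_sum, Matrix.sum_mulVec, ← ha]
    refine Finset.sum_congr rfl fun i _ => ?_
    rw [map_mul, map_pow, aeval_X, aeval_C, Algebra.algebraMap_eq_smul_one, smul_mul_assoc, one_mul,
      Matrix.smul_mulVec]
  have hp0 : p = 0 := by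
    by_contra hne
    have hdeg : p.degree < P.natDegree := by
      rw [hp]
      exact Polynomial.degree_sum_fin_lt a
    have hnd : ¬ P ∣ p := fun hd => by
      have h1 := Polynomial.natDegree_le_of_dvd hd hne
      rw [Polynomial.degree_eq_natDegree hne, Nat.cast_lt] at hdeg
      omega
    obtain ⟨u, w, huw⟩ := hP.coprime_iff_not_dvd.2 hnd
    have := congrArg (fun q => (aeval A q) *ᵥ v) huw
    simp only [map_add, map_mul, map_one, Matrix.one_mulVec, Matrix.add_mulVec,
      ← Matrix.mulVec_mulVec, hPv, hpv, Matrix.mulVec_zero, add_zero] at this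
    exact hv this.symm
  intro i
  have := congrArg (fun q => coeff q (i : ℕ)) hp0
  simpa [hp, coeff_X_pow, Fin.val_inj, Finset.sum_ite_eq] using this

/-- The entries of an integer matrix in `ℚ`. -/
abbrev toQ (M : Matrix (Fin r) (Fin r) ℤ) : Matrix (Fin r) (Fin r) ℚ := M.map (Int.castRingHom ℚ)

theorem aeval_toQ (M : Matrix (Fin r) (Fin r) ℤ) (P : ℤ[X]) :
    aeval (toQ M) (P.map (Int.castRingHom ℚ)) = toQ (aeval M P) := by
  rw [toQ, show M.map (Int.castRingHom ℚ) = (Int.castRingHom ℚ).mapMatrix M from rfl]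
  simp only [aeval_def, eval₂_map]
  rw [show toQ (eval₂ (algebraMap ℤ (Matrix (Fin r) (Fin r) ℤ)) M P) =
    (Int.castRingHom ℚ).mapMatrix (eval₂ (algebraMap ℤ _) M P) from rfl, hom_eval₂]
  exact congrArg (fun φ : ℤ →+* Matrix (Fin r) (Fin r) ℚ => eval₂ φ _ P) (RingHom.ext_int _ _)

theorem toQ_injective : Function.Injective (toQ (r := r)) :=
  Matrix.map_injective Int.cast_injective

/-- A cyclotomic factor with singular value has small degree. -/
theorem totient_le_of_det_eq_zero {M : Matrix (Fin r) (Fin r) ℤ} {d : ℕ} (hd : 0 < d)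
    (h : (aeval M (cyclotomic d ℤ)).det = 0) : d.totient ≤ r := by
  have h1 : (toQ (aeval M (cyclotomic d ℤ))).det = 0 := by
    rw [toQ, ← RingHom.mapMatrix_apply, ← RingHom.map_det, h, map_zero]
  obtain ⟨v, hv, hv'⟩ := Matrix.exists_mulVec_eq_zero_iff.2 h1
  rw [← aeval_toQ, map_cyclotomic] at hv'
  have := (indep_of_irreducible (cyclotomic.irreducible_rat hd) hv hv').fintype_card_le_finrank
  simpa [natDegree_cyclotomic] using this

/-- Iterates of a non-zero vector span when a cyclotomic polynomial of full degree kills `M`. -/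
theorem eq_one_of_fix {M G : Matrix (Fin r) (Fin r) ℤ} {m : ℕ} (hm : 0 < m) (hr : m.totient = r)
    (hM : aeval M (cyclotomic m ℤ) = 0) {v : Fin r → ℤ} (hv : v ≠ 0)
    (hfix : ∀ k : ℕ, G *ᵥ ((M ^ k) *ᵥ v) = (M ^ k) *ᵥ v) : G = 1 := by
  set w : Fin r → ℚ := fun i => (v i : ℚ) with hw
  have hw0 : w ≠ 0 := fun e => hv (funext fun i => by
    have := congrFun e i
    simpa [hw] using this)
  have hPw : (aeval (toQ M) (cyclotomic m ℚ)) *ᵥ w = 0 := by
    rw [← map_cyclotomic m (Int.castRingHom ℚ), aeval_toQ, hM, toQ, Matrix.map_zero _ (map_zero _),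
      Matrix.zero_mulVec]
  have hli := indep_of_irreducible (cyclotomic.irreducible_rat hm) hw0 hPw
  have hspan : Submodule.span ℚ (Set.range fun i : Fin (cyclotomic m ℚ).natDegree =>
      ((toQ M) ^ (i : ℕ)) *ᵥ w) = ⊤ := by
    refine hli.span_eq_top_of_card_eq_finrank' ?_
    simp [natDegree_cyclotomic, hr]
  have hlin : Matrix.toLin' (toQ G) = Matrix.toLin' (toQ 1) := by
    refine LinearMap.ext_on_range hspan fun i => ?_
    rw [Matrix.toLin'_apply, Matrix.toLin'_apply,
      show toQ (1 : Matrix (Fin r) (Fin r) ℤ) = 1 from Matrix.map_one _ (map_zero _) (map_one _),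
      Matrix.one_mulVec, toQ, ← Matrix.map_pow]
    funext a
    have h1 := congrArg (fun z : Fin r → ℤ => (z a : ℚ)) (hfix i)
    rw [Matrix.mulVec, Matrix.mulVec] at h1
    simp only [dotProduct, Matrix.mulVec, Matrix.map_apply, hw, Int.coe_castRingHom] at h1 ⊢
    push_cast at h1
    exact h1
  exact toQ_injective (Matrix.toLin'.injective hlin)

/-- The image of an integer matrix modulo `N`. -/
abbrev toZ (N : ℕ) (M : Matrix (Fin r) (Fin r) ℤ) : Matrix (Fin r) (Fin r) (ZMod N) :=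
  M.map (Int.castRingHom (ZMod N))

theorem vecMul_aeval {N : ℕ} {M : Matrix (Fin r) (Fin r) ℤ} {f : Fin r → ZMod N} {q : ℤ}
    (hf : f ᵥ* toZ N M = (q : ZMod N) • f) (P : ℤ[X]) :
    f ᵥ* toZ N (aeval M P) = ((P.eval q : ℤ) : ZMod N) • f := by
  induction P using Polynomial.induction_on' with
  | add p p' h h' =>
    rw [map_add, eval_add, Int.cast_add, add_smul, ← h, ← h', toZ, Matrix.map_add _ (map_add _),
      Matrix.vecMul_add]
  | monomial k a =>
    rw [aeval_monomial, eval_monomial, Algebra.algebraMap_eq_smul_one, smul_mul_assoc, one_mul]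
    have hk : f ᵥ* toZ N (M ^ k) = ((q ^ k : ℤ) : ZMod N) • f := by
      induction k with
      | zero => simp [toZ]
      | succ k ih =>
        rw [pow_succ, toZ, Matrix.map_mul, ← Matrix.vecMul_vecMul, ← toZ, ih, Matrix.smul_vecMul,
          ← toZ, hf, smul_smul]
        push_cast
        ring_nf
    rw [toZ, Matrix.map_smul' (Int.castRingHom (ZMod N)) a _ (map_mul _), ← toZ, Matrix.vecMul_smul, hk,
      smul_smul]
    push_cast
    rfl

theorem eq_zero_of_smul {N ℓ : ℕ} (hl : ℓ.Prime) {f : Fin r → ZMod N} (hlf : ℓ • f = 0) {a : ℤ}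
    (ha : ¬ (ℓ : ℤ) ∣ a) (h : (a : ZMod N) • f = 0) : f = 0 := by
  obtain ⟨u, w, huw⟩ := ((Nat.prime_iff_prime_int.1 hl).coprime_iff_not_dvd.2 ha)
  have h1 : ((u * (ℓ : ℤ) + w * a : ℤ) : ZMod N) • f = f := by rw [huw, Int.cast_one, one_smul]
  rw [Int.cast_add, Int.cast_mul, Int.cast_mul, add_smul, mul_smul, mul_smul, h, smul_zero, add_zero,
    Int.cast_natCast, Nat.cast_smul_eq_nsmul, hlf, smul_zero] at h1
  exact h1.symm

/-- A finite order matrix with a primitive eigenvalue modulo `ℓ` is killed by the cyclotomic polynomial. -/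
theorem cyclotomic_kills {M : Matrix (Fin r) (Fin r) ℤ} {k : ℕ} (hk : 0 < k) (hMk : M ^ k = 1)
    {m : ℕ} (hm : 0 < m) (hr : m.totient = r) {ℓ : ℕ} (hl : ℓ.Prime) (hl2 : 2 < ℓ) (hlm : ¬ ℓ ∣ m)
    {q : ℤ} (hq : (ℓ : ℤ) ∣ (cyclotomic m ℤ).eval q)
    {N : ℕ} {f : Fin r → ZMod N} (hf0 : f ≠ 0) (hlf : ℓ • f = 0)
    (hf : f ᵥ* toZ N M = (q : ZMod N) • f) : aeval M (cyclotomic m ℤ) = 0 := by
  classical
  have := Fact.mk hl
  set S := k.divisors.filter fun d => (aeval M (cyclotomic d ℤ)).det = 0 with hS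
  have hzero : aeval M (∏ d ∈ S, cyclotomic d ℤ) = 0 := by
    have h0 : aeval M ((∏ d ∈ S, cyclotomic d ℤ) *
        ∏ d ∈ k.divisors.filter (fun d => ¬ (aeval M (cyclotomic d ℤ)).det = 0), cyclotomic d ℤ) = 0 := by
      rw [hS, Finset.prod_filter_mul_prod_filter_not, prod_cyclotomic_eq_X_pow_sub_one hk, map_sub,
        map_pow, aeval_X, map_one, hMk, sub_self]
    rw [map_mul] at h0
    set A := aeval M (∏ d ∈ S, cyclotomic d ℤ)
    set B := aeval M (∏ d ∈ k.divisors.filter (fun d => ¬ (aeval M (cyclotomic d ℤ)).det = 0),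
      cyclotomic d ℤ) with hB
    have hdet : B.det ≠ 0 := by
      rw [hB]
      refine Finset.prod_induction _ (fun P : ℤ[X] => (aeval M P).det ≠ 0) ?_ (by simp) ?_
      · intro a b ha hb
        rw [map_mul, Matrix.det_mul]
        exact mul_ne_zero ha hb
      · intro d hd
        exact (Finset.mem_filter.1 hd).2
    have h1 := congrArg (fun Z => Z * B.adjugate) h0
    simp only [Matrix.mul_assoc, Matrix.mul_adjugate, Matrix.zero_mul, mul_smul_comm, Matrix.mul_one]
      at h1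
    exact (smul_eq_zero.1 h1).resolve_left hdet
  have hdiv : ∃ d ∈ S, (ℓ : ℤ) ∣ (cyclotomic d ℤ).eval q := by
    have h1 : (ℓ : ℤ) ∣ (∏ d ∈ S, cyclotomic d ℤ).eval q := by
      by_contra h
      refine hf0 (eq_zero_of_smul hl hlf h ?_)
      rw [← vecMul_aeval hf, hzero, toZ, Matrix.map_zero _ (map_zero _), Matrix.vecMul_zero]
    rw [eval_prod] at h1
    exact ((Nat.prime_iff_prime_int.1 hl).dvd_finset_prod_iff _).1 h1
  obtain ⟨d, hd, hdq⟩ := hdiv
  obtain ⟨hdk, hdet⟩ := Finset.mem_filter.1 hd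
  have hd0 : 0 < d := Nat.pos_of_mem_divisors hdk
  have hle := totient_le_of_det_eq_zero hd0 hdet
  obtain ⟨a, m', hm', hdm⟩ := Nat.exists_eq_pow_mul_and_not_dvd hd0.ne' ℓ hl.ne_one
  have hroot : ∀ e : ℕ, (ℓ : ℤ) ∣ (cyclotomic e ℤ).eval q →
      (cyclotomic e (ZMod ℓ)).IsRoot (q : ZMod ℓ) := by
    intro e he
    rw [IsRoot, ← map_cyclotomic e (Int.castRingHom (ZMod ℓ)), Polynomial.eval_intCast_map]
    exact (ZMod.intCast_zmod_eq_zero_iff_dvd _ _).2 he
  have : NeZero (m' : ZMod ℓ) := ⟨fun e => hm' ((ZMod.natCast_eq_zero_iff _ _).1 e)⟩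
  have : NeZero (m : ZMod ℓ) := ⟨fun e => hlm ((ZMod.natCast_eq_zero_iff _ _).1 e)⟩
  have hp1 : IsPrimitiveRoot (q : ZMod ℓ) m' :=
    (isRoot_cyclotomic_prime_pow_mul_iff_of_charP (k := a) (p := ℓ)).1 (hdm ▸ hroot d hdq)
  have hp2 : IsPrimitiveRoot (q : ZMod ℓ) m := isRoot_cyclotomic_iff.1 (hroot m hq)
  have hmm : m' = m := hp1.unique hp2
  rw [hmm] at hdm hm'
  have ha : a = 0 := by
    by_contra ha
    rw [hdm, Nat.totient_mul ((Nat.Coprime.pow_left _ ((hl.coprime_iff_not_dvd).2 hm'))),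
      Nat.totient_prime_pow hl (Nat.pos_of_ne_zero ha), hr] at hle
    have hr0 : 0 < r := hr ▸ Nat.totient_pos.2 hm
    have h1 : 2 ≤ ℓ ^ (a - 1) * (ℓ - 1) := by
      calc 2 ≤ 1 * (ℓ - 1) := by omega
        _ ≤ _ := Nat.mul_le_mul_right _ (Nat.one_le_pow _ _ hl.pos)
    nlinarith
  rw [ha, pow_zero, one_mul] at hdm
  rw [hdm] at hdet
  have h1 : (toQ (aeval M (cyclotomic m ℤ))).det = 0 := by
    rw [toQ, ← RingHom.mapMatrix_apply, ← RingHom.map_det, hdet, map_zero]
  obtain ⟨v, hv, hv'⟩ := Matrix.exists_mulVec_eq_zero_iff.2 h1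
  rw [← aeval_toQ, map_cyclotomic] at hv'
  have hli := indep_of_irreducible (cyclotomic.irreducible_rat hm) hv hv'
  have hspan : Submodule.span ℚ (Set.range fun i : Fin (cyclotomic m ℚ).natDegree =>
      ((toQ M) ^ (i : ℕ)) *ᵥ v) = ⊤ := by
    refine hli.span_eq_top_of_card_eq_finrank' ?_
    simp [natDegree_cyclotomic, hr]
  refine toQ_injective (Matrix.toLin'.injective (LinearMap.ext_on_range hspan fun i => ?_))
  rw [show toQ (0 : Matrix (Fin r) (Fin r) ℤ) = 0 from Matrix.map_zero _ (map_zero _), map_zero,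
    LinearMap.zero_apply, Matrix.toLin'_apply, ← aeval_toQ, map_cyclotomic, Matrix.mulVec_mulVec,
    show aeval (toQ M) (cyclotomic m ℚ) * toQ M ^ (i : ℕ) =
      toQ M ^ (i : ℕ) * aeval (toQ M) (cyclotomic m ℚ) by
      conv_lhs => rw [← aeval_X_pow (R := ℚ) (toQ M), ← map_mul, mul_comm, map_mul, aeval_X_pow],
    ← Matrix.mulVec_mulVec, hv', Matrix.mulVec_zero]

/-- A matrix of prime order needs dimension at least `ℓ - 1`. -/
theorem eq_one_of_pow_prime {M : Matrix (Fin r) (Fin r) ℤ} {ℓ : ℕ} (hl : ℓ.Prime) (hr : r + 1 < ℓ)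
    (hM : M ^ ℓ = 1) : M = 1 := by
  have h0 : aeval M (cyclotomic ℓ ℤ) * (M - 1) = 0 := by
    have := congrArg (aeval M) (prod_cyclotomic_eq_X_pow_sub_one hl.pos ℤ)
    rw [Nat.Prime.divisors hl, Finset.prod_pair hl.ne_one.symm, cyclotomic_one, map_mul, map_sub,
      aeval_X, map_one, map_sub, map_pow, aeval_X, map_one, hM, sub_self] at this
    rw [← this]
    have hc : Commute (aeval M (cyclotomic ℓ ℤ)) (M - 1) := by
      have := (Commute.all (cyclotomic ℓ ℤ) (X - 1 : ℤ[X])).map (aeval M)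
      rwa [map_sub, aeval_X, map_one] at this
    exact hc.eq
  by_cases hdet : (aeval M (cyclotomic ℓ ℤ)).det = 0
  · have := totient_le_of_det_eq_zero hl.pos hdet
    rw [Nat.totient_prime hl] at this
    omega
  · have h1 := congrArg (fun Z => (aeval M (cyclotomic ℓ ℤ)).adjugate * Z) h0
    simp only [← Matrix.mul_assoc, Matrix.adjugate_mul, Matrix.mul_zero, smul_mul_assoc,
      Matrix.one_mul] at h1
    exact sub_eq_zero.1 ((smul_eq_zero.1 h1).resolve_left hdet)

theorem charpoly_eq {M : Matrix (Fin r) (Fin r) ℤ} {m : ℕ} (hm : 0 < m) (hr : m.totient = r)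
    (hM : aeval M (cyclotomic m ℤ) = 0) : M.charpoly = cyclotomic m ℤ := by
  apply Polynomial.map_injective (Int.castRingHom ℚ) Int.cast_injective
  rw [← Matrix.charpoly_map, map_cyclotomic]
  have : Nonempty (Fin r) := ⟨⟨0, hr ▸ Nat.totient_pos.2 hm⟩⟩
  have h0 : aeval (toQ M) (cyclotomic m ℚ) = 0 := by
    rw [← map_cyclotomic m (Int.castRingHom ℚ), aeval_toQ, hM, toQ, Matrix.map_zero _ (map_zero _)]
  have h1 : cyclotomic m ℚ = minpoly ℚ (toQ M) :=
    minpoly.eq_of_irreducible_of_monic (cyclotomic.irreducible_rat hm) h0 (cyclotomic.monic m ℚ)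
  refine (Polynomial.eq_of_monic_of_dvd_of_natDegree_le (cyclotomic.monic m ℚ) (Matrix.charpoly_monic _)
    (h1 ▸ Matrix.minpoly_dvd_charpoly _) ?_)
  rw [Matrix.charpoly_natDegree_eq_dim, natDegree_cyclotomic, Fintype.card_fin, hr]

/-- The subgroup of solutions of `f M = q f` modulo `N`. -/
def solutions (N : ℕ) (M : Matrix (Fin r) (Fin r) ℤ) (q : ℤ) : AddSubgroup (Fin r → ZMod N) :=
  (toZ N (M - q • (1 : Matrix (Fin r) (Fin r) ℤ))).vecMulLinear.toAddMonoidHom.ker

theorem mem_solutions {N : ℕ} {M : Matrix (Fin r) (Fin r) ℤ} {q : ℤ} {f : Fin r → ZMod N} :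
    f ∈ solutions N M q ↔ f ᵥ* toZ N M = (q : ZMod N) • f := by
  rw [solutions, AddMonoidHom.mem_ker, LinearMap.toAddMonoidHom_coe, Matrix.vecMulLinear_apply,
    ← sub_eq_zero (a := f ᵥ* toZ N M)]
  suffices f ᵥ* toZ N (M - q • (1 : Matrix (Fin r) (Fin r) ℤ)) =
      f ᵥ* toZ N M - (q : ZMod N) • f by rw [this]
  rw [toZ, Matrix.map_sub _ (map_sub _), Matrix.vecMul_sub,
    Matrix.map_smul' (Int.castRingHom (ZMod N)) q _ (map_mul _), Matrix.map_one _ (map_zero _) (map_one _),
    Matrix.vecMul_smul, Matrix.vecMul_one]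
  rfl

/-- `|{f : f X = 0 mod N}| = |det X|` when `det X` divides `N`. -/
theorem card_ker_vecMul {N : ℕ} [NeZero N] (X : Matrix (Fin r) (Fin r) ℤ) (hX : X.det ≠ 0)
    (hN : X.det ∣ (N : ℤ)) :
    Nat.card ↥(toZ N X).vecMulLinear.toAddMonoidHom.ker = X.det.natAbs := by
  set T := (toZ N X).vecMulLinear.toAddMonoidHom with hT
  let π : (Fin r → ℤ) →+ (Fin r → ZMod N) :=
    ((Int.castRingHom (ZMod N)).toAddMonoidHom).compLeft (Fin r)
  have hπ : Function.Surjective π := fun z => by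
    choose y hy using fun i => ZMod.intCast_surjective (z i)
    exact ⟨y, funext hy⟩
  let L : (Fin r → ℤ) →ₗ[ℤ] (Fin r → ℤ) := X.vecMulLinear
  have hmap : ∀ z, π (L z) = T (π z) := fun z => funext fun i => by
    simp [π, L, hT, Matrix.vecMul, dotProduct, toZ]
  have hcomap : T.range.comap π = (LinearMap.range L).toAddSubgroup := by
    ext y
    constructor
    · rintro ⟨z, hz⟩
      obtain ⟨z, rfl⟩ := hπ z
      rw [← hmap] at hz
      obtain ⟨c, hc⟩ := hN
      choose w hw using fun i =>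
        (ZMod.intCast_eq_intCast_iff_dvd_sub _ _ N).1 (show ((L z i : ℤ) : ZMod N) = (y i : ℤ) from
          congrFun hz i)
      refine ⟨z + (c • w) ᵥ* X.adjugate, ?_⟩
      rw [map_add]
      funext i
      have h2 : L ((c • w) ᵥ* X.adjugate) = X.det • (c • w) := by
        show ((c • w) ᵥ* X.adjugate) ᵥ* X = _
        rw [Matrix.vecMul_vecMul, Matrix.adjugate_mul, Matrix.vecMul_smul, Matrix.vecMul_one]
      rw [Pi.add_apply, h2, Pi.smul_apply, Pi.smul_apply, smul_eq_mul, smul_eq_mul, ← mul_assoc, ← hc,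
        ← hw i]
      ring
    · rintro ⟨z, rfl⟩
      exact ⟨π z, (hmap z).symm⟩
  have hinj : Function.Injective L := by
    intro a b hab
    have := congrArg (fun z => z ᵥ* X.adjugate) hab
    simp only [L, Matrix.vecMulLinear_apply, Matrix.vecMul_vecMul, Matrix.mul_adjugate,
      Matrix.vecMul_smul, Matrix.vecMul_one] at this
    exact smul_right_injective _ hX this
  rw [← AddSubgroup.index_range (f := T), ← AddSubgroup.index_comap_of_surjective _ hπ, hcomap]
  rw [show (LinearMap.range L).toAddSubgroup.index = Nat.card ((Fin r → ℤ) ⧸ LinearMap.range L) from rfl,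
    ← Submodule.natAbs_det_equiv (LinearMap.range L) (LinearEquiv.ofInjective L hinj)]
  rw [show (LinearMap.range L).subtype ∘ₗ AddMonoidHom.toIntLinearMap
      ((LinearEquiv.ofInjective L hinj : (Fin r → ℤ) ≃ₗ[ℤ] LinearMap.range L) :
        (Fin r → ℤ) →+ LinearMap.range L) = Matrix.toLin' Xᵀ from
    LinearMap.ext fun z => by
      rw [Matrix.toLin'_apply, Matrix.mulVec_transpose]; rfl,
    LinearMap.det_toLin', Matrix.det_transpose]

/-- The solutions of `f M = q f` form a cyclic group of order `|P(q)|` for the characteristic polynomial `P`,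
when `q` is no multiple root of `P` modulo a prime whose square divides `P(q)`. -/
theorem solutions_cyclic_poly {M : Matrix (Fin r) (Fin r) ℤ} {P : ℤ[X]} (hP : M.charpoly = P)
    {q : ℤ} {N : ℕ} [NeZero N] (hd : P.eval q ≠ 0) (hN : P.eval q ∣ (N : ℤ))
    (hp : ∀ p : ℕ, p.Prime → p ^ 2 ∣ (P.eval q).natAbs → ¬ (p : ℤ) ∣ (derivative P).eval q ∨
      p ^ (P.eval q).natAbs.factorization p ∣ AddMonoid.exponent ↥(solutions N M q)) :
    IsAddCyclic ↥(solutions N M q) ∧ Nat.card ↥(solutions N M q) = (P.eval q).natAbs := by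
  classical
  set Φ := P with hΦ
  have hM : aeval M Φ = 0 := hP ▸ Matrix.aeval_self_charpoly M
  set d := (Φ.eval q).natAbs with hdd
  have hdet : (M - q • (1 : Matrix (Fin r) (Fin r) ℤ)).det.natAbs = d := by
    have := Matrix.eval_charpoly M q
    rw [hP] at this
    rw [hdd, this, show M - q • (1 : Matrix (Fin r) (Fin r) ℤ) = -(Matrix.scalar (Fin r) q - M) by
      rw [neg_sub, Matrix.smul_one_eq_diagonal]; rfl, Matrix.det_neg, Int.natAbs_mul, Int.natAbs_pow,
      Int.natAbs_neg, Int.natAbs_one, one_pow, one_mul]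
  have hcard : Nat.card ↥(solutions N M q) = d := by
    rw [solutions, card_ker_vecMul, hdet]
    · rw [← Int.natAbs_ne_zero, hdet, hdd]; exact Int.natAbs_ne_zero.2 hd
    · rw [← Int.natAbs_dvd, hdet, hdd, Int.natAbs_dvd]; exact hN
  refine ⟨IsAddCyclic.of_exponent_eq_card ?_, hcard⟩
  refine Nat.dvd_antisymm AddGroup.exponent_dvd_nat_card ?_
  rw [hcard]
  have hd0 : d ≠ 0 := Int.natAbs_ne_zero.2 hd
  rw [← Nat.factorization_le_iff_dvd hd0
    (AddMonoid.exponent_ne_zero.2 (AddMonoid.ExponentExists.of_finite))]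
  intro p
  by_cases hpp : p.Prime
  swap
  · simp [Nat.factorization_eq_zero_of_not_prime _ hpp]
  have := Fact.mk hpp
  set a := d.factorization p with ha
  rcases Nat.eq_zero_or_pos a with h0 | h0
  · rw [h0]; exact Nat.zero_le _
  rw [← hpp.pow_dvd_iff_le_factorization
    (AddMonoid.exponent_ne_zero.2 (AddMonoid.ExponentExists.of_finite))]
  have hpd : p ∣ d := Nat.dvd_of_factorization_pos h0.ne'
  by_cases ha1 : a = 1
  · obtain ⟨x, hx⟩ := exists_prime_addOrderOf_dvd_card' (G := ↥(solutions N M q)) p (hcard ▸ hpd)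
    rw [ha1, pow_one, ← hx]
    exact AddMonoid.addOrder_dvd_exponent x
  have hp2 : p ^ 2 ∣ d := (hpp.pow_dvd_iff_le_factorization hd0).2 (by omega)
  rcases hp p hpp hp2 with hder | hexp
  swap
  · exact hexp
  -- the quotient polynomial
  set G := Φ /ₘ (X - C q) with hG
  have hPhi : Φ = (X - C q) * G + C (Φ.eval q) := by
    conv_lhs => rw [← modByMonic_add_div Φ (q := X - C q), modByMonic_X_sub_C_eq_C_eval]
    rw [← hG, add_comm]
  have hGq : G.eval q = (derivative Φ).eval q := by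
    conv_rhs => rw [hPhi]
    simp
  have hGM : aeval M G * (M - q • 1) = -(Φ.eval q) • (1 : Matrix (Fin r) (Fin r) ℤ) := by
    have h1 := congrArg (aeval M) hPhi
    rw [hM, map_add, mul_comm, map_mul, map_sub, aeval_X, aeval_C, aeval_C,
      Algebra.algebraMap_eq_smul_one, Algebra.algebraMap_eq_smul_one] at h1
    rw [neg_smul]
    exact eq_neg_of_add_eq_zero_left h1.symm
  -- some entry of `G(M)` is prime to `p`
  have hpz : (p : ℤ) ∣ Φ.eval q := Int.natCast_dvd.2 hpd
  have hentry : ∃ i j, ¬ (p : ℤ) ∣ (aeval M G) i j := by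
    by_contra hall
    push Not at hall
    have hdet0 : (toZ p (M - q • (1 : Matrix (Fin r) (Fin r) ℤ))).det = 0 := by
      rw [toZ, ← RingHom.mapMatrix_apply, ← RingHom.map_det, Int.coe_castRingHom,
        ZMod.intCast_zmod_eq_zero_iff_dvd, ← Int.dvd_natAbs, hdet]
      exact_mod_cast hpd
    obtain ⟨f, hf0, hf⟩ := Matrix.exists_vecMul_eq_zero_iff.2 hdet0
    have hf' : f ᵥ* toZ p M = (q : ZMod p) • f := mem_solutions.1 (AddMonoidHom.mem_ker.2 hf)
    have h1 := vecMul_aeval hf' G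
    rw [show toZ p (aeval M G) = 0 from Matrix.ext fun i j => by
      simpa [toZ, ZMod.intCast_zmod_eq_zero_iff_dvd] using hall i j, Matrix.vecMul_zero] at h1
    have h2 : ((G.eval q : ℤ) : ZMod p) = 0 := (smul_eq_zero.1 h1.symm).resolve_right hf0
    rw [hGq] at h2
    exact hder ((ZMod.intCast_zmod_eq_zero_iff_dvd _ _).1 h2)
  obtain ⟨i, j, hij⟩ := hentry
  have hpa : p ^ a ∣ N :=
    (Nat.ordProj_dvd d p).trans (Int.natCast_dvd_natCast.1 ((Int.natAbs_dvd).2 hN))
  obtain ⟨N', hN'⟩ := hpa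
  let f : Fin r → ZMod N := fun j => (((N' : ℤ) * (aeval M G) i j : ℤ) : ZMod N)
  have hfmem : f ∈ solutions N M q := by
    rw [solutions, AddMonoidHom.mem_ker, LinearMap.toAddMonoidHom_coe, Matrix.vecMulLinear_apply]
    funext k
    have hrow := congrFun (congrFun hGM i) k
    rw [Matrix.mul_apply] at hrow
    simp only [Matrix.vecMul, dotProduct, f, toZ, Matrix.map_apply, Int.coe_castRingHom, Pi.zero_apply]
    rw [← Finset.sum_congr rfl (fun j _ => Int.cast_mul _ _), ← Int.cast_sum]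
    rw [ZMod.intCast_zmod_eq_zero_iff_dvd]
    simp only [mul_assoc, ← Finset.mul_sum, hrow, Matrix.smul_apply, smul_eq_mul, hN', Nat.cast_mul]
    rw [mul_comm ((p ^ a : ℕ) : ℤ) N']
    exact mul_dvd_mul_left _ (dvd_mul_of_dvd_left
      (dvd_neg.2 (Int.natCast_dvd.2 (Nat.ordProj_dvd d p))) _)
  have hord : addOrderOf f = p ^ a := by
    obtain ⟨b, hb⟩ : ∃ b, a = b + 1 := ⟨a - 1, by omega⟩
    have hN0 : N' ≠ 0 := fun e => NeZero.ne N (by rw [hN', e, mul_zero])
    rw [hb]
    refine addOrderOf_eq_prime_pow ?_ ?_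
    · intro h
      have := congrFun h j
      simp only [Pi.smul_apply, f, nsmul_eq_mul, Pi.zero_apply] at this
      rw [← Int.cast_natCast, ← Int.cast_mul, ZMod.intCast_zmod_eq_zero_iff_dvd, hN', hb] at this
      push_cast [pow_succ] at this
      rw [show ((p : ℤ) ^ b * p * N') = ((p : ℤ) ^ b * N') * p by ring,
        show ((p : ℤ) ^ b * ((N' : ℤ) * (aeval M G) i j)) = ((p : ℤ) ^ b * N') * (aeval M G) i j by
          ring] at this
      exact hij (Int.dvd_of_mul_dvd_mul_left (mul_ne_zero (pow_ne_zero _ (by exact_mod_cast hpp.ne_zero))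
        (by exact_mod_cast hN0)) this)
    · funext k
      simp only [Pi.smul_apply, f, nsmul_eq_mul, Pi.zero_apply]
      rw [← Int.cast_natCast, ← Int.cast_mul, ZMod.intCast_zmod_eq_zero_iff_dvd, hN', hb]
      push_cast
      exact ⟨(aeval M G) i k, by ring⟩
  rw [← hord, show addOrderOf f = addOrderOf (⟨f, hfmem⟩ : ↥(solutions N M q)) from
    (AddSubgroup.addOrderOf_coe ⟨f, hfmem⟩)]
  exact AddMonoid.addOrder_dvd_exponent _

/-- The solutions of `f M = q f` form a cyclic group of order `|Φ_m(q)|`. -/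
theorem solutions_cyclic {M : Matrix (Fin r) (Fin r) ℤ} {m : ℕ} (hm : 0 < m) (hr : m.totient = r)
    (hM : aeval M (cyclotomic m ℤ) = 0) {q : ℤ} {N : ℕ} [NeZero N]
    (hd : (cyclotomic m ℤ).eval q ≠ 0) (hN : (cyclotomic m ℤ).eval q ∣ (N : ℤ))
    (hp : ∀ p : ℕ, p.Prime → p ∣ m → ¬ p ^ 2 ∣ ((cyclotomic m ℤ).eval q).natAbs) :
    IsAddCyclic ↥(solutions N M q) ∧
      Nat.card ↥(solutions N M q) = ((cyclotomic m ℤ).eval q).natAbs := by
  classical
  refine solutions_cyclic_poly (charpoly_eq hm hr hM) hd hN fun p hpp hp2 => Or.inl fun hder => ?_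
  have := Fact.mk hpp
  have hpm : ¬ p ∣ m := fun h => hp p hpp h hp2
  have : NeZero (m : ZMod p) := ⟨fun e => hpm ((ZMod.natCast_eq_zero_iff _ _).1 e)⟩
  have hroot : (cyclotomic m (ZMod p)).eval (q : ZMod p) = 0 := by
    rw [← map_cyclotomic m (Int.castRingHom (ZMod p)), Polynomial.eval_intCast_map]
    exact (ZMod.intCast_zmod_eq_zero_iff_dvd _ _).2
      (Int.natCast_dvd.2 ((dvd_pow_self p two_ne_zero).trans hp2))
  have hsep : (cyclotomic m (ZMod p)).Separable :=
    Polynomial.Separable.of_dvd (separable_X_pow_sub_C 1 (NeZero.ne _) one_ne_zero)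
      (by rw [map_one]; exact cyclotomic.dvd_X_pow_sub_one m (ZMod p))
  have h3 := hsep.eval₂_derivative_ne_zero (RingHom.id (ZMod p)) (x := (q : ZMod p))
    (by rw [eval₂_id]; exact hroot)
  rw [eval₂_id, ← map_cyclotomic m (Int.castRingHom (ZMod p)), derivative_map,
    Polynomial.eval_intCast_map, Int.cast_id] at h3
  exact h3 ((ZMod.intCast_zmod_eq_zero_iff_dvd _ _).2 hder)

end H34.Tori
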